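import Mathlib

set_option autoImplicit false

namespace Cfsg.Agent.Lib.Helper3.SLTransport

open Matrix

/-- A ring isomorphism induces an isomorphism of special linear groups. -/
def mapEquiv {R S : Type*} [CommRing R] [CommRing S] {n : Type*} [Fintype n] [DecidableEq n]
    (e : R ≃+* S) : Matrix.SpecialLinearGroup n R ≃* Matrix.SpecialLinearGroup n S where
  toFun := Matrix.SpecialLinearGroup.map e.toRingHom
  invFun := Matrix.SpecialLinearGroup.map e.symm.toRingHom
  left_inv g := by
    ext i j
    simp
  right_inv g := by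
    ext i j
    simp
  map_mul' x y := map_mul _ x y

/-- `SL_n(F) ≃* SL_n(ZMod p)` for a field with `p` elements. -/
noncomputable def equivZMod {F : Type*} [Field F] [Fintype F] {p : ℕ} (hp : p.Prime)
    (hF : Fintype.card F = p) (n : Type*) [Fintype n] [DecidableEq n] :
    Matrix.SpecialLinearGroup n F ≃* Matrix.SpecialLinearGroup n (ZMod p) :=
  mapEquiv (ZMod.ringEquivOfPrime F hp hF).symm

/-- transport of a normal subgroup of given index and isomorphism type along an isomorphism -/
theorem exists_normal_of_equiv {G G' K : Type*} [Group G] [Group G'] [Group K] (e : G ≃* G')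
    (k : ℕ) (h : ∃ Q : Subgroup G', Q.Normal ∧ Q.index = k ∧ Nonempty (Q ≃* K)) :
    ∃ Q : Subgroup G, Q.Normal ∧ Q.index = k ∧ Nonempty (Q ≃* K) := by
  obtain ⟨Q, hN, hi, ⟨f⟩⟩ := h
  refine ⟨Q.comap e.toMonoidHom, inferInstance, ?_, ?_⟩
  · rw [Subgroup.index_comap_of_surjective _ e.surjective, hi]
  · have h1 : Q.comap e.toMonoidHom = Q.map e.symm.toMonoidHom :=
      (Subgroup.map_equiv_eq_comap_symm e.symm Q).symm
    exact ⟨(MulEquiv.subgroupCongr h1).trans ((e.symm.subgroupMap Q).symm.trans f)⟩

/-- the centre is transported along an isomorphism of the quotients -/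
noncomputable def quotientCenterEquiv {G G' : Type*} [Group G] [Group G'] (e : G ≃* G') :
    G ⧸ Subgroup.center G ≃* G' ⧸ Subgroup.center G' :=
  QuotientGroup.congr _ _ e (by
    ext x
    simp only [Subgroup.mem_map, Subgroup.mem_center_iff]
    constructor
    · rintro ⟨y, hy, rfl⟩ g
      obtain ⟨g', rfl⟩ := e.surjective g
      change e g' * e y = e y * e g'
      rw [← map_mul, ← map_mul, hy g']
    · intro hx
      refine ⟨e.symm x, fun g => ?_, by simp⟩
      apply e.injective
      simp [hx (e g)])

/-- `PSL_n(F) ≃* PSL_n(ZMod p)` for a field with `p` elements. -/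
noncomputable def pslEquivZMod {F : Type*} [Field F] [Fintype F] {p : ℕ} (hp : p.Prime)
    (hF : Fintype.card F = p) (n : Type*) [Fintype n] [DecidableEq n] :
    Matrix.ProjectiveSpecialLinearGroup n F ≃* Matrix.ProjectiveSpecialLinearGroup n (ZMod p) :=
  quotientCenterEquiv (equivZMod hp hF n)

end Cfsg.Agent.Lib.Helper3.SLTransport
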