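import Mathlib

set_option autoImplicit false

namespace Cfsg.Agent.Lib.Helper3.CardSL

open Matrix

lemma range_toGL {F : Type*} [Field F] (n : ℕ) :
    (Matrix.SpecialLinearGroup.toGL : Matrix.SpecialLinearGroup (Fin n) F →* GL (Fin n) F).range
      = (GeneralLinearGroup.det : GL (Fin n) F →* Fˣ).ker := by
  ext g
  constructor
  · rintro ⟨s, rfl⟩
    rw [MonoidHom.mem_ker]
    apply Units.ext
    simp
  · intro hg
    rw [MonoidHom.mem_ker] at hg
    have hd : (g : Matrix (Fin n) (Fin n) F).det = 1 := by
      have := congrArg Units.val hg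
      simpa using this
    refine ⟨⟨g, hd⟩, ?_⟩
    apply Units.ext
    rfl

/-- `|GL_n(F)| = |SL_n(F)| * |Fˣ|` for `n ≥ 1`. -/
theorem card_GL_eq_card_SL_mul {F : Type*} [Field F] [Finite F] (n : ℕ) (hn : 0 < n) :
    Nat.card (GL (Fin n) F) = Nat.card (Matrix.SpecialLinearGroup (Fin n) F) * Nat.card Fˣ := by
  classical
  have : Nonempty (Fin n) := ⟨⟨0, hn⟩⟩
  have h2 : Nat.card (GL (Fin n) F)
      = Nat.card (GL (Fin n) F ⧸ (GeneralLinearGroup.det : GL (Fin n) F →* Fˣ).ker)
        * Nat.card (GeneralLinearGroup.det : GL (Fin n) F →* Fˣ).ker :=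
    Subgroup.card_eq_card_quotient_mul_card_subgroup _
  have h3 : Nat.card (GL (Fin n) F ⧸ (GeneralLinearGroup.det : GL (Fin n) F →* Fˣ).ker)
      = Nat.card Fˣ :=
    Nat.card_congr (QuotientGroup.quotientKerEquivOfSurjective _
      GeneralLinearGroup.det_surjective).toEquiv
  have h5 : Nat.card (GeneralLinearGroup.det : GL (Fin n) F →* Fˣ).ker
      = Nat.card (Matrix.SpecialLinearGroup (Fin n) F) := by
    rw [← range_toGL]
    exact (Nat.card_congr
      (MonoidHom.ofInjective Matrix.SpecialLinearGroup.toGL_injective).toEquiv).symm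
  rw [h3, h5, mul_comm] at h2
  exact h2

/-- `|SL_2(q)| * (q - 1) = (q^2 - 1) * (q^2 - q)`. -/
theorem card_SL2_mul {F : Type*} [Field F] [Fintype F] :
    Nat.card (Matrix.SpecialLinearGroup (Fin 2) F) * (Fintype.card F - 1)
      = (Fintype.card F ^ 2 - 1) * (Fintype.card F ^ 2 - Fintype.card F) := by
  have h := card_GL_eq_card_SL_mul (F := F) 2 (by norm_num)
  rw [Matrix.card_GL_field, Nat.card_units, Nat.card_eq_fintype_card (α := F)] at h
  rw [← h]
  simp [Fin.prod_univ_two]

/-- `|SL_2(q)| = q * (q^2 - 1)`. -/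
theorem card_SL2 {F : Type*} [Field F] [Fintype F] :
    Nat.card (Matrix.SpecialLinearGroup (Fin 2) F) = Fintype.card F * (Fintype.card F ^ 2 - 1) := by
  have h := card_SL2_mul (F := F)
  have hq : 1 < Fintype.card F := Fintype.one_lt_card
  have hpos : 0 < Fintype.card F - 1 := by omega
  apply Nat.eq_of_mul_eq_mul_right hpos
  rw [h]
  have : Fintype.card F ^ 2 - Fintype.card F = Fintype.card F * (Fintype.card F - 1) := by
    rw [Nat.mul_sub, mul_one, pow_two]
  rw [this]
  ring

/-- Lagrange for `PSL`. -/
theorem card_PSL_mul {F : Type*} [Field F] (n : ℕ) :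
    Nat.card (ProjectiveSpecialLinearGroup (Fin n) F)
      * Nat.card (Subgroup.center (Matrix.SpecialLinearGroup (Fin n) F))
      = Nat.card (Matrix.SpecialLinearGroup (Fin n) F) :=
  (Subgroup.card_eq_card_quotient_mul_card_subgroup _).symm

/-- In characteristic two the centre of `SL_2` is trivial. -/
theorem center_SL2_eq_bot {F : Type*} [Field F] [CharP F 2] :
    Subgroup.center (Matrix.SpecialLinearGroup (Fin 2) F) = ⊥ := by
  ext A
  rw [Matrix.SpecialLinearGroup.mem_center_iff, Subgroup.mem_bot]
  constructor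
  · rintro ⟨r, hr, hA⟩
    have hr' : r ^ 2 = 1 := by simpa using hr
    have h1 : (r - 1) ^ 2 = 0 := by
      have h2 : (2 : F) = 0 := CharP.ofNat_eq_zero F 2
      linear_combination hr' + (1 - r) * h2
    have : r = 1 := by
      have := pow_eq_zero_iff (n := 2) (by norm_num) |>.1 h1
      exact sub_eq_zero.1 this
    subst this
    apply Subtype.ext
    rw [← hA]
    simp
  · rintro rfl
    exact ⟨1, by simp, by simp⟩

/-- In characteristic different from two the centre of `SL_2` has two elements. -/
theorem card_center_SL2 {F : Type*} [Field F] (h2 : (2 : F) ≠ 0) :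
    Nat.card (Subgroup.center (Matrix.SpecialLinearGroup (Fin 2) F)) = 2 := by
  classical
  have hneg : (-1 : Matrix.SpecialLinearGroup (Fin 2) F) ≠ 1 := by
    intro h
    have := congrArg (fun A : Matrix.SpecialLinearGroup (Fin 2) F => (A : Matrix (Fin 2) (Fin 2) F) 0 0) h
    simp at this
    apply h2
    linear_combination (-1 : F) * this
  have hset : ((Subgroup.center (Matrix.SpecialLinearGroup (Fin 2) F)) :
      Set (Matrix.SpecialLinearGroup (Fin 2) F)) = {1, -1} := by
    ext A
    rw [SetLike.mem_coe, Matrix.SpecialLinearGroup.mem_center_iff]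
    constructor
    · rintro ⟨r, hr, hA⟩
      have hr' : r ^ 2 = 1 := by simpa using hr
      have : (r - 1) * (r + 1) = 0 := by ring_nf; rw [hr']; ring
      rcases mul_eq_zero.1 this with h | h
      · left
        have : r = 1 := sub_eq_zero.1 h
        subst this
        apply Subtype.ext
        rw [← hA]
        simp
      · right
        have : r = -1 := eq_neg_of_add_eq_zero_left h
        subst this
        rw [Set.mem_singleton_iff]
        apply Subtype.ext
        rw [← hA]
        ext i j
        fin_cases i <;> fin_cases j <;> simp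
    · rintro (rfl | rfl)
      · exact ⟨1, by simp, by simp⟩
      · refine ⟨-1, by simp, ?_⟩
        ext i j
        fin_cases i <;> fin_cases j <;> simp
  have : Nat.card (Subgroup.center (Matrix.SpecialLinearGroup (Fin 2) F))
      = Set.ncard ((Subgroup.center (Matrix.SpecialLinearGroup (Fin 2) F)) :
      Set (Matrix.SpecialLinearGroup (Fin 2) F)) := (Nat.card_coe_set_eq _)
  rw [this, hset, Set.ncard_pair hneg.symm]

end Cfsg.Agent.Lib.Helper3.CardSL
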