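import Mathlib
import Cfsg.Agent.Lib.Helper9.FieldOfAction

set_option autoImplicit false

/-!
# Coordinates from a regular commutative group of automorphisms (helper3)
-/

namespace Cfsg.Agent.Lib.Helper3.SuzA

open Cfsg.Agent.Lib.Helper9

/-- a finite abelian group with a commutative group acting regularly on the non-identity
elements is the additive group of a field on which the group acts by scalars -/
theorem exists_coord {A : Type*} [CommGroup A] [Finite A] {K : Type*} [Group K]
    (hKc : ∀ a b : K, a * b = b * a) (ρ : K →* Monoid.End A) (a0 : A) (ha0 : a0 ≠ 1)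
    (hne : ∀ k : K, ρ k a0 ≠ 1)
    (hreg : ∀ a : A, a ≠ 1 → ∃! k : K, ρ k a0 = a)
    {F : Type*} [Field F] [Fintype F] (hF : Fintype.card F = Nat.card A) :
    ∃ (θ : A → F) (χ : K → F), Function.Bijective θ ∧ (∀ a b, θ (a * b) = θ a + θ b) ∧
      θ a0 = 1 ∧ ∀ k a, θ (ρ k a) = χ k * θ a := by
  classical
  let τ : K → AddMonoid.End (Additive A) := fun k => MonoidHom.toAdditive (ρ k)
  have hτ : ∀ (k : K) (x : Additive A), τ k x = Additive.ofMul (ρ k x.toMul) := fun k x => rfl
  have hτmul : ∀ k k' : K, τ k * τ k' = τ (k * k') := by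
    intro k k'
    apply AddMonoidHom.ext
    intro x
    show Additive.ofMul (ρ k (Additive.toMul (Additive.ofMul (ρ k' x.toMul)))) =
      Additive.ofMul (ρ (k * k') x.toMul)
    rw [map_mul]
    rfl
  have hyp : FieldOfAction.Hyp (Set.range τ) (Additive.ofMul a0) := by
    refine ⟨⟨1, ?_⟩, ?_, ?_, ?_, ?_, ?_, ?_⟩
    · apply AddMonoidHom.ext
      intro x
      show Additive.ofMul (ρ 1 x.toMul) = x
      rw [map_one]
      rfl
    · rintro _ ⟨k, rfl⟩ _ ⟨k', rfl⟩
      exact ⟨k * k', (hτmul k k').symm⟩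
    · rintro _ ⟨k, rfl⟩ _ ⟨k', rfl⟩
      rw [hτmul, hτmul, hKc]
    · intro h
      exact ha0 (Additive.ofMul.injective h)
    · rintro _ ⟨k, rfl⟩ _ ⟨k', rfl⟩ h
      have h' : ρ k a0 = ρ k' a0 := Additive.ofMul.injective h
      have := (hreg _ (hne k')).unique h' rfl
      rw [this]
    · rintro _ ⟨k, rfl⟩ h
      exact hne k (Additive.ofMul.injective h)
    · intro a ha
      have ha' : a.toMul ≠ 1 := fun h => ha (Additive.toMul.injective h)
      obtain ⟨k, hk, _⟩ := hreg _ ha'
      refine ⟨τ k, ⟨k, rfl⟩, ?_⟩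
      show Additive.ofMul (ρ k a0) = a
      rw [hk]
      rfl
  have hF' : Fintype.card F = Nat.card (Additive A) := hF
  obtain ⟨θ, χ, hbij, hadd, hone, hsc⟩ := FieldOfAction.exists_coordinatization hyp hF'
  refine ⟨fun a => θ (Additive.ofMul a), fun k => χ (τ k), ?_, ?_, hone, ?_⟩
  · exact hbij.comp Additive.ofMul.bijective
  · intro a b
    exact hadd (Additive.ofMul a) (Additive.ofMul b)
  · intro k a
    exact hsc (τ k) ⟨k, rfl⟩ (Additive.ofMul a)

end Cfsg.Agent.Lib.Helper3.SuzA
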