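import Mathlib
import Cfsg.Agent.Lib.Helper3.SuzA4

set_option autoImplicit false

/-!
# Suzuki 2-groups of order `q²`: coordinates and the squaring monomial (helper3)
-/

namespace Cfsg.Agent.Lib.Helper3.SuzA

open Subgroup

open scoped IsMulCommutative

variable {P : Type*} [Group P]

lemma aut_mem_center (k : MulAut P) {z : P} (hz : z ∈ center P) : k z ∈ center P := by
  rw [Subgroup.mem_center_iff] at hz ⊢
  intro h
  have h1 := hz (k⁻¹ h)
  have h2 := congrArg k h1
  rw [map_mul, map_mul, MulAut.apply_inv_self] at h2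
  exact h2

/-- hypotheses on a Suzuki 2-group -/
structure SHyp (P : Type*) [Group P] (K : Subgroup (MulAut P)) : Prop where
  two : IsPGroup 2 P
  comm : ∀ a b : K, a * b = b * a
  inv_iff : ∀ x : P, (x ≠ 1 ∧ x * x = 1) ↔ (x ∈ center P ∧ x ≠ 1)
  zexp : ∀ z ∈ center P, z * z = 1
  reg : ∀ x y : P, x ≠ 1 → x * x = 1 → y ≠ 1 → y * y = 1 → ∃! k : K, (k : MulAut P) x = y

namespace SHyp

variable {K : Subgroup (MulAut P)} (h : SHyp P K)
include h

lemma fpf (k : K) (hk : k ≠ 1) (g : P) (hg : (k : MulAut P) g = g) : g = 1 := by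
  by_contra hg1
  obtain ⟨a, ha⟩ := (IsPGroup.iff_orderOf.mp h.two) g
  have ha0 : a ≠ 0 := by
    rintro rfl
    rw [pow_zero, orderOf_eq_one_iff] at ha
    exact hg1 ha
  set t := g ^ (2 ^ (a - 1)) with ht
  have ht1 : t ≠ 1 := by
    apply pow_ne_one_of_lt_orderOf (by positivity)
    rw [ha]
    exact Nat.pow_lt_pow_right (by norm_num) (by omega)
  have ht2 : t * t = 1 := by
    rw [ht, ← pow_add]
    have : 2 ^ (a - 1) + 2 ^ (a - 1) = 2 ^ a := by
      obtain ⟨b, rfl⟩ : ∃ b, a = b + 1 := ⟨a - 1, by omega⟩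
      simp [pow_succ]; ring
    rw [this, ← ha, pow_orderOf_eq_one]
  have hkt : (k : MulAut P) t = t := by rw [ht, map_pow, hg]
  have h1 : ((1 : K) : MulAut P) t = t := rfl
  exact hk ((h.reg t t ht1 ht2 ht1 ht2).unique hkt h1)

/-- restriction to the centre -/
def rhoZ (K : Subgroup (MulAut P)) : K →* Monoid.End (center P) where
  toFun k :=
    { toFun := fun z => ⟨(k : MulAut P) z, aut_mem_center _ z.2⟩
      map_one' := by
        apply Subtype.ext
        show (k : MulAut P) 1 = 1
        exact map_one _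
      map_mul' := by
        intro a b
        apply Subtype.ext
        show (k : MulAut P) (a * b) = (k : MulAut P) a * (k : MulAut P) b
        exact map_mul _ _ _ }
  map_one' := by
    apply MonoidHom.ext
    intro z
    rfl
  map_mul' := by
    intro k k'
    apply MonoidHom.ext
    intro z
    rfl

omit h in
lemma rhoZ_apply (k : K) (z : center P) : ((rhoZ K k z : center P) : P) = (k : MulAut P) z := rfl

/-- the induced action on the central quotient -/
def rhoV (K : Subgroup (MulAut P)) : K →* Monoid.End (P ⧸ center P) where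
  toFun k := QuotientGroup.map (center P) (center P) ((k : MulAut P) : P ≃* P).toMonoidHom
    (fun z hz => aut_mem_center _ hz)
  map_one' := by
    apply MonoidHom.ext
    intro v
    induction v using QuotientGroup.induction_on with
    | H g => rfl
  map_mul' := by
    intro k k'
    apply MonoidHom.ext
    intro v
    induction v using QuotientGroup.induction_on with
    | H g => rfl

omit h in
lemma rhoV_mk (k : K) (g : P) :
    rhoV K k (QuotientGroup.mk g) = QuotientGroup.mk ((k : MulAut P) g) := rfl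

lemma semireg [Finite P] (k : K) (hk : k ≠ 1) (g : P)
    (hg : g⁻¹ * (k : MulAut P) g ∈ center P) : g ∈ center P := by
  classical
  have hzinv : ∀ z : center P, z⁻¹ = z := by
    intro z
    apply inv_eq_of_mul_eq_one_right
    apply Subtype.ext
    exact h.zexp z z.2
  let ψ : center P →* center P :=
    { toFun := fun w => w * rhoZ K k w
      map_one' := by rw [map_one, one_mul]
      map_mul' := by
        intro a b
        rw [map_mul]
        exact mul_mul_mul_comm a b _ _ }
  have hψinj : Function.Injective ψ := by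
    rw [injective_iff_map_eq_one]
    intro w hw
    have h1 : w * rhoZ K k w = 1 := hw
    have h2 : rhoZ K k w = w := by
      rw [mul_eq_one_iff_eq_inv', hzinv] at h1
      exact h1
    have h3 : (k : MulAut P) w = w := congrArg Subtype.val h2
    exact Subtype.ext (h.fpf k hk w h3)
  have hψsurj : Function.Surjective ψ := Finite.injective_iff_surjective.mp hψinj
  obtain ⟨w, hw⟩ := hψsurj ⟨_, hg⟩
  have hw' : (w : P) * (k : MulAut P) w = g⁻¹ * (k : MulAut P) g := congrArg Subtype.val hw
  have hkw2 : (k : MulAut P) (w : P) * (k : MulAut P) (w : P) = 1 := by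
    rw [← map_mul, h.zexp w w.2, map_one]
  have hwc := Subgroup.mem_center_iff.mp w.2
  have hfix : (k : MulAut P) (g * w) = g * w := by
    rw [map_mul]
    have h5 : (k : MulAut P) g = g * ((w : P) * (k : MulAut P) w) := by
      rw [hw']; group
    rw [h5, mul_assoc, mul_assoc, hkw2, mul_one]
  have h6 := h.fpf k hk _ hfix
  have h7 : g = (w : P)⁻¹ := eq_inv_of_mul_eq_one_left h6
  rw [h7]
  exact (center P).inv_mem w.2

end SHyp

section Data

variable [Finite P] {K : Subgroup (MulAut P)}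

open SHyp in
/-- **Coordinates for a Suzuki 2-group of order `q²`.** -/
theorem exists_data (h : SHyp P K) (hKcyc : IsCyclic K)
    (hcard : Nat.card P = Nat.card (center P) ^ 2) (hq : 3 ≤ Nat.card (center P))
    {F : Type*} [Field F] [Fintype F] [CharP F 2] (hF : Fintype.card F = Nat.card (center P)) :
    ∃ (α θ : P → F) (c : F) (e : ℕ),
      (∀ g g', α (g * g') = α g + α g') ∧ Function.Surjective α ∧
      (∀ g, α g = 0 ↔ g ∈ center P) ∧
      (∀ g g', g ∈ center P → g' ∈ center P → θ (g * g') = θ g + θ g') ∧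
      (∀ g, g ∈ center P → θ g = 0 → g = 1) ∧ (∀ y, ∃ g, g ∈ center P ∧ θ g = y) ∧
      c ≠ 0 ∧ 1 ≤ e ∧ e + 2 ≤ Nat.card (center P) ∧
      Nat.Coprime e (Nat.card (center P) - 1) ∧
      (∀ g, g * g ∈ center P) ∧ (∀ g, θ (g * g) = c * α g ^ e) := by
  classical
  set q := Nat.card (center P) with hqdef
  haveI : Fintype (center P) := Fintype.ofFinite _
  haveI : Fintype K := Fintype.ofFinite _
  haveI : Fintype (P ⧸ center P) := Fintype.ofFinite _
  -- a central involution
  have hZnt : ∃ z0 : center P, z0 ≠ 1 := by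
    by_contra hcon
    push Not at hcon
    have : Nat.card (center P) ≤ 1 := by
      rw [Nat.card_eq_fintype_card]
      exact Fintype.card_le_one_iff.mpr (fun a b => by rw [hcon a, hcon b])
    omega
  obtain ⟨z0, hz0⟩ := hZnt
  have hinvZ : ∀ z : center P, z ≠ 1 → ((z : P) ≠ 1 ∧ (z : P) * z = 1) := by
    intro z hz
    refine ⟨fun hh => hz (Subtype.ext hh), h.zexp z z.2⟩
  have hregZ : ∀ a : center P, a ≠ 1 → ∃! k : K, rhoZ K k z0 = a := by
    intro a ha
    obtain ⟨k, hk, huniq⟩ := h.reg z0 a (hinvZ z0 hz0).1 (hinvZ z0 hz0).2 (hinvZ a ha).1 (hinvZ a ha).2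
    refine ⟨k, Subtype.ext hk, ?_⟩
    intro k' hk'
    exact huniq k' (congrArg Subtype.val hk')
  have hneZ : ∀ k : K, rhoZ K k z0 ≠ 1 := by
    intro k hk
    have h1 : (k : MulAut P) z0 = 1 := congrArg Subtype.val hk
    have h2 : (z0 : P) = 1 := by
      apply (k : MulAut P).injective
      rw [h1, map_one]
    exact hz0 (Subtype.ext h2)
  -- cardinality of `K`
  have hcardK : Nat.card K = q - 1 := by
    let f : K → {z : center P | z ≠ 1} := fun k => ⟨rhoZ K k z0, hneZ k⟩
    have hf : Function.Bijective f := by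
      constructor
      · intro k k' hkk
        have h1 : rhoZ K k z0 = rhoZ K k' z0 := congrArg Subtype.val hkk
        exact (hregZ _ (hneZ k')).unique h1 rfl
      · rintro ⟨a, ha⟩
        obtain ⟨k, hk, _⟩ := hregZ a ha
        exact ⟨k, Subtype.ext hk⟩
    rw [Nat.card_congr (Equiv.ofBijective f hf), Nat.card_eq_fintype_card, Set.card_ne_eq,
      ← Nat.card_eq_fintype_card]
  -- cardinality of the quotient
  have hcardV : Nat.card (P ⧸ center P) = q := by
    have h1 := Subgroup.card_eq_card_quotient_mul_card_subgroup (center P)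
    rw [hcard, sq] at h1
    have hqpos : 0 < q := by omega
    exact (Nat.eq_of_mul_eq_mul_right hqpos h1).symm
  -- an involution of the quotient
  have h2dvd : 2 ∣ Nat.card (P ⧸ center P) := by
    have hV2 : IsPGroup 2 (P ⧸ center P) := h.two.to_quotient (center P)
    obtain ⟨m, hm⟩ := IsPGroup.iff_card.mp hV2
    rw [hm]
    have : m ≠ 0 := by
      rintro rfl
      rw [pow_zero, hcardV] at hm
      omega
    exact dvd_pow_self 2 this
  haveI : Fact (Nat.Prime 2) := ⟨Nat.prime_two⟩
  obtain ⟨v0, hv0⟩ := exists_prime_orderOf_dvd_card' (G := P ⧸ center P) 2 h2dvd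
  have hv01 : v0 ≠ 1 := by
    intro hh
    rw [hh, orderOf_one] at hv0
    omega
  have hv0sq : v0 * v0 = 1 := by
    rw [← sq, ← hv0, pow_orderOf_eq_one]
  obtain ⟨g0, hg0⟩ := QuotientGroup.mk_surjective v0
  -- regularity on the quotient
  have hneV : ∀ k : K, rhoV K k v0 ≠ 1 := by
    intro k hk
    rw [← hg0, rhoV_mk, QuotientGroup.eq_one_iff] at hk
    have h2 : g0 ∈ center P := by
      have := aut_mem_center ((k : MulAut P)⁻¹) hk
      rwa [MulAut.inv_apply_self] at this
    apply hv01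
    rw [← hg0, QuotientGroup.eq_one_iff]
    exact h2
  have hinjV : ∀ k k' : K, rhoV K k v0 = rhoV K k' v0 → k = k' := by
    intro k k' hkk
    by_contra hne
    have hne' : k'⁻¹ * k ≠ 1 := by
      intro hh
      apply hne
      have := congrArg (fun x => k' * x) hh
      simpa using this
    have h1 : rhoV K (k'⁻¹ * k) v0 = v0 := by
      rw [map_mul]
      show rhoV K k'⁻¹ (rhoV K k v0) = v0
      rw [hkk]
      show (rhoV K k'⁻¹ * rhoV K k') v0 = v0
      rw [← map_mul, inv_mul_cancel, map_one]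
      rfl
    rw [← hg0, rhoV_mk, QuotientGroup.eq] at h1
    have h2 : g0⁻¹ * ((k'⁻¹ * k : K) : MulAut P) g0 ∈ center P := by
      have := (center P).inv_mem h1
      rw [mul_inv_rev, inv_inv] at this
      exact this
    have h3 := h.semireg _ hne' g0 h2
    apply hv01
    rw [← hg0, QuotientGroup.eq_one_iff]
    exact h3
  have hregV : ∀ v : P ⧸ center P, v ≠ 1 → ∃! k : K, rhoV K k v0 = v := by
    let f : K → {v : P ⧸ center P | v ≠ 1} := fun k => ⟨rhoV K k v0, hneV k⟩
    have hfinj : Function.Injective f := by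
      intro k k' hkk
      exact hinjV k k' (congrArg Subtype.val hkk)
    have hfbij : Function.Bijective f := by
      apply hfinj.bijective_of_nat_card_le
      rw [hcardK, Nat.card_eq_fintype_card, Set.card_ne_eq, ← Nat.card_eq_fintype_card, hcardV]
    intro v hv
    obtain ⟨k, hk⟩ := hfbij.2 ⟨v, hv⟩
    refine ⟨k, congrArg Subtype.val hk, ?_⟩
    intro k' hk'
    exact (hinjV k k' ((congrArg Subtype.val hk).trans hk'.symm)).symm
  -- the quotient has exponent two
  have hVsq : ∀ v : P ⧸ center P, v * v = 1 := by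
    intro v
    by_cases hv : v = 1
    · rw [hv, one_mul]
    · obtain ⟨k, hk, _⟩ := hregV v hv
      rw [← hk, ← map_mul, hv0sq, map_one]
  have hVcomm : ∀ v w : P ⧸ center P, v * w = w * v := by
    intro v w
    have h1 := hVsq (v * w)
    have h2 : v * w = (v * w)⁻¹ := (inv_eq_of_mul_eq_one_right h1).symm
    rw [h2, mul_inv_rev, inv_eq_of_mul_eq_one_right (hVsq v), inv_eq_of_mul_eq_one_right (hVsq w)]
  have hsqZ : ∀ g : P, g * g ∈ center P := by
    intro g
    rw [← QuotientGroup.eq_one_iff, QuotientGroup.mk_mul]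
    exact hVsq _
  letI : CommGroup (P ⧸ center P) := { (inferInstance : Group (P ⧸ center P)) with mul_comm := hVcomm }
  -- coordinates
  obtain ⟨θZ, χZ, hθZbij, hθZadd, hθZone, hθZsc⟩ :=
    exists_coord h.comm (rhoZ K) z0 hz0 hneZ hregZ (F := F) (by rw [hF])
  obtain ⟨θV, χV, hθVbij, hθVadd, hθVone, hθVsc⟩ :=
    exists_coord h.comm (rhoV K) v0 hv01 hneV hregV (F := F) (by rw [hF, hcardV])
  have hθZ1 : θZ 1 = 0 := by
    have := hθZadd 1 1
    rw [one_mul] at this
    exact add_eq_left.mp this.symm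
  have hθV1 : θV 1 = 0 := by
    have := hθVadd 1 1
    rw [one_mul] at this
    exact add_eq_left.mp this.symm
  have hχZ : ∀ k : K, χZ k = θZ (rhoZ K k z0) := by
    intro k; rw [hθZsc, hθZone, mul_one]
  have hχV : ∀ k : K, χV k = θV (rhoV K k v0) := by
    intro k; rw [hθVsc, hθVone, mul_one]
  have hχZmul : ∀ k k' : K, χZ (k * k') = χZ k * χZ k' := by
    intro k k'
    rw [hχZ (k * k'), map_mul]
    show θZ (rhoZ K k (rhoZ K k' z0)) = _
    rw [hθZsc, ← hχZ k']
  have hχVmul : ∀ k k' : K, χV (k * k') = χV k * χV k' := by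
    intro k k'
    rw [hχV (k * k'), map_mul]
    show θV (rhoV K k (rhoV K k' v0)) = _
    rw [hθVsc, ← hχV k']
  have hχZone : χZ 1 = 1 := by
    rw [hχZ, map_one]; exact hθZone
  have hχVone : χV 1 = 1 := by
    rw [hχV, map_one]; exact hθVone
  let χZh : K →* F := { toFun := χZ, map_one' := hχZone, map_mul' := hχZmul }
  let χVh : K →* F := { toFun := χV, map_one' := hχVone, map_mul' := hχVmul }
  have hχZinj : Function.Injective χZh := by
    intro k k' hkk
    have h1 : χZ k = χZ k' := hkk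
    rw [hχZ, hχZ] at h1
    exact (hregZ _ (hneZ k')).unique (hθZbij.1 h1) rfl
  have hχVinj : Function.Injective χVh := by
    intro k k' hkk
    have h1 : χV k = χV k' := hkk
    rw [hχV, hχV] at h1
    exact hinjV k k' (hθVbij.1 h1)
  -- the generator
  obtain ⟨ξ, hξ⟩ := hKcyc.exists_generator
  have hordξ : orderOf ξ = q - 1 := by
    rw [orderOf_eq_card_of_forall_mem_zpowers hξ, hcardK]
  have hordZ : orderOf (χZ ξ) = q - 1 := by
    have := orderOf_injective χZh hχZinj ξ
    rw [hordξ] at this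
    exact this
  have hordV : orderOf (χV ξ) = q - 1 := by
    have := orderOf_injective χVh hχVinj ξ
    rw [hordξ] at this
    exact this
  have hχZpow : ∀ m : ℕ, χZ (ξ ^ m) = χZ ξ ^ m := fun m => map_pow χZh ξ m
  have hχVpow : ∀ m : ℕ, χV (ξ ^ m) = χV ξ ^ m := fun m => map_pow χVh ξ m
  have hpowers : ∀ k : K, ∃ m : ℕ, m < q - 1 ∧ ξ ^ m = k := by
    intro k
    have h1 : k ∈ Submonoid.powers ξ := by
      rw [mem_powers_iff_mem_zpowers]
      exact hξ k
    rw [mem_powers_iff_mem_range_orderOf, hordξ] at h1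
    obtain ⟨m, hm, hmk⟩ := Finset.mem_image.mp h1
    exact ⟨m, Finset.mem_range.mp hm, hmk⟩
  -- the exponent
  have hχZξ0 : χZ ξ ≠ 0 := by
    intro h0
    have h1 := hχZ ξ
    rw [h0] at h1
    have h2 : rhoZ K ξ z0 = 1 := hθZbij.1 (by rw [← h1, hθZ1])
    exact hneZ ξ h2
  obtain ⟨e, he_lt, he⟩ : ∃ e : ℕ, e < q - 1 ∧ χZ ξ = χV ξ ^ e := by
    have hv : (θV.invFun (χZ ξ)) ≠ 1 := by
      intro hh
      have h1 : θV (θV.invFun (χZ ξ)) = χZ ξ := Function.invFun_eq (hθVbij.2 _)
      rw [hh, hθV1] at h1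
      exact hχZξ0 h1.symm
    obtain ⟨k1, hk1, _⟩ := hregV _ hv
    obtain ⟨e, he1, he2⟩ := hpowers k1
    refine ⟨e, he1, ?_⟩
    rw [← hχVpow, he2, hχV, hk1]
    exact (Function.invFun_eq (hθVbij.2 _)).symm
  have hq1 : q - 1 ≠ 1 := by omega
  have he0 : e ≠ 0 := by
    rintro rfl
    rw [pow_zero] at he
    rw [he, orderOf_one] at hordZ
    exact hq1 hordZ.symm
  have hcop : Nat.Coprime e (q - 1) := by
    have h1 := orderOf_pow' (χV ξ) he0
    rw [← he, hordZ, hordV] at h1
    have hpos : 0 < q - 1 := by omega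
    have hg : Nat.gcd (q - 1) e ∣ q - 1 := Nat.gcd_dvd_left _ _
    obtain ⟨t, ht⟩ := hg
    have hgpos : 0 < Nat.gcd (q - 1) e := Nat.gcd_pos_of_pos_left _ hpos
    have h2 : (q - 1) / Nat.gcd (q - 1) e = t := Nat.div_eq_of_eq_mul_right hgpos ht
    rw [h2] at h1
    have h3 : Nat.gcd (q - 1) e = 1 := by
      have h4 : Nat.gcd (q - 1) e * t = 1 * t := by rw [← ht, one_mul, ← h1]
      have htpos : 0 < t := by
        rcases Nat.eq_zero_or_pos t with h0 | h0
        · rw [h0, mul_zero] at ht; omega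
        · exact h0
      exact Nat.eq_of_mul_eq_mul_right htpos h4
    rw [Nat.Coprime, Nat.gcd_comm]
    exact h3
  -- the data
  let c : F := θZ ⟨g0 * g0, hsqZ g0⟩
  have hc0 : c ≠ 0 := by
    intro hc
    have h1 : (⟨g0 * g0, hsqZ g0⟩ : center P) = 1 := hθZbij.1 (by rw [hθZ1]; exact hc)
    have h2 : g0 * g0 = 1 := congrArg Subtype.val h1
    have h3 : g0 ≠ 1 := by
      rintro rfl
      apply hv01
      rw [← hg0]; rfl
    have h4 := (h.inv_iff g0).mp ⟨h3, h2⟩
    apply hv01
    rw [← hg0, QuotientGroup.eq_one_iff]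
    exact h4.1
  let α : P → F := fun g => θV (QuotientGroup.mk g)
  let θ : P → F := fun g => if hg : g ∈ center P then θZ ⟨g, hg⟩ else 0
  have hθ : ∀ (g : P) (hg : g ∈ center P), θ g = θZ ⟨g, hg⟩ := fun g hg => dif_pos hg
  have hα0 : ∀ g, α g = 0 ↔ g ∈ center P := by
    intro g
    constructor
    · intro hg
      have h1 : (QuotientGroup.mk g : P ⧸ center P) = 1 := hθVbij.1 (by rw [hθV1]; exact hg)
      exact (QuotientGroup.eq_one_iff g).mp h1
    · intro hg
      show θV (QuotientGroup.mk g) = 0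
      rw [(QuotientGroup.eq_one_iff g).mpr hg, hθV1]
  refine ⟨α, θ, c, e, ?_, ?_, hα0, ?_, ?_, ?_, hc0, Nat.one_le_iff_ne_zero.mpr he0, by omega,
    hcop, hsqZ, ?_⟩
  · intro g g'
    show θV (QuotientGroup.mk (g * g')) = _
    rw [QuotientGroup.mk_mul, hθVadd]
  · intro y
    obtain ⟨v, hv⟩ := hθVbij.2 y
    obtain ⟨g, hg⟩ := QuotientGroup.mk_surjective v
    exact ⟨g, by show θV (QuotientGroup.mk g) = y; rw [hg, hv]⟩
  · intro g g' hg hg'
    rw [hθ g hg, hθ g' hg', hθ (g * g') ((center P).mul_mem hg hg'), ← hθZadd]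
    rfl
  · intro g hg hg0'
    rw [hθ g hg] at hg0'
    have h1 : (⟨g, hg⟩ : center P) = 1 := hθZbij.1 (by rw [hθZ1]; exact hg0')
    exact congrArg Subtype.val h1
  · intro y
    obtain ⟨z, hz⟩ := hθZbij.2 y
    exact ⟨z, z.2, by rw [hθ z z.2]; exact hz⟩
  · intro g
    rw [hθ _ (hsqZ g)]
    by_cases hg : g ∈ center P
    · have h1 : g * g = 1 := h.zexp g hg
      have h2 : (⟨g * g, hsqZ g⟩ : center P) = 1 := Subtype.ext h1
      rw [h2, hθZ1, (hα0 g).mpr hg, zero_pow he0, mul_zero]
    · have hv : (QuotientGroup.mk g : P ⧸ center P) ≠ 1 := by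
        rw [Ne, QuotientGroup.eq_one_iff]; exact hg
      obtain ⟨k, hk, _⟩ := hregV _ hv
      obtain ⟨m, _, hm⟩ := hpowers k
      -- `g = k g0 * z`
      rw [← hg0, rhoV_mk, QuotientGroup.eq] at hk
      set z := ((k : MulAut P) g0)⁻¹ * g with hz
      have hgz : g = (k : MulAut P) g0 * z := by rw [hz]; group
      have hzc := Subgroup.mem_center_iff.mp hk
      have hgg : g * g = (k : MulAut P) (g0 * g0) := by
        rw [hgz, map_mul]
        have h1 : (k : MulAut P) g0 * z * ((k : MulAut P) g0 * z) =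
            (k : MulAut P) g0 * (z * (k : MulAut P) g0) * z := by group
        rw [h1, ← hzc, mul_assoc, mul_assoc, h.zexp z hk, mul_one]
      have h5 : (⟨g * g, hsqZ g⟩ : center P) = rhoZ K k ⟨g0 * g0, hsqZ g0⟩ := Subtype.ext hgg
      rw [h5, hθZsc]
      have h6 : α g = χV k := by
        show θV (QuotientGroup.mk g) = χV k
        rw [hgz, QuotientGroup.mk_mul, (QuotientGroup.eq_one_iff z).mpr hk, mul_one,
          ← rhoV_mk, hg0, ← hχV]
      rw [h6, ← hm, hχZpow, hχVpow, he, ← pow_mul, ← pow_mul, mul_comm m e, mul_comm]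

end Data

end Cfsg.Agent.Lib.Helper3.SuzA
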