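import Mathlib
import Cfsg.Prelude.Def_LieRecognition

set_option autoImplicit false

/-!
# The 2-group of type `A(F, φ)` as a group of pairs, and its identification with `Cfsg.suzukiTypeA`
(helper3)
-/

namespace Cfsg.Agent.Lib.Helper3.SuzA

/-- pairs `(x, y)` with `(x, y)(x', y') = (x + x', y + y' + φ x * x')` -/
@[ext] structure TypeA (F : Type*) [Field F] (φ : F →+* F) where
  x : F
  y : F

namespace TypeA

variable {F : Type*} [Field F] {φ : F →+* F}

instance : Mul (TypeA F φ) := ⟨fun s t => ⟨s.x + t.x, s.y + t.y + φ s.x * t.x⟩⟩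
instance : One (TypeA F φ) := ⟨⟨0, 0⟩⟩
instance : Inv (TypeA F φ) := ⟨fun s => ⟨-s.x, -s.y + φ s.x * s.x⟩⟩

@[simp] lemma mul_x (s t : TypeA F φ) : (s * t).x = s.x + t.x := rfl
@[simp] lemma mul_y (s t : TypeA F φ) : (s * t).y = s.y + t.y + φ s.x * t.x := rfl
@[simp] lemma one_x : (1 : TypeA F φ).x = 0 := rfl
@[simp] lemma one_y : (1 : TypeA F φ).y = 0 := rfl
@[simp] lemma inv_x (s : TypeA F φ) : s⁻¹.x = -s.x := rfl
@[simp] lemma inv_y (s : TypeA F φ) : s⁻¹.y = -s.y + φ s.x * s.x := rfl

instance : Group (TypeA F φ) where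
  mul_assoc a b c := by
    ext
    · simp only [mul_x]; ring
    · simp only [mul_y, mul_x, map_add]; ring
  one_mul a := by
    ext
    · simp
    · simp
  mul_one a := by
    ext
    · simp
    · simp
  inv_mul_cancel a := by
    ext
    · simp
    · simp only [mul_y, inv_y, inv_x, map_neg, one_y]; ring

/-- pairs as a product -/
def equivProd (F : Type*) [Field F] (φ : F →+* F) : TypeA F φ ≃ F × F where
  toFun s := (s.x, s.y)
  invFun p := ⟨p.1, p.2⟩
  left_inv _ := rfl
  right_inv _ := rfl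

instance [Finite F] : Finite (TypeA F φ) := Finite.of_equiv _ (equivProd F φ).symm

lemma card_eq [Finite F] : Nat.card (TypeA F φ) = Nat.card F ^ 2 := by
  rw [Nat.card_congr (equivProd F φ), Nat.card_prod, sq]

/-- the matrix of the pair `(x, y)` -/
def mat (φ : F →+* F) (x y : F) : Matrix (Fin 3) (Fin 3) F := !![1, 0, 0; x, 1, 0; y, φ x, 1]

lemma mat_mul (x y x' y' : F) :
    mat φ x y * mat φ x' y' = mat φ (x + x') (y + y' + φ x * x') := by
  ext i j
  fin_cases i <;> fin_cases j <;>
    simp [mat, Matrix.mul_apply, Fin.sum_univ_three, map_add] <;> ring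

lemma mat_zero : mat φ 0 0 = 1 := by
  ext i j
  fin_cases i <;> fin_cases j <;> simp [mat]

/-- the matrix representation -/
def toGL (φ : F →+* F) : TypeA F φ →* GL (Fin 3) F where
  toFun s := ⟨mat φ s.x s.y, mat φ s⁻¹.x s⁻¹.y, by
      rw [mat_mul, ← mat_zero (φ := φ)]
      congr 1
      · simp
      · simp only [inv_x, inv_y]; ring, by
      rw [mat_mul, ← mat_zero (φ := φ)]
      congr 1
      · simp
      · simp only [inv_x, inv_y, map_neg]; ring⟩
  map_one' := by
    apply Units.ext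
    exact mat_zero
  map_mul' s t := by
    apply Units.ext
    show mat φ (s * t).x (s * t).y = mat φ s.x s.y * mat φ t.x t.y
    rw [mat_mul]
    rfl

lemma toGL_coe (s : TypeA F φ) :
    ((toGL φ s : GL (Fin 3) F) : Matrix (Fin 3) (Fin 3) F) = mat φ s.x s.y := rfl

lemma toGL_injective : Function.Injective (toGL φ) := by
  intro s t h
  have h' : mat φ s.x s.y = mat φ t.x t.y := by
    rw [← toGL_coe, ← toGL_coe, h]
  ext
  · have := congrFun (congrFun h' 1) 0
    simpa [mat] using this
  · have := congrFun (congrFun h' 2) 0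
    simpa [mat] using this

lemma range_toGL : (toGL φ).range = Cfsg.suzukiTypeA F φ := by
  apply le_antisymm
  · rintro _ ⟨s, rfl⟩
    exact Subgroup.subset_closure ⟨s.x, s.y, rfl⟩
  · unfold Cfsg.suzukiTypeA
    rw [Subgroup.closure_le]
    rintro g ⟨x, y, hg⟩
    refine ⟨⟨x, y⟩, ?_⟩
    apply Units.ext
    rw [hg]
    rfl

/-- `A(F, φ)` is isomorphic to `Cfsg.suzukiTypeA F φ` -/
noncomputable def equivSuzukiTypeA (φ : F →+* F) : TypeA F φ ≃* Cfsg.suzukiTypeA F φ :=
  (MonoidHom.ofInjective (toGL_injective (φ := φ))).trans (MulEquiv.subgroupCongr range_toGL)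

end TypeA

end Cfsg.Agent.Lib.Helper3.SuzA
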