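import Mathlib
import Cfsg.Agent.Lib.Helper3.SuzA1

set_option autoImplicit false

/-!
# A class-2 group with the squaring map of `A(F, φ)` is isomorphic to `A(F, φ)` (helper3)
-/

namespace Cfsg.Agent.Lib.Helper3.SuzA

section Compl

variable {G : Type*} [Group G] [Finite G]

/-- complements modulo a subgroup containing all squares -/
theorem exists_compl_of_sq (T N Z' : Subgroup G) (hNT : N ≤ T)
    (hsq : ∀ g ∈ T, g * g ∈ N) (hNZ : N ⊓ Z' = ⊥) :
    ∃ C : Subgroup G, N ≤ C ∧ C ≤ T ∧ C ⊓ Z' = ⊥ ∧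
      ∀ g ∈ T, ∃ c ∈ C, ∃ z ∈ Z', g = c * z := by
  classical
  have hfin : {C : Subgroup G | N ≤ C ∧ C ≤ T ∧ C ⊓ Z' = ⊥}.Finite := Set.toFinite _
  obtain ⟨C, hC⟩ := hfin.exists_maximal ⟨N, le_refl _, hNT, hNZ⟩
  obtain ⟨⟨hNC, hCT, hCZ⟩, hmax⟩ := hC
  refine ⟨C, hNC, hCT, hCZ, ?_⟩
  -- normality of `C` relative to `T`
  have hnorm : ∀ g ∈ T, ∀ c ∈ C, g * c * g⁻¹ ∈ C := by
    intro g hg c hc
    have h1 : g * c * g⁻¹ = (g * c) * (g * c) * c⁻¹ * (g⁻¹ * g⁻¹) := by group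
    rw [h1]
    refine C.mul_mem (C.mul_mem (hNC (hsq _ (T.mul_mem hg (hCT hc)))) (C.inv_mem hc)) ?_
    exact hNC (hsq _ (T.inv_mem hg))
  by_contra hcon
  push Not at hcon
  obtain ⟨g, hgT, hg⟩ := hcon
  have hgC : g ∉ C := fun h => hg g h 1 Z'.one_mem (mul_one g).symm
  set C' : Subgroup G := Subgroup.closure ((C : Set G) ∪ {g}) with hC'
  have hdesc : ∀ w ∈ C', w ∈ C ∨ ∃ c ∈ C, w = c * g := by
    intro w hw
    induction hw using Subgroup.closure_induction with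
    | mem x hx =>
      rcases hx with hx | hx
      · exact Or.inl hx
      · rw [Set.mem_singleton_iff] at hx
        exact Or.inr ⟨1, C.one_mem, by rw [hx, one_mul]⟩
    | one => exact Or.inl C.one_mem
    | mul x y _ _ hx hy =>
      rcases hx with hx | ⟨c, hc, rfl⟩
      · rcases hy with hy | ⟨d, hd, rfl⟩
        · exact Or.inl (C.mul_mem hx hy)
        · exact Or.inr ⟨x * d, C.mul_mem hx hd, by group⟩
      · rcases hy with hy | ⟨d, hd, rfl⟩
        · refine Or.inr ⟨c * (g * y * g⁻¹), C.mul_mem hc (hnorm g hgT y hy), by group⟩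
        · refine Or.inl ?_
          have h1 : c * g * (d * g) = c * (g * d * g⁻¹) * (g * g) := by group
          rw [h1]
          exact C.mul_mem (C.mul_mem hc (hnorm g hgT d hd)) (hNC (hsq g hgT))
    | inv x _ hx =>
      rcases hx with hx | ⟨c, hc, rfl⟩
      · exact Or.inl (C.inv_mem hx)
      · refine Or.inr ⟨g⁻¹ * c⁻¹ * g⁻¹⁻¹ * (g * g)⁻¹, ?_, by group⟩
        exact C.mul_mem (hnorm g⁻¹ (T.inv_mem hgT) c⁻¹ (C.inv_mem hc))
          (C.inv_mem (hNC (hsq g hgT)))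
  have hCC' : C ≤ C' := fun c hc => Subgroup.subset_closure (Or.inl hc)
  have hgC' : g ∈ C' := Subgroup.subset_closure (Or.inr rfl)
  have hC'mem : C' ∈ {C : Subgroup G | N ≤ C ∧ C ≤ T ∧ C ⊓ Z' = ⊥} := by
    refine ⟨hNC.trans hCC', ?_, ?_⟩
    · rw [hC', Subgroup.closure_le]
      rintro x (hx | hx)
      · exact hCT hx
      · rw [Set.mem_singleton_iff] at hx
        rw [hx]; exact hgT
    · rw [eq_bot_iff]
      rintro w ⟨hw1, hw2⟩
      rcases hdesc w hw1 with hw | ⟨c, hc, rfl⟩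
      · have : w ∈ C ⊓ Z' := ⟨hw, hw2⟩
        rw [hCZ] at this
        exact this
      · exfalso
        exact hg c⁻¹ (C.inv_mem hc) (c * g) hw2 (by group)
  exact hgC (hmax hC'mem hCC' hgC')

end Compl

section Iso

variable {P : Type*} [Group P] [Finite P] {F : Type*} [Field F] [Finite F] [CharP F 2]

/-- **Recognition of `A(F, φ)`**: a group `P` with an additive surjection `a : P → F` whose kernel
is central and is identified with `F` by `ζ` in such a way that `ζ (g²) = φ (a g) * a g`. -/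
theorem exists_iso_typeA (φ : F →+* F) (a ζ : P → F)
    (ha_mul : ∀ g h : P, a (g * h) = a g + a h) (ha_surj : Function.Surjective a)
    (hker : ∀ g : P, a g = 0 → ∀ h : P, h * g = g * h)
    (hζ_mul : ∀ g h : P, a g = 0 → a h = 0 → ζ (g * h) = ζ g + ζ h)
    (hζ_inj : ∀ g : P, a g = 0 → ζ g = 0 → g = 1)
    (hζ_surj : ∀ y : F, ∃ g : P, a g = 0 ∧ ζ g = y)
    (hsq : ∀ g : P, ζ (g * g) = φ (a g) * a g) :
    Nonempty (P ≃* TypeA F φ) := by
  classical
  have h2 : ∀ x : F, x + x = 0 := fun x => CharTwo.add_self_eq_zero x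
  have hneg : ∀ x : F, -x = x := fun x => CharTwo.neg_eq x
  have ha_one : a 1 = 0 := by
    have := ha_mul 1 1
    rw [one_mul] at this
    exact (add_eq_left.mp this.symm)
  have ha_inv : ∀ g : P, a g⁻¹ = a g := by
    intro g
    have := ha_mul g g⁻¹
    rw [mul_inv_cancel, ha_one] at this
    have h3 : a g⁻¹ = - a g := by linear_combination -this
    rw [h3, hneg]
  have hζ_one : ζ 1 = 0 := by
    have := hζ_mul 1 1 ha_one ha_one
    rw [one_mul] at this
    exact (add_eq_left.mp this.symm)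
  have hζ_inv : ∀ g : P, a g = 0 → ζ g⁻¹ = ζ g := by
    intro g hg
    have := hζ_mul g g⁻¹ hg (by rw [ha_inv, hg])
    rw [mul_inv_cancel, hζ_one] at this
    have h3 : ζ g⁻¹ = - ζ g := by linear_combination -this
    rw [h3, hneg]
  -- the subgroups of the product
  let T : Subgroup (P × TypeA F φ) :=
    { carrier := {p | a p.1 = p.2.x}
      mul_mem' := by
        intro p q hp hq
        show a (p.1 * q.1) = (p.2 * q.2).x
        rw [ha_mul, TypeA.mul_x, hp, hq]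
      one_mem' := by
        show a 1 = (1 : TypeA F φ).x
        rw [ha_one]; rfl
      inv_mem' := by
        intro p hp
        show a p.1⁻¹ = (p.2⁻¹).x
        rw [ha_inv, TypeA.inv_x, hneg]; exact hp }
  let N : Subgroup (P × TypeA F φ) :=
    { carrier := {p | a p.1 = 0 ∧ p.2.x = 0 ∧ p.2.y = ζ p.1}
      mul_mem' := by
        rintro p q ⟨hp1, hp2, hp3⟩ ⟨hq1, hq2, hq3⟩
        refine ⟨?_, ?_, ?_⟩
        · show a (p.1 * q.1) = 0
          rw [ha_mul, hp1, hq1, add_zero]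
        · show (p.2 * q.2).x = 0
          rw [TypeA.mul_x, hp2, hq2, add_zero]
        · show (p.2 * q.2).y = ζ (p.1 * q.1)
          rw [TypeA.mul_y, hζ_mul _ _ hp1 hq1, hp3, hq3, hq2, mul_zero, add_zero]
      one_mem' := by
        refine ⟨ha_one, rfl, ?_⟩
        show (1 : TypeA F φ).y = ζ 1
        rw [hζ_one]; rfl
      inv_mem' := by
        rintro p ⟨hp1, hp2, hp3⟩
        refine ⟨?_, ?_, ?_⟩
        · show a p.1⁻¹ = 0
          rw [ha_inv, hp1]
        · show (p.2⁻¹).x = 0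
          rw [TypeA.inv_x, hp2, neg_zero]
        · show (p.2⁻¹).y = ζ p.1⁻¹
          rw [TypeA.inv_y, hζ_inv _ hp1, hp2, mul_zero, add_zero, hneg, hp3] }
  let Z' : Subgroup (P × TypeA F φ) :=
    { carrier := {p | a p.1 = 0 ∧ p.2 = 1}
      mul_mem' := by
        rintro p q ⟨hp1, hp2⟩ ⟨hq1, hq2⟩
        refine ⟨?_, ?_⟩
        · show a (p.1 * q.1) = 0
          rw [ha_mul, hp1, hq1, add_zero]
        · show p.2 * q.2 = 1
          rw [hp2, hq2, one_mul]
      one_mem' := ⟨ha_one, rfl⟩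
      inv_mem' := by
        rintro p ⟨hp1, hp2⟩
        refine ⟨?_, ?_⟩
        · show a p.1⁻¹ = 0
          rw [ha_inv, hp1]
        · show p.2⁻¹ = 1
          rw [hp2, inv_one] }
  have hT : ∀ p : P × TypeA F φ, p ∈ T ↔ a p.1 = p.2.x := fun p => Iff.rfl
  have hN : ∀ p : P × TypeA F φ, p ∈ N ↔ a p.1 = 0 ∧ p.2.x = 0 ∧ p.2.y = ζ p.1 := fun p => Iff.rfl
  have hZ' : ∀ p : P × TypeA F φ, p ∈ Z' ↔ a p.1 = 0 ∧ p.2 = 1 := fun p => Iff.rfl
  have hNT : N ≤ T := by
    intro p hp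
    rw [hN] at hp
    rw [hT, hp.1, hp.2.1]
  have hsqT : ∀ p ∈ T, p * p ∈ N := by
    intro p hp
    rw [hT] at hp
    rw [hN]
    refine ⟨?_, ?_, ?_⟩
    · show a (p.1 * p.1) = 0
      rw [ha_mul, h2]
    · show (p.2 * p.2).x = 0
      rw [TypeA.mul_x, h2]
    · show (p.2 * p.2).y = ζ (p.1 * p.1)
      rw [TypeA.mul_y, h2, zero_add, hsq, hp]
  have hNZ : N ⊓ Z' = ⊥ := by
    rw [eq_bot_iff]
    rintro p ⟨hp1', hp2'⟩
    have hp1 : p ∈ N := hp1'
    have hp2 : p ∈ Z' := hp2'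
    rw [hN] at hp1
    rw [hZ'] at hp2
    have h1 : p.1 = 1 := by
      apply hζ_inj _ hp1.1
      rw [← hp1.2.2, hp2.2]; rfl
    show p = 1
    exact Prod.ext h1 hp2.2
  obtain ⟨C, hNC, hCT, hCZ, hcov⟩ := exists_compl_of_sq T N Z' hNT hsqT hNZ
  -- the two projections
  let f1 : C →* P := (MonoidHom.fst P (TypeA F φ)).comp C.subtype
  let f2 : C →* TypeA F φ := (MonoidHom.snd P (TypeA F φ)).comp C.subtype
  have hf1 : ∀ c : C, f1 c = c.1.1 := fun c => rfl
  have hf2 : ∀ c : C, f2 c = c.1.2 := fun c => rfl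
  have hf1_inj : Function.Injective f1 := by
    rw [injective_iff_map_eq_one]
    intro w hw
    rw [hf1] at hw
    have hwT : a w.1.1 = w.1.2.x := (hT _).mp (hCT w.2)
    rw [hw, ha_one] at hwT
    obtain ⟨z, hz1, hz2⟩ := hζ_surj w.1.2.y
    have hn : ((z, w.1.2) : P × TypeA F φ) ∈ N := by
      rw [hN]
      exact ⟨hz1, hwT.symm, hz2.symm⟩
    have h3 : ((z, w.1.2) : P × TypeA F φ) * w.1⁻¹ ∈ C ⊓ Z' := by
      refine ⟨C.mul_mem (hNC hn) (C.inv_mem w.2), ?_⟩
      show _ ∈ Z'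
      rw [hZ']
      refine ⟨?_, ?_⟩
      · show a (z * w.1.1⁻¹) = 0
        rw [hw, inv_one, mul_one, hz1]
      · show w.1.2 * w.1.2⁻¹ = 1
        rw [mul_inv_cancel]
    rw [hCZ, Subgroup.mem_bot] at h3
    have h4 : z * w.1.1⁻¹ = 1 := congrArg Prod.fst h3
    rw [hw, inv_one, mul_one] at h4
    have h5 : w.1.2.y = 0 := by rw [← hz2, h4, hζ_one]
    apply Subtype.ext
    show w.1 = 1
    refine Prod.ext hw ?_
    exact TypeA.ext hwT.symm h5
  have hf2_inj : Function.Injective f2 := by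
    rw [injective_iff_map_eq_one]
    intro w hw
    rw [hf2] at hw
    have hwT : a w.1.1 = w.1.2.x := (hT _).mp (hCT w.2)
    have h3 : w.1 ∈ C ⊓ Z' := by
      refine ⟨w.2, ?_⟩
      show _ ∈ Z'
      rw [hZ']
      refine ⟨?_, hw⟩
      rw [hwT, hw]; rfl
    rw [hCZ, Subgroup.mem_bot] at h3
    exact Subtype.ext h3
  have hf1_surj : Function.Surjective f1 := by
    intro g
    have hp0 : ((g, ⟨a g, 0⟩) : P × TypeA F φ) ∈ T := by rw [hT]
    obtain ⟨c, hc, z', hz', hcz⟩ := hcov _ hp0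
    rw [hZ'] at hz'
    have hn : ((z'.1, ⟨0, ζ z'.1⟩) : P × TypeA F φ) ∈ N := by
      rw [hN]; exact ⟨hz'.1, rfl, rfl⟩
    refine ⟨⟨c * (z'.1, ⟨0, ζ z'.1⟩), C.mul_mem hc (hNC hn)⟩, ?_⟩
    rw [hf1]
    show c.1 * z'.1 = g
    have := congrArg Prod.fst hcz
    exact this.symm
  have hf2_surj : Function.Surjective f2 := by
    intro t
    obtain ⟨g, hg⟩ := ha_surj t.x
    have hp0 : ((g, t) : P × TypeA F φ) ∈ T := by rw [hT]; exact hg
    obtain ⟨c, hc, z', hz', hcz⟩ := hcov _ hp0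
    rw [hZ'] at hz'
    refine ⟨⟨c, hc⟩, ?_⟩
    rw [hf2]
    show c.2 = t
    have := congrArg Prod.snd hcz
    have h4 : t = c.2 * z'.2 := this
    rw [h4, hz'.2, mul_one]
  exact ⟨(MulEquiv.ofBijective f1 ⟨hf1_inj, hf1_surj⟩).symm.trans
    (MulEquiv.ofBijective f2 ⟨hf2_inj, hf2_surj⟩)⟩

end Iso

end Cfsg.Agent.Lib.Helper3.SuzA
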