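import Mathlib

set_option autoImplicit false

/-!
# Monomials with additive polarization over a finite field of characteristic two (helper3)

If `y ↦ (1 + y) ^ e + 1 + y ^ e` is additive on a field with `2 ^ n` elements (`1 ≤ e ≤ 2 ^ n - 2`),
then `e` has at most two binary digits.
-/

namespace Cfsg.Agent.Lib.Helper3.SuzA

open Polynomial

section NumberTheory

lemma choose_two_pow_mul (a n k : ℕ) : (2 ^ a * n).choose (2 ^ a * k) ≡ n.choose k [MOD 2] := by
  induction a with
  | zero => simp [Nat.ModEq.refl]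
  | succ a ih =>
    haveI : Fact (Nat.Prime 2) := ⟨Nat.prime_two⟩
    have h := Choose.choose_modEq_choose_mod_mul_choose_div_nat (n := 2 ^ (a + 1) * n)
      (k := 2 ^ (a + 1) * k) (p := 2)
    have e1 : 2 ^ (a + 1) * n = 2 * (2 ^ a * n) := by ring
    have e2 : 2 ^ (a + 1) * k = 2 * (2 ^ a * k) := by ring
    rw [e1, e2, Nat.mul_mod_right, Nat.mul_mod_right, Nat.choose_self,
      Nat.mul_div_cancel_left _ (by norm_num : 0 < 2),
      Nat.mul_div_cancel_left _ (by norm_num : 0 < 2), one_mul] at h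
    rw [e1, e2]
    exact h.trans ih

lemma odd_choose_special (c m' : ℕ) (hc : 1 ≤ c) (hm' : Odd m') :
    Odd ((1 + 2 ^ c * m').choose (1 + 2 ^ c)) := by
  haveI : Fact (Nat.Prime 2) := ⟨Nat.prime_two⟩
  obtain ⟨d, rfl⟩ : ∃ d, c = d + 1 := ⟨c - 1, by omega⟩
  have h := Choose.choose_modEq_choose_mod_mul_choose_div_nat (n := 1 + 2 ^ (d + 1) * m')
      (k := 1 + 2 ^ (d + 1)) (p := 2)
  have e1 : 1 + 2 ^ (d + 1) * m' = 1 + 2 * (2 ^ d * m') := by ring
  have e2 : 1 + 2 ^ (d + 1) = 1 + 2 * (2 ^ d * 1) := by ring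
  have m1 : ∀ t : ℕ, (1 + 2 * t) % 2 = 1 := fun t => by omega
  have d1 : ∀ t : ℕ, (1 + 2 * t) / 2 = t := fun t => by omega
  rw [e1, e2, m1, m1, d1, d1, Nat.choose_self, one_mul] at h
  have h2 := h.trans (choose_two_pow_mul d m' 1)
  rw [Nat.choose_one_right] at h2
  rw [e1, e2, Nat.odd_iff]
  rw [Nat.ModEq, Nat.odd_iff.mp hm'] at h2
  exact h2

/-- the digit lemma -/
theorem two_digits_of_even_choose (e : ℕ) (he : 0 < e)
    (H : ∀ k, 0 < k → k < e → (∀ r : ℕ, k ≠ 2 ^ r) → 2 ∣ e.choose k) :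
    (∃ i, e = 2 ^ i) ∨ ∃ i j, i < j ∧ e = 2 ^ i + 2 ^ j := by
  obtain ⟨a, m, hm, rfl⟩ := Nat.exists_eq_two_pow_mul_odd he.ne'
  by_cases hm1 : m = 1
  · left; exact ⟨a, by rw [hm1, mul_one]⟩
  have hm3 : 3 ≤ m := by
    obtain ⟨t, ht⟩ := hm
    omega
  have hm0 : m - 1 ≠ 0 := by omega
  obtain ⟨c, m', hm', hcm⟩ := Nat.exists_eq_two_pow_mul_odd hm0
  have hc : 1 ≤ c := by
    by_contra hc0
    have : c = 0 := by omega
    rw [this, pow_zero, one_mul] at hcm
    obtain ⟨t, ht⟩ := hm
    obtain ⟨t', ht'⟩ := hm'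
    omega
  have hmeq : m = 1 + 2 ^ c * m' := by omega
  by_cases hm'1 : m' = 1
  · right
    refine ⟨a, a + c, by omega, ?_⟩
    rw [hmeq, hm'1, mul_one, pow_add]; ring
  exfalso
  have hm'3 : 3 ≤ m' := by
    obtain ⟨t, ht⟩ := hm'
    omega
  have h2c : 2 ≤ 2 ^ c := by
    calc 2 = 2 ^ 1 := by norm_num
      _ ≤ 2 ^ c := Nat.pow_le_pow_right (by norm_num) hc
  have hk := H (2 ^ a * (1 + 2 ^ c)) (by positivity) ?_ ?_
  · have h3 := choose_two_pow_mul a m (1 + 2 ^ c)
    have h4 := odd_choose_special c m' hc hm'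
    rw [← hmeq] at h4
    rw [Nat.odd_iff] at h4
    rw [Nat.ModEq, h4] at h3
    omega
  · apply Nat.mul_lt_mul_of_pos_left _ (by positivity)
    rw [hmeq]
    nlinarith
  · intro r hr
    have hdvd : (1 + 2 ^ c) ∣ 2 ^ r := ⟨2 ^ a, by rw [← hr]; ring⟩
    obtain ⟨s, _, hs⟩ := (Nat.dvd_prime_pow Nat.prime_two).mp hdvd
    rcases Nat.eq_zero_or_pos s with h0 | hpos
    · rw [h0, pow_zero] at hs
      omega
    · have : 2 ∣ 2 ^ s := dvd_pow_self 2 hpos.ne'
      have h2 : 2 ∣ 2 ^ c := dvd_pow_self 2 (by omega)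
      omega

end NumberTheory

section Linearized

variable {F : Type*} [Field F] [Fintype F] [CharP F 2]

omit [CharP F 2] in
lemma pow_two_pow_injective (n : ℕ) (hcard : Fintype.card F = 2 ^ n) (r r' : ℕ) (hr : r < n)
    (hr' : r' < n) (h : ∀ x : F, x ^ (2 ^ r) = x ^ (2 ^ r')) : r = r' := by
  have hlt : ∀ s, s < n → 2 ^ s < 2 ^ n := fun s hs => Nat.pow_lt_pow_right (by norm_num) hs
  have h1 : (X : F[X]) ^ (2 ^ r) = X ^ (2 ^ r') := by
    apply eq_of_natDegree_lt_card_of_eval_eq _ _ (f := (id : F → F)) Function.injective_id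
    · intro x; simp [h x]
    · rw [natDegree_X_pow, natDegree_X_pow, hcard]
      exact max_lt (hlt r hr) (hlt r' hr')
  have h2 := congrArg natDegree h1
  rw [natDegree_X_pow, natDegree_X_pow] at h2
  exact Nat.pow_right_injective (le_refl 2) h2

/-- additive maps of a finite field of characteristic two are linearized polynomials -/
theorem exists_linearized (n : ℕ) (hcard : Fintype.card F = 2 ^ n) (D : F →+ F) :
    ∃ c : Fin n → F, ∀ y : F, D y = ∑ r : Fin n, c r * y ^ (2 ^ (r : ℕ)) := by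
  classical
  letI : Algebra (ZMod 2) F := ZMod.algebra F 2
  have hfr : Module.finrank (ZMod 2) F = n := by
    have h1 := Module.card_eq_pow_finrank (K := ZMod 2) (V := F)
    rw [ZMod.card, hcard] at h1
    exact (Nat.pow_right_injective (le_refl 2) h1).symm
  let v : Fin n → (F →ₗ[ZMod 2] F) := fun r =>
    ((iterateFrobenius F 2 (r : ℕ)).toAddMonoidHom).toZModLinearMap 2
  have hv : ∀ (r : Fin n) (x : F), v r x = x ^ (2 ^ (r : ℕ)) := fun r x => rfl
  let g : (F →ₗ[ZMod 2] F) →ₗ[F] (F → F) :=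
    { toFun := fun f => ⇑f
      map_add' := fun _ _ => rfl
      map_smul' := fun _ _ => rfl }
  let w : Fin n → (F →* F) := fun r => powMonoidHom (2 ^ (r : ℕ))
  have hw : Function.Injective w := by
    intro r r' h
    apply Fin.ext
    apply pow_two_pow_injective n hcard _ _ r.2 r'.2
    intro x
    have := congrArg (fun f : F →* F => f x) h
    exact this
  have hli0 : LinearIndependent F (fun r : Fin n => ((w r : F →* F) : F → F)) :=
    (linearIndependent_monoidHom F F).comp w hw
  have hli : LinearIndependent F v := by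
    apply LinearIndependent.of_comp g
    exact hli0
  have hfin : Module.finrank F (F →ₗ[ZMod 2] F) = n := by
    rw [Module.finrank_linearMap, hfr, Module.finrank_self, mul_one]
  have hspan := hli.span_eq_top_of_card_eq_finrank' (by rw [Fintype.card_fin, hfin])
  have hD : (D.toZModLinearMap 2 : F →ₗ[ZMod 2] F) ∈ Submodule.span F (Set.range v) := by
    rw [hspan]; trivial
  obtain ⟨c, hc⟩ := (Submodule.mem_span_range_iff_exists_fun F).mp hD
  refine ⟨c, fun y => ?_⟩
  have := congrArg (fun f : F →ₗ[ZMod 2] F => f y) hc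
  simp only [LinearMap.coe_sum, Finset.sum_apply, LinearMap.smul_apply, hv, smul_eq_mul] at this
  rw [this]
  rfl

end Linearized

section Main

variable {F : Type*} [Field F] [Fintype F] [CharP F 2]

/-- **The digit theorem.** -/
theorem exponent_two_digits (n : ℕ) (hcard : Fintype.card F = 2 ^ n) (e : ℕ) (he1 : 1 ≤ e)
    (he2 : e + 2 ≤ 2 ^ n)
    (hadd : ∀ y y' : F, (1 + (y + y')) ^ e + 1 + (y + y') ^ e =
      ((1 + y) ^ e + 1 + y ^ e) + ((1 + y') ^ e + 1 + y' ^ e)) :
    (∃ i, e = 2 ^ i) ∨ ∃ i j, i < j ∧ e = 2 ^ i + 2 ^ j := by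
  classical
  have h2 : ∀ x : F, x + x = 0 := fun x => CharTwo.add_self_eq_zero x
  let D : F →+ F :=
    { toFun := fun y => (1 + y) ^ e + 1 + y ^ e
      map_zero' := by
        simp only [add_zero, one_pow, zero_pow (by omega : e ≠ 0)]
        exact h2 1
      map_add' := hadd }
  obtain ⟨c, hc⟩ := exists_linearized n hcard D
  have hn0 : n ≠ 0 := by
    rintro rfl
    simp at he2
  let p : F[X] := (1 + X) ^ e + 1 + X ^ e + ∑ r : Fin n, C (c r) * X ^ (2 ^ (r : ℕ))
  have hp0 : p = 0 := by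
    apply eq_zero_of_natDegree_lt_card_of_eval_eq_zero p (f := (id : F → F)) Function.injective_id
    · intro x
      have h3 := hc x
      simp only [p, eval_add, eval_pow, eval_one, eval_X, eval_finsetSum, eval_mul, eval_C, id]
      have h4 : D x = (1 + x) ^ e + 1 + x ^ e := rfl
      rw [← h4, h3]
      exact h2 _
    · rw [hcard]
      have hlt : ∀ r : Fin n, 2 ^ (r : ℕ) < 2 ^ n := fun r => Nat.pow_lt_pow_right (by norm_num) r.2
      have hd1 : natDegree ((1 + X : F[X]) ^ e) ≤ e := by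
        have h5 : natDegree (1 + X : F[X]) ≤ 1 := by
          refine (natDegree_add_le _ _).trans (max_le ?_ ?_)
          · rw [natDegree_one]; omega
          · exact natDegree_X_le
        have := natDegree_pow_le_of_le e h5
        rwa [mul_one] at this
      have hd2 : natDegree ((X : F[X]) ^ e) ≤ e := natDegree_X_pow_le e
      have hd3 : natDegree (∑ r : Fin n, C (c r) * (X : F[X]) ^ (2 ^ (r : ℕ))) ≤ 2 ^ n - 1 := by
        apply natDegree_sum_le_of_forall_le
        intro r _
        refine (natDegree_C_mul_X_pow_le _ _).trans ?_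
        have := hlt r
        omega
      have hpos : 0 < 2 ^ n := by positivity
      have hd4 : natDegree p ≤ 2 ^ n - 1 := by
        refine (natDegree_add_le _ _).trans (max_le ?_ hd3)
        refine (natDegree_add_le _ _).trans (max_le ?_ (hd2.trans (by omega)))
        refine (natDegree_add_le _ _).trans (max_le (hd1.trans (by omega)) ?_)
        rw [natDegree_one]; omega
      omega
  apply two_digits_of_even_choose e he1
  intro k hk0 hke hk2
  have hcoef := congrArg (fun q : F[X] => q.coeff k) hp0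
  simp only [p, coeff_add, coeff_one_add_X_pow, coeff_one, coeff_X_pow, finsetSum_coeff,
    coeff_C_mul, coeff_zero] at hcoef
  rw [if_neg hk0.ne', if_neg hke.ne, add_zero, add_zero] at hcoef
  have hsum : ∑ r : Fin n, c r * (if k = 2 ^ (r : ℕ) then (1 : F) else 0) = 0 := by
    apply Finset.sum_eq_zero
    intro r _
    rw [if_neg (hk2 _), mul_zero]
  rw [hsum, add_zero] at hcoef
  exact (CharP.cast_eq_zero_iff F 2 _).mp hcoef

end Main

end Cfsg.Agent.Lib.Helper3.SuzA
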