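import Mathlib
import Cfsg.Agent.Lib.Helper3.SuzA2
import Cfsg.Agent.Lib.Helper3.SuzA3

set_option autoImplicit false

/-!
# Suzuki 2-groups of order `q²`: from the squaring monomial to type `A` (helper3)
-/

namespace Cfsg.Agent.Lib.Helper3.SuzA

open Subgroup

section NT

lemma odd_of_coprime_aux (n l o : ℕ) (hn : 0 < n) (ho : 0 < o)
    (hcop : Nat.Coprime (2 ^ l + 1) (2 ^ n - 1))
    (hord : ∀ d, o ∣ d ↔ n ∣ l * d) : Odd o := by
  by_contra hodd
  rw [Nat.not_odd_iff_even] at hodd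
  obtain ⟨m, hm⟩ := hodd
  have hm0 : 0 < m := by omega
  have h1 : n ∣ l * (m + m) := by rw [← hm]; exact (hord o).mp dvd_rfl
  have h2 : ¬ n ∣ l * m := by
    intro h
    have h3 := (hord m).mpr h
    have h4 := Nat.le_of_dvd hm0 h3
    omega
  obtain ⟨n1, l1, hcop1, hn1, hl1⟩ := Nat.exists_coprime n l
  have hg0 : 0 < Nat.gcd n l := Nat.gcd_pos_of_pos_left _ hn
  set g := Nat.gcd n l with hg
  have h5 : n1 ∣ l1 * (m + m) := by
    apply Nat.dvd_of_mul_dvd_mul_right hg0
    have : l1 * (m + m) * g = l * (m + m) := by rw [hl1]; ring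
    rw [this, ← hn1]
    exact h1
  have h6 : n1 ∣ 2 * m := by
    have := hcop1.dvd_of_dvd_mul_left h5
    rwa [← two_mul] at this
  have hn1even : Even n1 := by
    by_contra hne
    rw [Nat.not_even_iff_odd] at hne
    have hc2 : Nat.Coprime n1 2 := Nat.Coprime.symm (Nat.coprime_two_left.mpr hne)
    have h7 : n1 ∣ m := hc2.dvd_of_dvd_mul_left h6
    obtain ⟨t, ht⟩ := h7
    apply h2
    refine ⟨l1 * t, ?_⟩
    rw [hl1, hn1, ht]; ring
  have hl1odd : Odd l1 := by
    by_contra hne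
    rw [Nat.not_odd_iff_even] at hne
    exact Nat.not_coprime_of_dvd_of_dvd (by norm_num : 1 < 2) hn1even.two_dvd hne.two_dvd hcop1
  obtain ⟨n2, hn2⟩ := hn1even
  have hd1 : 2 ^ g + 1 ∣ 2 ^ l + 1 := by
    have := Odd.nat_add_dvd_pow_add_pow (2 ^ g) 1 hl1odd
    rw [one_pow, ← pow_mul] at this
    have h8 : g * l1 = l := by rw [hl1]; ring
    rwa [h8] at this
  have hd2 : 2 ^ g + 1 ∣ 2 ^ n - 1 := by
    have h9 : 2 ^ g + 1 ∣ (2 ^ g) ^ 2 - 1 := by
      have := Nat.sq_sub_sq (2 ^ g) 1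
      rw [one_pow] at this
      rw [this]
      exact dvd_mul_right _ _
    have h10 : (2 ^ g) ^ 2 - 1 ∣ 2 ^ n - 1 := by
      rw [← pow_mul]
      apply Nat.pow_sub_one_dvd_pow_sub_one
      refine ⟨n2, ?_⟩
      rw [hn1, hn2]; ring
    exact h9.trans h10
  have hd3 : 2 ^ g + 1 ∣ 1 := by
    have := Nat.dvd_gcd hd1 hd2
    rwa [hcop.gcd_eq_one] at this
  have h11 := Nat.le_of_dvd (by norm_num) hd3
  have h12 : 0 < 2 ^ g := by positivity
  omega

end NT

section Frob

variable {F : Type*} [Field F] [Fintype F] [CharP F 2]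

omit [CharP F 2] in
lemma pow_two_pow_mul_eq (n : ℕ) (hcard : Fintype.card F = 2 ^ n) (k : ℕ) (x : F) :
    x ^ (2 ^ (n * k)) = x := by
  induction k with
  | zero => simp
  | succ k ih =>
    rw [Nat.mul_succ, pow_add, pow_mul, ih, ← hcard, FiniteField.pow_card]

omit [CharP F 2] in
lemma pow_two_pow_eq_self_iff (n : ℕ) (hcard : Fintype.card F = 2 ^ n) (m : ℕ) :
    (∀ x : F, x ^ (2 ^ m) = x) ↔ n ∣ m := by
  have hn : 0 < n := by
    rcases Nat.eq_zero_or_pos n with h | h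
    · rw [h, pow_zero] at hcard
      have := Fintype.one_lt_card (α := F)
      omega
    · exact h
  constructor
  · intro h
    have h1 : ∀ x : F, x ^ (2 ^ (m % n)) = x ^ (2 ^ 0) := by
      intro x
      have h3 := h x
      rw [← Nat.div_add_mod m n, pow_add, pow_mul, pow_two_pow_mul_eq n hcard] at h3
      rw [h3, pow_zero, pow_one]
    have := pow_two_pow_injective n hcard (m % n) 0 (Nat.mod_lt _ hn) hn h1
    exact Nat.dvd_of_mod_eq_zero this
  · rintro ⟨k, rfl⟩ x
    exact pow_two_pow_mul_eq n hcard k x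

/-- the `l`-th power of the Frobenius automorphism -/
noncomputable def frobPow (l : ℕ) : F ≃+* F :=
  haveI : ExpChar F 2 := ExpChar.prime Nat.prime_two
  RingEquiv.ofBijective (iterateFrobenius F 2 l)
    (Finite.injective_iff_bijective.mp (RingHom.injective _))

lemma frobPow_apply (l : ℕ) (x : F) : frobPow l x = x ^ (2 ^ l) := rfl

lemma frobPow_pow_apply (l d : ℕ) (x : F) : (frobPow l ^ d) x = x ^ (2 ^ (l * d)) := by
  induction d generalizing x with
  | zero => simp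
  | succ d ih =>
    rw [pow_succ, RingAut.mul_apply, ih, frobPow_apply, ← pow_mul, ← pow_add, Nat.mul_succ,
      add_comm]

lemma frobPow_pow_eq_one_iff (n : ℕ) (hcard : Fintype.card F = 2 ^ n) (l d : ℕ) :
    (frobPow (F := F) l) ^ d = 1 ↔ n ∣ l * d := by
  rw [← pow_two_pow_eq_self_iff n hcard]
  constructor
  · intro h x
    rw [← frobPow_pow_apply, h, RingAut.one_apply]
  · intro h
    apply RingEquiv.ext
    intro x
    rw [frobPow_pow_apply, h, RingAut.one_apply]

end Frob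

section Comm

variable {P : Type*} [Group P]

lemma sq_mul_of_comm_central (g h : P) (hk : h⁻¹ * g⁻¹ * h * g ∈ center P) :
    (g * h) * (g * h) = (g * g) * (h * h) * (h⁻¹ * g⁻¹ * h * g) := by
  have hc1 := Subgroup.mem_center_iff.mp hk h
  calc g * h * (g * h) = g * g * h * ((h⁻¹ * g⁻¹ * h * g) * h) := by group
    _ = g * g * h * (h * (h⁻¹ * g⁻¹ * h * g)) := by rw [← hc1]
    _ = _ := by group

lemma comm_mul_of_central (h h' g : P) (hk : h⁻¹ * g⁻¹ * h * g ∈ center P) :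
    (h * h')⁻¹ * g⁻¹ * (h * h') * g = (h⁻¹ * g⁻¹ * h * g) * (h'⁻¹ * g⁻¹ * h' * g) := by
  have hc1 := Subgroup.mem_center_iff.mp hk h'⁻¹
  calc (h * h')⁻¹ * g⁻¹ * (h * h') * g = h'⁻¹ * (h⁻¹ * g⁻¹ * h * g) * (g⁻¹ * h' * g) := by group
    _ = (h⁻¹ * g⁻¹ * h * g) * h'⁻¹ * (g⁻¹ * h' * g) := by rw [hc1]
    _ = _ := by group

end Comm

section Main

variable {P : Type*} [Group P] [Finite P] {F : Type*} [Field F] [Fintype F] [CharP F 2]

theorem exists_typeA (n : ℕ) (hcard : Fintype.card F = 2 ^ n)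
    (hnonab : ∃ x y : P, x * y ≠ y * x)
    (α θ : P → F) (c : F) (e : ℕ)
    (hα_mul : ∀ g g', α (g * g') = α g + α g') (hα_surj : Function.Surjective α)
    (hα0 : ∀ g, α g = 0 ↔ g ∈ center P)
    (hθ_mul : ∀ g g', g ∈ center P → g' ∈ center P → θ (g * g') = θ g + θ g')
    (hθ_inj : ∀ g, g ∈ center P → θ g = 0 → g = 1)
    (hθ_surj : ∀ y, ∃ g, g ∈ center P ∧ θ g = y)
    (hc : c ≠ 0) (he1 : 1 ≤ e) (he2 : e + 2 ≤ 2 ^ n) (hcop : Nat.Coprime e (2 ^ n - 1))
    (hsqZ : ∀ g, g * g ∈ center P) (hsq : ∀ g, θ (g * g) = c * α g ^ e) :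
    ∃ φ : F ≃+* F, φ ≠ RingEquiv.refl F ∧ Odd (orderOf φ) ∧
      Nonempty (P ≃* TypeA F (φ : F →+* F)) := by
  classical
  haveI : Fact (Nat.Prime 2) := ⟨Nat.prime_two⟩
  have h2 : ∀ x : F, x + x = 0 := fun x => CharTwo.add_self_eq_zero x
  have hn : 0 < n := by
    rcases Nat.eq_zero_or_pos n with h | h
    · rw [h, pow_zero] at he2
      omega
    · exact h
  have hα1 : α 1 = 0 := (hα0 1).mpr (center P).one_mem
  have hαinv : ∀ g, α g⁻¹ = α g := by
    intro g
    have h3 := hα_mul g g⁻¹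
    rw [mul_inv_cancel, hα1] at h3
    have h4 : α g⁻¹ = α g + (α g + α g⁻¹) := by rw [← add_assoc, h2, zero_add]
    rw [h4, ← h3, add_zero]
  have hκZ : ∀ h g : P, h⁻¹ * g⁻¹ * h * g ∈ center P := by
    intro h g
    rw [← hα0, hα_mul, hα_mul, hα_mul, hαinv, hαinv]
    have : α h + α g + α h + α g = (α h + α h) + (α g + α g) := by ring
    rw [this, h2, h2, add_zero]
  have hθκ : ∀ g h : P, θ (h⁻¹ * g⁻¹ * h * g) =
      c * ((α g + α h) ^ e + α g ^ e + α h ^ e) := by
    intro g h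
    have h3 := congrArg θ (sq_mul_of_comm_central g h (hκZ h g))
    rw [hsq, hθ_mul _ _ ((center P).mul_mem (hsqZ g) (hsqZ h)) (hκZ h g),
      hθ_mul _ _ (hsqZ g) (hsqZ h), hsq, hsq, hα_mul] at h3
    have h4 : θ (h⁻¹ * g⁻¹ * h * g) = c * (α g + α h) ^ e - (c * α g ^ e + c * α h ^ e) := by
      rw [h3]; ring
    rw [h4, CharTwo.sub_eq_add]; ring
  obtain ⟨g1, hg1⟩ := hα_surj 1
  have hadd : ∀ y y' : F, (1 + (y + y')) ^ e + 1 + (y + y') ^ e =
      ((1 + y) ^ e + 1 + y ^ e) + ((1 + y') ^ e + 1 + y' ^ e) := by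
    intro y y'
    obtain ⟨h, hh⟩ := hα_surj y
    obtain ⟨h', hh'⟩ := hα_surj y'
    have h3 := congrArg θ (comm_mul_of_central h h' g1 (hκZ h g1))
    rw [hθ_mul _ _ (hκZ h g1) (hκZ h' g1), hθκ, hθκ, hθκ, hα_mul, hg1, hh, hh', one_pow,
      ← mul_add] at h3
    exact mul_left_cancel₀ hc h3
  rcases exponent_two_digits n hcard e he1 he2 hadd with ⟨i, rfl⟩ | ⟨i, j, hij, rfl⟩
  · -- `e = 2 ^ i`: `P` would be abelian
    exfalso
    obtain ⟨x, y, hxy⟩ := hnonab
    apply hxy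
    have h3 := hθκ x y
    rw [add_pow_char_pow] at h3
    have h4 : α x ^ 2 ^ i + α y ^ 2 ^ i + α x ^ 2 ^ i + α y ^ 2 ^ i = 0 := by
      have : α x ^ 2 ^ i + α y ^ 2 ^ i + α x ^ 2 ^ i + α y ^ 2 ^ i =
        (α x ^ 2 ^ i + α x ^ 2 ^ i) + (α y ^ 2 ^ i + α y ^ 2 ^ i) := by ring
      rw [this, h2, h2, add_zero]
    rw [h4, mul_zero] at h3
    have h5 := hθ_inj _ (hκZ y x) h3
    have h6 : y * x = x * y * (y⁻¹ * x⁻¹ * y * x) := by group
    rw [h6, h5, mul_one]
  · -- `e = 2 ^ i + 2 ^ j`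
    have hjn : j < n := by
      have h3 : 2 ^ j < 2 ^ n := by
        have : 0 < 2 ^ i := by positivity
        omega
      exact (Nat.pow_lt_pow_iff_right (by norm_num)).mp h3
    obtain ⟨l, rfl⟩ : ∃ l, j = i + l := ⟨j - i, by omega⟩
    have hl0 : 0 < l := by omega
    have hln : l < n := by omega
    refine ⟨frobPow l, ?_, ?_, ?_⟩
    · intro hφ
      have h3 : ∀ x : F, x ^ (2 ^ l) = x ^ (2 ^ 0) := by
        intro x
        have := congrArg (fun ψ : F ≃+* F => ψ x) hφ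
        simp only [frobPow_apply, RingEquiv.refl_apply] at this
        rw [this, pow_zero, pow_one]
      have := pow_two_pow_injective n hcard l 0 hln hn h3
      omega
    · have hord : ∀ d, orderOf (frobPow (F := F) l) ∣ d ↔ n ∣ l * d := by
        intro d
        rw [orderOf_dvd_iff_pow_eq_one, frobPow_pow_eq_one_iff n hcard]
      have ho : 0 < orderOf (frobPow (F := F) l) := by
        have h3 : orderOf (frobPow (F := F) l) ∣ n := (hord n).mpr (dvd_mul_left _ _)
        exact Nat.pos_of_dvd_of_pos h3 hn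
      apply odd_of_coprime_aux n l _ hn ho _ hord
      have h3 : 2 ^ i + 2 ^ (i + l) = 2 ^ i * (2 ^ l + 1) := by rw [pow_add]; ring
      rw [h3] at hcop
      exact hcop.coprime_mul_left
    · have hinj : Function.Injective (fun x : F => x ^ 2 ^ i) := by
        intro x y hxy
        have h3 : (x - y) ^ 2 ^ i = 0 := by
          rw [sub_pow_char_pow]
          exact sub_eq_zero.mpr hxy
        exact sub_eq_zero.mp (pow_eq_zero_iff (by positivity) |>.mp h3)
      have hsurj : Function.Surjective (fun x : F => x ^ 2 ^ i) :=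
        Finite.injective_iff_surjective.mp hinj
      apply exists_iso_typeA ((frobPow l : F ≃+* F) : F →+* F) (fun g => α g ^ 2 ^ i)
        (fun g => c⁻¹ * θ g)
      · intro g h
        show α (g * h) ^ 2 ^ i = _
        rw [hα_mul, add_pow_char_pow]
      · intro y
        obtain ⟨x, hx⟩ := hsurj y
        obtain ⟨g, hg⟩ := hα_surj x
        exact ⟨g, by show α g ^ 2 ^ i = y; rw [hg]; exact hx⟩
      · intro g hg h
        have h3 : α g = 0 := pow_eq_zero_iff (by positivity) |>.mp hg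
        exact Subgroup.mem_center_iff.mp ((hα0 g).mp h3) h
      · intro g h hg hh
        have h3 : α g = 0 := pow_eq_zero_iff (by positivity) |>.mp hg
        have h4 : α h = 0 := pow_eq_zero_iff (by positivity) |>.mp hh
        show c⁻¹ * θ (g * h) = c⁻¹ * θ g + c⁻¹ * θ h
        rw [hθ_mul g h ((hα0 g).mp h3) ((hα0 h).mp h4), mul_add]
      · intro g hg hζ
        have h3 : α g = 0 := pow_eq_zero_iff (by positivity) |>.mp hg
        have h4 : θ g = 0 := by
          rcases mul_eq_zero.mp hζ with h5 | h5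
          · exact absurd (inv_eq_zero.mp h5) hc
          · exact h5
        exact hθ_inj g ((hα0 g).mp h3) h4
      · intro y
        obtain ⟨g, hg, hgy⟩ := hθ_surj (c * y)
        refine ⟨g, ?_, ?_⟩
        · show α g ^ 2 ^ i = 0
          rw [(hα0 g).mpr hg, zero_pow (by positivity)]
        · show c⁻¹ * θ g = y
          rw [hgy, inv_mul_cancel_left₀ hc]
      · intro g
        show c⁻¹ * θ (g * g) = frobPow l (α g ^ 2 ^ i) * α g ^ 2 ^ i
        rw [hsq, inv_mul_cancel_left₀ hc, frobPow_apply, ← pow_mul, ← pow_add, pow_add 2 i l,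
          add_comm]

end Main

end Cfsg.Agent.Lib.Helper3.SuzA
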