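import Mathlib
import Cfsg.Prelude.Def_LieExceptional

set_option autoImplicit false

namespace Cfsg.Agent.Lib.Helper3
namespace BN

open DoubleCoset

variable {G : Type*} [Group G] (P : Cfsg.BNPair G)

/-- the double coset `B n B` -/
abbrev C (n : G) : Set G := doubleCoset n (P.B : Set G) P.B

lemma mem_C {n g : G} : g ∈ C P n ↔ ∃ b ∈ P.B, ∃ b' ∈ P.B, g = b * n * b' := by
  simp [C, mem_doubleCoset]

lemma self_mem_C (n : G) : n ∈ C P n := mem_doubleCoset_self _ _ _

lemma C_eq_of_mem {n g : G} (h : g ∈ C P n) : C P g = C P n := doubleCoset_eq_of_mem h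

lemma mem_C_symm {n g : G} (h : g ∈ C P n) : n ∈ C P g := by
  rw [C_eq_of_mem P h]; exact self_mem_C P n

lemma mem_C_trans {n m g : G} (h : g ∈ C P n) (h' : n ∈ C P m) : g ∈ C P m := by
  rw [← C_eq_of_mem P h']; exact h

lemma mul_left_mem_C {n g b : G} (hb : b ∈ P.B) (h : g ∈ C P n) : b * g ∈ C P n := by
  obtain ⟨x, hx, y, hy, rfl⟩ := (mem_C P).1 h
  exact (mem_C P).2 ⟨b * x, P.B.mul_mem hb hx, y, hy, by group⟩

lemma mul_right_mem_C {n g b : G} (hb : b ∈ P.B) (h : g ∈ C P n) : g * b ∈ C P n := by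
  obtain ⟨x, hx, y, hy, rfl⟩ := (mem_C P).1 h
  exact (mem_C P).2 ⟨x, hx, y * b, P.B.mul_mem hy hb, by group⟩

lemma inv_mem_C {n g : G} (h : g ∈ C P n) : g⁻¹ ∈ C P n⁻¹ := by
  obtain ⟨x, hx, y, hy, rfl⟩ := (mem_C P).1 h
  exact (mem_C P).2 ⟨y⁻¹, P.B.inv_mem hy, x⁻¹, P.B.inv_mem hx, by group⟩

lemma mem_C_one {g : G} : g ∈ C P 1 ↔ g ∈ P.B := by
  constructor
  · intro h
    obtain ⟨x, hx, y, hy, rfl⟩ := (mem_C P).1 h
    simpa using P.B.mul_mem hx hy
  · intro h
    exact (mem_C P).2 ⟨g, h, 1, P.B.one_mem, by group⟩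

lemma mem_C_of_mem_B {n g : G} (hn : n ∈ P.B) : g ∈ C P n ↔ g ∈ P.B := by
  rw [← mem_C_one]
  have : C P n = C P 1 := C_eq_of_mem P ((mem_C_one P).2 hn)
  rw [this]

/-- the relation `n ~ n'` : `n⁻¹ n' ∈ B` -/
def Rel (n n' : G) : Prop := n⁻¹ * n' ∈ P.B

lemma Rel.refl (n : G) : Rel P n n := by simp [Rel, P.B.one_mem]

section
variable {P}

lemma Rel.symm {n n' : G} (h : Rel P n n') : Rel P n' n := by
  have := P.B.inv_mem h
  simpa [Rel] using this

lemma Rel.trans {n n' n'' : G} (h : Rel P n n') (h' : Rel P n' n'') : Rel P n n'' := by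
  have := P.B.mul_mem h h'
  simpa [Rel, mul_assoc] using this

lemma Rel.mul_left {n n' : G} (g : G) (h : Rel P n n') : Rel P (g * n) (g * n') := by
  unfold Rel at *
  have : (g * n)⁻¹ * (g * n') = n⁻¹ * n' := by group
  rw [this]; exact h

lemma Rel.mem_C {n n' : G} (h : Rel P n n') : n' ∈ C P n :=
  (BN.mem_C P).2 ⟨1, P.B.one_mem, n⁻¹ * n', h, by group⟩

lemma Rel.C_eq {n n' : G} (h : Rel P n n') : C P n = C P n' := (C_eq_of_mem P h.mem_C).symm

end

lemma rel_of_mem_B {b : G} (hb : b ∈ P.B) : Rel P 1 b := by simpa [Rel] using hb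

section
variable {P}
lemma Rel.mul_B {n n' b : G} (h : Rel P n n') (hb : b ∈ P.B) : Rel P n (n' * b) := by
  have := P.B.mul_mem h hb
  simpa [Rel, mul_assoc] using this
end

/-- normality of `B ⊓ N` in `N`, in a convenient form -/
lemma conj_mem' {n t : G} (hn : n ∈ P.N) (ht : t ∈ P.B) (htN : t ∈ P.N) : n⁻¹ * t * n ∈ P.B := by
  have := P.conj_mem n⁻¹ (P.N.inv_mem hn) t ⟨ht, htN⟩
  simpa using this

section
variable {P}
lemma Rel.mul_right {n n' m : G} (hn : n ∈ P.N) (hn' : n' ∈ P.N) (hm : m ∈ P.N)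
    (h : Rel P n n') : Rel P (n * m) (n' * m) := by
  unfold Rel at *
  have h1 : (n * m)⁻¹ * (n' * m) = m⁻¹ * (n⁻¹ * n') * m := by group
  rw [h1]
  exact conj_mem' P hm h (P.N.mul_mem (P.N.inv_mem hn) hn')

lemma Rel.inv {n n' : G} (hn : n ∈ P.N) (hn' : n' ∈ P.N) (h : Rel P n n') : Rel P n⁻¹ n'⁻¹ := by
  unfold Rel at *
  have h1 : (n⁻¹)⁻¹ * n'⁻¹ = n * (n⁻¹ * n')⁻¹ * n⁻¹ := by group
  rw [h1]
  exact P.conj_mem n hn _ ⟨P.B.inv_mem h, P.N.inv_mem (P.N.mul_mem (P.N.inv_mem hn) hn')⟩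

end

lemma S_mem_N {s : G} (hs : s ∈ P.S) : s ∈ P.N := P.subset hs

lemma rel_sq {s : G} (hs : s ∈ P.S) : Rel P (s * s) 1 := by
  have := P.B.inv_mem (P.sq_mem s hs)
  simpa [Rel] using this

lemma rel_inv_self {s : G} (hs : s ∈ P.S) : Rel P s⁻¹ s := by
  simpa [Rel] using P.sq_mem s hs

/-- `s s n ~ n` -/
lemma rel_sq_mul {s n : G} (hs : s ∈ P.S) (hn : n ∈ P.N) : Rel P (s * (s * n)) n := by
  have h := (rel_sq P hs).mul_right (P.N.mul_mem (S_mem_N P hs) (S_mem_N P hs)) P.N.one_mem hn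
  simpa [mul_assoc] using h

/-- `n s s ~ n` -/
lemma rel_mul_sq {s n : G} (hs : s ∈ P.S) : Rel P (n * s * s) n := by
  have h := (rel_sq P hs).mul_left n
  simpa [mul_assoc] using h

/-- left multiplication axiom: `s C(n) ⊆ C(sn) ∪ C(n)` -/
lemma smul_mem {s n g : G} (hs : s ∈ P.S) (hn : n ∈ P.N) (hg : g ∈ C P n) :
    s * g ∈ C P (s * n) ∨ s * g ∈ C P n := by
  obtain ⟨x, hx, y, hy, rfl⟩ := (mem_C P).1 hg
  have h := P.mul_mem_union s hs n hn x hx
  rcases h with h | h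
  · left
    have := mul_right_mem_C P hy h
    simpa [mul_assoc] using this
  · right
    have := mul_right_mem_C P hy h
    simpa [mul_assoc] using this

lemma inv_smul_mem {s n g : G} (hs : s ∈ P.S) (hn : n ∈ P.N) (hg : g ∈ C P n) :
    s⁻¹ * g ∈ C P (s * n) ∨ s⁻¹ * g ∈ C P n := by
  have h1 : s⁻¹ * g = (s * s)⁻¹ * (s * g) := by group
  rw [h1]
  rcases smul_mem P hs hn hg with h | h
  · left; exact mul_left_mem_C P (P.B.inv_mem (P.sq_mem s hs)) h
  · right; exact mul_left_mem_C P (P.B.inv_mem (P.sq_mem s hs)) h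

/-- right multiplication: `C(n) s ⊆ C(ns) ∪ C(n)` -/
lemma mul_s_mem {s n g : G} (hs : s ∈ P.S) (hn : n ∈ P.N) (hg : g ∈ C P n) :
    g * s ∈ C P (n * s) ∨ g * s ∈ C P n := by
  have hg' := inv_mem_C P hg
  have h := inv_smul_mem P hs (P.N.inv_mem hn) hg'
  rcases h with h | h
  · left
    have h2 := inv_mem_C P h
    have h3 : (s⁻¹ * g⁻¹)⁻¹ = g * s := by group
    rw [h3] at h2
    -- (s n⁻¹)⁻¹ = n s⁻¹ ~ n s
    have h4 : Rel P (s * n⁻¹)⁻¹ (n * s) := by
      have : (s * n⁻¹)⁻¹ = n * s⁻¹ := by group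
      rw [this]
      exact (rel_inv_self P hs).mul_left n
    rw [← h4.C_eq]; exact h2
  · right
    have h2 := inv_mem_C P h
    have h3 : (s⁻¹ * g⁻¹)⁻¹ = g * s := by group
    rw [h3] at h2
    simpa using h2

lemma mul_s_inv_mem {s n g : G} (hs : s ∈ P.S) (hn : n ∈ P.N) (hg : g ∈ C P n) :
    g * s⁻¹ ∈ C P (n * s) ∨ g * s⁻¹ ∈ C P n := by
  have h1 : g * s⁻¹ = (g * s) * (s * s)⁻¹ := by group
  rw [h1]
  rcases mul_s_mem P hs hn hg with h | h
  · left; exact mul_right_mem_C P (P.B.inv_mem (P.sq_mem s hs)) h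
  · right; exact mul_right_mem_C P (P.B.inv_mem (P.sq_mem s hs)) h

/-- `s ∉ B` for `s ∈ S`. -/
lemma S_not_mem_B {s : G} (hs : s ∈ P.S) : s ∉ P.B := by
  intro h
  apply P.conj_ne s hs
  ext g
  constructor
  · rintro ⟨b, hb, rfl⟩
    exact P.B.mul_mem (P.B.mul_mem h hb) h
  · intro hg
    refine ⟨s⁻¹ * g * s⁻¹, P.B.mul_mem (P.B.mul_mem (P.B.inv_mem h) hg) (P.B.inv_mem h), by group⟩

/-- there is `b ∈ B` with `s b s ∉ B` -/
lemma exists_not_mem {s : G} (hs : s ∈ P.S) : ∃ b ∈ P.B, s * b * s ∉ P.B := by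
  by_contra hcon
  push Not at hcon
  apply P.conj_ne s hs
  apply Set.Subset.antisymm
  · rintro _ ⟨b, hb, rfl⟩
    exact hcon b hb
  · intro g hg
    -- g = s (s⁻¹ g s⁻¹) s, and s⁻¹ g s⁻¹ = t⁻¹ (s g s) t⁻¹ with t = s s
    refine ⟨s⁻¹ * g * s⁻¹, ?_, by group⟩
    have h1 : s⁻¹ * g * s⁻¹ = (s * s)⁻¹ * (s * g * s) * (s * s)⁻¹ := by group
    rw [h1]
    exact P.B.mul_mem (P.B.mul_mem (P.B.inv_mem (P.sq_mem s hs)) (hcon g hg))
      (P.B.inv_mem (P.sq_mem s hs))

/-- there is `b ∈ B` with `s b s ∈ C(s)` -/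
lemma exists_mem_Cs {s : G} (hs : s ∈ P.S) : ∃ b ∈ P.B, s * b * s ∈ C P s := by
  obtain ⟨b, hb, hnb⟩ := exists_not_mem P hs
  refine ⟨b, hb, ?_⟩
  have h := P.mul_mem_union s hs s (S_mem_N P hs) b hb
  rcases h with h | h
  · exfalso
    apply hnb
    rw [mem_C_of_mem_B P (P.sq_mem s hs)] at h
    exact h
  · exact h

/-! ### Words and length -/

/-- `l` is an `S`-word representing `n` (modulo `B`). -/
def IsWord (l : List G) (n : G) : Prop := (∀ x ∈ l, x ∈ P.S) ∧ Rel P n l.prod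

lemma prod_mem_N {l : List G} (hl : ∀ x ∈ l, x ∈ P.S) : l.prod ∈ P.N :=
  P.N.list_prod_mem (fun x hx => S_mem_N P (hl x hx))


lemma isWord_nil_iff {n : G} : IsWord P [] n ↔ n ∈ P.B := by
  unfold IsWord Rel
  simp

lemma isWord_prod {l : List G} (hl : ∀ x ∈ l, x ∈ P.S) : IsWord P l l.prod :=
  ⟨hl, Rel.refl P _⟩

section
variable {P}

lemma IsWord.congr {l : List G} {n n' : G} (h : IsWord P l n) (h' : Rel P n' n) : IsWord P l n' :=
  ⟨h.1, h'.trans h.2⟩

lemma IsWord.cons {l : List G} {n s : G} (h : IsWord P l n) (hs : s ∈ P.S) :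
    IsWord P (s :: l) (s * n) := by
  refine ⟨?_, ?_⟩
  · intro x hx
    rcases List.mem_cons.1 hx with rfl | hx
    · exact hs
    · exact h.1 x hx
  · rw [List.prod_cons]
    exact h.2.mul_left s

lemma IsWord.concat {l : List G} {n s : G} (h : IsWord P l n) (hn : n ∈ P.N) (hs : s ∈ P.S) :
    IsWord P (l ++ [s]) (n * s) := by
  refine ⟨?_, ?_⟩
  · intro x hx
    rcases List.mem_append.1 hx with hx | hx
    · exact h.1 x hx
    · rw [List.mem_singleton] at hx; rw [hx]; exact hs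
  · rw [List.prod_append, List.prod_singleton]
    exact h.2.mul_right hn (prod_mem_N P h.1) (S_mem_N P hs)

lemma IsWord.append {l l' : List G} {n n' : G} (h : IsWord P l n) (h' : IsWord P l' n')
    (hn : n ∈ P.N) (hn' : n' ∈ P.N) : IsWord P (l ++ l') (n * n') := by
  refine ⟨?_, ?_⟩
  · intro x hx
    rcases List.mem_append.1 hx with hx | hx
    · exact h.1 x hx
    · exact h'.1 x hx
  · rw [List.prod_append]
    have h1 : Rel P (n * n') (l.prod * n') := h.2.mul_right hn (prod_mem_N P h.1) hn'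
    exact h1.trans (h'.2.mul_left _)

end

/-- every element of `N` is represented by a word -/
lemma exists_word {n : G} (hn : n ∈ P.N) : ∃ l, IsWord P l n := by
  have hn' : n ∈ Subgroup.closure (P.S ∪ ((P.B ⊓ P.N : Subgroup G) : Set G)) := by
    rw [Subgroup.closure_union, Subgroup.closure_eq, P.closure_sup]
    exact hn
  have hle : Subgroup.closure (P.S ∪ ((P.B ⊓ P.N : Subgroup G) : Set G)) ≤ P.N := by
    rw [Subgroup.closure_union, Subgroup.closure_eq, P.closure_sup]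
  induction hn' using Subgroup.closure_induction'' with
  | mem x hx =>
    rcases hx with hx | hx
    · exact ⟨[x], by simpa using isWord_prod P (l := [x]) (by simpa using hx)⟩
    · exact ⟨[], (isWord_nil_iff P).2 hx.1⟩
  | inv_mem x hx =>
    rcases hx with hx | hx
    · refine ⟨[x], ?_, ?_⟩
      · simpa using hx
      · simpa using rel_inv_self P hx
    · exact ⟨[], (isWord_nil_iff P).2 (P.B.inv_mem hx.1)⟩
  | one => exact ⟨[], (isWord_nil_iff P).2 P.B.one_mem⟩
  | mul x y hx hy ihx ihy =>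
    obtain ⟨lx, hlx⟩ := ihx (hle hx)
    obtain ⟨ly, hly⟩ := ihy (hle hy)
    exact ⟨lx ++ ly, hlx.append hly (hle hx) (hle hy)⟩

/-- the length of `n` with respect to `S` (modulo `B`) -/
noncomputable def len (n : G) : ℕ := sInf {k | ∃ l, IsWord P l n ∧ l.length = k}

section
variable {P}

lemma IsWord.len_le {l : List G} {n : G} (h : IsWord P l n) : len P n ≤ l.length :=
  Nat.sInf_le ⟨l, h, rfl⟩

end

lemma exists_word_len {n : G} (hn : n ∈ P.N) : ∃ l, IsWord P l n ∧ l.length = len P n := by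
  obtain ⟨l, hl⟩ := exists_word P hn
  have : ({k | ∃ l, IsWord P l n ∧ l.length = k} : Set ℕ).Nonempty := ⟨l.length, l, hl, rfl⟩
  exact Nat.sInf_mem this

lemma len_congr {n n' : G} (h : Rel P n n') : len P n = len P n' := by
  unfold len
  congr 1
  ext k
  constructor
  · rintro ⟨l, hl, rfl⟩
    exact ⟨l, hl.congr h.symm, rfl⟩
  · rintro ⟨l, hl, rfl⟩
    exact ⟨l, hl.congr h, rfl⟩

lemma len_eq_zero_iff {n : G} (hn : n ∈ P.N) : len P n = 0 ↔ n ∈ P.B := by
  constructor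
  · intro h
    obtain ⟨l, hl, hlen⟩ := exists_word_len P hn
    rw [h, List.length_eq_zero_iff] at hlen
    subst hlen
    exact (isWord_nil_iff P).1 hl
  · intro h
    have := ((isWord_nil_iff P).2 h).len_le
    simpa using this

lemma len_one : len P 1 = 0 := (len_eq_zero_iff P P.N.one_mem).2 P.B.one_mem

lemma len_smul_le {s n : G} (hs : s ∈ P.S) (hn : n ∈ P.N) : len P (s * n) ≤ len P n + 1 := by
  obtain ⟨l, hl, hlen⟩ := exists_word_len P hn
  have := (hl.cons hs).len_le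
  simpa [hlen] using this

lemma len_mul_s_le {s n : G} (hs : s ∈ P.S) (hn : n ∈ P.N) : len P (n * s) ≤ len P n + 1 := by
  obtain ⟨l, hl, hlen⟩ := exists_word_len P hn
  have := (hl.concat hn hs).len_le
  simpa [hlen] using this

lemma len_le_smul {s n : G} (hs : s ∈ P.S) (hn : n ∈ P.N) : len P n ≤ len P (s * n) + 1 := by
  rw [← len_congr P (rel_sq_mul P hs hn)]
  exact len_smul_le P hs (P.N.mul_mem (S_mem_N P hs) hn)

lemma len_le_mul_s {s n : G} (hs : s ∈ P.S) (hn : n ∈ P.N) : len P n ≤ len P (n * s) + 1 := by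
  rw [← len_congr P (rel_mul_sq P hs (n := n))]
  exact len_mul_s_le P hs (P.N.mul_mem hn (S_mem_N P hs))

lemma len_S {s : G} (hs : s ∈ P.S) : len P s = 1 := by
  apply le_antisymm
  · have := (isWord_prod P (l := [s]) (by simpa using hs)).len_le
    simpa using this
  · rw [Nat.one_le_iff_ne_zero, Ne, len_eq_zero_iff P (S_mem_N P hs)]
    exact S_not_mem_B P hs

/-- a reduced word -/
def IsReduced (l : List G) : Prop := (∀ x ∈ l, x ∈ P.S) ∧ len P l.prod = l.length

/-- left reduction : `n ~ s n'` with `len n' = len n - 1` -/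
lemma exists_left_reduction {n : G} (hn : n ∈ P.N) {k : ℕ} (hk : len P n = k + 1) :
    ∃ s ∈ P.S, ∃ n' ∈ P.N, len P n' = k ∧ Rel P n (s * n') := by
  obtain ⟨l, hl, hlen⟩ := exists_word_len P hn
  rw [hk] at hlen
  match l, hl, hlen with
  | s :: l', hl, hlen =>
    have hs : s ∈ P.S := hl.1 s (by simp)
    have hl' : ∀ x ∈ l', x ∈ P.S := fun x hx => hl.1 x (by simp [hx])
    refine ⟨s, hs, l'.prod, prod_mem_N P hl', ?_, ?_⟩
    · apply le_antisymm
      · have := (isWord_prod P hl').len_le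
        simp at hlen
        omega
      · have h1 := len_smul_le P hs (prod_mem_N P hl')
        have h2 : len P n = len P (s * l'.prod) := by
          apply len_congr
          simpa using hl.2
        omega
    · simpa using hl.2

/-- right reduction : `n ~ n' s` with `len n' = len n - 1` -/
lemma exists_right_reduction {n : G} (hn : n ∈ P.N) {k : ℕ} (hk : len P n = k + 1) :
    ∃ s ∈ P.S, ∃ n' ∈ P.N, len P n' = k ∧ Rel P n (n' * s) := by
  obtain ⟨l, hl, hlen⟩ := exists_word_len P hn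
  rw [hk] at hlen
  rcases List.eq_nil_or_concat l with rfl | ⟨l', s, rfl⟩
  · simp at hlen
  · rw [List.concat_eq_append] at hl hlen
    have hs : s ∈ P.S := hl.1 s (by simp)
    have hl' : ∀ x ∈ l', x ∈ P.S := fun x hx => hl.1 x (by simp [hx])
    have hprod : (l' ++ [s]).prod = l'.prod * s := by simp
    refine ⟨s, hs, l'.prod, prod_mem_N P hl', ?_, ?_⟩
    · apply le_antisymm
      · have := (isWord_prod P hl').len_le
        simp at hlen
        omega
      · have h1 := len_mul_s_le P hs (prod_mem_N P hl')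
        have h2 : len P n = len P (l'.prod * s) := by
          apply len_congr
          rw [← hprod]; exact hl.2
        omega
    · rw [← hprod]; exact hl.2

/-! ### Parabolic subgroups as unions of double cosets; Bruhat decomposition -/

lemma closure_le_N {J : Set G} (hJ : J ⊆ P.S) : Subgroup.closure J ≤ P.N :=
  (Subgroup.closure_le _).2 (fun _ hx => S_mem_N P (hJ hx))

/-- `P_J = ⋃_{n ∈ ⟨J⟩} B n B`. -/
theorem mem_parabolic_iff {J : Set G} (hJ : J ⊆ P.S) (g : G) :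
    g ∈ P.parabolic J ↔ ∃ n ∈ Subgroup.closure J, g ∈ C P n := by
  constructor
  · intro hg
    have hg' : g ∈ Subgroup.closure ((P.B : Set G) ∪ J) := by
      rw [Subgroup.closure_union, Subgroup.closure_eq]; exact hg
    clear hg
    induction hg' using Subgroup.closure_induction_left with
    | one => exact ⟨1, Subgroup.one_mem _, (mem_C_one P).2 P.B.one_mem⟩
    | mul_left x hx y _ ih =>
      obtain ⟨n, hn, hy⟩ := ih
      rcases hx with hx | hx
      · exact ⟨n, hn, mul_left_mem_C P hx hy⟩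
      · rcases smul_mem P (hJ hx) (closure_le_N P hJ hn) hy with h | h
        · exact ⟨x * n, Subgroup.mul_mem _ (Subgroup.subset_closure hx) hn, h⟩
        · exact ⟨n, hn, h⟩
    | inv_mul_cancel x hx y _ ih =>
      obtain ⟨n, hn, hy⟩ := ih
      rcases hx with hx | hx
      · exact ⟨n, hn, mul_left_mem_C P (P.B.inv_mem hx) hy⟩
      · rcases inv_smul_mem P (hJ hx) (closure_le_N P hJ hn) hy with h | h
        · exact ⟨x * n, Subgroup.mul_mem _ (Subgroup.subset_closure hx) hn, h⟩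
        · exact ⟨n, hn, h⟩
  · rintro ⟨n, hn, hg⟩
    obtain ⟨x, hx, y, hy, rfl⟩ := (mem_C P).1 hg
    have hB : P.B ≤ P.parabolic J := le_sup_left
    have hJ' : Subgroup.closure J ≤ P.parabolic J := le_sup_right
    exact Subgroup.mul_mem _ (Subgroup.mul_mem _ (hB hx) (hJ' hn)) (hB hy)

lemma parabolic_S : P.parabolic P.S = ⊤ := by
  rw [eq_top_iff, ← P.sup_eq_top]
  apply sup_le
  · exact le_sup_left
  · conv_lhs => rw [← P.closure_sup]
    apply sup_le
    · exact le_sup_right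
    · exact le_trans inf_le_left le_sup_left

/-- Bruhat decomposition, existence. -/
theorem bruhat_exists (g : G) : ∃ n ∈ P.N, g ∈ C P n := by
  have hg : g ∈ P.parabolic P.S := by rw [parabolic_S]; trivial
  obtain ⟨n, hn, h⟩ := (mem_parabolic_iff P (le_refl _) g).1 hg
  exact ⟨n, closure_le_N P (le_refl _) hn, h⟩

/-- if `s n ~ n` with `n ∈ N` then contradiction -/
lemma not_rel_smul {s n : G} (hs : s ∈ P.S) (hn : n ∈ P.N) : ¬ Rel P (s * n) n := by
  intro h
  apply S_not_mem_B P hs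
  -- (s n)⁻¹ n = n⁻¹ s⁻¹ n ∈ B, so s⁻¹ ∈ n B n⁻¹ ∩ N
  have h1 : (s * n)⁻¹ * n = n⁻¹ * s⁻¹ * n := by group
  unfold Rel at h
  rw [h1] at h
  have h2 := P.conj_mem n hn _ ⟨h, P.N.mul_mem (P.N.mul_mem (P.N.inv_mem hn)
    (P.N.inv_mem (S_mem_N P hs))) hn⟩
  have h3 : n * (n⁻¹ * s⁻¹ * n) * n⁻¹ = s⁻¹ := by group
  rw [h3] at h2
  simpa using P.B.inv_mem h2

/-- Bruhat decomposition, uniqueness (auxiliary form for the induction). -/
lemma bruhat_unique_aux : ∀ k : ℕ, ∀ n ∈ P.N, len P n = k → ∀ n' ∈ P.N, k ≤ len P n' →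
    C P n = C P n' → Rel P n n' := by
  intro k
  induction k with
  | zero =>
    intro n hn hk n' hn' _ hC
    have hnB : n ∈ P.B := (len_eq_zero_iff P hn).1 hk
    have h1 : n' ∈ C P n := by rw [hC]; exact self_mem_C P n'
    rw [mem_C_of_mem_B P hnB] at h1
    exact P.B.mul_mem (P.B.inv_mem hnB) h1
  | succ k ih =>
    intro n hn hk n' hn' hle hC
    obtain ⟨s, hs, n1, hn1, hlen1, hrel⟩ := exists_left_reduction P hn hk
    -- s n1 ∈ C n'
    have h1 : s * n1 ∈ C P n' := by rw [← hC]; exact hrel.mem_C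
    have h2 : n1 ∈ C P (s * n') ∨ n1 ∈ C P n' := by
      have := inv_smul_mem P hs hn' h1
      simpa using this
    rcases h2 with h2 | h2
    · -- n1 ~ s n'
      have h3 : k ≤ len P (s * n') := by
        have := len_le_smul P hs hn'
        omega
      have h4 : Rel P n1 (s * n') :=
        ih n1 hn1 hlen1 (s * n') (P.N.mul_mem (S_mem_N P hs) hn') h3 (C_eq_of_mem P h2)
      -- n ~ s n1 ~ s s n' ~ n'
      exact hrel.trans ((h4.mul_left s).trans (rel_sq_mul P hs hn'))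
    · -- n1 ~ n', impossible by length
      exfalso
      have h4 : Rel P n1 n' := ih n1 hn1 hlen1 n' hn' (by omega) (C_eq_of_mem P h2)
      have := len_congr P h4
      omega

/-- Bruhat decomposition, uniqueness. -/
theorem bruhat_unique {n n' : G} (hn : n ∈ P.N) (hn' : n' ∈ P.N) (hC : C P n = C P n') :
    Rel P n n' := by
  rcases le_total (len P n) (len P n') with h | h
  · exact bruhat_unique_aux P _ n hn rfl n' hn' h hC
  · exact (bruhat_unique_aux P _ n' hn' rfl n hn h hC.symm).symm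

theorem C_eq_iff {n n' : G} (hn : n ∈ P.N) (hn' : n' ∈ P.N) : C P n = C P n' ↔ Rel P n n' :=
  ⟨bruhat_unique P hn hn', fun h => h.C_eq⟩

lemma rel_of_mem_C {n n' : G} (hn : n ∈ P.N) (hn' : n' ∈ P.N) (h : n' ∈ C P n) : Rel P n n' :=
  bruhat_unique P hn hn' (C_eq_of_mem P h).symm

end BN
end Cfsg.Agent.Lib.Helper3
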