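import Mathlib
import Cfsg.Agent.Lib.Helper3.BNPair

set_option autoImplicit false

namespace Cfsg.Agent.Lib.Helper3
namespace BN

open DoubleCoset

variable {G : Type*} [Group G] (P : Cfsg.BNPair G)

/-- if `len n ≤ len (s n)` then `s C(n) ⊆ C(s n)`. -/
lemma smul_mem_of_len_le_aux : ∀ k : ℕ, ∀ n ∈ P.N, len P n = k → ∀ s ∈ P.S,
    len P n ≤ len P (s * n) → ∀ g ∈ C P n, s * g ∈ C P (s * n) := by
  intro k
  induction k with
  | zero =>
    intro n hn hk s hs _ g hg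
    have hnB : n ∈ P.B := (len_eq_zero_iff P hn).1 hk
    rw [mem_C_of_mem_B P hnB] at hg
    exact (mem_C P).2 ⟨1, P.B.one_mem, n⁻¹ * g, P.B.mul_mem (P.B.inv_mem hnB) hg, by group⟩
  | succ k ih =>
    intro n hn hk s hs hle g hg
    obtain ⟨s', hs', n1, hn1, hlen1, hrel⟩ := exists_right_reduction P hn hk
    have hsN := S_mem_N P hs
    have hs'N := S_mem_N P hs'
    -- len n1 ≤ len (s n1)
    have hle1 : len P n1 ≤ len P (s * n1) := by
      by_contra hcon
      push Not at hcon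
      have h1 : len P (s * n) = len P (s * n1 * s') := by
        apply len_congr
        have := hrel.mul_left s
        simpa [mul_assoc] using this
      have h2 := len_mul_s_le P hs' (P.N.mul_mem hsN hn1)
      omega
    have ih1 := ih n1 hn1 hlen1 s hs hle1
    rcases smul_mem P hs hn hg with h | h
    · exact h
    · exfalso
      -- g ∈ C (n1 s')
      have hg' : g ∈ C P (n1 * s') := by rw [← hrel.C_eq]; exact hg
      obtain ⟨x, hx, y, hy, rfl⟩ := (mem_C P).1 hg'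
      set g1 := x * n1 with hg1
      have hg1C : g1 ∈ C P n1 := mul_left_mem_C P hx (self_mem_C P n1)
      have h3 : s * g1 * s' ∈ C P n := by
        have := mul_right_mem_C P (P.B.inv_mem hy) h
        have e : s * (x * (n1 * s') * y) * y⁻¹ = s * g1 * s' := by rw [hg1]; group
        rwa [e] at this
      have h4 : s * g1 ∈ C P (n * s') ∨ s * g1 ∈ C P n := by
        have := mul_s_inv_mem P hs' hn h3
        simpa using this
      have hrel2 : Rel P (n * s') n1 := by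
        have h5 : Rel P (n * s') (n1 * s' * s') :=
          hrel.mul_right hn (P.N.mul_mem hn1 hs'N) hs'N
        exact h5.trans (rel_mul_sq P hs')
      have h6 : s * g1 ∈ C P (s * n1) := ih1 g1 hg1C
      have hsn1N : s * n1 ∈ P.N := P.N.mul_mem hsN hn1
      rcases h4 with h4 | h4
      · rw [hrel2.C_eq] at h4
        have h7 : C P (s * n1) = C P n1 := by
          rw [← C_eq_of_mem P h6, C_eq_of_mem P h4]
        exact not_rel_smul P hs hn1 (bruhat_unique P hsn1N hn1 h7)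
      · have h7 : C P (s * n1) = C P n := by
          rw [← C_eq_of_mem P h6, C_eq_of_mem P h4]
        have h8 : Rel P (s * n1) n := bruhat_unique P hsn1N hn h7
        -- s n ~ s n1 s' ~ n s' ~ n1
        have h9 : Rel P (s * n) (s * n1 * s') := by
          have := hrel.mul_left s
          simpa [mul_assoc] using this
        have h10 : Rel P (s * n1 * s') (n * s') := h8.mul_right hsn1N hn hs'N
        have h11 := len_congr P (h9.trans (h10.trans hrel2))
        omega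

lemma smul_mem_of_len_le {n s g : G} (hn : n ∈ P.N) (hs : s ∈ P.S)
    (hle : len P n ≤ len P (s * n)) (hg : g ∈ C P n) : s * g ∈ C P (s * n) :=
  smul_mem_of_len_le_aux P _ n hn rfl s hs hle g hg

/-- if `n ~ s n1` with `len n1 < len n` then `C(s) C(n)` meets `C(n)`. -/
lemma exists_smul_mem_of_reduction {n s n1 : G} (hn : n ∈ P.N) (hs : s ∈ P.S) (hn1 : n1 ∈ P.N)
    (hrel : Rel P n (s * n1)) (hlt : len P n1 < len P n) :
    ∃ g ∈ C P n, ∃ b ∈ P.B, s * b * g ∈ C P n := by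
  have hle : len P n1 ≤ len P (s * n1) := by
    rw [← len_congr P hrel]; omega
  obtain ⟨b0, hb0, hb0s⟩ := exists_mem_Cs P hs
  obtain ⟨c1, hc1, c2, hc2, he⟩ := (mem_C P).1 hb0s
  have hg1 : c2⁻¹ * n1 ∈ C P n1 := mul_left_mem_C P (P.B.inv_mem hc2) (self_mem_C P n1)
  have hg : s * (c2⁻¹ * n1) ∈ C P (s * n1) := smul_mem_of_len_le P hn1 hs hle hg1
  refine ⟨s * (c2⁻¹ * n1), by rw [hrel.C_eq]; exact hg, b0, hb0, ?_⟩
  have e : s * b0 * (s * (c2⁻¹ * n1)) = c1 * (s * n1) := by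
    have : s * b0 * (s * (c2⁻¹ * n1)) = (s * b0 * s) * c2⁻¹ * n1 := by group
    rw [this, he]; group
  rw [e, hrel.C_eq]
  exact mul_left_mem_C P hc1 (self_mem_C P _)

/-- if `n ~ s n1` with `len n1 < len n`, then any subgroup containing `B` and `C(n) C(n)⁻¹`
contains `s`. -/
lemma s_mem_of_reduction {n s n1 : G} (hn : n ∈ P.N) (hs : s ∈ P.S) (hn1 : n1 ∈ P.N)
    (hrel : Rel P n (s * n1)) (hlt : len P n1 < len P n) (M : Subgroup G) (hB : P.B ≤ M)
    (hM : ∀ g ∈ C P n, ∀ g' ∈ C P n, g' * g⁻¹ ∈ M) : s ∈ M := by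
  obtain ⟨g, hg, b, hb, h⟩ := exists_smul_mem_of_reduction P hn hs hn1 hrel hlt
  have h1 := hM g hg _ h
  have h2 : s = (s * b * g * g⁻¹) * b⁻¹ := by group
  rw [h2]
  exact M.mul_mem h1 (M.inv_mem (hB hb))

lemma CC_inv_mem_of_mem {n : G} (M : Subgroup G) (hB : P.B ≤ M) (hn : n ∈ M) :
    ∀ g ∈ C P n, ∀ g' ∈ C P n, g' * g⁻¹ ∈ M := by
  intro g hg g' hg'
  obtain ⟨x, hx, y, hy, rfl⟩ := (mem_C P).1 hg
  obtain ⟨x', hx', y', hy', rfl⟩ := (mem_C P).1 hg'
  exact M.mul_mem (M.mul_mem (M.mul_mem (hB hx') hn) (hB hy'))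
    (M.inv_mem (M.mul_mem (M.mul_mem (hB hx) hn) (hB hy)))

lemma CC_inv_mem_of_conj {n : G} (M : Subgroup G) (hB : P.B ≤ M)
    (hn : ∀ b ∈ P.B, n * b * n⁻¹ ∈ M) :
    ∀ g ∈ C P n, ∀ g' ∈ C P n, g' * g⁻¹ ∈ M := by
  intro g hg g' hg'
  obtain ⟨x, hx, y, hy, rfl⟩ := (mem_C P).1 hg
  obtain ⟨x', hx', y', hy', rfl⟩ := (mem_C P).1 hg'
  have e : x' * n * y' * (x * n * y)⁻¹ = x' * (n * (y' * y⁻¹) * n⁻¹) * x⁻¹ := by group
  rw [e]
  exact M.mul_mem (M.mul_mem (hB hx') (hn _ (P.B.mul_mem hy' (P.B.inv_mem hy))))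
    (M.inv_mem (hB hx))

/-- the set of distinguished generators in a subgroup -/
def gens (M : Subgroup G) : Set G := {s | s ∈ P.S ∧ s ∈ M}

lemma gens_subset (M : Subgroup G) : gens P M ⊆ P.S := fun _ h => h.1

lemma parabolic_gens_le (M : Subgroup G) (hB : P.B ≤ M) : P.parabolic (gens P M) ≤ M := by
  apply sup_le hB
  rw [Subgroup.closure_le]
  exact fun _ h => h.2

lemma mem_parabolic_gens_aux (M : Subgroup G) (hB : P.B ≤ M) : ∀ k : ℕ, ∀ n ∈ P.N, len P n = k →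
    n ∈ M → n ∈ P.parabolic (gens P M) := by
  intro k
  induction k with
  | zero =>
    intro n hn hk _
    have hnB : n ∈ P.B := (len_eq_zero_iff P hn).1 hk
    exact (le_sup_left : P.B ≤ P.parabolic (gens P M)) hnB
  | succ k ih =>
    intro n hn hk hnM
    obtain ⟨s, hs, n1, hn1, hlen1, hrel⟩ := exists_left_reduction P hn hk
    have hsM : s ∈ M := s_mem_of_reduction P hn hs hn1 hrel (by omega) M hB
      (CC_inv_mem_of_mem P M hB hnM)
    -- n1 = s⁻¹ n t
    have ht : n⁻¹ * (s * n1) ∈ P.B := hrel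
    have hn1M : n1 ∈ M := by
      have e : n1 = s⁻¹ * n * (n⁻¹ * (s * n1)) := by group
      rw [e]
      exact M.mul_mem (M.mul_mem (M.inv_mem hsM) hnM) (hB ht)
    have h1 := ih n1 hn1 hlen1 hn1M
    have hsP : s ∈ P.parabolic (gens P M) :=
      (le_sup_right : Subgroup.closure (gens P M) ≤ P.parabolic (gens P M))
        (Subgroup.subset_closure ⟨hs, hsM⟩)
    have e : n = s * n1 * (n⁻¹ * (s * n1))⁻¹ := by group
    rw [e]
    exact Subgroup.mul_mem _ (Subgroup.mul_mem _ hsP h1)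
      (Subgroup.inv_mem _ ((le_sup_left : P.B ≤ P.parabolic (gens P M)) ht))

/-- every subgroup containing `B` is parabolic -/
theorem eq_parabolic_gens (M : Subgroup G) (hB : P.B ≤ M) : M = P.parabolic (gens P M) := by
  apply le_antisymm _ (parabolic_gens_le P M hB)
  intro g hg
  obtain ⟨n, hn, hgn⟩ := bruhat_exists P g
  obtain ⟨x, hx, y, hy, rfl⟩ := (mem_C P).1 hgn
  have hnM : n ∈ M := by
    have e : n = x⁻¹ * (x * n * y) * y⁻¹ := by group
    rw [e]
    exact M.mul_mem (M.mul_mem (M.inv_mem (hB hx)) hg) (M.inv_mem (hB hy))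
  have h1 := mem_parabolic_gens_aux P M hB _ n hn rfl hnM
  have hBP : P.B ≤ P.parabolic (gens P M) := le_sup_left
  exact Subgroup.mul_mem _ (Subgroup.mul_mem _ (hBP hx) h1) (hBP hy)

/-- if `n B n⁻¹ ⊆ M` and `B ≤ M` then `n ∈ M`. -/
lemma mem_of_conj_aux : ∀ k : ℕ, ∀ n ∈ P.N, len P n = k → ∀ M : Subgroup G, P.B ≤ M →
    (∀ b ∈ P.B, n * b * n⁻¹ ∈ M) → n ∈ M := by
  intro k
  induction k with
  | zero =>
    intro n hn hk M hB _
    exact hB ((len_eq_zero_iff P hn).1 hk)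
  | succ k ih =>
    intro n hn hk M hB hconj
    obtain ⟨s, hs, n1, hn1, hlen1, hrel⟩ := exists_left_reduction P hn hk
    have hsM : s ∈ M := s_mem_of_reduction P hn hs hn1 hrel (by omega) M hB
      (CC_inv_mem_of_conj P M hB hconj)
    have ht : n⁻¹ * (s * n1) ∈ P.B := hrel
    set t := n⁻¹ * (s * n1) with htdef
    have hn1M : n1 ∈ M := by
      apply ih n1 hn1 hlen1 M hB
      intro b hb
      have e : n1 * b * n1⁻¹ = s⁻¹ * (n * (t * b * t⁻¹) * n⁻¹) * s := by rw [htdef]; group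
      rw [e]
      exact M.mul_mem (M.mul_mem (M.inv_mem hsM)
        (hconj _ (P.B.mul_mem (P.B.mul_mem ht hb) (P.B.inv_mem ht)))) hsM
    have e : n = s * n1 * t⁻¹ := by rw [htdef]; group
    rw [e]
    exact M.mul_mem (M.mul_mem hsM hn1M) (M.inv_mem (hB ht))

lemma mem_of_conj {n : G} (hn : n ∈ P.N) (M : Subgroup G) (hB : P.B ≤ M)
    (hconj : ∀ b ∈ P.B, n * b * n⁻¹ ∈ M) : n ∈ M :=
  mem_of_conj_aux P _ n hn rfl M hB hconj

/-- general version: if `g B g⁻¹ ⊆ M` and `B ≤ M` then `g ∈ M`. -/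
lemma mem_of_conj' (g : G) (M : Subgroup G) (hB : P.B ≤ M)
    (hconj : ∀ b ∈ P.B, g * b * g⁻¹ ∈ M) : g ∈ M := by
  obtain ⟨n, hn, hgn⟩ := bruhat_exists P g
  obtain ⟨x, hx, y, hy, rfl⟩ := (mem_C P).1 hgn
  have hnM : n ∈ M := by
    apply mem_of_conj P hn M hB
    intro b hb
    have e : n * b * n⁻¹ = x⁻¹ * ((x * n * y) * (y⁻¹ * b * y) * (x * n * y)⁻¹) * x := by group
    rw [e]
    exact M.mul_mem (M.mul_mem (M.inv_mem (hB hx))
      (hconj _ (P.B.mul_mem (P.B.mul_mem (P.B.inv_mem hy) hb) hy))) (hB hx)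
  exact M.mul_mem (M.mul_mem (hB hx) hnM) (hB hy)

end BN
end Cfsg.Agent.Lib.Helper3
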