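import Mathlib
import Cfsg.Agent.Lib.Helper3.BNPair2

set_option autoImplicit false

namespace Cfsg.Agent.Lib.Helper3
namespace BN

open DoubleCoset

variable {G : Type*} [Group G] (P : Cfsg.BNPair G)

lemma closure_singleton_rel {s : G} (hs : s ∈ P.S) :
    ∀ m ∈ Subgroup.closure ({s} : Set G), Rel P m 1 ∨ Rel P m s := by
  intro m hm
  have hsub : ({s} : Set G) ⊆ P.S := Set.singleton_subset_iff.2 hs
  induction hm using Subgroup.closure_induction_left with
  | one => left; exact Rel.refl P 1
  | mul_left x hx y hy ih =>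
    rw [Set.mem_singleton_iff] at hx
    subst hx
    rcases ih with ih | ih
    · right
      have := ih.mul_left x
      simpa using this
    · left
      exact (ih.mul_left x).trans (rel_sq P hs)
  | inv_mul_cancel x hx y hy ih =>
    rw [Set.mem_singleton_iff] at hx
    subst hx
    rcases ih with ih | ih
    · right
      have := ih.mul_left x⁻¹
      have h2 : Rel P (x⁻¹ * y) x⁻¹ := by simpa using this
      exact h2.trans (rel_inv_self P hs)
    · left
      have := ih.mul_left x⁻¹
      simpa using this

lemma parabolic_singleton {s : G} (hs : s ∈ P.S) :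
    (P.parabolic {s} : Set G) = (P.B : Set G) ∪ C P s := by
  have hsub : ({s} : Set G) ⊆ P.S := Set.singleton_subset_iff.2 hs
  ext g
  rw [SetLike.mem_coe, mem_parabolic_iff P hsub]
  constructor
  · rintro ⟨m, hm, hg⟩
    rcases closure_singleton_rel P hs m hm with h | h
    · left
      rw [h.C_eq] at hg
      exact (mem_C_one P).1 hg
    · right
      rw [h.C_eq] at hg
      exact hg
  · rintro (h | h)
    · exact ⟨1, Subgroup.one_mem _, (mem_C_one P).2 h⟩
    · exact ⟨s, Subgroup.subset_closure rfl, h⟩

lemma parabolic_empty : P.parabolic ∅ = P.B := by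
  simp [Cfsg.BNPair.parabolic]

/-- For `n ∈ N ∖ B`, `B ∪ B n B` is a subgroup iff `n` agrees mod `B` with a distinguished generator. -/
theorem union_isSubgroup_iff {n : G} (hn : n ∈ P.N) (hnB : n ∉ P.B) :
    (∃ H : Subgroup G, (H : Set G) = (P.B : Set G) ∪ C P n) ↔ ∃ s ∈ P.S, s⁻¹ * n ∈ P.B := by
  constructor
  · rintro ⟨H, hH⟩
    have hB : P.B ≤ H := by
      intro b hb
      have : b ∈ (H : Set G) := by rw [hH]; exact Or.inl hb
      exact this
    have hnH : n ∈ H := by
      have : n ∈ (H : Set G) := by rw [hH]; exact Or.inr (self_mem_C P n)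
      exact this
    have hpar := eq_parabolic_gens P H hB
    by_cases hemp : gens P H = ∅
    · exfalso
      rw [hemp, parabolic_empty] at hpar
      apply hnB
      rw [← hpar]; exact hnH
    · obtain ⟨s, hs, hsH⟩ := Set.nonempty_iff_ne_empty.2 hemp
      refine ⟨s, hs, ?_⟩
      have : s ∈ (H : Set G) := hsH
      rw [hH] at this
      rcases this with h | h
      · exact absurd h (S_not_mem_B P hs)
      · exact (rel_of_mem_C P hn (S_mem_N P hs) h).symm
  · rintro ⟨s, hs, hrel⟩
    refine ⟨P.parabolic {s}, ?_⟩
    rw [parabolic_singleton P hs]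
    have : Rel P s n := hrel
    rw [this.C_eq]

end BN
end Cfsg.Agent.Lib.Helper3
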