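import Mathlib
import Cfsg.Agent.Lib.Helper3.BNPair3

set_option autoImplicit false

namespace Cfsg.Agent.Lib.Helper3
namespace BN

open DoubleCoset

variable {G : Type*} [Group G] (P : Cfsg.BNPair G)

/-- `len (s n) ≠ len n`. -/
lemma len_smul_ne {n s : G} (hn : n ∈ P.N) (hs : s ∈ P.S) : len P (s * n) ≠ len P n := by
  intro heq
  have hsN := S_mem_N P hs
  have hsn : s * n ∈ P.N := P.N.mul_mem hsN hn
  have h1 : ∀ g ∈ C P n, s * g ∈ C P (s * n) :=
    fun g hg => smul_mem_of_len_le P hn hs (by omega) hg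
  have h2 : ∀ g ∈ C P (s * n), s * g ∈ C P n := by
    intro g hg
    have hle : len P (s * n) ≤ len P (s * (s * n)) := by
      rw [len_congr P (rel_sq_mul P hs hn)]; omega
    have := smul_mem_of_len_le P hsn hs hle hg
    rwa [(rel_sq_mul P hs hn).C_eq] at this
  obtain ⟨b0, hb0, hb0s⟩ := exists_mem_Cs P hs
  obtain ⟨c1, hc1, c2, hc2, he⟩ := (mem_C P).1 hb0s
  have hg0 : c2⁻¹ * n ∈ C P n := mul_left_mem_C P (P.B.inv_mem hc2) (self_mem_C P n)
  have h3 : s * (c2⁻¹ * n) ∈ C P (s * n) := h1 _ hg0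
  have h4 : b0 * (s * (c2⁻¹ * n)) ∈ C P (s * n) := mul_left_mem_C P hb0 h3
  have h5 : s * (b0 * (s * (c2⁻¹ * n))) ∈ C P n := h2 _ h4
  have e : s * (b0 * (s * (c2⁻¹ * n))) = c1 * (s * n) := by
    have : s * (b0 * (s * (c2⁻¹ * n))) = (s * b0 * s) * c2⁻¹ * n := by group
    rw [this, he]; group
  rw [e] at h5
  have h6 : c1 * (s * n) ∈ C P (s * n) := mul_left_mem_C P hc1 (self_mem_C P _)
  have h7 : C P (s * n) = C P n := by rw [← C_eq_of_mem P h6, C_eq_of_mem P h5]
  exact not_rel_smul P hs hn (bruhat_unique P hsn hn h7)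

lemma len_smul_lt_or_gt {n s : G} (hn : n ∈ P.N) (hs : s ∈ P.S) :
    len P (s * n) < len P n ∨ len P n < len P (s * n) :=
  lt_or_gt_of_ne (len_smul_ne P hn hs)

/-- key lemma: if `n` ascends under `s` but `n s'` descends under `s` then `s n ~ n s'`. -/
lemma rel_of_descent {n s s' : G} (hn : n ∈ P.N) (hs : s ∈ P.S) (hs' : s' ∈ P.S)
    (h1 : len P n ≤ len P (s * n)) (h2 : len P (s * (n * s')) < len P (n * s')) :
    Rel P (s * n) (n * s') := by
  have hsN := S_mem_N P hs
  have hs'N := S_mem_N P hs'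
  have hm : n * s' ∈ P.N := P.N.mul_mem hn hs'N
  have hm1 : s * (n * s') ∈ P.N := P.N.mul_mem hsN hm
  have hrel : Rel P (n * s') (s * (s * (n * s'))) := (rel_sq_mul P hs hm).symm
  obtain ⟨g, hg, b, hb, h⟩ := exists_smul_mem_of_reduction P hm hs hm1 hrel h2
  obtain ⟨x, hx, y, hy, rfl⟩ := (mem_C P).1 hg
  set g1 := b * x * n with hg1
  have hg1C : g1 ∈ C P n :=
    mul_left_mem_C P (P.B.mul_mem hb hx) (self_mem_C P n)
  have h3 : s * g1 ∈ C P (s * n) := smul_mem_of_len_le P hn hs h1 hg1C
  have h4 : s * g1 * s' ∈ C P (n * s') := by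
    have := mul_right_mem_C P (P.B.inv_mem hy) h
    have e : s * b * (x * (n * s') * y) * y⁻¹ = s * g1 * s' := by rw [hg1]; group
    rwa [e] at this
  have h5 : s * g1 ∈ C P (n * s' * s') ∨ s * g1 ∈ C P (n * s') := by
    have := mul_s_inv_mem P hs' hm h4
    simpa using this
  have hsn : s * n ∈ P.N := P.N.mul_mem hsN hn
  rcases h5 with h5 | h5
  · exfalso
    rw [(rel_mul_sq P hs' (n := n)).C_eq] at h5
    have h7 : C P (s * n) = C P n := by rw [← C_eq_of_mem P h3, C_eq_of_mem P h5]
    exact not_rel_smul P hs hn (bruhat_unique P hsn hn h7)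
  · have h7 : C P (s * n) = C P (n * s') := by rw [← C_eq_of_mem P h3, C_eq_of_mem P h5]
    exact bruhat_unique P hsn hm h7

/-- The exchange condition. -/
theorem exchange {s : G} (hs : s ∈ P.S) : ∀ l : List G, (∀ x ∈ l, x ∈ P.S) →
    len P (s * l.prod) < len P l.prod →
    ∃ l1 x l2, l = l1 ++ x :: l2 ∧ Rel P (s * l1.prod) (l1.prod * x) := by
  intro l
  induction l using List.reverseRecOn with
  | nil =>
    intro _ h
    simp only [List.prod_nil, mul_one] at h
    rw [len_one, len_S P hs] at h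
    omega
  | append_singleton l' x ih =>
    intro hl h
    have hl' : ∀ y ∈ l', y ∈ P.S := fun y hy => hl y (by simp [hy])
    have hx : x ∈ P.S := hl x (by simp)
    have hl'N := prod_mem_N P hl'
    rcases len_smul_lt_or_gt P hl'N hs with h1 | h1
    · obtain ⟨l1, y, l2, e, hrel⟩ := ih hl' h1
      exact ⟨l1, y, l2 ++ [x], by rw [e]; simp, hrel⟩
    · refine ⟨l', x, [], rfl, ?_⟩
      apply rel_of_descent P hl'N hs hx (by omega)
      simpa using h

/-- consequence of the exchange condition -/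
lemma exchange_prod {s : G} (hs : s ∈ P.S) {l1 l2 : List G} {x : G}
    (hl : ∀ y ∈ l1 ++ x :: l2, y ∈ P.S) (hrel : Rel P (s * l1.prod) (l1.prod * x)) :
    Rel P (s * (l1 ++ x :: l2).prod) (l1 ++ l2).prod := by
  have hl1 : ∀ y ∈ l1, y ∈ P.S := fun y hy => hl y (by simp [hy])
  have hl2 : ∀ y ∈ l2, y ∈ P.S := fun y hy => hl y (by simp [hy])
  have hx : x ∈ P.S := hl x (by simp)
  have hsN := S_mem_N P hs
  have hxN := S_mem_N P hx
  have h1N := prod_mem_N P hl1
  have h2N := prod_mem_N P hl2
  have h1 : Rel P (s * l1.prod * x) (l1.prod * x * x) :=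
    hrel.mul_right (P.N.mul_mem hsN h1N) (P.N.mul_mem h1N hxN) hxN
  have h2 : Rel P (s * l1.prod * x) l1.prod := h1.trans (rel_mul_sq P hx)
  have h3 : Rel P (s * l1.prod * x * l2.prod) (l1.prod * l2.prod) :=
    h2.mul_right (P.N.mul_mem (P.N.mul_mem hsN h1N) hxN) h1N h2N
  simpa [mul_assoc] using h3

lemma IsReduced.isWord {l : List G} (h : IsReduced P l) : IsWord P l l.prod :=
  isWord_prod P h.1

/-- every word contains a reduced subword representing the same element -/
theorem exists_reduced_sublist : ∀ l : List G, (∀ x ∈ l, x ∈ P.S) →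
    ∃ l' : List G, l'.Sublist l ∧ IsReduced P l' ∧ Rel P l.prod l'.prod := by
  intro l
  induction l with
  | nil =>
    intro _
    exact ⟨[], List.Sublist.refl _, ⟨by simp, by simpa using len_one P⟩, Rel.refl P _⟩
  | cons s l ih =>
    intro hl
    have hs : s ∈ P.S := hl s (by simp)
    have hl0 : ∀ x ∈ l, x ∈ P.S := fun x hx => hl x (by simp [hx])
    obtain ⟨l', hsub, hred, hrel⟩ := ih hl0
    have hl'N := prod_mem_N P hred.1
    have hrel' : Rel P (s :: l).prod (s * l'.prod) := by
      rw [List.prod_cons]; exact hrel.mul_left s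
    rcases len_smul_lt_or_gt P hl'N hs with h1 | h1
    · -- exchange
      obtain ⟨l1, x, l2, e, hr⟩ := exchange P hs l' hred.1 h1
      have hl'' : ∀ y ∈ l1 ++ x :: l2, y ∈ P.S := by rw [← e]; exact hred.1
      have h2 := exchange_prod P hs hl'' hr
      rw [← e] at h2
      have hl12 : ∀ y ∈ l1 ++ l2, y ∈ P.S := by
        intro y hy
        apply hl'' y
        rcases List.mem_append.1 hy with hy | hy
        · simp [hy]
        · simp [hy]
      refine ⟨l1 ++ l2, ?_, ⟨hl12, ?_⟩, hrel'.trans h2⟩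
      · apply List.Sublist.trans _ (List.Sublist.cons s hsub)
        rw [e]
        exact List.Sublist.append (List.Sublist.refl _) (List.sublist_cons_self x l2)
      · apply le_antisymm
        · exact (isWord_prod P hl12).len_le
        · have h3 := len_congr P h2
          have h4 := len_le_smul P hs hl'N
          have h5 := hred.2
          have h6 : l'.length = (l1 ++ l2).length + 1 := by rw [e]; simp; omega
          omega
    · refine ⟨s :: l', List.Sublist.cons_cons s hsub, ⟨?_, ?_⟩, hrel'⟩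
      · intro x hx
        rcases List.mem_cons.1 hx with rfl | hx
        · exact hs
        · exact hred.1 x hx
      · have h3 := len_smul_le P hs hl'N
        have h5 := hred.2
        rw [List.prod_cons, List.length_cons]
        omega

/-- `n` is congruent to an element of the subgroup generated by `X`. -/
def InW (X : Set G) (n : G) : Prop := ∃ m ∈ Subgroup.closure X, Rel P n m

lemma exists_Xword {X : Set G} (hX : X ⊆ P.S) {m : G} (hm : m ∈ Subgroup.closure X) :
    ∃ l : List G, (∀ x ∈ l, x ∈ X) ∧ Rel P m l.prod := by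
  have hle := closure_le_N P hX
  induction hm using Subgroup.closure_induction'' with
  | mem x hx => exact ⟨[x], by simpa using hx, by simpa using Rel.refl P x⟩
  | inv_mem x hx => exact ⟨[x], by simpa using hx, by simpa using rel_inv_self P (hX hx)⟩
  | one => exact ⟨[], by simp, by simpa using Rel.refl P 1⟩
  | mul x y hx hy ihx ihy =>
    obtain ⟨lx, hlx, hrx⟩ := ihx
    obtain ⟨ly, hly, hry⟩ := ihy
    refine ⟨lx ++ ly, ?_, ?_⟩
    · intro z hz
      rcases List.mem_append.1 hz with hz | hz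
      · exact hlx z hz
      · exact hly z hz
    · rw [List.prod_append]
      have h1 : Rel P (x * y) (lx.prod * y) :=
        hrx.mul_right (hle hx) (prod_mem_N P (fun z hz => hX (hlx z hz))) (hle hy)
      exact h1.trans (hry.mul_left _)

lemma list_prod_mem_closure {X : Set G} {l : List G} (hl : ∀ x ∈ l, x ∈ X) :
    l.prod ∈ Subgroup.closure X :=
  Subgroup.list_prod_mem _ (fun x hx => Subgroup.subset_closure (hl x hx))

section
variable {P}

lemma InW.mul {X : Set G} (hX : X ⊆ P.S) {a b : G} (ha : a ∈ P.N) (hb : b ∈ P.N)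
    (h1 : InW P X a) (h2 : InW P X b) : InW P X (a * b) := by
  obtain ⟨m, hm, hr⟩ := h1
  obtain ⟨m', hm', hr'⟩ := h2
  refine ⟨m * m', Subgroup.mul_mem _ hm hm', ?_⟩
  exact (hr.mul_right ha (closure_le_N P hX hm) hb).trans (hr'.mul_left m)

lemma InW.inv {X : Set G} (hX : X ⊆ P.S) {a : G} (ha : a ∈ P.N)
    (h1 : InW P X a) : InW P X a⁻¹ := by
  obtain ⟨m, hm, hr⟩ := h1
  exact ⟨m⁻¹, Subgroup.inv_mem _ hm, hr.inv ha (closure_le_N P hX hm)⟩

lemma InW.congr {X : Set G} {a b : G} (h : Rel P a b) (h1 : InW P X b) : InW P X a := by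
  obtain ⟨m, hm, hr⟩ := h1
  exact ⟨m, hm, h.trans hr⟩

end

lemma inW_of_word {X : Set G} {l : List G} (hl : ∀ x ∈ l, x ∈ X) : InW P X l.prod :=
  ⟨l.prod, list_prod_mem_closure hl, Rel.refl P _⟩

/-- a generator congruent to an element of `⟨X⟩` lies in `X` -/
lemma mem_of_inW_S {X : Set G} (hX : X ⊆ P.S) {s : G} (hs : s ∈ P.S) (h : InW P X s) : s ∈ X := by
  obtain ⟨m, hm, hr⟩ := h
  obtain ⟨p, hp, hrp⟩ := exists_Xword P hX hm
  obtain ⟨p', hsub, hred, hrp'⟩ := exists_reduced_sublist P p (fun x hx => hX (hp x hx))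
  have hrel : Rel P s p'.prod := hr.trans (hrp.trans hrp')
  have hlen : p'.length = 1 := by
    rw [← hred.2, ← len_congr P hrel, len_S P hs]
  obtain ⟨x', rfl⟩ := List.length_eq_one_iff.1 hlen
  have hx'X : x' ∈ X := hp x' (hsub.subset (by simp))
  have h1 : Rel P s x' := by simpa using hrel
  have := P.inj s hs x' (hX hx'X) h1
  rw [this]; exact hx'X

/-- the letters of a reduced word of an element of `⟨X⟩ (B ∩ N)` lie in `X` -/
theorem letters_subset_aux : ∀ k : ℕ, ∀ n ∈ P.N, len P n = k → ∀ X : Set G, X ⊆ P.S →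
    InW P X n → ∀ l : List G, IsReduced P l → Rel P n l.prod → ∀ x ∈ l, x ∈ X := by
  intro k
  induction k with
  | zero =>
    intro n hn hk X hX hin l hred hrel
    have : l.length = 0 := by rw [← hred.2, ← len_congr P hrel, hk]
    rw [List.length_eq_zero_iff] at this
    subst this
    simp
  | succ k ih =>
    intro n hn hk X hX hin l hred hrel
    have hlen : l.length = k + 1 := by rw [← hred.2, ← len_congr P hrel, hk]
    match l, hred, hrel, hlen with
    | s1 :: l1, hred, hrel, hlen =>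
      have hs1 : s1 ∈ P.S := hred.1 s1 (by simp)
      have hl1 : ∀ x ∈ l1, x ∈ P.S := fun x hx => hred.1 x (by simp [hx])
      have hl1N := prod_mem_N P hl1
      have hs1N := S_mem_N P hs1
      have hl1len : l1.length = k := by simpa using hlen
      -- a reduced X-word for n
      obtain ⟨m0, hm0, hr0⟩ := hin
      obtain ⟨p, hp, hrp⟩ := exists_Xword P hX hm0
      obtain ⟨m, hsub, hmred, hrm⟩ := exists_reduced_sublist P p (fun x hx => hX (hp x hx))
      have hmX : ∀ x ∈ m, x ∈ X := fun x hx => hp x (hsub.subset hx)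
      have hnm : Rel P n m.prod := hr0.trans (hrp.trans hrm)
      have hmlen : len P m.prod = k + 1 := by rw [← len_congr P hnm, hk]
      -- s1 * n ~ l1.prod
      have hrel1 : Rel P (s1 * n) l1.prod := by
        have h1 : Rel P (s1 * n) (s1 * (s1 * l1.prod)) := by
          have := hrel.mul_left s1
          simpa using this
        exact h1.trans (rel_sq_mul P hs1 hl1N)
      have hlen1 : len P (s1 * n) = k := by
        apply le_antisymm
        · rw [len_congr P hrel1, ← hl1len]
          exact (isWord_prod P hl1).len_le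
        · have := len_le_smul P hs1 hn
          omega
      have hdesc : len P (s1 * m.prod) < len P m.prod := by
        rw [← len_congr P (hnm.mul_left s1), hlen1, hmlen]; omega
      obtain ⟨m1, x, m2, e, hr⟩ := exchange P hs1 m hmred.1 hdesc
      have hm12 : ∀ y ∈ m1 ++ x :: m2, y ∈ P.S := by rw [← e]; exact hmred.1
      have hprod := exchange_prod P hs1 hm12 hr
      rw [← e] at hprod
      have hm1X : ∀ y ∈ m1, y ∈ X := fun y hy => hmX y (by rw [e]; simp [hy])
      have hm2X : ∀ y ∈ m2, y ∈ X := fun y hy => hmX y (by rw [e]; simp [hy])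
      have hxX : x ∈ X := hmX x (by rw [e]; simp)
      have hm1N := prod_mem_N P (fun y hy => hX (hm1X y hy))
      have hxN := S_mem_N P (hX hxX)
      -- s1 ∈ X
      have hs1X : s1 ∈ X := by
        apply mem_of_inW_S P hX hs1
        have h1 : Rel P (s1 * m1.prod * m1.prod⁻¹) (m1.prod * x * m1.prod⁻¹) :=
          hr.mul_right (P.N.mul_mem hs1N hm1N) (P.N.mul_mem hm1N hxN) (P.N.inv_mem hm1N)
        have h2 : Rel P s1 (m1.prod * x * m1.prod⁻¹) := by simpa using h1
        apply InW.congr h2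
        have hi1 : InW P X m1.prod := inW_of_word P hm1X
        have hi2 : InW P X x := ⟨x, Subgroup.subset_closure hxX, Rel.refl P _⟩
        exact (hi1.mul hX hm1N hxN hi2).mul hX (P.N.mul_mem hm1N hxN) (P.N.inv_mem hm1N)
          (hi1.inv hX hm1N)
      -- letters of l1
      have hin' : InW P X (s1 * n) := by
        apply InW.congr ((hnm.mul_left s1).trans hprod)
        apply inW_of_word P
        intro y hy
        rcases List.mem_append.1 hy with hy | hy
        · exact hm1X y hy
        · exact hm2X y hy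
      have hl1red : IsReduced P l1 := by
        refine ⟨hl1, ?_⟩
        rw [← len_congr P hrel1, hlen1, hl1len]
      have ih' := ih (s1 * n) (P.N.mul_mem hs1N hn) hlen1 X hX hin' l1 hl1red hrel1
      intro y hy
      rcases List.mem_cons.1 hy with rfl | hy
      · exact hs1X
      · exact ih' y hy

theorem letters_subset {n : G} (hn : n ∈ P.N) {X : Set G} (hX : X ⊆ P.S) (hin : InW P X n)
    {l : List G} (hred : IsReduced P l) (hrel : Rel P n l.prod) : ∀ x ∈ l, x ∈ X :=
  letters_subset_aux P _ n hn rfl X hX hin l hred hrel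

/-- a distinguished generator in `P_X` lies in `X` -/
theorem mem_of_mem_parabolic {X : Set G} (hX : X ⊆ P.S) {s : G} (hs : s ∈ P.S)
    (h : s ∈ P.parabolic X) : s ∈ X := by
  obtain ⟨m, hm, hsm⟩ := (mem_parabolic_iff P hX s).1 h
  have hr : Rel P m s := rel_of_mem_C P (closure_le_N P hX hm) (S_mem_N P hs) hsm
  exact mem_of_inW_S P hX hs ⟨m, hm, hr.symm⟩

theorem parabolic_le_iff {J K : Set G} (hJ : J ⊆ P.S) (hK : K ⊆ P.S) :
    P.parabolic J ≤ P.parabolic K ↔ J ⊆ K := by
  constructor
  · intro h s hs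
    apply mem_of_mem_parabolic P hK (hJ hs)
    apply h
    exact (le_sup_right : Subgroup.closure J ≤ P.parabolic J) (Subgroup.subset_closure hs)
  · intro h
    exact sup_le_sup_left (Subgroup.closure_mono h) _

theorem parabolic_injective {J K : Set G} (hJ : J ⊆ P.S) (hK : K ⊆ P.S)
    (h : P.parabolic J = P.parabolic K) : J = K :=
  Set.Subset.antisymm ((parabolic_le_iff P hJ hK).1 h.le) ((parabolic_le_iff P hK hJ).1 h.ge)

theorem parabolic_inf {J K : Set G} (hJ : J ⊆ P.S) (hK : K ⊆ P.S) :
    P.parabolic J ⊓ P.parabolic K = P.parabolic (J ∩ K) := by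
  have hJK : J ∩ K ⊆ P.S := fun x hx => hJ hx.1
  apply le_antisymm
  · intro g hg
    obtain ⟨hgJ, hgK⟩ := Subgroup.mem_inf.1 hg
    obtain ⟨m, hm, hgm⟩ := (mem_parabolic_iff P hJ g).1 hgJ
    obtain ⟨m', hm', hgm'⟩ := (mem_parabolic_iff P hK g).1 hgK
    have hmN := closure_le_N P hJ hm
    have hm'N := closure_le_N P hK hm'
    have hC : C P m = C P m' := by rw [← C_eq_of_mem P hgm, C_eq_of_mem P hgm']
    have hrel : Rel P m m' := bruhat_unique P hmN hm'N hC
    obtain ⟨l, hl, hlen⟩ := exists_word_len P hmN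
    have hred : IsReduced P l := ⟨hl.1, by rw [← len_congr P hl.2, hlen]⟩
    have h1 := letters_subset P hmN hJ ⟨m, hm, Rel.refl P m⟩ hred hl.2
    have h2 := letters_subset P hmN hK ⟨m', hm', hrel⟩ hred hl.2
    rw [mem_parabolic_iff P hJK]
    refine ⟨l.prod, list_prod_mem_closure (fun x hx => ⟨h1 x hx, h2 x hx⟩), ?_⟩
    rw [← hl.2.C_eq]; exact hgm
  · apply le_inf
    · exact (parabolic_le_iff P hJK hJ).2 Set.inter_subset_left
    · exact (parabolic_le_iff P hJK hK).2 Set.inter_subset_right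

end BN
end Cfsg.Agent.Lib.Helper3
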