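import Mathlib
import Cfsg.Agent.Lib.Helper3.BNPair4

set_option autoImplicit false

namespace Cfsg.Agent.Lib.Helper3
namespace BN

open DoubleCoset

variable {G : Type*} [Group G] (P : Cfsg.BNPair G)

lemma len_two {s s' : G} (hs : s ∈ P.S) (hs' : s' ∈ P.S) (hne : s ≠ s') : len P (s * s') = 2 := by
  have hs'N := S_mem_N P hs'
  rcases len_smul_lt_or_gt P hs'N hs with h | h
  · exfalso
    rw [len_S P hs'] at h
    have h0 : len P (s * s') = 0 := by omega
    have hB : s * s' ∈ P.B := (len_eq_zero_iff P (P.N.mul_mem (S_mem_N P hs) hs'N)).1 h0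
    have h1 : Rel P s⁻¹ s' := by simpa [Rel] using hB
    have h2 : Rel P s s⁻¹ := (rel_inv_self P hs).symm
    exact hne (P.inj s hs s' hs' (h2.trans h1))
  · have := len_smul_le P hs hs'N
    rw [len_S P hs'] at h this
    omega

/-- the commutator of two generators lies in `B` iff they commute modulo `B ⊓ N` -/
lemma comm_mem_B_of_rel {s s' : G} (hs : s ∈ P.S) (hs' : s' ∈ P.S)
    (h : Rel P (s' * s) (s * s')) : s * s' * s⁻¹ * s'⁻¹ ∈ P.B := by
  have hsN := S_mem_N P hs
  have hs'N := S_mem_N P hs'
  have h1 := P.conj_mem (s' * s) (P.N.mul_mem hs'N hsN) _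
    ⟨h, P.N.mul_mem (P.N.inv_mem (P.N.mul_mem hs'N hsN)) (P.N.mul_mem hsN hs'N)⟩
  have e : s' * s * ((s' * s)⁻¹ * (s * s')) * (s' * s)⁻¹ = s * s' * s⁻¹ * s'⁻¹ := by group
  rwa [e] at h1

/-- Key lemma for the simplicity criterion. -/
lemma comm_mem_B_of_normal (H : Subgroup G) [H.Normal] {s s' : G} (hs : s ∈ P.S) (hs' : s' ∈ P.S)
    (hsM : s ∈ H ⊔ P.B) (hs'M : s' ∉ H ⊔ P.B) : s * s' * s⁻¹ * s'⁻¹ ∈ P.B := by
  set M := H ⊔ P.B with hM
  have hBM : P.B ≤ M := le_sup_right
  have hHM : H ≤ M := le_sup_left
  have hsN := S_mem_N P hs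
  have hs'N := S_mem_N P hs'
  have hne : s ≠ s' := fun h => hs'M (h ▸ hsM)
  obtain ⟨h, hh, b, hb, hhb⟩ := Subgroup.mem_sup_of_normal_left.1 hsM
  -- h = s b⁻¹ ∈ C(s)
  have hh' : h = s * b⁻¹ := by rw [← hhb]; group
  have hhC : h ∈ C P s := by
    rw [hh']; exact mul_right_mem_C P (P.B.inv_mem hb) (self_mem_C P s)
  -- s' h ∈ C(s' s)
  have hlen2 : len P (s' * s) = 2 := len_two P hs' hs (Ne.symm hne)
  have h1 : s' * h ∈ C P (s' * s) := by
    apply smul_mem_of_len_le P hsN hs' _ hhC
    rw [hlen2, len_S P hs]; omega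
  have hs'sN : s' * s ∈ P.N := P.N.mul_mem hs'N hsN
  have h2 := mul_s_inv_mem P hs' hs'sN h1
  have hconj : s' * h * s'⁻¹ ∈ M := hHM (Subgroup.Normal.conj_mem inferInstance h hh s')
  -- a double coset meeting M is inside M, in particular its representative
  have hrep : ∀ n : G, s' * h * s'⁻¹ ∈ C P n → n ∈ M := by
    intro n hn
    obtain ⟨x, hx, y, hy, e⟩ := (mem_C P).1 hn
    have e' : n = x⁻¹ * (s' * h * s'⁻¹) * y⁻¹ := by rw [e]; group
    rw [e']
    exact M.mul_mem (M.mul_mem (M.inv_mem (hBM hx)) hconj) (M.inv_mem (hBM hy))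
  rcases h2 with h2 | h2
  · -- n3 = s' s s' ∈ M
    have hn3M := hrep _ h2
    have hn3N : s' * s * s' ∈ P.N := P.N.mul_mem hs'sN hs'N
    have hpar := eq_parabolic_gens P M hBM
    have hJ := gens_subset P M
    have hin : InW P (gens P M) (s' * s * s') := by
      rw [hpar] at hn3M
      obtain ⟨m, hm, hmC⟩ := (mem_parabolic_iff P hJ _).1 hn3M
      exact ⟨m, hm, (rel_of_mem_C P (closure_le_N P hJ hm) hn3N hmC).symm⟩
    have hss'N : s * s' ∈ P.N := P.N.mul_mem hsN hs'N
    have hlen2' : len P (s * s') = 2 := len_two P hs hs' hne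
    have hassoc : s' * s * s' = s' * (s * s') := by group
    rcases len_smul_lt_or_gt P hss'N hs' with h3 | h3
    · -- exchange on [s, s']
      have hl : ∀ x ∈ [s, s'], x ∈ P.S := by
        intro x hx
        simp only [List.mem_cons, List.not_mem_nil, or_false] at hx
        rcases hx with rfl | rfl
        · exact hs
        · exact hs'
      have h3' : len P (s' * [s, s'].prod) < len P [s, s'].prod := by simpa using h3
      obtain ⟨l1, x, l2, e, hr⟩ := exchange P hs' [s, s'] hl h3'
      rcases l1 with _ | ⟨a, _ | ⟨c, l1'⟩⟩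
      · -- x = s : s' ~ s
        simp only [List.nil_append, List.cons.injEq] at e
        obtain ⟨hx, _⟩ := e
        exfalso
        rw [← hx] at hr
        have : Rel P s' s := by simpa using hr
        exact hne (P.inj s' hs' s hs this).symm
      · simp only [List.cons_append, List.nil_append, List.cons.injEq] at e
        obtain ⟨ha, hx, _⟩ := e
        rw [← ha, ← hx] at hr
        apply comm_mem_B_of_rel P hs hs'
        simpa using hr
      · exfalso
        have := congrArg List.length e
        simp at this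
    · -- reduced word [s', s, s']
      exfalso
      have hlen3 : len P (s' * (s * s')) = 3 := by
        have := len_smul_le P hs' hss'N
        omega
      have hred : IsReduced P [s', s, s'] := by
        refine ⟨?_, ?_⟩
        · intro x hx
          simp only [List.mem_cons, List.not_mem_nil, or_false] at hx
          rcases hx with rfl | rfl | rfl
          · exact hs'
          · exact hs
          · exact hs'
        · simpa using hlen3
      have hrel : Rel P (s' * s * s') [s', s, s'].prod := by
        have : [s', s, s'].prod = s' * s * s' := by simp [mul_assoc]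
        rw [this]; exact Rel.refl P _
      have := letters_subset P hn3N hJ hin hred hrel s' (by simp)
      exact hs'M this.2
  · -- s' s ∈ M, so s' ∈ M
    exfalso
    have h3 := hrep _ h2
    apply hs'M
    have e : s' = (s' * s) * s⁻¹ := by group
    rw [e]
    exact M.mul_mem h3 (M.inv_mem hsM)

/-- Simplicity criterion for groups with a BN-pair. -/
theorem isSimpleGroup [Nontrivial G] (hirr : P.Irreducible) (hsolv : Group.IsSolvable P.B)
    (hperf : commutator G = ⊤) (hcore : P.B.normalCore = ⊥) : IsSimpleGroup G := by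
  refine ⟨fun H hH => ?_⟩
  set M := H ⊔ P.B with hM
  have hBM : P.B ≤ M := le_sup_right
  have hHM : H ≤ M := le_sup_left
  have hpar := eq_parabolic_gens P M hBM
  have hJ := gens_subset P M
  by_cases hJe : (gens P M).Nonempty
  · by_cases hJc : (P.S \ gens P M).Nonempty
    · exfalso
      obtain ⟨s, hs, s', hs', hnot⟩ := hirr (gens P M) hJ hJe hJc
      apply hnot
      apply comm_mem_B_of_normal P H hs.1 hs'.1 hs.2
      intro h
      exact hs'.2 ⟨hs'.1, h⟩
    · -- gens = S, so M = ⊤
      right
      have hJS : gens P M = P.S := by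
        apply Set.Subset.antisymm hJ
        intro x hx
        by_contra hx'
        exact hJc ⟨x, hx, hx'⟩
      have hMtop : M = ⊤ := by rw [hpar, hJS, parabolic_S]
      -- G ⧸ H is solvable and perfect
      by_contra hne
      have hnt : Nontrivial (G ⧸ H) := by
        rw [QuotientGroup.nontrivial_iff]; exact hne
      have hsurj : Function.Surjective ((QuotientGroup.mk' H).comp P.B.subtype) := by
        intro q
        obtain ⟨g, rfl⟩ := QuotientGroup.mk'_surjective H q
        have hg : g ∈ H ⊔ P.B := by rw [← hM, hMtop]; trivial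
        obtain ⟨h, hh, b, hb, rfl⟩ := Subgroup.mem_sup_of_normal_left.1 hg
        refine ⟨⟨b, hb⟩, ?_⟩
        simp only [MonoidHom.coe_comp, Subgroup.coe_subtype, Function.comp_apply,
          QuotientGroup.mk'_apply, QuotientGroup.mk_mul]
        rw [(QuotientGroup.eq_one_iff h).2 hh, one_mul]
      have hsolvQ : Group.IsSolvable (G ⧸ H) := Group.isSolvable_of_surjective hsurj
      have hperfG : Group.IsPerfect G := ⟨hperf⟩
      have hperfQ : Group.IsPerfect (G ⧸ H) :=
        Group.IsPerfect.ofSurjective (QuotientGroup.mk'_surjective H)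
      exact Group.IsPerfect.not_isSolvable (G ⧸ H) hsolvQ
  · -- gens = ∅, so M = B, H ≤ core B
    left
    have hJ0 : gens P M = ∅ := Set.not_nonempty_iff_eq_empty.1 hJe
    rw [hJ0, parabolic_empty] at hpar
    have hHB : H ≤ P.B := by rw [← hpar]; exact hHM
    have : H ≤ P.B.normalCore := Subgroup.normal_le_normalCore.2 hHB
    rw [hcore] at this
    exact le_bot_iff.1 this

end BN
end Cfsg.Agent.Lib.Helper3
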