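import Mathlib
import Cfsg.Agent.S0249
import Cfsg.Agent.Lib.Helper3.CardSL

set_option autoImplicit false

namespace Cfsg.Agent.Lib.Helper3.SL2

open Matrix
open scoped Pointwise

variable {F : Type*} [Field F]

/-- entries of a product -/
lemma mul_entries (g h : Matrix.SpecialLinearGroup (Fin 2) F) :
    (g * h).1 0 0 = g.1 0 0 * h.1 0 0 + g.1 0 1 * h.1 1 0 ∧
    (g * h).1 0 1 = g.1 0 0 * h.1 0 1 + g.1 0 1 * h.1 1 1 ∧
    (g * h).1 1 0 = g.1 1 0 * h.1 0 0 + g.1 1 1 * h.1 1 0 ∧
    (g * h).1 1 1 = g.1 1 0 * h.1 0 1 + g.1 1 1 * h.1 1 1 := by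
  simp [Matrix.mul_apply, Fin.sum_univ_two]

lemma ext2 {g h : Matrix.SpecialLinearGroup (Fin 2) F} (h00 : g.1 0 0 = h.1 0 0)
    (h01 : g.1 0 1 = h.1 0 1) (h10 : g.1 1 0 = h.1 1 0) (h11 : g.1 1 1 = h.1 1 1) : g = h := by
  apply Subtype.ext
  apply Matrix.ext
  intro i j
  fin_cases i <;> fin_cases j <;> assumption

lemma det_eq_one (g : Matrix.SpecialLinearGroup (Fin 2) F) :
    g.1 0 0 * g.1 1 1 - g.1 0 1 * g.1 1 0 = 1 := by
  rw [← Matrix.det_fin_two]
  exact g.2

/-- the upper unitriangular matrix -/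
def upper (a : F) : Matrix.SpecialLinearGroup (Fin 2) F :=
  ⟨!![1, a; 0, 1], by rw [Matrix.det_fin_two_of]; ring⟩

/-- the lower unitriangular matrix -/
def lower (a : F) : Matrix.SpecialLinearGroup (Fin 2) F :=
  ⟨!![1, 0; a, 1], by rw [Matrix.det_fin_two_of]; ring⟩

@[simp] lemma upper_00 (a : F) : (upper a).1 0 0 = 1 := rfl
@[simp] lemma upper_01 (a : F) : (upper a).1 0 1 = a := rfl
@[simp] lemma upper_10 (a : F) : (upper a).1 1 0 = 0 := rfl
@[simp] lemma upper_11 (a : F) : (upper a).1 1 1 = 1 := rfl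
@[simp] lemma lower_00 (a : F) : (lower a).1 0 0 = 1 := rfl
@[simp] lemma lower_01 (a : F) : (lower a).1 0 1 = 0 := rfl
@[simp] lemma lower_10 (a : F) : (lower a).1 1 0 = a := rfl
@[simp] lemma lower_11 (a : F) : (lower a).1 1 1 = 1 := rfl

lemma transvection_01 (h : (0 : Fin 2) ≠ 1) (c : F) :
    Matrix.SpecialLinearGroup.transvection h c = upper c := by
  apply ext2 <;> simp [Matrix.SpecialLinearGroup.transvection_coe]

lemma transvection_10 (h : (1 : Fin 2) ≠ 0) (c : F) :
    Matrix.SpecialLinearGroup.transvection h c = lower c := by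
  apply ext2 <;> simp [Matrix.SpecialLinearGroup.transvection_coe]

lemma upper_add (a b : F) : upper (a + b) = upper a * upper b := by
  obtain ⟨h00, h01, h10, h11⟩ := mul_entries (upper a) (upper b)
  apply ext2
  · rw [h00]; simp
  · rw [h01]; simp [add_comm]
  · rw [h10]; simp
  · rw [h11]; simp

lemma upper_zero : upper (0 : F) = 1 := by
  apply ext2 <;> simp

/-- the homomorphism `a ↦ upper a` -/
def upperHom : Multiplicative F →* Matrix.SpecialLinearGroup (Fin 2) F where
  toFun a := upper (Multiplicative.toAdd a)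
  map_one' := upper_zero
  map_mul' _ _ := upper_add _ _

lemma upperHom_injective : Function.Injective (upperHom (F := F)) := by
  intro a b h
  have := congrArg (fun g : Matrix.SpecialLinearGroup (Fin 2) F => g.1 0 1) h
  simpa [upperHom] using this

/-- the upper unitriangular subgroup -/
def U : Subgroup (Matrix.SpecialLinearGroup (Fin 2) F) := (upperHom (F := F)).range

lemma upper_mem_U (a : F) : upper a ∈ (U : Subgroup (Matrix.SpecialLinearGroup (Fin 2) F)) :=
  ⟨Multiplicative.ofAdd a, rfl⟩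

lemma card_U [Finite F] :
    Nat.card (U : Subgroup (Matrix.SpecialLinearGroup (Fin 2) F)) = Nat.card F := by
  rw [U, ← Nat.card_congr (MonoidHom.ofInjective upperHom_injective).toEquiv]
  exact Nat.card_congr Multiplicative.toAdd

/-- the Borel subgroup -/
def B : Subgroup (Matrix.SpecialLinearGroup (Fin 2) F) where
  carrier := {g | g.1 1 0 = 0}
  mul_mem' := by
    intro g h hg hh
    simp only [Set.mem_ofPred_eq] at *
    rw [(mul_entries g h).2.2.1, hg, hh]
    simp
  one_mem' := by simp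
  inv_mem' := by
    intro g hg
    simp only [Set.mem_ofPred_eq] at *
    rw [Matrix.SpecialLinearGroup.coe_inv, Matrix.adjugate_fin_two]
    simp [hg]

lemma mem_B_iff (g : Matrix.SpecialLinearGroup (Fin 2) F) : g ∈ B ↔ g.1 1 0 = 0 := Iff.rfl

/-- `B` normalises `U` -/
lemma conj_mem_U_of_mem_B (g : Matrix.SpecialLinearGroup (Fin 2) F) (hg : g ∈ B)
    (u : Matrix.SpecialLinearGroup (Fin 2) F) (hu : u ∈ U) : g * u * g⁻¹ ∈ U := by
  rw [mem_B_iff] at hg
  obtain ⟨a, rfl⟩ := hu
  have hdet := det_eq_one g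
  rw [hg, mul_zero, sub_zero] at hdet
  have h11 : g.1 1 1 ≠ 0 := by
    intro h0
    rw [h0, mul_zero] at hdet
    exact zero_ne_one hdet
  have : g * upperHom a = upper (g.1 0 0 * Multiplicative.toAdd a / g.1 1 1) * g := by
    have e1 := mul_entries g (upperHom a)
    have e2 := mul_entries (upper (g.1 0 0 * Multiplicative.toAdd a / g.1 1 1)) g
    apply ext2
    · rw [e1.1, e2.1]; simp [upperHom, hg]
    · rw [e1.2.1, e2.2.1]; simp [upperHom]; field_simp; ring
    · rw [e1.2.2.1, e2.2.2.1]; simp [upperHom, hg]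
    · rw [e1.2.2.2, e2.2.2.2]; simp [upperHom, hg]
  rw [this, mul_inv_cancel_right]
  exact upper_mem_U _

lemma B_le_normalizer_U :
    (B : Subgroup (Matrix.SpecialLinearGroup (Fin 2) F))
      ≤ Subgroup.normalizer ((U : Subgroup (Matrix.SpecialLinearGroup (Fin 2) F)) : Set _) := by
  intro g hg
  rw [Subgroup.mem_normalizer_iff]
  intro h
  constructor
  · exact conj_mem_U_of_mem_B g hg h
  · intro hh
    have := conj_mem_U_of_mem_B g⁻¹ (B.inv_mem hg) _ hh
    simpa [mul_assoc] using this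

/-- for `k ∉ B`, every lower unitriangular matrix lies in `⟨U, k U k⁻¹⟩` -/
lemma lower_mem (k : Matrix.SpecialLinearGroup (Fin 2) F) (hk : k.1 1 0 ≠ 0) (c : F) :
    lower c ∈ (U : Subgroup (Matrix.SpecialLinearGroup (Fin 2) F)) ⊔ MulAut.conj k • U := by
  set m := upper (-(k.1 0 0) / k.1 1 0) * k with hm
  have em := mul_entries (upper (-(k.1 0 0) / k.1 1 0)) k
  have hdet := det_eq_one k
  have m00 : m.1 0 0 = 0 := by
    rw [hm, em.1]; simp; field_simp; ring
  have m10 : m.1 1 0 = k.1 1 0 := by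
    rw [hm, em.2.2.1]; simp
  have m11 : m.1 1 1 = k.1 1 1 := by
    rw [hm, em.2.2.2]; simp
  have m01 : m.1 0 1 = -1 / k.1 1 0 := by
    rw [hm, em.2.1]; simp
    field_simp
    linear_combination (-1 : F) * hdet
  have key : lower c * m = m * upper (-c / (k.1 1 0) ^ 2) := by
    have e1 := mul_entries (lower c) m
    have e2 := mul_entries m (upper (-c / (k.1 1 0) ^ 2))
    apply ext2
    · rw [e1.1, e2.1]; simp [m00]
    · rw [e1.2.1, e2.2.1]; simp [m00]
    · rw [e1.2.2.1, e2.2.2.1]; simp [m00, m10]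
    · rw [e1.2.2.2, e2.2.2.2]; simp [m10, m01, m11]; field_simp
  have h1 : lower c = m * upper (-c / (k.1 1 0) ^ 2) * m⁻¹ := by
    rw [← key]; group
  have h2 : m * upper (-c / (k.1 1 0) ^ 2) * m⁻¹
      = upper (-(k.1 0 0) / k.1 1 0) * (k * upper (-c / (k.1 1 0) ^ 2) * k⁻¹)
        * (upper (-(k.1 0 0) / k.1 1 0))⁻¹ := by
    rw [hm]; group
  rw [h1, h2]
  have hU : (U : Subgroup (Matrix.SpecialLinearGroup (Fin 2) F)) ≤ U ⊔ MulAut.conj k • U :=
    le_sup_left
  have hK : MulAut.conj k • (U : Subgroup (Matrix.SpecialLinearGroup (Fin 2) F))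
      ≤ U ⊔ MulAut.conj k • U := le_sup_right
  refine Subgroup.mul_mem _ (Subgroup.mul_mem _ (hU (upper_mem_U _)) (hK ?_))
    (Subgroup.inv_mem _ (hU (upper_mem_U _)))
  rw [Subgroup.mem_pointwise_smul_iff_inv_smul_mem]
  simp only [MulAut.smul_def, MulAut.conj_inv_apply]
  have : k⁻¹ * (k * upper (-c / (k.1 1 0) ^ 2) * k⁻¹) * k = upper (-c / (k.1 1 0) ^ 2) := by
    group
  rw [this]
  exact upper_mem_U _

/-- for `k ∉ B`, `U` and `k U k⁻¹` generate `SL_2(F)` -/
theorem sup_conj_eq_top (k : Matrix.SpecialLinearGroup (Fin 2) F) (hk : k.1 1 0 ≠ 0) :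
    (U : Subgroup (Matrix.SpecialLinearGroup (Fin 2) F)) ⊔ MulAut.conj k • U = ⊤ := by
  refine le_antisymm le_top (fun A _ => ?_)
  refine Cfsg.Agent.S0249.transvection_induction
    (fun A => A ∈ (U : Subgroup (Matrix.SpecialLinearGroup (Fin 2) F)) ⊔ MulAut.conj k • U)
    (fun i j hij c => ?_) (fun _ _ => Subgroup.mul_mem _) A
  fin_cases i <;> fin_cases j
  · exact absurd rfl hij
  · rw [transvection_01]
    exact (le_sup_left : U ≤ U ⊔ MulAut.conj k • U) (upper_mem_U c)
  · rw [transvection_10]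
    exact lower_mem k hk c
  · exact absurd rfl hij

end Cfsg.Agent.Lib.Helper3.SL2
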