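import Mathlib

set_option autoImplicit false

namespace Cfsg.Agent.Lib.Helper3.QuatHom

variable {G : Type*} [Group G]

/-- the map underlying the homomorphism from `Q_8` -/
def quatFun (A X : G) : QuaternionGroup 2 → G
  | .a i => A ^ i.val
  | .xa i => X * A ^ i.val

section
variable (A X : G) (hA : A ^ 4 = 1) (hX : X ^ 2 = A ^ 2) (hc : X * A * X⁻¹ = A⁻¹)

include hA in
lemma pw_add (i j : ZMod 4) : A ^ (i + j).val = A ^ i.val * A ^ j.val := by
  rw [← pow_add, ZMod.val_add, ← pow_eq_pow_mod _ hA]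

include hA in
lemma pw_neg (i : ZMod 4) : A ^ (-i).val = (A ^ i.val)⁻¹ := by
  apply eq_inv_of_mul_eq_one_left
  rw [← pw_add A hA, neg_add_cancel]
  simp

include hA in
lemma pw_sub (i j : ZMod 4) : A ^ (j - i).val = A ^ j.val * (A ^ i.val)⁻¹ := by
  rw [sub_eq_add_neg, pw_add A hA, pw_neg A hA]

include hc in
lemma conj_pw (k : ℕ) : X * A ^ k * X⁻¹ = (A ^ k)⁻¹ := by
  rw [← conj_pow, hc, inv_pow]

include hc in
lemma pw_mul_X (k : ℕ) : A ^ k * X = X * (A ^ k)⁻¹ := by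
  have h := conj_pw A X hc k
  have h2 : X * (A ^ k)⁻¹ * X⁻¹ = A ^ k := by
    have : X * (A ^ k)⁻¹ * X⁻¹ = (X * A ^ k * X⁻¹)⁻¹ := by group
    rw [this, h, inv_inv]
  calc A ^ k * X = (X * (A ^ k)⁻¹ * X⁻¹) * X := by rw [h2]
    _ = X * (A ^ k)⁻¹ := by group

include hA hX hc in
lemma quatFun_mul (x y : QuaternionGroup 2) :
    quatFun A X (x * y) = quatFun A X x * quatFun A X y := by
  rcases x with i | i <;> rcases y with j | j
  · simp only [QuaternionGroup.a_mul_a, quatFun]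
    exact pw_add A hA i j
  · simp only [QuaternionGroup.a_mul_xa, quatFun]
    rw [pw_sub A hA, ← mul_assoc (A ^ i.val), pw_mul_X A X hc, mul_assoc]
    congr 1
    exact (Commute.pow_pow (Commute.refl A) _ _).inv_right.eq
  · simp only [QuaternionGroup.xa_mul_a, quatFun]
    rw [pw_add A hA, mul_assoc]
  · simp only [QuaternionGroup.xa_mul_xa, quatFun]
    have h2 : A ^ ((2 : ℕ) : ZMod 4).val = A ^ 2 := by
      congr 1
    rw [add_sub_assoc, pw_add A hA, pw_sub A hA, h2, ← hX]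
    have : X * A ^ i.val * (X * A ^ j.val) = X * (A ^ i.val * X) * A ^ j.val := by group
    rw [this, pw_mul_X A X hc]
    have hcomm : A ^ j.val * (A ^ i.val)⁻¹ = (A ^ i.val)⁻¹ * A ^ j.val :=
      (Commute.pow_pow (Commute.refl A) _ _).inv_right.eq
    rw [hcomm, pow_two]
    group

end

/-- the homomorphism from `Q_8` determined by `A`, `X` -/
def quatHom (A X : G) (hA : A ^ 4 = 1) (hX : X ^ 2 = A ^ 2) (hc : X * A * X⁻¹ = A⁻¹) :
    QuaternionGroup 2 →* G :=
  MonoidHom.mk' (quatFun A X) (quatFun_mul A X hA hX hc)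

lemma quatHom_a_one (A X : G) (hA : A ^ 4 = 1) (hX : X ^ 2 = A ^ 2) (hc : X * A * X⁻¹ = A⁻¹) :
    quatHom A X hA hX hc (QuaternionGroup.a 1) = A := by
  show A ^ (1 : ZMod 4).val = A
  have : (1 : ZMod 4).val = 1 := rfl
  rw [this, pow_one]

lemma quatHom_xa_zero (A X : G) (hA : A ^ 4 = 1) (hX : X ^ 2 = A ^ 2) (hc : X * A * X⁻¹ = A⁻¹) :
    quatHom A X hA hX hc (QuaternionGroup.xa 0) = X := by
  show X * A ^ (0 : ZMod 4).val = X
  have : (0 : ZMod 4).val = 0 := rfl
  rw [this, pow_zero, mul_one]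

/-- two non-commuting elements satisfying the quaternion relations lie in a common Sylow
`2`-subgroup, which is therefore not cyclic -/
theorem exists_sylow_not_cyclic [Finite G] (A X : G) (hA : A ^ 4 = 1) (hX : X ^ 2 = A ^ 2)
    (hc : X * A * X⁻¹ = A⁻¹) (hne : A * X ≠ X * A) :
    ∃ P : Sylow 2 G, ¬ IsCyclic P := by
  let f := quatHom A X hA hX hc
  have hQ : IsPGroup 2 (QuaternionGroup 2) := by
    apply IsPGroup.of_card (n := 3)
    rw [Nat.card_eq_fintype_card, QuaternionGroup.card]; norm_num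
  have hR : IsPGroup 2 f.range := by
    rw [MonoidHom.range_eq_map]
    exact (hQ.to_subgroup ⊤).map f
  obtain ⟨P, hP⟩ := hR.exists_le_sylow
  refine ⟨P, fun hcyc => hne ?_⟩
  have hAP : A ∈ P := hP ⟨QuaternionGroup.a 1, quatHom_a_one A X hA hX hc⟩
  have hXP : X ∈ P := hP ⟨QuaternionGroup.xa 0, quatHom_xa_zero A X hA hX hc⟩
  have hcomm : IsMulCommutative P := inferInstance
  have := mul_comm' (⟨A, hAP⟩ : P) ⟨X, hXP⟩
  exact congrArg Subtype.val this

end Cfsg.Agent.Lib.Helper3.QuatHom
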