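import Mathlib

set_option autoImplicit false

namespace Cfsg.Agent.Lib.Helper3.SL2Semi

open Matrix

variable {F : Type*} [Field F]

/-- Cayley–Hamilton for `2 × 2` matrices of determinant one -/
lemma sq_eq (Z : Matrix (Fin 2) (Fin 2) F) (hdet : Z.det = 1) :
    Z * Z = (Z 0 0 + Z 1 1) • Z - 1 := by
  rw [Matrix.det_fin_two] at hdet
  ext i j
  fin_cases i <;> fin_cases j <;>
    simp [Matrix.mul_apply, Fin.sum_univ_two] <;>
    first | linear_combination hdet | linear_combination -hdet | ring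

/-- the centraliser of a non-scalar `2 × 2` matrix consists of the polynomials in it -/
lemma exists_of_commute (Z X : Matrix (Fin 2) (Fin 2) F)
    (hns : ¬ (Z 0 1 = 0 ∧ Z 1 0 = 0 ∧ Z 0 0 = Z 1 1)) (hc : X * Z = Z * X) :
    ∃ a b : F, X = a • (1 : Matrix (Fin 2) (Fin 2) F) + b • Z := by
  have c00 := congrFun (congrFun hc 0) 0
  have c01 := congrFun (congrFun hc 0) 1
  have c10 := congrFun (congrFun hc 1) 0
  have c11 := congrFun (congrFun hc 1) 1
  simp only [Matrix.mul_apply, Fin.sum_univ_two] at c00 c01 c10 c11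
  by_cases hβ : Z 0 1 = 0
  · by_cases hγ : Z 1 0 = 0
    · have hαδ : Z 0 0 ≠ Z 1 1 := fun h => hns ⟨hβ, hγ, h⟩
      have hαδ' : Z 0 0 - Z 1 1 ≠ 0 := sub_ne_zero.2 hαδ
      simp only [hβ, hγ, mul_zero, zero_mul, add_zero, zero_add] at c00 c01 c10 c11
      have x01 : X 0 1 = 0 := by
        have : X 0 1 * (Z 0 0 - Z 1 1) = 0 := by linear_combination -c01
        rcases mul_eq_zero.1 this with h | h
        · exact h
        · exact absurd h hαδ'
      have x10 : X 1 0 = 0 := by
        have : X 1 0 * (Z 0 0 - Z 1 1) = 0 := by linear_combination c10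
        rcases mul_eq_zero.1 this with h | h
        · exact h
        · exact absurd h hαδ'
      obtain ⟨b, hb⟩ : ∃ b : F, b * (Z 0 0 - Z 1 1) = X 0 0 - X 1 1 :=
        ⟨(X 0 0 - X 1 1) / (Z 0 0 - Z 1 1), by field_simp⟩
      refine ⟨X 0 0 - b * Z 0 0, b, ?_⟩
      ext i j
      fin_cases i <;> fin_cases j
      · simp
      · simp [x01, hβ]
      · simp [x10, hγ]
      · simp
        linear_combination hb
    · obtain ⟨b, hb⟩ : ∃ b : F, b * Z 1 0 = X 1 0 := ⟨X 1 0 / Z 1 0, by field_simp⟩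
      refine ⟨X 0 0 - b * Z 0 0, b, ?_⟩
      ext i j
      fin_cases i <;> fin_cases j
      · simp
      · simp
        apply mul_left_cancel₀ hγ
        linear_combination c00 - Z 0 1 * hb
      · simp
        exact hb.symm
      · simp
        apply mul_left_cancel₀ hγ
        linear_combination c10 + (Z 0 0 - Z 1 1) * hb
  · obtain ⟨b, hb⟩ : ∃ b : F, b * Z 0 1 = X 0 1 := ⟨X 0 1 / Z 0 1, by field_simp⟩
    refine ⟨X 0 0 - b * Z 0 0, b, ?_⟩
    ext i j
    fin_cases i <;> fin_cases j
    · simp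
    · simp
      exact hb.symm
    · simp
      apply mul_left_cancel₀ hβ
      linear_combination -c00 - Z 1 0 * hb
    · simp
      apply mul_left_cancel₀ hβ
      linear_combination -c01 + (Z 0 0 - Z 1 1) * hb

/-- determinant of a polynomial in `Z` -/
lemma det_add_smul (Z : Matrix (Fin 2) (Fin 2) F) (hdet : Z.det = 1) (a b : F) :
    (a • (1 : Matrix (Fin 2) (Fin 2) F) + b • Z).det = a ^ 2 + a * b * (Z 0 0 + Z 1 1) + b ^ 2 := by
  rw [Matrix.det_fin_two] at hdet
  rw [Matrix.det_fin_two]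
  simp
  linear_combination b ^ 2 * hdet

/-- product of two polynomials in `Z` -/
lemma mul_add_smul (Z : Matrix (Fin 2) (Fin 2) F) (hdet : Z.det = 1) (a b c d : F) :
    (a • (1 : Matrix (Fin 2) (Fin 2) F) + b • Z) * (c • (1 : Matrix (Fin 2) (Fin 2) F) + d • Z)
      = (a * c - b * d) • (1 : Matrix (Fin 2) (Fin 2) F)
        + (a * d + b * c + b * d * (Z 0 0 + Z 1 1)) • Z := by
  have h := sq_eq Z hdet
  simp only [Matrix.add_mul, Matrix.mul_add, Matrix.smul_mul, Matrix.mul_smul, Matrix.one_mul,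
    Matrix.mul_one, h, smul_sub, smul_smul]
  ext i j
  simp only [Matrix.add_apply, Matrix.smul_apply, Matrix.sub_apply, smul_eq_mul]
  ring

/-- uniqueness of the coefficients -/
lemma coeff_unique (Z : Matrix (Fin 2) (Fin 2) F)
    (hns : ¬ (Z 0 1 = 0 ∧ Z 1 0 = 0 ∧ Z 0 0 = Z 1 1)) {a b c d : F}
    (h : a • (1 : Matrix (Fin 2) (Fin 2) F) + b • Z = c • (1 : Matrix (Fin 2) (Fin 2) F) + d • Z) :
    a = c ∧ b = d := by
  have c00 := congrFun (congrFun h 0) 0
  have c01 := congrFun (congrFun h 0) 1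
  have c10 := congrFun (congrFun h 1) 0
  have c11 := congrFun (congrFun h 1) 1
  simp at c00 c01 c10 c11
  have hbd : b = d := by
    by_contra hne
    have hne' : b - d ≠ 0 := sub_ne_zero.2 hne
    apply hns
    refine ⟨?_, ?_, ?_⟩
    · rcases c01 with h | h
      · exact absurd h hne
      · exact h
    · rcases c10 with h | h
      · exact absurd h hne
      · exact h
    · have : (b - d) * (Z 0 0 - Z 1 1) = 0 := by linear_combination c00 - c11
      rcases mul_eq_zero.1 this with h | h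
      · exact absurd h hne'
      · exact sub_eq_zero.1 h
  refine ⟨?_, hbd⟩
  rw [hbd] at c00
  linear_combination c00

end Cfsg.Agent.Lib.Helper3.SL2Semi
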