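import Mathlib
import Cfsg.Agent.Lib.Helper3.SL2Semi

set_option autoImplicit false

namespace Cfsg.Agent.Lib.Helper3.SL2Semi

open Matrix

variable {F : Type*} [Field F]

/-- a unipotent-type matrix has order dividing `2p` -/
lemma pow_two_mul_char_eq_one (p : ℕ) [Fact p.Prime] [CharP F p] (Z : Matrix (Fin 2) (Fin 2) F)
    (hdet : Z.det = 1) (ht : (Z 0 0 + Z 1 1) ^ 2 = 4) : Z ^ (2 * p) = 1 := by
  have hp2 : 2 ≤ p := (Fact.out : p.Prime).two_le
  have hsq := sq_eq Z hdet
  have hfac : ((Z 0 0 + Z 1 1) - 2) * ((Z 0 0 + Z 1 1) + 2) = 0 := by linear_combination ht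
  have key : ∀ N : Matrix (Fin 2) (Fin 2) F, N * N = 0 → (1 + N) ^ p = 1 := by
    intro N hN
    rw [add_pow_char_of_commute (p := p) (Commute.one_left N), one_pow]
    have : N ^ p = 0 := by
      obtain ⟨k, hk⟩ := Nat.exists_eq_add_of_le hp2
      rw [hk, pow_add, pow_two, hN, zero_mul]
    rw [this, add_zero]
  rcases mul_eq_zero.1 hfac with h | h
  · have ht2 : Z 0 0 + Z 1 1 = 2 := by linear_combination h
    have hN : (Z - 1) * (Z - 1) = 0 := by
      rw [sub_mul, mul_sub, mul_sub, hsq, ht2]
      simp only [Matrix.mul_one, Matrix.one_mul]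
      rw [two_smul]
      abel
    have := key (Z - 1) hN
    rw [add_sub_cancel] at this
    rw [mul_comm, pow_mul, this, one_pow]
  · have ht2 : Z 0 0 + Z 1 1 = -2 := by linear_combination h
    have hN : (-Z - 1) * (-Z - 1) = 0 := by
      rw [sub_mul, mul_sub, mul_sub, neg_mul_neg, hsq, ht2]
      simp only [Matrix.mul_one, Matrix.one_mul, neg_smul]
      rw [two_smul]
      abel
    have := key (-Z - 1) hN
    rw [add_sub_cancel] at this
    have h2 : Z ^ (2 * p) = ((-Z) ^ p) ^ 2 := by
      rw [← pow_mul, mul_comm p 2, Even.neg_pow ⟨p, by ring⟩]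
    rw [h2, this, one_pow]


/-- an `r`-subgroup of `SL₂(F)`, `r` odd and different from the characteristic, is cyclic -/
theorem isCyclic_of_isPGroup [Fintype F] (p : ℕ) [Fact p.Prime] [CharP F p] (r : ℕ) [Fact r.Prime]
    (hr : r ≠ 2) (hrp : r ≠ p) (R : Subgroup (Matrix.SpecialLinearGroup (Fin 2) F))
    (hR : IsPGroup r R) : IsCyclic R := by
  classical
  by_cases hsub : Subsingleton R
  · exact isCyclic_of_subsingleton
  rw [not_subsingleton_iff_nontrivial] at hsub
  have hcn := hR.center_nontrivial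
  obtain ⟨z, hz1⟩ := exists_ne (1 : Subgroup.center R)
  obtain ⟨Z, hZ⟩ : ∃ Z : Matrix (Fin 2) (Fin 2) F, Z = (z.1.1 : Matrix (Fin 2) (Fin 2) F) := ⟨_, rfl⟩
  have hdet : Z.det = 1 := by rw [hZ]; exact z.1.1.2
  have hzne : z.1 ≠ 1 := fun h => hz1 (Subtype.ext h)
  -- Step A
  have ht : (Z 0 0 + Z 1 1) ^ 2 ≠ 4 := by
    intro ht
    have h1 := pow_two_mul_char_eq_one p Z hdet ht
    have h2 : z.1 ^ (2 * p) = 1 := by
      apply Subtype.ext; apply Subtype.ext
      simp only [Subgroup.coe_pow, Subgroup.coe_one, Matrix.SpecialLinearGroup.coe_pow,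
        Matrix.SpecialLinearGroup.coe_one]
      rw [← hZ]
      exact h1
    obtain ⟨k, hk⟩ := hR z.1
    have hcop : Nat.Coprime (2 * p) (r ^ k) := by
      apply Nat.Coprime.pow_right
      apply Nat.Coprime.mul_left
      · exact (Nat.coprime_primes Nat.prime_two Fact.out).2 (Ne.symm hr)
      · exact (Nat.coprime_primes Fact.out Fact.out).2 (Ne.symm hrp)
    have hd1 := orderOf_dvd_of_pow_eq_one h2
    have hd2 := orderOf_dvd_of_pow_eq_one hk
    have hd := Nat.dvd_gcd hd1 hd2
    rw [Nat.Coprime] at hcop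
    rw [hcop] at hd
    exact hzne (orderOf_eq_one_iff.1 (Nat.eq_one_of_dvd_one hd))
  have hns : ¬ (Z 0 1 = 0 ∧ Z 1 0 = 0 ∧ Z 0 0 = Z 1 1) := by
    rintro ⟨h1, h2, h3⟩
    apply ht
    rw [Matrix.det_fin_two, h1, h2] at hdet
    rw [h3] at hdet ⊢
    linear_combination 4 * hdet
  -- Step B
  obtain ⟨ζ, hζ⟩ : ∃ ζ : AlgebraicClosure F,
      ζ ^ 2 - algebraMap F (AlgebraicClosure F) (Z 0 0 + Z 1 1) * ζ + 1 = 0 := by
    have hdeg : (Polynomial.X ^ 2 - Polynomial.C (algebraMap F (AlgebraicClosure F) (Z 0 0 + Z 1 1))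
        * Polynomial.X + 1 : Polynomial (AlgebraicClosure F)).degree ≠ 0 := by
      have : (Polynomial.X ^ 2 - Polynomial.C (algebraMap F (AlgebraicClosure F) (Z 0 0 + Z 1 1))
        * Polynomial.X + 1 : Polynomial (AlgebraicClosure F)).natDegree = 2 := by
        compute_degree!
      intro h
      rw [Polynomial.degree_eq_natDegree (by
        intro h0; rw [h0] at this; simp at this), this] at h
      exact absurd h (by norm_num)
    obtain ⟨ζ, hζ⟩ := IsAlgClosed.exists_root _ hdeg
    refine ⟨ζ, ?_⟩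
    simpa [Polynomial.IsRoot] using hζ
  obtain ⟨T, hT⟩ : ∃ T : AlgebraicClosure F,
      T = algebraMap F (AlgebraicClosure F) (Z 0 0 + Z 1 1) := ⟨_, rfl⟩
  rw [← hT] at hζ
  have hζζ' : ζ * (T - ζ) = 1 := by linear_combination -hζ
  have hne : ζ ≠ T - ζ := by
    intro h
    apply ht
    have h1 : ζ ^ 2 = 1 := by
      have := hζζ'
      rw [← h] at this
      rw [pow_two]; exact this
    have h2 : T ^ 2 = 4 := by
      have : T = 2 * ζ := by linear_combination -h
      rw [this]; linear_combination 4 * h1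
    apply (algebraMap F (AlgebraicClosure F)).injective
    rw [map_pow, ← hT, h2, map_ofNat]
  -- Step C
  have hcomm : ∀ x : R, (x.1 : Matrix (Fin 2) (Fin 2) F) * Z = Z * (x.1 : Matrix (Fin 2) (Fin 2) F) := by
    intro x
    have h1 := Subgroup.mem_center_iff.1 z.2 x
    have h2 := congrArg (fun y : R => ((y : Matrix.SpecialLinearGroup (Fin 2) F) :
      Matrix (Fin 2) (Fin 2) F)) h1
    simp only [Subgroup.coe_mul, Matrix.SpecialLinearGroup.coe_mul] at h2
    rw [hZ]
    exact h2
  choose a b hab using fun x : R => exists_of_commute Z (x.1 : Matrix (Fin 2) (Fin 2) F) hns (hcomm x)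
  have hone : a 1 = 1 ∧ b 1 = 0 := by
    have h1 := hab 1
    have h2 : ((1 : R).1 : Matrix (Fin 2) (Fin 2) F) = (1 : F) • 1 + (0 : F) • Z := by simp
    rw [h1] at h2
    exact coeff_unique Z hns h2
  have hmul : ∀ x y : R, a (x * y) = a x * a y - b x * b y ∧
      b (x * y) = a x * b y + b x * a y + b x * b y * (Z 0 0 + Z 1 1) := by
    intro x y
    have h1 := hab (x * y)
    have h2 : ((x * y : R).1 : Matrix (Fin 2) (Fin 2) F)
        = (x.1 : Matrix (Fin 2) (Fin 2) F) * (y.1 : Matrix (Fin 2) (Fin 2) F) := by simp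
    rw [h2, hab x, hab y, mul_add_smul Z hdet] at h1
    exact coeff_unique Z hns h1.symm
  have hdetx : ∀ x : R, a x ^ 2 + a x * b x * (Z 0 0 + Z 1 1) + b x ^ 2 = 1 := by
    intro x
    have h1 : (x.1 : Matrix (Fin 2) (Fin 2) F).det = 1 := x.1.2
    rw [hab x, det_add_smul Z hdet] at h1
    exact h1
  let f : R →* AlgebraicClosure F :=
    { toFun := fun x => algebraMap F (AlgebraicClosure F) (a x)
        + algebraMap F (AlgebraicClosure F) (b x) * ζ
      map_one' := by
        show algebraMap F (AlgebraicClosure F) (a 1) + algebraMap F (AlgebraicClosure F) (b 1) * ζ = 1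
        rw [hone.1, hone.2]; simp
      map_mul' := fun x y => by
        show algebraMap F (AlgebraicClosure F) (a (x * y))
          + algebraMap F (AlgebraicClosure F) (b (x * y)) * ζ
          = (algebraMap F (AlgebraicClosure F) (a x) + algebraMap F (AlgebraicClosure F) (b x) * ζ)
            * (algebraMap F (AlgebraicClosure F) (a y) + algebraMap F (AlgebraicClosure F) (b y) * ζ)
        rw [(hmul x y).1, (hmul x y).2]
        simp only [map_sub, map_mul, map_add, ← hT]
        linear_combination (-(algebraMap F (AlgebraicClosure F) (b x)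
          * algebraMap F (AlgebraicClosure F) (b y))) * hζ }
  have hnorm : ∀ x : R, (algebraMap F (AlgebraicClosure F) (a x)
      + algebraMap F (AlgebraicClosure F) (b x) * ζ)
      * (algebraMap F (AlgebraicClosure F) (a x)
        + algebraMap F (AlgebraicClosure F) (b x) * (T - ζ)) = 1 := by
    intro x
    have h1 := congrArg (algebraMap F (AlgebraicClosure F)) (hdetx x)
    simp only [map_add, map_mul, map_pow, map_one, ← hT] at h1
    linear_combination h1 + (algebraMap F (AlgebraicClosure F) (b x)) ^ 2 * hζζ'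
  have hinj : Function.Injective f := by
    intro x y hxy
    have hxy' : algebraMap F (AlgebraicClosure F) (a x) + algebraMap F (AlgebraicClosure F) (b x) * ζ
        = algebraMap F (AlgebraicClosure F) (a y) + algebraMap F (AlgebraicClosure F) (b y) * ζ :=
      hxy
    have hu0 : algebraMap F (AlgebraicClosure F) (a x)
        + algebraMap F (AlgebraicClosure F) (b x) * ζ ≠ 0 := by
      intro h0
      have := hnorm x
      rw [h0, zero_mul] at this
      exact zero_ne_one this
    have h2 : algebraMap F (AlgebraicClosure F) (a x)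
        + algebraMap F (AlgebraicClosure F) (b x) * (T - ζ)
        = algebraMap F (AlgebraicClosure F) (a y)
        + algebraMap F (AlgebraicClosure F) (b y) * (T - ζ) := by
      apply mul_left_cancel₀ hu0
      rw [hnorm x, hxy', hnorm y]
    have h3 : (algebraMap F (AlgebraicClosure F) (b x) - algebraMap F (AlgebraicClosure F) (b y))
        * (ζ - (T - ζ)) = 0 := by linear_combination hxy' - h2
    have hb : b x = b y := by
      rcases mul_eq_zero.1 h3 with h | h
      · exact (algebraMap F (AlgebraicClosure F)).injective (sub_eq_zero.1 h)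
      · exact absurd (sub_eq_zero.1 h) hne
    have ha : a x = a y := by
      apply (algebraMap F (AlgebraicClosure F)).injective
      rw [hb] at hxy'
      exact add_right_cancel hxy'
    apply Subtype.ext
    apply Subtype.ext
    rw [hab x, hab y, ha, hb]
  exact isCyclic_of_injective_ringHom f hinj

end Cfsg.Agent.Lib.Helper3.SL2Semi
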