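import Mathlib
import Cfsg.Prelude.Def_GeometricClasses
import Cfsg.Agent.Lib.Helper16.TensDefs
import Cfsg.Agent.Lib.Helper23.S5637FOT3b

/-!
# Vocabulary for S5704: `(Sp_a ⊗ Sp_b) ∩ Ω` is maximal in `Ω⁺_{ab}(q)`  (helper3)

`V = (Fin a × Fin b → F) = U ⊗ W`; `f₁ = bf J1` on `U = F^a`, `f₂ = bf J2` on `W = F^b` are non-degenerate alternating forms given
by their Gram matrices; `Q` is a quadratic form on `V` with polar form `f₁ ⊗ f₂` vanishing on pure tensors (`Setup`).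

* `bf J x y = x ⬝ᵥ J *ᵥ y`; `SympG J` : alternating and non-degenerate;
* `E J w w'` : the rank-one operator `x ↦ f(x, w') w`;  `adj J C` : the `f`-adjoint `C^*` (`f(Cx, y) = f(x, C^* y)`);
* `uni T h` : the unipotent `1 + T` (`T² = 0`) in `GL`;
* `TE J1 J2 C w w' = C ⊗ E_{w,w'} + C^* ⊗ E_{w',w}` and `gE … C w w' h = 1 + TE` (`f₂(w, w') = 0`): the "short root elements";
  for `C = c • 1` they are in `N0 = kroneckerSubgroup`, for `C = E J1 u u'` they are the Siegel transformations `ρ_{u⊗w, u'⊗w'}`;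
* `zA … α k = 1 + α ⊗ E_{k,k}` : "long root elements" (centre of the unipotent radical of `Stab(U ⊗ k)`); `rootW k c = zA (c•1) k = 1 ⊗ t_k(c)`;
* `rootU u c = t_u(c) ⊗ 1`;
* `Lk k = U ⊗ k`, `Pk J2 k = U ⊗ k^⊥ = (Lk k)^⊥`; `InRad J2 k z` : `z` is trivial on `Lk k` and on `Pk k / Lk k`;
* `Over Q M` : `N0 ⊓ Ω ≤ M ≤ Ω`.
-/

set_option autoImplicit false

namespace Cfsg.Agent.Lib.Helper3.SpT

open Matrix Module
open scoped Kronecker
open Cfsg.Agent.Lib.Helper16.Tens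

variable {F : Type*} [Field F]

section forms
variable {κ : Type} [Fintype κ]

/-- the bilinear form with Gram matrix `J` -/
def bf (J : Matrix κ κ F) (x y : κ → F) : F := x ⬝ᵥ J *ᵥ y

theorem bf_add_left (J : Matrix κ κ F) (x x' y : κ → F) : bf J (x + x') y = bf J x y + bf J x' y := by
  unfold bf; rw [add_dotProduct]

theorem bf_add_right (J : Matrix κ κ F) (x y y' : κ → F) : bf J x (y + y') = bf J x y + bf J x y' := by
  unfold bf; rw [Matrix.mulVec_add, dotProduct_add]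

theorem bf_smul_left (J : Matrix κ κ F) (c : F) (x y : κ → F) : bf J (c • x) y = c * bf J x y := by
  unfold bf; rw [smul_dotProduct, smul_eq_mul]

theorem bf_smul_right (J : Matrix κ κ F) (c : F) (x y : κ → F) : bf J x (c • y) = c * bf J x y := by
  unfold bf; rw [Matrix.mulVec_smul, dotProduct_smul, smul_eq_mul]

theorem bf_neg_left (J : Matrix κ κ F) (x y : κ → F) : bf J (-x) y = - bf J x y := by
  unfold bf; rw [neg_dotProduct]

theorem bf_neg_right (J : Matrix κ κ F) (x y : κ → F) : bf J x (-y) = - bf J x y := by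
  unfold bf; rw [Matrix.mulVec_neg, dotProduct_neg]

theorem bf_sub_left (J : Matrix κ κ F) (x x' y : κ → F) : bf J (x - x') y = bf J x y - bf J x' y := by
  unfold bf; rw [sub_dotProduct]

theorem bf_sub_right (J : Matrix κ κ F) (x y y' : κ → F) : bf J x (y - y') = bf J x y - bf J x y' := by
  unfold bf; rw [Matrix.mulVec_sub, dotProduct_sub]

@[simp] theorem bf_zero_left (J : Matrix κ κ F) (y : κ → F) : bf J 0 y = 0 := by
  unfold bf; rw [zero_dotProduct]

@[simp] theorem bf_zero_right (J : Matrix κ κ F) (x : κ → F) : bf J x 0 = 0 := by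
  unfold bf; rw [Matrix.mulVec_zero, dotProduct_zero]

/-- a non-degenerate alternating Gram matrix -/
structure SympG (J : Matrix κ κ F) : Prop where
  alt : ∀ x, bf J x x = 0
  nondeg : ∀ x, (∀ y, bf J x y = 0) → x = 0

theorem SympG.skew {J : Matrix κ κ F} (hJ : SympG J) (x y : κ → F) : bf J x y = - bf J y x := by
  have h := hJ.alt (x + y)
  rw [bf_add_left, bf_add_right, bf_add_right, hJ.alt x, hJ.alt y] at h
  linear_combination h

theorem SympG.eq_zero_comm {J : Matrix κ κ F} (hJ : SympG J) {x y : κ → F} (h : bf J x y = 0) : bf J y x = 0 := by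
  rw [hJ.skew, h, neg_zero]

variable [DecidableEq κ]

/-- the rank-one operator `x ↦ f(x, w') w` -/
def E (J : Matrix κ κ F) (w w' : κ → F) : Matrix κ κ F := vecMulVec w (J *ᵥ w')

theorem E_mulVec (J : Matrix κ κ F) (w w' x : κ → F) : E J w w' *ᵥ x = bf J x w' • w := by
  funext i
  simp only [E, Matrix.mulVec, dotProduct, vecMulVec_apply, Pi.smul_apply, smul_eq_mul, bf]
  rw [Finset.sum_mul]
  apply Finset.sum_congr rfl
  intro j _
  ring

theorem mat_ext_mulVec {A B : Matrix κ κ F} (h : ∀ x, A *ᵥ x = B *ᵥ x) : A = B := by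
  ext i j
  have := congrFun (h (Pi.single j 1)) i
  rwa [mulVec_single_one, mulVec_single_one] at this

theorem E_mul_E (J : Matrix κ κ F) (w w' y y' : κ → F) : E J w w' * E J y y' = bf J y w' • E J w y' := by
  apply mat_ext_mulVec
  intro x
  rw [← Matrix.mulVec_mulVec, E_mulVec, E_mulVec, Matrix.smul_mulVec, E_mulVec, bf_smul_left, smul_smul,
    mul_comm]

/-- the `f`-adjoint of `C`: `f(C x, y) = f(x, C^* y)` -/
noncomputable def adj (J : Matrix κ κ F) (C : Matrix κ κ F) : Matrix κ κ F := J⁻¹ * Cᵀ * J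

end forms

section uni
variable {ι : Type} [Fintype ι] [DecidableEq ι]

/-- the unipotent element `1 + T`, `T² = 0` -/
def uni (T : Matrix ι ι F) (h : T * T = 0) : GL ι F where
  val := 1 + T
  inv := 1 - T
  val_inv := by
    rw [mul_sub, mul_one, add_mul, one_mul, h]
    abel
  inv_val := by
    rw [mul_add, mul_one, sub_mul, one_mul, h]
    abel

@[simp] theorem uni_val (T : Matrix ι ι F) (h : T * T = 0) : ((uni T h : GL ι F) : Matrix ι ι F) = 1 + T := rfl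

@[simp] theorem uni_inv_val (T : Matrix ι ι F) (h : T * T = 0) :
    (((uni T h)⁻¹ : GL ι F) : Matrix ι ι F) = 1 - T := rfl

end uni

variable {a b : ℕ} (J1 : Matrix (Fin a) (Fin a) F) (J2 : Matrix (Fin b) (Fin b) F)

/-- `C ⊗ E_{w,w'} + C^* ⊗ E_{w',w}` -/
noncomputable def TE (C : Matrix (Fin a) (Fin a) F) (w w' : Fin b → F) :
    Matrix (Fin a × Fin b) (Fin a × Fin b) F :=
  C ⊗ₖ E J2 w w' + adj J1 C ⊗ₖ E J2 w' w

theorem TE_sq (hJ2 : SympG J2) (C : Matrix (Fin a) (Fin a) F) (w w' : Fin b → F) (h : bf J2 w w' = 0) :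
    TE J1 J2 C w w' * TE J1 J2 C w w' = 0 := by
  unfold TE
  rw [add_mul, mul_add, mul_add, ← Matrix.mul_kronecker_mul, ← Matrix.mul_kronecker_mul,
    ← Matrix.mul_kronecker_mul, ← Matrix.mul_kronecker_mul, E_mul_E, E_mul_E, E_mul_E, E_mul_E,
    h, hJ2.eq_zero_comm h, hJ2.alt, hJ2.alt]
  simp

/-- the short root element `1 + C ⊗ E_{w,w'} + C^* ⊗ E_{w',w}`, `f₂(w,w') = 0` -/
noncomputable def gE (hJ2 : SympG J2) (C : Matrix (Fin a) (Fin a) F) (w w' : Fin b → F) (h : bf J2 w w' = 0) :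
    GL (Fin a × Fin b) F :=
  uni (TE J1 J2 C w w') (TE_sq J1 J2 hJ2 C w w' h)

theorem gE_val (hJ2 : SympG J2) (C : Matrix (Fin a) (Fin a) F) (w w' : Fin b → F) (h : bf J2 w w' = 0) :
    ((gE J1 J2 hJ2 C w w' h : GL (Fin a × Fin b) F) : Matrix (Fin a × Fin b) (Fin a × Fin b) F) =
      1 + TE J1 J2 C w w' := rfl

theorem gE_inv_val (hJ2 : SympG J2) (C : Matrix (Fin a) (Fin a) F) (w w' : Fin b → F) (h : bf J2 w w' = 0) :
    (((gE J1 J2 hJ2 C w w' h)⁻¹ : GL (Fin a × Fin b) F) : Matrix (Fin a × Fin b) (Fin a × Fin b) F) =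
      1 - TE J1 J2 C w w' := rfl

theorem zA_sq (hJ2 : SympG J2) (α : Matrix (Fin a) (Fin a) F) (k : Fin b → F) :
    (α ⊗ₖ E J2 k k) * (α ⊗ₖ E J2 k k) = 0 := by
  rw [← Matrix.mul_kronecker_mul, E_mul_E, hJ2.alt]
  simp

/-- the long root element `1 + α ⊗ E_{k,k}` -/
def zA (hJ2 : SympG J2) (α : Matrix (Fin a) (Fin a) F) (k : Fin b → F) : GL (Fin a × Fin b) F :=
  uni (α ⊗ₖ E J2 k k) (zA_sq J2 hJ2 α k)

theorem zA_val (hJ2 : SympG J2) (α : Matrix (Fin a) (Fin a) F) (k : Fin b → F) :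
    ((zA J2 hJ2 α k : GL (Fin a × Fin b) F) : Matrix (Fin a × Fin b) (Fin a × Fin b) F) =
      1 + α ⊗ₖ E J2 k k := rfl

/-- `1 ⊗ t_k(c)`, `t_k(c) : x ↦ x + c f₂(x,k) k` -/
def rootW (hJ2 : SympG J2) (k : Fin b → F) (c : F) : GL (Fin a × Fin b) F :=
  zA J2 hJ2 (c • (1 : Matrix (Fin a) (Fin a) F)) k

theorem rootU_sq (hJ1 : SympG J1) (u : Fin a → F) (c : F) :
    ((c • E J1 u u) ⊗ₖ (1 : Matrix (Fin b) (Fin b) F)) * ((c • E J1 u u) ⊗ₖ (1 : Matrix (Fin b) (Fin b) F)) = 0 := by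
  rw [← Matrix.mul_kronecker_mul, Matrix.smul_mul, Matrix.mul_smul, E_mul_E, hJ1.alt]
  simp

/-- `t_u(c) ⊗ 1`, `t_u(c) : x ↦ x + c f₁(x,u) u` -/
def rootU (hJ1 : SympG J1) (u : Fin a → F) (c : F) : GL (Fin a × Fin b) F :=
  uni ((c • E J1 u u) ⊗ₖ (1 : Matrix (Fin b) (Fin b) F)) (rootU_sq J1 hJ1 u c)

theorem rootU_val (hJ1 : SympG J1) (u : Fin a → F) (c : F) :
    ((rootU (b := b) J1 hJ1 u c : GL (Fin a × Fin b) F) : Matrix (Fin a × Fin b) (Fin a × Fin b) F) =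
      1 + (c • E J1 u u) ⊗ₖ (1 : Matrix (Fin b) (Fin b) F) := rfl

/-- the standard totally singular subspace `U ⊗ k` -/
def Lk (k : Fin b → F) : Submodule F (Fin a × Fin b → F) := LinearMap.range (purL (F := F) (a := a) k)

/-- `U ⊗ k^⊥` -/
def Pk (k : Fin b → F) : Submodule F (Fin a × Fin b → F) := hyp (a := a) (J2 *ᵥ k)

/-- `z` lies in the "unipotent radical" of the stabiliser of `U ⊗ k`: trivial on `U ⊗ k` and on `U ⊗ k^⊥ / U ⊗ k` -/
structure InRad (k : Fin b → F) (z : GL (Fin a × Fin b) F) : Prop where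
  fixL : ∀ x ∈ Lk (F := F) (a := a) k, act z x = x
  modL : ∀ x ∈ Pk (a := a) J2 k, act z x - x ∈ Lk (F := F) (a := a) k

/-- the standing hypotheses -/
structure Setup (Q : QuadraticForm F (Fin a × Fin b → F)) : Prop where
  h1 : SympG J1
  h2 : SympG J2
  polar : ∀ x y, QuadraticMap.polar (⇑Q) x y = bf (J1 ⊗ₖ J2) x y
  pure : ∀ (u : Fin a → F) (w : Fin b → F), Q (pur u w) = 0

/-- `N0 ⊓ Ω ≤ M ≤ Ω` -/
structure Over (Q : QuadraticForm F (Fin a × Fin b → F)) (M : Subgroup (GL (Fin a × Fin b) F)) : Prop where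
  le_Om : M ≤ Cfsg.Geo.omegaGL (⇑Q)
  kron_mem : ∀ g : GL (Fin a × Fin b) F, g ∈ Cfsg.Geo.kroneckerSubgroup a b F →
    g ∈ Cfsg.Geo.omegaGL (⇑Q) → g ∈ M

/-- `C` is a scalar matrix -/
def IsScal (C : Matrix (Fin a) (Fin a) F) : Prop := ∃ c : F, C = c • (1 : Matrix (Fin a) (Fin a) F)

end Cfsg.Agent.Lib.Helper3.SpT
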