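import Mathlib
import Cfsg.Agent.Lib.Helper3.SpTDefs

set_option autoImplicit false

namespace Cfsg.Agent.Lib.Helper3.SpT

open Matrix Module QuadraticMap
open scoped Kronecker commutatorElement
open Cfsg.Agent.Lib.Helper16.Tens
open Cfsg.Agent.Lib.Helper23.S5637T3b (kronGL)

variable {F : Type*} [Field F]

section forms
variable {κ : Type} [Fintype κ] [DecidableEq κ] {J : Matrix κ κ F}

theorem bf_single_single (J : Matrix κ κ F) (i j : κ) : bf J (Pi.single i 1) (Pi.single j 1) = J i j := by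
  unfold bf
  rw [single_one_dotProduct, mulVec_single_one]
  rfl

theorem SympG.isUnit_det (hJ : SympG J) : IsUnit J.det := by
  rw [← Matrix.isUnit_iff_isUnit_det, ← Matrix.mulVec_injective_iff_isUnit]
  intro x y hxy
  have h : ∀ z, bf J (x - y) z = 0 := by
    intro z
    rw [hJ.skew]
    unfold bf
    rw [Matrix.mulVec_sub, hxy, sub_self, dotProduct_zero, neg_zero]
  exact sub_eq_zero.mp (hJ.nondeg _ h)

theorem SympG.nondeg_right (hJ : SympG J) (y : κ → F) (h : ∀ x, bf J x y = 0) : y = 0 :=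
  hJ.nondeg y (fun x => by rw [hJ.skew, h, neg_zero])

theorem bf_mulVec_left (J C : Matrix κ κ F) (x y : κ → F) : bf J (C *ᵥ x) y = x ⬝ᵥ (Cᵀ * J) *ᵥ y := by
  unfold bf
  rw [← Matrix.mulVec_mulVec, Matrix.dotProduct_mulVec x Cᵀ, Matrix.vecMul_transpose]

theorem bf_mulVec_right (J D : Matrix κ κ F) (x y : κ → F) : bf J x (D *ᵥ y) = x ⬝ᵥ (J * D) *ᵥ y := by
  unfold bf
  rw [Matrix.mulVec_mulVec]

theorem eq_of_dot_mulVec {A B : Matrix κ κ F} (h : ∀ x y : κ → F, x ⬝ᵥ A *ᵥ y = x ⬝ᵥ B *ᵥ y) : A = B := by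
  ext i j
  have := h (Pi.single i 1) (Pi.single j 1)
  rwa [single_one_dotProduct, mulVec_single_one, single_one_dotProduct, mulVec_single_one] at this

/-- `f(Cx, y) = f(x, C^* y)` -/
theorem bf_adj (hJ : SympG J) (C : Matrix κ κ F) (x y : κ → F) :
    bf J (C *ᵥ x) y = bf J x (adj J C *ᵥ y) := by
  rw [bf_mulVec_left, bf_mulVec_right, adj, ← mul_assoc, ← mul_assoc, Matrix.mul_nonsing_inv _ hJ.isUnit_det, one_mul]

/-- the adjoint is characterised by `f(Cx, y) = f(x, D y)` -/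
theorem adj_unique (hJ : SympG J) (C D : Matrix κ κ F)
    (h : ∀ x y, bf J (C *ᵥ x) y = bf J x (D *ᵥ y)) : adj J C = D := by
  have h1 : J * adj J C = J * D := by
    apply eq_of_dot_mulVec
    intro x y
    rw [← bf_mulVec_right, ← bf_mulVec_right, ← bf_adj hJ, h]
  have h2 := congrArg (fun X => J⁻¹ * X) h1
  simp only [← mul_assoc, Matrix.nonsing_inv_mul _ hJ.isUnit_det, one_mul] at h2
  exact h2

theorem adj_adj (hJ : SympG J) (C : Matrix κ κ F) : adj J (adj J C) = C := by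
  apply adj_unique hJ
  intro x y
  rw [hJ.skew, ← bf_adj hJ, hJ.skew, neg_neg]

theorem adj_mul (hJ : SympG J) (C D : Matrix κ κ F) : adj J (C * D) = adj J D * adj J C := by
  apply adj_unique hJ
  intro x y
  rw [← Matrix.mulVec_mulVec, bf_adj hJ, bf_adj hJ, Matrix.mulVec_mulVec]

theorem adj_add (C D : Matrix κ κ F) : adj J (C + D) = adj J C + adj J D := by
  unfold adj
  rw [Matrix.transpose_add, mul_add, add_mul]

theorem adj_neg (C : Matrix κ κ F) : adj J (-C) = - adj J C := by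
  unfold adj
  rw [Matrix.transpose_neg, mul_neg, neg_mul]

theorem adj_smul (c : F) (C : Matrix κ κ F) : adj J (c • C) = c • adj J C := by
  unfold adj
  rw [Matrix.transpose_smul, Matrix.mul_smul, Matrix.smul_mul]

theorem adj_one (hJ : SympG J) : adj J (1 : Matrix κ κ F) = 1 := by
  apply adj_unique hJ
  intro x y
  rw [Matrix.one_mulVec, Matrix.one_mulVec]

/-- `E_{u,u'}^* = - E_{u',u}` -/
theorem adj_E (hJ : SympG J) (u u' : κ → F) : adj J (E J u u') = - E J u' u := by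
  apply adj_unique hJ
  intro x y
  rw [E_mulVec, Matrix.neg_mulVec, E_mulVec, bf_smul_left, bf_neg_right, bf_smul_right, hJ.skew u y]
  ring

theorem E_add_left (w y w' : κ → F) : E J (w + y) w' = E J w w' + E J y w' := by
  apply mat_ext_mulVec
  intro x
  rw [Matrix.add_mulVec, E_mulVec, E_mulVec, E_mulVec, smul_add]

theorem E_add_right (w w' y' : κ → F) : E J w (w' + y') = E J w w' + E J w y' := by
  apply mat_ext_mulVec
  intro x
  rw [Matrix.add_mulVec, E_mulVec, E_mulVec, E_mulVec, bf_add_right, add_smul]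

theorem E_smul_left (c : F) (w w' : κ → F) : E J (c • w) w' = c • E J w w' := by
  apply mat_ext_mulVec
  intro x
  rw [Matrix.smul_mulVec, E_mulVec, E_mulVec, smul_comm]

theorem E_smul_right (c : F) (w w' : κ → F) : E J w (c • w') = c • E J w w' := by
  apply mat_ext_mulVec
  intro x
  rw [Matrix.smul_mulVec, E_mulVec, E_mulVec, bf_smul_right, mul_smul]

/-- isometries of `bf J` conjugate `E`: `β E_{w,w'} β⁻¹ = E_{βw,βw'}` -/
theorem conj_E (β : GL κ F) (hβ : ∀ x y, bf J ((β : Matrix κ κ F) *ᵥ x) ((β : Matrix κ κ F) *ᵥ y) = bf J x y)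
    (w w' : κ → F) :
    (β : Matrix κ κ F) * E J w w' * ((β⁻¹ : GL κ F) : Matrix κ κ F) =
      E J ((β : Matrix κ κ F) *ᵥ w) ((β : Matrix κ κ F) *ᵥ w') := by
  apply mat_ext_mulVec
  intro x
  rw [← Matrix.mulVec_mulVec, ← Matrix.mulVec_mulVec, E_mulVec, E_mulVec, Matrix.mulVec_smul]
  congr 1
  rw [← hβ, Matrix.mulVec_mulVec, ← Units.val_mul, mul_inv_cancel, Units.val_one, Matrix.one_mulVec]

/-- isometries of `bf J` commute with the adjoint: `(β C β⁻¹)^* = β C^* β⁻¹` -/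
theorem adj_conj (hJ : SympG J) (β : GL κ F)
    (hβ : ∀ x y, bf J ((β : Matrix κ κ F) *ᵥ x) ((β : Matrix κ κ F) *ᵥ y) = bf J x y) (C : Matrix κ κ F) :
    adj J ((β : Matrix κ κ F) * C * ((β⁻¹ : GL κ F) : Matrix κ κ F)) =
      (β : Matrix κ κ F) * adj J C * ((β⁻¹ : GL κ F) : Matrix κ κ F) := by
  apply adj_unique hJ
  intro x y
  have hinv : ∀ v, (β : Matrix κ κ F) *ᵥ (((β⁻¹ : GL κ F) : Matrix κ κ F) *ᵥ v) = v := by
    intro v
    rw [Matrix.mulVec_mulVec, ← Units.val_mul, mul_inv_cancel, Units.val_one, Matrix.one_mulVec]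
  rw [← Matrix.mulVec_mulVec, ← Matrix.mulVec_mulVec, ← Matrix.mulVec_mulVec, ← Matrix.mulVec_mulVec]
  conv_lhs => rw [← hinv y]
  rw [hβ, bf_adj hJ]
  conv_rhs => rw [← hinv x]
  rw [hβ]

/-- every functional is represented: `f(x, d) = x ⬝ᵥ φ` -/
theorem exists_dual_vec (hJ : SympG J) (φ : κ → F) : ∃ d : κ → F, ∀ x, bf J x d = x ⬝ᵥ φ := by
  refine ⟨J⁻¹ *ᵥ φ, fun x => ?_⟩
  unfold bf
  rw [Matrix.mulVec_mulVec, Matrix.mul_nonsing_inv _ hJ.isUnit_det, Matrix.one_mulVec]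

end forms

end Cfsg.Agent.Lib.Helper3.SpT
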