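import Mathlib
import Cfsg.Agent.Lib.Helper3.SpTDefs
import Cfsg.Agent.Lib.Helper3.SpTL1a

set_option autoImplicit false

namespace Cfsg.Agent.Lib.Helper3.SpT

open Matrix Module QuadraticMap
open scoped Kronecker commutatorElement
open Cfsg.Agent.Lib.Helper16.Tens
open Cfsg.Agent.Lib.Helper23.S5637T3b (kronGL kronGL_val)

variable {F : Type*} [Field F]
variable {a b : ℕ} {J1 : Matrix (Fin a) (Fin a) F} {J2 : Matrix (Fin b) (Fin b) F}
  {Q : QuadraticForm F (Fin a × Fin b → F)}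

theorem dot_pur (v : Fin a × Fin b → F) (x : Fin a → F) (ψ : Fin b → F) :
    v ⬝ᵥ pur x ψ = ctr ψ v ⬝ᵥ x := by
  simp only [dotProduct, Fintype.sum_prod_type, pur_apply, ctr_apply, Finset.sum_mul]
  apply Finset.sum_congr rfl
  intro i _
  apply Finset.sum_congr rfl
  intro j _
  ring

/-- the tensor form on pure tensors -/
theorem bf_kron_pur (u u' : Fin a → F) (w w' : Fin b → F) :
    bf (J1 ⊗ₖ J2) (pur u w) (pur u' w') = bf J1 u u' * bf J2 w w' := by
  unfold bf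
  rw [kron_mulVec_pur, dot_pur, ctr_pur, smul_dotProduct, smul_eq_mul, mul_comm]

/-- `B(v, u' ⊗ k) = f₁(c_k(v), u')`, `c_k = ctr (J2 *ᵥ k)` the contraction with `f₂(·, k)` -/
theorem bf_kron_pur_right (v : Fin a × Fin b → F) (u' : Fin a → F) (k : Fin b → F) :
    bf (J1 ⊗ₖ J2) v (pur u' k) = bf J1 (ctr (J2 *ᵥ k) v) u' := by
  unfold bf
  rw [kron_mulVec_pur, dot_pur]

theorem ctr_J_pur (k : Fin b → F) (u : Fin a → F) (x : Fin b → F) :
    ctr (J2 *ᵥ k) (pur u x) = bf J2 x k • u := by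
  rw [ctr_pur]
  rfl

theorem Setup.polar_pur (hS : Setup J1 J2 Q) (u u' : Fin a → F) (w w' : Fin b → F) :
    QuadraticMap.polar (⇑Q) (pur u w) (pur u' w') = bf J1 u u' * bf J2 w w' := by
  rw [hS.polar, bf_kron_pur]

theorem Setup.nondeg (hS : Setup J1 J2 Q) : (polarBilin Q).Nondegenerate := by
  have hK : IsUnit (J1 ⊗ₖ J2).det := by
    rw [Matrix.det_kronecker]
    exact (hS.h1.isUnit_det.pow _).mul (hS.h2.isUnit_det.pow _)
  constructor
  · intro x hx
    have h1 : ∀ y, x ᵥ* (J1 ⊗ₖ J2) ⬝ᵥ y = 0 := by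
      intro y
      have := hx y
      rw [polarBilin_apply_apply, hS.polar] at this
      unfold bf at this
      rwa [Matrix.dotProduct_mulVec] at this
    have h2 : x ᵥ* (J1 ⊗ₖ J2) = 0 := by
      funext p
      have := h1 (Pi.single p 1)
      rwa [dotProduct_single_one] at this
    have h3 := congrArg (fun z => z ᵥ* (J1 ⊗ₖ J2)⁻¹) h2
    simp only [Matrix.vecMul_vecMul, Matrix.mul_nonsing_inv _ hK, Matrix.vecMul_one, Matrix.zero_vecMul] at h3
    exact h3
  · intro y hy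
    have h1 : ∀ x : Fin a × Fin b → F, x ⬝ᵥ (J1 ⊗ₖ J2) *ᵥ y = 0 := by
      intro x
      have := hy x
      rwa [polarBilin_apply_apply, hS.polar] at this
    have h2 : (J1 ⊗ₖ J2) *ᵥ y = 0 := by
      funext p
      have := h1 (Pi.single p 1)
      rwa [single_one_dotProduct] at this
    have h3 := congrArg (fun z => (J1 ⊗ₖ J2)⁻¹ *ᵥ z) h2
    simp only [Matrix.mulVec_mulVec, Matrix.nonsing_inv_mul _ hK, Matrix.one_mulVec, Matrix.mulVec_zero] at h3
    exact h3

/-- every vector is a sum of pure tensors `∑ⱼ (v(·,j)) ⊗ eⱼ` -/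
theorem eq_sum_pur (v : Fin a × Fin b → F) :
    v = ∑ j : Fin b, pur (fun i => v (i, j)) (Pi.single j 1) := by
  funext ⟨i, j0⟩
  rw [Finset.sum_apply]
  simp only [pur_apply]
  rw [Finset.sum_eq_single j0]
  · simp
  · intro j _ hj
    simp [Ne.symm hj]
  · simp

/-- induction principle: a property closed under `+` holding for pure tensors holds for all vectors -/
theorem pur_induction {p : (Fin a × Fin b → F) → Prop} (h0 : p 0) (hadd : ∀ x y, p x → p y → p (x + y))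
    (hpur : ∀ (u : Fin a → F) (w : Fin b → F), p (pur u w)) (v : Fin a × Fin b → F) : p v := by
  rw [eq_sum_pur v]
  classical
  apply Finset.sum_induction _ p hadd h0
  intro j _
  exact hpur _ _

theorem mem_iso_iff (g : GL (Fin a × Fin b) F) :
    g ∈ Cfsg.isometryGroup F (⇑Q) ↔ ∀ x, Q (act g x) = Q x :=
  ⟨fun h x => h x x, fun h u _ => h u⟩

/-- criterion for membership in the isometry group -/
theorem Setup.mem_iso_of (hS : Setup J1 J2 Q) (g : GL (Fin a × Fin b) F)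
    (hpol : ∀ x y, bf (J1 ⊗ₖ J2) (act g x) (act g y) = bf (J1 ⊗ₖ J2) x y)
    (hpure : ∀ (u : Fin a → F) (w : Fin b → F), Q (act g (pur u w)) = 0) :
    g ∈ Cfsg.isometryGroup F (⇑Q) := by
  rw [mem_iso_iff]
  intro x
  refine pur_induction (p := fun x => Q (act g x) = Q x) ?_ ?_ ?_ x
  · simp
  · intro x y hx hy
    have h1 : Q (act g x + act g y) = Q (act g x) + Q (act g y) + QuadraticMap.polar (⇑Q) (act g x) (act g y) := by
      unfold QuadraticMap.polar; ring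
    have h2 : Q (x + y) = Q x + Q y + QuadraticMap.polar (⇑Q) x y := by
      unfold QuadraticMap.polar; ring
    rw [map_add, h1, h2, hx, hy, hS.polar, hS.polar, hpol]
  · intro u w
    rw [hpure, hS.pure]

theorem Setup.polar_act (hS : Setup J1 J2 Q) (g : GL (Fin a × Fin b) F) (hg : g ∈ Cfsg.isometryGroup F (⇑Q))
    (x y : Fin a × Fin b → F) : bf (J1 ⊗ₖ J2) (act g x) (act g y) = bf (J1 ⊗ₖ J2) x y := by
  rw [mem_iso_iff] at hg
  rw [← hS.polar, ← hS.polar]
  unfold QuadraticMap.polar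
  rw [← map_add, hg, hg, hg]

theorem kron_E_mulVec (C : Matrix (Fin a) (Fin a) F) (w w' : Fin b → F) (v : Fin a × Fin b → F) :
    (C ⊗ₖ E J2 w w') *ᵥ v = pur (C *ᵥ ctr (J2 *ᵥ w') v) w := by
  refine pur_induction (p := fun v => (C ⊗ₖ E J2 w w') *ᵥ v = pur (C *ᵥ ctr (J2 *ᵥ w') v) w) ?_ ?_ ?_ v
  · simp
  · intro x y hx hy
    rw [Matrix.mulVec_add, hx, hy, map_add, Matrix.mulVec_add, pur_add_left]
  · intro u x
    rw [kron_mulVec_pur, E_mulVec, ctr_J_pur, pur_smul_right, Matrix.mulVec_smul, pur_smul_left]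

/-- action of the root elements on arbitrary vectors, via contractions -/
theorem act_gE' (hJ2 : SympG J2) (C : Matrix (Fin a) (Fin a) F) (w w' : Fin b → F) (h : bf J2 w w' = 0)
    (v : Fin a × Fin b → F) :
    act (gE J1 J2 hJ2 C w w' h) v =
      v + pur (C *ᵥ ctr (J2 *ᵥ w') v) w + pur (adj J1 C *ᵥ ctr (J2 *ᵥ w) v) w' := by
  rw [act_apply, gE_val, TE, Matrix.add_mulVec, Matrix.add_mulVec, Matrix.one_mulVec, kron_E_mulVec,
    kron_E_mulVec, add_assoc]

/-- action of the root elements on pure tensors -/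
theorem act_gE (hJ2 : SympG J2) (C : Matrix (Fin a) (Fin a) F) (w w' : Fin b → F) (h : bf J2 w w' = 0)
    (u : Fin a → F) (x : Fin b → F) :
    act (gE J1 J2 hJ2 C w w' h) (pur u x) =
      pur u x + bf J2 x w' • pur (C *ᵥ u) w + bf J2 x w • pur (adj J1 C *ᵥ u) w' := by
  rw [act_gE', ctr_J_pur, ctr_J_pur, Matrix.mulVec_smul, Matrix.mulVec_smul, pur_smul_left, pur_smul_left]

theorem act_zA (hJ2 : SympG J2) (α : Matrix (Fin a) (Fin a) F) (k : Fin b → F) (v : Fin a × Fin b → F) :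
    act (zA J2 hJ2 α k) v = v + pur (α *ᵥ ctr (J2 *ᵥ k) v) k := by
  rw [act_apply, zA_val, Matrix.add_mulVec, Matrix.one_mulVec, kron_E_mulVec]

theorem act_rootW (hJ2 : SympG J2) (k : Fin b → F) (c : F) (u : Fin a → F) (x : Fin b → F) :
    act (rootW (a := a) J2 hJ2 k c) (pur u x) = pur u (x + (c * bf J2 x k) • k) := by
  unfold rootW
  rw [act_zA, ctr_J_pur, Matrix.smul_mulVec, Matrix.one_mulVec, smul_smul, pur_add_right, pur_smul_right,
    pur_smul_left]

theorem act_rootU (hJ1 : SympG J1) (u : Fin a → F) (c : F) (y : Fin a → F) (x : Fin b → F) :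
    act (rootU (b := b) J1 hJ1 u c) (pur y x) = pur (y + (c * bf J1 y u) • u) x := by
  rw [act_apply, rootU_val, Matrix.add_mulVec, Matrix.one_mulVec, kron_mulVec_pur, Matrix.one_mulVec,
    Matrix.smul_mulVec, E_mulVec, smul_smul, pur_add_left]

theorem act_kronGL (A : GL (Fin a) F) (B : GL (Fin b) F) (u : Fin a → F) (x : Fin b → F) :
    act (kronGL A B) (pur u x) = pur ((A : Matrix (Fin a) (Fin a) F) *ᵥ u) ((B : Matrix (Fin b) (Fin b) F) *ᵥ x) := by
  rw [act_apply, kronGL_val, kron_mulVec_pur]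

theorem one_add_kron (T : Matrix (Fin b) (Fin b) F) :
    (1 : Matrix (Fin a × Fin b) (Fin a × Fin b) F) + (1 : Matrix (Fin a) (Fin a) F) ⊗ₖ T =
      (1 : Matrix (Fin a) (Fin a) F) ⊗ₖ (1 + T) := by
  rw [Matrix.kronecker_add, Matrix.one_kronecker_one]

/-- the root elements of `N0` -/
theorem gE_smul_one_mem_kron (hJ1 : SympG J1) (hJ2 : SympG J2) (c : F) (w w' : Fin b → F) (h : bf J2 w w' = 0) :
    gE J1 J2 hJ2 (c • (1 : Matrix (Fin a) (Fin a) F)) w w' h ∈ Cfsg.Geo.kroneckerSubgroup a b F := by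
  have hsq : (c • (E J2 w w' + E J2 w' w)) * (c • (E J2 w w' + E J2 w' w)) = 0 := by
    rw [Matrix.smul_mul, Matrix.mul_smul, add_mul, mul_add, mul_add, E_mul_E, E_mul_E, E_mul_E, E_mul_E, h,
      hJ2.eq_zero_comm h, hJ2.alt, hJ2.alt]
    simp
  rw [mem_kron_iff]
  refine ⟨1, uni _ hsq, ?_⟩
  rw [gE_val, TE, adj_smul, adj_one hJ1, Units.val_one, uni_val, ← one_add_kron,
    Matrix.smul_kronecker, Matrix.smul_kronecker, ← smul_add, ← Matrix.kronecker_add, Matrix.kronecker_smul]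

theorem rootW_mem_kron (hJ2 : SympG J2) (k : Fin b → F) (c : F) :
    rootW (a := a) J2 hJ2 k c ∈ Cfsg.Geo.kroneckerSubgroup a b F := by
  have hsq : (c • E J2 k k) * (c • E J2 k k) = 0 := by
    rw [Matrix.smul_mul, Matrix.mul_smul, E_mul_E, hJ2.alt]
    simp
  rw [mem_kron_iff]
  refine ⟨1, uni _ hsq, ?_⟩
  unfold rootW
  rw [zA_val, Units.val_one, uni_val, ← one_add_kron, Matrix.smul_kronecker, Matrix.kronecker_smul]

theorem rootU_mem_kron (hJ1 : SympG J1) (u : Fin a → F) (c : F) :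
    rootU (b := b) J1 hJ1 u c ∈ Cfsg.Geo.kroneckerSubgroup a b F := by
  have hsq : (c • E J1 u u) * (c • E J1 u u) = 0 := by
    rw [Matrix.smul_mul, Matrix.mul_smul, E_mul_E, hJ1.alt]
    simp
  rw [mem_kron_iff]
  refine ⟨uni _ hsq, 1, ?_⟩
  rw [rootU_val, Units.val_one, uni_val, Matrix.add_kronecker, Matrix.one_kronecker_one]

/-- `Lk`, `Pk` -/
theorem mem_Lk_iff (k : Fin b → F) (v : Fin a × Fin b → F) : v ∈ Lk (F := F) (a := a) k ↔ ∃ u, v = pur u k := by
  unfold Lk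
  rw [LinearMap.mem_range]
  constructor
  · rintro ⟨u, rfl⟩
    exact ⟨u, rfl⟩
  · rintro ⟨u, rfl⟩
    exact ⟨u, rfl⟩

theorem pur_mem_Lk (u : Fin a → F) (k : Fin b → F) : pur u k ∈ Lk (F := F) (a := a) k :=
  (mem_Lk_iff k _).mpr ⟨u, rfl⟩

theorem mem_Pk_iff (k : Fin b → F) (v : Fin a × Fin b → F) : v ∈ Pk (a := a) J2 k ↔ ctr (J2 *ᵥ k) v = 0 :=
  mem_hyp_iff _ _

theorem pur_mem_Pk (u : Fin a → F) {k x : Fin b → F} (h : bf J2 x k = 0) : pur u x ∈ Pk (a := a) J2 k := by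
  rw [mem_Pk_iff, ctr_J_pur, h, zero_smul]

/-- `Pk k = (Lk k)^⊥` -/
theorem mem_Pk_iff_perp (hJ1 : SympG J1) (k : Fin b → F) (v : Fin a × Fin b → F) :
    v ∈ Pk (a := a) J2 k ↔ ∀ u : Fin a → F, bf (J1 ⊗ₖ J2) v (pur u k) = 0 := by
  rw [mem_Pk_iff]
  constructor
  · intro h u
    rw [bf_kron_pur_right, h, bf_zero_left]
  · intro h
    apply hJ1.nondeg
    intro u
    rw [← bf_kron_pur_right]
    exact h u

theorem Lk_le_Pk (hJ2 : SympG J2) (k : Fin b → F) : Lk (F := F) (a := a) k ≤ Pk (a := a) J2 k := by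
  intro v hv
  obtain ⟨u, rfl⟩ := (mem_Lk_iff k v).mp hv
  exact pur_mem_Pk u (hJ2.alt k)

theorem finrank_Lk {k : Fin b → F} (hk : k ≠ 0) : finrank F (Lk (F := F) (a := a) k) = a := by
  unfold Lk
  rw [LinearMap.finrank_range_of_inj (purL_injective hk), Module.finrank_fintype_fun_eq_card, Fintype.card_fin]

theorem J_mulVec_ne_zero (hJ2 : SympG J2) {k : Fin b → F} (hk : k ≠ 0) : J2 *ᵥ k ≠ 0 := by
  intro h
  apply hk
  apply hJ2.nondeg_right
  intro x
  unfold bf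
  rw [h, dotProduct_zero]

theorem finrank_Pk (hJ2 : SympG J2) {k : Fin b → F} (hk : k ≠ 0) : finrank F (Pk (a := a) J2 k) + a = a * b :=
  finrank_hyp (J_mulVec_ne_zero hJ2 hk)

end Cfsg.Agent.Lib.Helper3.SpT
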