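import Mathlib
import Cfsg.Agent.Lib.Helper3.SpTDefs
import Cfsg.Agent.Lib.Helper3.SpTL1a
import Cfsg.Agent.Lib.Helper3.SpTL1b

set_option autoImplicit false

namespace Cfsg.Agent.Lib.Helper3.SpT

open Matrix Module QuadraticMap
open scoped Kronecker commutatorElement
open Cfsg.Agent.Lib.Helper16.Tens
open Cfsg.Agent.Lib.Helper23.S5637T3b (kronGL kronGL_val)

variable {F : Type*} [Field F]
variable {a b : ℕ} {J1 : Matrix (Fin a) (Fin a) F} {J2 : Matrix (Fin b) (Fin b) F}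
  {Q : QuadraticForm F (Fin a × Fin b → F)}

/-- isometries stabilising `Lk k` stabilise `Pk k` -/
theorem Setup.img_Pk (hS : Setup J1 J2 Q) (g : GL (Fin a × Fin b) F) (hg : g ∈ Cfsg.isometryGroup F (⇑Q))
    (k k' : Fin b → F) (h : img g (Lk k) = Lk k') : img g (Pk J2 k) = Pk J2 k' := by
  have hginv : g⁻¹ ∈ Cfsg.isometryGroup F (⇑Q) := (Cfsg.isometryGroup F (⇑Q)).inv_mem hg
  ext v
  rw [mem_img_iff, mem_Pk_iff_perp hS.h1, mem_Pk_iff_perp hS.h1]
  constructor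
  · intro hv u
    have hmem : pur u k' ∈ img g (Lk k) := by rw [h]; exact pur_mem_Lk u k'
    rw [mem_img_iff, mem_Lk_iff] at hmem
    obtain ⟨u', hu'⟩ := hmem
    have := hv u'
    rw [← hu', hS.polar_act g⁻¹ hginv] at this
    exact this
  · intro hv u
    have hmem : act g (pur u k) ∈ Lk (F := F) (a := a) k' := by
      rw [← h, mem_img_iff, act_inv_act]
      exact pur_mem_Lk u k
    obtain ⟨u', hu'⟩ := (mem_Lk_iff _ _).mp hmem
    have := hv u'
    rw [← hu', ← hS.polar_act g⁻¹ hginv, act_inv_act] at this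
    exact this

/-- `Lk k = (Pk k)^⊥` -/
theorem mem_Lk_of_perp (hS : Setup J1 J2 Q) (k : Fin b → F) (hk : k ≠ 0) (v : Fin a × Fin b → F)
    (hv : ∀ x ∈ Pk (a := a) J2 k, bf (J1 ⊗ₖ J2) v x = 0) : v ∈ Lk (F := F) (a := a) k := by
  -- `ctr ψ v = 0` whenever `ψ ⬝ᵥ k = 0`
  have h1 : ∀ ψ : Fin b → F, ψ ⬝ᵥ k = 0 → ctr ψ v = 0 := by
    intro ψ hψ
    obtain ⟨d, hd⟩ := exists_dual_vec hS.h2 ψ
    have hdk : bf J2 d k = 0 := by
      rw [hS.h2.skew, hd, dotProduct_comm, hψ, neg_zero]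
    have hJd : J2 *ᵥ d = ψ := by
      funext j
      have := hd (Pi.single j 1)
      unfold bf at this
      rwa [single_one_dotProduct, single_one_dotProduct] at this
    apply hS.h1.nondeg
    intro u
    have := hv (pur u d) (pur_mem_Pk u hdk)
    rwa [bf_kron_pur_right, hJd] at this
  obtain ⟨j, hj⟩ : ∃ j, k j ≠ 0 := by
    by_contra hall; push Not at hall; exact hk (funext hall)
  set ψ0 : Fin b → F := Pi.single j (k j)⁻¹ with hψ0
  have hψ0k : ψ0 ⬝ᵥ k = 1 := by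
    rw [hψ0, single_dotProduct, inv_mul_cancel₀ hj]
  rw [mem_Lk_iff]
  refine ⟨ctr ψ0 v, ?_⟩
  -- all contractions of `v - pur (ctr ψ0 v) k` vanish
  have h2 : ∀ ψ : Fin b → F, ctr ψ (v - pur (ctr ψ0 v) k) = 0 := by
    intro ψ
    obtain ⟨c, hc⟩ : ∃ c, c = ψ ⬝ᵥ k := ⟨_, rfl⟩
    have h3 : ctr (ψ - c • ψ0) v = 0 := by
      apply h1
      rw [sub_dotProduct, smul_dotProduct, hψ0k, smul_eq_mul, mul_one, hc, sub_self]
    have h5 : ctr ψ v = c • ctr ψ0 v := by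
      have e : ψ = (ψ - c • ψ0) + c • ψ0 := by abel
      rw [e, ctr_add, h3, zero_add, ctr_smul]
    rw [map_sub, ctr_pur, dotProduct_comm k ψ, ← hc, h5, sub_self]
  have h4 : v - pur (ctr ψ0 v) k = 0 := by
    funext ⟨i, j'⟩
    have := congrFun (h2 (Pi.single j' 1)) i
    rw [ctr_apply] at this
    simp only [Pi.zero_apply] at this ⊢
    rw [Finset.sum_eq_single j'] at this
    · simpa using this
    · intro j'' _ hne
      simp [hne]
    · simp
  exact sub_eq_zero.mp h4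

/-- … and conversely -/
theorem Setup.img_Lk_of_Pk (hS : Setup J1 J2 Q) (g : GL (Fin a × Fin b) F) (hg : g ∈ Cfsg.isometryGroup F (⇑Q))
    (k k' : Fin b → F) (hk : k ≠ 0) (hk' : k' ≠ 0) (h : img g (Pk J2 k) = Pk J2 k') : img g (Lk k) = Lk k' := by
  have hginv : g⁻¹ ∈ Cfsg.isometryGroup F (⇑Q) := (Cfsg.isometryGroup F (⇑Q)).inv_mem hg
  have hle : img g (Lk k) ≤ Lk k' := by
    rintro _ ⟨x, hx, rfl⟩
    rw [LinearEquiv.coe_coe]
    apply mem_Lk_of_perp hS k' hk'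
    intro y hy
    rw [← h, mem_img_iff] at hy
    rw [← hS.polar_act g⁻¹ hginv, act_inv_act]
    obtain ⟨u, rfl⟩ := (mem_Lk_iff _ _).mp hx
    have := (mem_Pk_iff_perp hS.h1 k _).mp hy u
    -- symmetry of the tensor form
    have hsymm : ∀ p q : Fin a × Fin b → F, bf (J1 ⊗ₖ J2) p q = bf (J1 ⊗ₖ J2) q p := by
      intro p q
      rw [← hS.polar, ← hS.polar, QuadraticMap.polar_comm]
    rw [hsymm]
    exact this
  apply Submodule.eq_of_le_of_finrank_eq hle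
  rw [finrank_img, finrank_Lk hk, finrank_Lk hk']

/-- the root elements lie in the radical -/
theorem inRad_gE (hJ2 : SympG J2) (C : Matrix (Fin a) (Fin a) F) (k w : Fin b → F) (h : bf J2 k w = 0) :
    InRad J2 k (gE J1 J2 hJ2 C k w h) := by
  constructor
  · intro x hx
    obtain ⟨u, rfl⟩ := (mem_Lk_iff _ _).mp hx
    rw [act_gE, h, hJ2.alt, zero_smul, zero_smul, add_zero, add_zero]
  · intro x hx
    rw [mem_Pk_iff] at hx
    rw [act_gE', hx, Matrix.mulVec_zero, pur_zero_left, add_zero, add_sub_cancel_left]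
    exact pur_mem_Lk _ _

theorem inRad_zA (hJ2 : SympG J2) (α : Matrix (Fin a) (Fin a) F) (k : Fin b → F) :
    InRad (a := a) J2 k (zA J2 hJ2 α k) := by
  constructor
  · intro x hx
    obtain ⟨u, rfl⟩ := (mem_Lk_iff _ _).mp hx
    rw [act_zA, ctr_J_pur, hJ2.alt, zero_smul, Matrix.mulVec_zero, pur_zero_left, add_zero]
  · intro x hx
    rw [mem_Pk_iff] at hx
    rw [act_zA, hx, Matrix.mulVec_zero, pur_zero_left, add_zero, sub_self]
    exact Submodule.zero_mem _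

/-- isometries stabilising `Lk k` normalise the radical -/
theorem Setup.inRad_conj (hS : Setup J1 J2 Q) (m : GL (Fin a × Fin b) F) (hm : m ∈ Cfsg.isometryGroup F (⇑Q))
    (k : Fin b → F) (hst : img m (Lk k) = Lk k) (y : GL (Fin a × Fin b) F) (hy : InRad J2 k y) :
    InRad J2 k (m * y * m⁻¹) := by
  have hP := hS.img_Pk m hm k k hst
  constructor
  · intro x hx
    have hx' : act m⁻¹ x ∈ Lk (F := F) (a := a) k := by
      rw [← hst, mem_img_iff] at hx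
      exact hx
    rw [act_mul, act_mul, hy.fixL _ hx', act_act_inv]
  · intro x hx
    have hx' : act m⁻¹ x ∈ Pk (a := a) J2 k := by
      rw [← hP, mem_img_iff] at hx
      exact hx
    have h1 := hy.modL _ hx'
    have h2 : act m (act y (act m⁻¹ x) - act m⁻¹ x) ∈ Lk (F := F) (a := a) k := by
      rw [← hst]
      exact ⟨_, h1, rfl⟩
    rw [map_sub, act_act_inv] at h2
    rw [act_mul, act_mul]
    exact h2

/-- `Ω ≤ O(Q)` and `Ω` is normal in `O(Q)` -/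
theorem Om_le_iso : Cfsg.Geo.omegaGL (⇑Q) ≤ Cfsg.isometryGroup F (⇑Q) := by
  rintro _ ⟨x, _, rfl⟩
  exact x.2

theorem conj_mem_Om (g x : GL (Fin a × Fin b) F) (hg : g ∈ Cfsg.isometryGroup F (⇑Q))
    (hx : x ∈ Cfsg.Geo.omegaGL (⇑Q)) : g * x * g⁻¹ ∈ Cfsg.Geo.omegaGL (⇑Q) := by
  obtain ⟨x', hx', rfl⟩ := hx
  have hn : (Cfsg.Omega F (⇑Q)).Normal := by
    unfold Cfsg.Omega
    infer_instance
  have e : g * (Cfsg.isometryGroup F (⇑Q)).subtype x' * g⁻¹ =
      (Cfsg.isometryGroup F (⇑Q)).subtype ((⟨g, hg⟩ : Cfsg.isometryGroup F (⇑Q)) * x' * ⟨g, hg⟩⁻¹) := by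
    rw [map_mul, map_mul, map_inv]
    rfl
  rw [e]
  exact ⟨_, hn.conj_mem x' hx' ⟨g, hg⟩, rfl⟩

theorem commutator_mem_Om (g h : GL (Fin a × Fin b) F) (hg : g ∈ Cfsg.isometryGroup F (⇑Q))
    (hh : h ∈ Cfsg.isometryGroup F (⇑Q)) : ⁅g, h⁆ ∈ Cfsg.Geo.omegaGL (⇑Q) := by
  have e : ⁅g, h⁆ = (Cfsg.isometryGroup F (⇑Q)).subtype ⁅(⟨g, hg⟩ : Cfsg.isometryGroup F (⇑Q)), ⟨h, hh⟩⁆ := by
    rw [map_commutatorElement]
    rfl
  rw [e]
  exact ⟨_, Subgroup.commutator_mem_commutator (Subgroup.mem_top _) (Subgroup.mem_top _), rfl⟩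

end Cfsg.Agent.Lib.Helper3.SpT
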