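import Mathlib
import Cfsg.Agent.Lib.Helper3.SpTDefs
import Cfsg.Agent.Lib.Helper3.SpTL1a
import Cfsg.Agent.Lib.Helper3.SpTL1b
import Cfsg.Agent.Lib.Helper3.SpTL1c

/-!
# S5704, layer 1 (BASIC): elementary facts about the forms, the adjoint, the root elements, `Lk`, `Pk`.

All of layer 1 is PROVED (helper3): `SpTL1a` (forms: `SympG.isUnit_det`, `bf_adj`, `adj_*`, `E_*`, `conj_E`, `adj_conj`,
`exists_dual_vec`), `SpTL1b` (`bf_kron_pur`, `bf_kron_pur_right`, `ctr_J_pur`, `Setup.polar_pur`, `Setup.nondeg`, `eq_sum_pur`,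
`pur_induction`, `mem_iso_iff`, `Setup.mem_iso_of`, `Setup.polar_act`, `act_gE`, `act_gE'`, `act_zA`, `act_rootW`, `act_rootU`,
`act_kronGL`, `*_mem_kron`, `Lk`/`Pk` lemmas), `SpTL1c` (`Setup.img_Pk`, `mem_Lk_of_perp`, `Setup.img_Lk_of_Pk`, `inRad_*`,
`Setup.inRad_conj`, `Om_le_iso`, `conj_mem_Om`, `commutator_mem_Om`).  This file only re-exports them.
-/
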