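import Mathlib
import Cfsg.Agent.Lib.Helper3.SpTDefs
import Cfsg.Agent.Lib.Helper3.SpTL1
import Cfsg.Agent.Lib.Helper12.S5704FOCOMMa
import Cfsg.Agent.Lib.Helper29.S5704FOCOMMb
import Cfsg.Agent.Lib.Helper29.S5704FOEXIST
import Cfsg.Agent.Lib.Helper12.S5704FOISO
import Cfsg.Agent.Lib.Helper17.S5704FORING

/-!
# S5704, layer 2: ISO (root elements are isometries), COMMa (formal identities), COMMb (commutator formulas),
EXIST (vectors in the symplectic space `W`), RING (invariant subalgebras of `M_a(F)`).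
-/

set_option autoImplicit false

namespace Cfsg.Agent.Lib.Helper3.SpT

open Matrix Module QuadraticMap
open scoped Kronecker commutatorElement
open Cfsg.Agent.Lib.Helper16.Tens
open Cfsg.Agent.Lib.Helper23.S5637T3b (kronGL)

variable {F : Type*} [Field F] {a b : ℕ} {J1 : Matrix (Fin a) (Fin a) F} {J2 : Matrix (Fin b) (Fin b) F}
  {Q : QuadraticForm F (Fin a × Fin b → F)}

/-! ## FO-ISO -/

theorem gE_mem_iso (hS : Setup J1 J2 Q) (C : Matrix (Fin a) (Fin a) F) (w w' : Fin b → F) (h : bf J2 w w' = 0) :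
    gE J1 J2 hS.h2 C w w' h ∈ Cfsg.isometryGroup F (⇑Q) := by
  exact Cfsg.Agent.Lib.Helper12.S5704ISO.gE_mem_iso hS C w w' h

/-- `zA α k` is an isometry when `α = X + X^*` -/
theorem zA_mem_iso (hS : Setup J1 J2 Q) (X : Matrix (Fin a) (Fin a) F) (k : Fin b → F) :
    zA J2 hS.h2 (X + adj J1 X) k ∈ Cfsg.isometryGroup F (⇑Q) := by
  exact Cfsg.Agent.Lib.Helper12.S5704ISO.zA_mem_iso hS X k

theorem rootW_mem_iso (hS : Setup J1 J2 Q) (k : Fin b → F) (c : F) :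
    rootW (a := a) J2 hS.h2 k c ∈ Cfsg.isometryGroup F (⇑Q) := by
  exact Cfsg.Agent.Lib.Helper12.S5704ISO.rootW_mem_iso hS k c

theorem rootU_mem_iso (hS : Setup J1 J2 Q) (u : Fin a → F) (c : F) :
    rootU (b := b) J1 hS.h1 u c ∈ Cfsg.isometryGroup F (⇑Q) := by
  exact Cfsg.Agent.Lib.Helper12.S5704ISO.rootU_mem_iso hS u c

/-- Kronecker products of a `ν`-similitude of `f₁` and a `ν⁻¹`-similitude of `f₂` are isometries -/
theorem kronGL_mem_iso (hS : Setup J1 J2 Q) (A : GL (Fin a) F) (B : GL (Fin b) F) (ν : F) (hν : ν ≠ 0)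
    (hA : ∀ x y, bf J1 ((A : Matrix (Fin a) (Fin a) F) *ᵥ x) ((A : Matrix (Fin a) (Fin a) F) *ᵥ y) = ν * bf J1 x y)
    (hB : ∀ x y, bf J2 ((B : Matrix (Fin b) (Fin b) F) *ᵥ x) ((B : Matrix (Fin b) (Fin b) F) *ᵥ y) = ν⁻¹ * bf J2 x y) :
    kronGL A B ∈ Cfsg.isometryGroup F (⇑Q) := by
  exact Cfsg.Agent.Lib.Helper12.S5704ISO.kronGL_mem_iso hS A B ν hν hA hB

/-- an isometry trivial on `Pk k` is of the form `zA α k` with `α` self-adjoint (`k ≠ 0`) -/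
theorem eq_zA_of_fix_Pk (hS : Setup J1 J2 Q) (k : Fin b → F) (hk : k ≠ 0) (ζ : GL (Fin a × Fin b) F)
    (hζ : ζ ∈ Cfsg.isometryGroup F (⇑Q)) (hfix : ∀ x ∈ Pk (a := a) J2 k, act ζ x = x) :
    ∃ α : Matrix (Fin a) (Fin a) F, adj J1 α = α ∧ (∀ u, bf J1 u (α *ᵥ u) = 0) ∧ ζ = zA J2 hS.h2 α k := by
  exact Cfsg.Agent.Lib.Helper12.S5704ISO.eq_zA_of_fix_Pk hS k hk ζ hζ hfix

/-! ## FO-COMMa : formal identities -/

theorem gE_mul (hJ2 : SympG J2) (C C' : Matrix (Fin a) (Fin a) F) (w w' : Fin b → F) (h : bf J2 w w' = 0) :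
    gE J1 J2 hJ2 C w w' h * gE J1 J2 hJ2 C' w w' h = gE J1 J2 hJ2 (C + C') w w' h := by
  exact Cfsg.Agent.Lib.Helper12.S5704COMMa.gE_mul hJ2 C C' w w' h

theorem gE_inv (hJ2 : SympG J2) (C : Matrix (Fin a) (Fin a) F) (w w' : Fin b → F) (h : bf J2 w w' = 0) :
    (gE J1 J2 hJ2 C w w' h)⁻¹ = gE J1 J2 hJ2 (-C) w w' h := by
  exact Cfsg.Agent.Lib.Helper12.S5704COMMa.gE_inv hJ2 C w w' h

theorem gE_zero (hJ2 : SympG J2) (w w' : Fin b → F) (h : bf J2 w w' = 0) :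
    gE J1 J2 hJ2 (0 : Matrix (Fin a) (Fin a) F) w w' h = 1 := by
  exact Cfsg.Agent.Lib.Helper12.S5704COMMa.gE_zero hJ2 w w' h

theorem gE_swap (hJ1 : SympG J1) (hJ2 : SympG J2) (C : Matrix (Fin a) (Fin a) F) (w w' : Fin b → F)
    (h : bf J2 w w' = 0) :
    gE J1 J2 hJ2 C w w' h = gE J1 J2 hJ2 (adj J1 C) w' w (hJ2.eq_zero_comm h) := by
  exact Cfsg.Agent.Lib.Helper12.S5704COMMa.gE_swap hJ1 hJ2 C w w' h

theorem gE_congr (hJ2 : SympG J2) {C C' : Matrix (Fin a) (Fin a) F} {w w' y y' : Fin b → F}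
    (h : bf J2 w w' = 0) (h' : bf J2 y y' = 0) (hC : C = C') (hw : w = y) (hw' : w' = y') :
    gE J1 J2 hJ2 C w w' h = gE J1 J2 hJ2 C' y y' h' := by
  subst hC; subst hw; subst hw'; rfl

/-- scalars move between the three slots -/
theorem gE_smul_right (hJ2 : SympG J2) (C : Matrix (Fin a) (Fin a) F) (c : F) (w w' : Fin b → F)
    (h : bf J2 w w' = 0) (h' : bf J2 w (c • w') = 0) :
    gE J1 J2 hJ2 C w (c • w') h' = gE J1 J2 hJ2 (c • C) w w' h := by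
  exact Cfsg.Agent.Lib.Helper12.S5704COMMa.gE_smul_right hJ2 C c w w' h h'

theorem gE_smul_left (hJ2 : SympG J2) (C : Matrix (Fin a) (Fin a) F) (c : F) (w w' : Fin b → F)
    (h : bf J2 w w' = 0) (h' : bf J2 (c • w) w' = 0) :
    gE J1 J2 hJ2 C (c • w) w' h' = gE J1 J2 hJ2 (c • C) w w' h := by
  exact Cfsg.Agent.Lib.Helper12.S5704COMMa.gE_smul_left hJ2 C c w w' h h'

/-- additivity in the last slot -/
theorem gE_add_right (hJ2 : SympG J2) (C : Matrix (Fin a) (Fin a) F) (w w' y' : Fin b → F)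
    (h : bf J2 w w' = 0) (h' : bf J2 w y' = 0) (h'' : bf J2 w (w' + y') = 0) (hwy : bf J2 w' y' = 0) :
    gE J1 J2 hJ2 C w (w' + y') h'' = gE J1 J2 hJ2 C w w' h * gE J1 J2 hJ2 C w y' h' := by
  exact Cfsg.Agent.Lib.Helper12.S5704COMMa.gE_add_right hJ2 C w w' y' h h' h'' hwy

/-- dependent pair: `gE C w (c • w) = zA (c • (C + C^*)) w` -/
theorem gE_self (hJ2 : SympG J2) (C : Matrix (Fin a) (Fin a) F) (c : F) (w : Fin b → F) (h : bf J2 w (c • w) = 0) :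
    gE J1 J2 hJ2 C w (c • w) h = zA J2 hJ2 (c • (C + adj J1 C)) w := by
  exact Cfsg.Agent.Lib.Helper12.S5704COMMa.gE_self hJ2 C c w h

theorem zA_mul (hJ2 : SympG J2) (α β : Matrix (Fin a) (Fin a) F) (k : Fin b → F) :
    zA J2 hJ2 α k * zA J2 hJ2 β k = zA J2 hJ2 (α + β) k := by
  exact Cfsg.Agent.Lib.Helper12.S5704COMMa.zA_mul hJ2 α β k

theorem zA_inv (hJ2 : SympG J2) (α : Matrix (Fin a) (Fin a) F) (k : Fin b → F) :
    (zA J2 hJ2 α k)⁻¹ = zA J2 hJ2 (-α) k := by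
  exact Cfsg.Agent.Lib.Helper12.S5704COMMa.zA_inv hJ2 α k

theorem zA_smul (hJ2 : SympG J2) (α : Matrix (Fin a) (Fin a) F) (c : F) (k : Fin b → F) :
    zA J2 hJ2 α (c • k) = zA J2 hJ2 ((c * c) • α) k := by
  exact Cfsg.Agent.Lib.Helper12.S5704COMMa.zA_smul hJ2 α c k

/-- conjugation by `1 ⊗ β`, `β` an isometry of `f₂` -/
theorem conjW_gE (hJ2 : SympG J2) (β : GL (Fin b) F)
    (hβ : ∀ x y, bf J2 ((β : Matrix (Fin b) (Fin b) F) *ᵥ x) ((β : Matrix (Fin b) (Fin b) F) *ᵥ y) = bf J2 x y)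
    (C : Matrix (Fin a) (Fin a) F) (w w' : Fin b → F) (h : bf J2 w w' = 0) :
    kronGL 1 β * gE J1 J2 hJ2 C w w' h * (kronGL 1 β)⁻¹ =
      gE J1 J2 hJ2 C ((β : Matrix (Fin b) (Fin b) F) *ᵥ w) ((β : Matrix (Fin b) (Fin b) F) *ᵥ w')
        (by rw [hβ]; exact h) := by
  exact Cfsg.Agent.Lib.Helper12.S5704COMMa.conjW_gE hJ2 β hβ C w w' h

theorem conjW_zA (hJ2 : SympG J2) (β : GL (Fin b) F)
    (hβ : ∀ x y, bf J2 ((β : Matrix (Fin b) (Fin b) F) *ᵥ x) ((β : Matrix (Fin b) (Fin b) F) *ᵥ y) = bf J2 x y)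
    (α : Matrix (Fin a) (Fin a) F) (k : Fin b → F) :
    kronGL (1 : GL (Fin a) F) β * zA J2 hJ2 α k * (kronGL 1 β)⁻¹ =
      zA J2 hJ2 α ((β : Matrix (Fin b) (Fin b) F) *ᵥ k) := by
  exact Cfsg.Agent.Lib.Helper12.S5704COMMa.conjW_zA hJ2 β hβ α k

/-- conjugation by `t_u(c) ⊗ 1` -/
theorem conjU_gE (hJ1 : SympG J1) (hJ2 : SympG J2) (u : Fin a → F) (c : F)
    (C : Matrix (Fin a) (Fin a) F) (w w' : Fin b → F) (h : bf J2 w w' = 0) :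
    rootU J1 hJ1 u c * gE J1 J2 hJ2 C w w' h * (rootU J1 hJ1 u c)⁻¹ =
      gE J1 J2 hJ2 ((1 + c • E J1 u u) * C * (1 - c • E J1 u u)) w w' h := by
  exact Cfsg.Agent.Lib.Helper12.S5704COMMa.conjU_gE hJ1 hJ2 u c C w w' h

/-- `kronGL 1 (t_k(c)) = rootW k c` -/
theorem rootW_eq_kronGL (hJ2 : SympG J2) (k : Fin b → F) (c : F) :
    rootW (a := a) J2 hJ2 k c =
      kronGL 1 (uni (c • E J2 k k) (by rw [Matrix.smul_mul, Matrix.mul_smul, E_mul_E, hJ2.alt]; simp)) := by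
  exact Cfsg.Agent.Lib.Helper12.S5704COMMa.rootW_eq_kronGL hJ2 k c

/-- the Siegel transformation `ρ_{u⊗w, u'⊗w'}` is `gE (E J1 u u') w w'`: its action on vectors -/
theorem act_gE_E (hS : Setup J1 J2 Q) (u u' : Fin a → F) (w w' : Fin b → F) (h : bf J2 w w' = 0)
    (v : Fin a × Fin b → F) :
    act (gE J1 J2 hS.h2 (E J1 u u') w w' h) v =
      v + QuadraticMap.polar (⇑Q) (pur u' w') v • pur u w + (-(QuadraticMap.polar (⇑Q) (pur u w) v)) • pur u' w' := by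
  exact Cfsg.Agent.Lib.Helper12.S5704COMMa.act_gE_E hS u u' w w' h v

/-- `zA α k` commutes with `gE C k w` -/
theorem zA_comm_gE (hJ2 : SympG J2) (α C : Matrix (Fin a) (Fin a) F) (k w : Fin b → F) (h : bf J2 k w = 0) :
    zA J2 hJ2 α k * gE J1 J2 hJ2 C k w h = gE J1 J2 hJ2 C k w h * zA J2 hJ2 α k := by
  exact Cfsg.Agent.Lib.Helper12.S5704COMMa.zA_comm_gE hJ2 α C k w h

/-- `zA α k` commutes with `gE C w w'` when `w, w' ⊥ k` -/
theorem zA_comm_gE_perp (hJ2 : SympG J2) (α C : Matrix (Fin a) (Fin a) F) (k w w' : Fin b → F)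
    (h : bf J2 w w' = 0) (hkw : bf J2 k w = 0) (hkw' : bf J2 k w' = 0) :
    zA J2 hJ2 α k * gE J1 J2 hJ2 C w w' h = gE J1 J2 hJ2 C w w' h * zA J2 hJ2 α k := by
  exact Cfsg.Agent.Lib.Helper12.S5704COMMa.zA_comm_gE_perp hJ2 α C k w w' h hkw hkw'

/-! ## FO-COMMb : the three commutator formulas (`⁅g, h⁆ = g * h * g⁻¹ * h⁻¹`) -/

/-- `[e₀₁(C), e₁'₂(C')] = e₀₂(-CC')` -/
theorem comm1 (hJ1 : SympG J1) (hJ2 : SympG J2) (C C' : Matrix (Fin a) (Fin a) F) (w0 w1 w1' w2 : Fin b → F)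
    (h01 : bf J2 w0 w1 = 0) (h1'2 : bf J2 w1' w2 = 0) (h02 : bf J2 w0 w2 = 0)
    (h11' : bf J2 w1 w1' = 1) (h01' : bf J2 w0 w1' = 0) (h12 : bf J2 w1 w2 = 0) :
    ⁅gE J1 J2 hJ2 C w0 w1 h01, gE J1 J2 hJ2 C' w1' w2 h1'2⁆ = gE J1 J2 hJ2 (-(C * C')) w0 w2 h02 := by
  exact Cfsg.Agent.Lib.Helper29.S5704COMMb.comm1 hJ1 hJ2 C C' w0 w1 w1' w2 h01 h1'2 h02 h11' h01' h12

/-- `[e₀₁(C), e₀₁'(C')] = z₀(-(C C'^* + C' C^*))` -/
theorem comm2 (hJ1 : SympG J1) (hJ2 : SympG J2) (C C' : Matrix (Fin a) (Fin a) F) (w0 w1 w1' : Fin b → F)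
    (h01 : bf J2 w0 w1 = 0) (h01' : bf J2 w0 w1' = 0) (h11' : bf J2 w1 w1' = 1) :
    ⁅gE J1 J2 hJ2 C w0 w1 h01, gE J1 J2 hJ2 C' w0 w1' h01'⁆ =
      zA J2 hJ2 (-(C * adj J1 C' + C' * adj J1 C)) w0 := by
  exact Cfsg.Agent.Lib.Helper29.S5704COMMb.comm2 hJ1 hJ2 C C' w0 w1 w1' h01 h01' h11'

/-- `[z₀(α), e₀'₂(C')] = e₀₂(-αC') · z₂(-C'^* α C')`, `α` self-adjoint -/
theorem comm3 (hJ1 : SympG J1) (hJ2 : SympG J2) (α C' : Matrix (Fin a) (Fin a) F) (hα : adj J1 α = α)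
    (w0 w0' w2 : Fin b → F) (h00' : bf J2 w0 w0' = 1) (h02 : bf J2 w0 w2 = 0) (h0'2 : bf J2 w0' w2 = 0) :
    ⁅zA J2 hJ2 α w0, gE J1 J2 hJ2 C' w0' w2 h0'2⁆ =
      gE J1 J2 hJ2 (-(α * C')) w0 w2 h02 * zA J2 hJ2 (-(adj J1 C' * α * C')) w2 := by
  exact Cfsg.Agent.Lib.Helper29.S5704COMMb.comm3 hJ1 hJ2 α C' hα w0 w0' w2 h00' h02 h0'2

/-! ## FO-EXIST : vectors in the symplectic space `W = F^b` -/

theorem exists_partner (hJ2 : SympG J2) (w : Fin b → F) (hw : w ≠ 0) : ∃ w' : Fin b → F, bf J2 w w' = 1 := by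
  exact Cfsg.Agent.Lib.Helper29.S5704EXIST.exists_partner hJ2 w hw

/-- a hyperbolic pair orthogonal to a small subspace -/
theorem exists_pair_perp (hJ2 : SympG J2) (S : Submodule F (Fin b → F)) (hS : 2 * finrank F S < b) :
    ∃ w1 w1' : Fin b → F, (∀ s ∈ S, bf J2 s w1 = 0) ∧ (∀ s ∈ S, bf J2 s w1' = 0) ∧ bf J2 w1 w1' = 1 := by
  exact Cfsg.Agent.Lib.Helper29.S5704EXIST.exists_pair_perp hJ2 S hS

/-- the auxiliary pair for `comm1` -/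
theorem exists_aux_pair (hJ2 : SympG J2) (hb : 6 ≤ b) (w0 w2 : Fin b → F) :
    ∃ w1 w1' : Fin b → F, bf J2 w0 w1 = 0 ∧ bf J2 w1' w2 = 0 ∧ bf J2 w1 w1' = 1 ∧ bf J2 w0 w1' = 0 ∧
      bf J2 w1 w2 = 0 := by
  exact Cfsg.Agent.Lib.Helper29.S5704EXIST.exists_aux_pair hJ2 hb w0 w2

/-- linear independence from orthogonality relations -/
theorem linInd_of_bf (hJ2 : SympG J2) (w w' y : Fin b → F) (h1 : bf J2 w y = 0) (h2 : bf J2 w' y ≠ 0)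
    (hw : w ≠ 0) : LinearIndependent F ![w, w'] := by
  exact Cfsg.Agent.Lib.Helper29.S5704EXIST.linInd_of_bf hJ2 w w' y h1 h2 hw

/-- a vector of a totally isotropic independent pair can be completed: `y` with `f(w,y) = 1`, `f(w',y) = 0` -/
theorem exists_dual_pair (hJ2 : SympG J2) (w w' : Fin b → F) (hli : LinearIndependent F ![w, w']) :
    ∃ y : Fin b → F, bf J2 w y = 1 ∧ bf J2 w' y = 0 := by
  exact Cfsg.Agent.Lib.Helper29.S5704EXIST.exists_dual_pair hJ2 w w' hli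

/-! ## FO-RING -/

/-- a subalgebra of `M_a(F)` containing a non-scalar matrix and stable under conjugation by the symplectic transvections is
everything, except for `a = 2 = |F|` -/
theorem ring_gen [Fintype F] (hJ1 : SympG J1) (ha : 2 ≤ a) (hex : ¬ (Fintype.card F = 2 ∧ a = 2))
    (R : Set (Matrix (Fin a) (Fin a) F))
    (hsc : ∀ c : F, c • (1 : Matrix (Fin a) (Fin a) F) ∈ R)
    (hadd : ∀ C ∈ R, ∀ C' ∈ R, C + C' ∈ R) (hmul : ∀ C ∈ R, ∀ C' ∈ R, C * C' ∈ R)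
    (hconj : ∀ C ∈ R, ∀ (u : Fin a → F) (c : F), (1 + c • E J1 u u) * C * (1 - c • E J1 u u) ∈ R)
    (C0 : Matrix (Fin a) (Fin a) F) (hC0 : C0 ∈ R) (hns : ¬ IsScal C0) : ∀ C : Matrix (Fin a) (Fin a) F, C ∈ R := by
  exact Cfsg.Agent.Lib.Helper17.S5704RING.ring_gen hJ1 ha hex R hsc hadd hmul hconj C0 hC0 hns

end Cfsg.Agent.Lib.Helper3.SpT
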