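import Mathlib
import Cfsg.Agent.Lib.Helper3.SpTDefs
import Cfsg.Agent.Lib.Helper3.SpTL1
import Cfsg.Agent.Lib.Helper3.SpTL2
import Cfsg.Agent.Lib.Helper16.S5704FOOMEGA
import Cfsg.Agent.Lib.Helper23.S5704FONOTKRON
import Cfsg.Agent.Lib.Helper29.S5704FOROOTU

/-!
# S5704, layer 3: OMEGA (root elements lie in `Ω`), ROOTU, NOTKRON (root elements outside `N0`).
-/

set_option autoImplicit false

namespace Cfsg.Agent.Lib.Helper3.SpT

open Matrix Module QuadraticMap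
open scoped Kronecker commutatorElement
open Cfsg.Agent.Lib.Helper16.Tens
open Cfsg.Agent.Lib.Helper23.S5637T3b (kronGL)

variable {F : Type*} [Field F] {a b : ℕ} {J1 : Matrix (Fin a) (Fin a) F} {J2 : Matrix (Fin b) (Fin b) F}
  {Q : QuadraticForm F (Fin a × Fin b → F)}

/-! ## FO-OMEGA -/

/-- all short root elements lie in `Ω` (via `comm1`: `gE C w0 w2 = ⁅gE (-C) w0 w1, gE 1 w1' w2⁆`; dependent pairs via `gE_self`
and `zA_mem_Om`) -/
theorem gE_mem_Om [Fintype F] (hS : Setup J1 J2 Q) (hb : 6 ≤ b) (C : Matrix (Fin a) (Fin a) F) (w w' : Fin b → F)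
    (h : bf J2 w w' = 0) : gE J1 J2 hS.h2 C w w' h ∈ Cfsg.Geo.omegaGL (⇑Q) := by
  exact Cfsg.Agent.Lib.Helper16.S5704OMEGA.gE_mem_Om hS hb C w w' h

/-- long root elements `zA (X + X^*) k` lie in `Ω` (via `comm2`) -/
theorem zA_mem_Om [Fintype F] (hS : Setup J1 J2 Q) (hb : 6 ≤ b) (X : Matrix (Fin a) (Fin a) F) (k : Fin b → F) :
    zA J2 hS.h2 (X + adj J1 X) k ∈ Cfsg.Geo.omegaGL (⇑Q) := by
  exact Cfsg.Agent.Lib.Helper16.S5704OMEGA.zA_mem_Om hS hb X k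

/-- every self-adjoint alternating `α` is of the form `X + X^*` (take `X = J1⁻¹ * (strictly upper triangular part of J1 * α)`) -/
theorem exists_add_adj (hJ1 : SympG J1) (α : Matrix (Fin a) (Fin a) F) (hα : adj J1 α = α)
    (halt : ∀ u, bf J1 u (α *ᵥ u) = 0) : ∃ X : Matrix (Fin a) (Fin a) F, α = X + adj J1 X := by
  exact Cfsg.Agent.Lib.Helper16.S5704OMEGA.exists_add_adj hJ1 α hα halt

theorem rootW_mem_Om [Fintype F] (hS : Setup J1 J2 Q) (hb : 6 ≤ b) (k : Fin b → F) (c : F) :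
    rootW (a := a) J2 hS.h2 k c ∈ Cfsg.Geo.omegaGL (⇑Q) := by
  exact Cfsg.Agent.Lib.Helper16.S5704OMEGA.rootW_mem_Om hS hb k c

/-! ## FO-ROOTU -/

/-- `t_u(c) ⊗ 1 ∈ Ω` (a product of Siegel transformations `ρ_{u⊗x, c u⊗y}`) -/
theorem rootU_mem_Om [Fintype F] (hS : Setup J1 J2 Q) (ha : 2 ≤ a) (hb : 6 ≤ b) (u : Fin a → F) (c : F) :
    rootU (b := b) J1 hS.h1 u c ∈ Cfsg.Geo.omegaGL (⇑Q) := by
  exact Cfsg.Agent.Lib.Helper29.S5704ROOTU.rootU_mem_Om hS ha hb u c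

/-! ## FO-NOTKRON -/

/-- elements of `N0` map pure tensors to pure tensors -/
theorem pure_of_mem_kron (n : GL (Fin a × Fin b) F) (hn : n ∈ Cfsg.Geo.kroneckerSubgroup a b F)
    (u : Fin a → F) (x : Fin b → F) : ∃ (u' : Fin a → F) (x' : Fin b → F), act n (pur u x) = pur u' x' := by
  exact Cfsg.Agent.Lib.Helper23.S5704NOTKRON.pure_of_mem_kron n hn u x

theorem gE_not_mem_kron (hJ1 : SympG J1) (hJ2 : SympG J2) (C : Matrix (Fin a) (Fin a) F) (hC : ¬ IsScal C)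
    (w w' : Fin b → F) (h : bf J2 w w' = 0) (hli : LinearIndependent F ![w, w']) :
    gE J1 J2 hJ2 C w w' h ∉ Cfsg.Geo.kroneckerSubgroup a b F := by
  exact Cfsg.Agent.Lib.Helper23.S5704NOTKRON.gE_not_mem_kron hJ1 hJ2 C hC w w' h hli

theorem zA_not_mem_kron (hJ2 : SympG J2) (α : Matrix (Fin a) (Fin a) F) (hα : ¬ IsScal α)
    (k : Fin b → F) (hk : k ≠ 0) : zA J2 hJ2 α k ∉ Cfsg.Geo.kroneckerSubgroup a b F := by
  exact Cfsg.Agent.Lib.Helper23.S5704NOTKRON.zA_not_mem_kron hJ2 α hα k hk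

/-- `zA (c • 1) k ∈ N0` -/
theorem zA_mem_kron_of_isScal (hJ2 : SympG J2) (α : Matrix (Fin a) (Fin a) F) (hα : IsScal α) (k : Fin b → F) :
    zA J2 hJ2 α k ∈ Cfsg.Geo.kroneckerSubgroup a b F := by
  exact Cfsg.Agent.Lib.Helper23.S5704NOTKRON.zA_mem_kron_of_isScal hJ2 α hα k

end Cfsg.Agent.Lib.Helper3.SpT
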