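import Mathlib
import Cfsg.Agent.Lib.Helper3.SpTDefs
import Cfsg.Agent.Lib.Helper3.SpTL1
import Cfsg.Agent.Lib.Helper3.SpTL2
import Cfsg.Agent.Lib.Helper3.SpTL3
import Cfsg.Agent.Lib.Helper16.S5704FOTRANS
import Cfsg.Agent.Lib.Helper23.S5704FOSTRICT

/-!
# S5704, layer 3T: TRANS (transitivity of `1 ⊗ ⟨transvections⟩`), STRICT.
-/

set_option autoImplicit false

namespace Cfsg.Agent.Lib.Helper3.SpT

open Matrix Module QuadraticMap
open scoped Kronecker commutatorElement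
open Cfsg.Agent.Lib.Helper16.Tens
open Cfsg.Agent.Lib.Helper23.S5637T3b (kronGL)

variable {F : Type*} [Field F] {a b : ℕ} {J1 : Matrix (Fin a) (Fin a) F} {J2 : Matrix (Fin b) (Fin b) F}
  {Q : QuadraticForm F (Fin a × Fin b → F)}

/-! ## FO-TRANS -/

/-- `1 ⊗ ⟨transvections⟩ ≤ Ω` is transitive on non-zero vectors of `W` -/
theorem transW1 [Fintype F] (hS : Setup J1 J2 Q) (hb : 6 ≤ b) (w y : Fin b → F) (hw : w ≠ 0) (hy : y ≠ 0) :
    ∃ β : GL (Fin b) F,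
      (∀ x x', bf J2 ((β : Matrix (Fin b) (Fin b) F) *ᵥ x) ((β : Matrix (Fin b) (Fin b) F) *ᵥ x') = bf J2 x x') ∧
      (β : Matrix (Fin b) (Fin b) F) *ᵥ w = y ∧
      kronGL (1 : GL (Fin a) F) β ∈ Cfsg.Geo.omegaGL (⇑Q) := by
  exact Cfsg.Agent.Lib.Helper16.S5704TRANS.transW1 hS hb w y hw hy

/-- … and on linearly independent pairs `(w, w')` with `f₂(w, w') = 0` -/
theorem transW2 [Fintype F] (hS : Setup J1 J2 Q) (hb : 6 ≤ b) (w w' y y' : Fin b → F)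
    (h : bf J2 w w' = 0) (h' : bf J2 y y' = 0)
    (hli : LinearIndependent F ![w, w']) (hli' : LinearIndependent F ![y, y']) :
    ∃ β : GL (Fin b) F,
      (∀ x x', bf J2 ((β : Matrix (Fin b) (Fin b) F) *ᵥ x) ((β : Matrix (Fin b) (Fin b) F) *ᵥ x') = bf J2 x x') ∧
      (β : Matrix (Fin b) (Fin b) F) *ᵥ w = y ∧ (β : Matrix (Fin b) (Fin b) F) *ᵥ w' = y' ∧
      kronGL (1 : GL (Fin a) F) β ∈ Cfsg.Geo.omegaGL (⇑Q) := by
  exact Cfsg.Agent.Lib.Helper16.S5704TRANS.transW2 hS hb w w' y y' h h' hli hli'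

/-- consequence: `N0 ⊓ Ω` is transitive on the standard subspaces `Lk k` -/
theorem exists_kron_img_Lk [Fintype F] (hS : Setup J1 J2 Q) (hb : 6 ≤ b) (k k' : Fin b → F) (hk : k ≠ 0) (hk' : k' ≠ 0) :
    ∃ n : GL (Fin a × Fin b) F, n ∈ Cfsg.Geo.kroneckerSubgroup a b F ∧ n ∈ Cfsg.Geo.omegaGL (⇑Q) ∧
      img n (Lk k) = Lk k' := by
  exact Cfsg.Agent.Lib.Helper16.S5704TRANS.exists_kron_img_Lk hS hb k k' hk hk'

/-! ## FO-STRICT -/

/-- strictness -/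
theorem kron_inf_Om_lt [Fintype F] (hS : Setup J1 J2 Q) (ha : 2 ≤ a) (hb : 6 ≤ b) :
    Cfsg.Geo.kroneckerSubgroup a b F ⊓ Cfsg.Geo.omegaGL (⇑Q) < Cfsg.Geo.omegaGL (⇑Q) := by
  exact Cfsg.Agent.Lib.Helper23.S5704STRICT.kron_inf_Om_lt hS ha hb

end Cfsg.Agent.Lib.Helper3.SpT
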