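import Mathlib
import Cfsg.Prelude.Def_GeometricClasses
import Cfsg.Agent.Lib.Helper7.AschDefs

/-!
# S5630, block I6 (symplectic-type case): the interface between HALF A (helper16) and HALF B (helper3)

`SympCore H R r`: `R` is the `r·gcd(2,r)`-torsion of `N ⊔ scalars`: an absolutely irreducible group normalised by `H`,
of class two modulo scalars, with `x ^ r` scalar, containing every scalar `c` with `c ^ (r·gcd(2,r)) = 1`, of symplectic
type.  HALF A constructs such an `R` from the hypotheses of `AschTop.c6_case`; HALF B proves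
`exits : 3 ≤ n → (∀ F₀ ≠ ⊤, ¬ RealModScal F₀ H) → SympCore H R r → InClass H`.
-/

set_option autoImplicit false

namespace Cfsg.Agent.Lib.Helper3.AschC6

open Matrix Cfsg.Geo Cfsg.Agent.Lib.Helper7.Asch
open scoped commutatorElement

variable {F : Type*} [Field F] {n : ℕ}

/-- the interface between the two halves of block I6 -/
structure SympCore (H R : Subgroup (GL (Fin n) F)) (r : ℕ) : Prop where
  prime : r.Prime
  norm : NormBy H R
  absIrr : AbsIrr R
  pow : ∀ x ∈ R, x ^ r ∈ scalars (Fin n) F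
  comm : ∀ x ∈ R, ∀ y ∈ R, ⁅x, y⁆ ∈ scalars (Fin n) F
  exp : ∀ x ∈ R, x ^ (r * Nat.gcd 2 r) = 1
  scal : ∀ x ∈ scalars (Fin n) F, x ^ (r * Nat.gcd 2 r) = 1 → x ∈ R
  sympType : IsSymplecticTypeGroup r R

/-- `M` is a monomial matrix whose non-zero entries are `z`-th roots of unity: column `j` has the single non-zero entry
`d j` in row `π j` -/
def IsMonoRoot (z : ℕ) (M : Matrix (Fin n) (Fin n) F) : Prop :=
  ∃ (π : Equiv.Perm (Fin n)) (d : Fin n → F), (∀ j, d j ^ z = 1) ∧ ∀ i j, M i j = if i = π j then d j else 0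

/-- the standard `σ`-sesquilinear form in the coordinates given by `B`: `f(u,v) = Σ_i (Bu)_i σ((Bv)_i)` -/
def stdHerm (σ : F → F) (B : Matrix (Fin n) (Fin n) F) (u v : Fin n → F) : F :=
  ∑ i, (B *ᵥ u) i * σ ((B *ᵥ v) i)

/-- the bilinear form with Gram matrix `G`: `f(u,v) = uᵀ G v` -/
def gramForm (G : Matrix (Fin n) (Fin n) F) (u v : Fin n → F) : F := u ⬝ᵥ (G *ᵥ v)

/-- the matrices of a system of representatives of `R` modulo its centre -/
noncomputable def rep (R : Subgroup (GL (Fin n) F)) (q : R ⧸ Subgroup.center R) : Matrix (Fin n) (Fin n) F :=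
  ((q.out : R) : GL (Fin n) F)

end Cfsg.Agent.Lib.Helper3.AschC6
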