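import Mathlib
import Cfsg.Prelude.Def_GeometricClasses
import Cfsg.Agent.Lib.Helper7.AschDefs
import Cfsg.Agent.Lib.Helper3.AschC6Defs

/-!
# S5630, block I6, HALF B: basic pieces (helper3; real proofs): GEN-IND, R-CEN
-/

set_option autoImplicit false

namespace Cfsg.Agent.Lib.Helper3.AschC6

open Matrix Cfsg.Geo Cfsg.Agent.Lib.Helper7.Asch
open scoped commutatorElement

variable {F : Type*} [Field F] {n : ℕ}

/-- **GEN-IND** vectors that are eigenvectors of every operator of a family, with pairwise separated eigenvalue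
systems, are linearly independent -/
theorem linearIndependent_of_separating {K V ι κ : Type*} [Field K] [AddCommGroup V] [Module K V]
    (T : κ → Module.End K V) (v : ι → V) (μ : κ → ι → K) (hv : ∀ i, v i ≠ 0)
    (heig : ∀ k i, T k (v i) = μ k i • v i) (hsep : ∀ i j, i ≠ j → ∃ k, μ k i ≠ μ k j) :
    LinearIndependent K v := by
  classical
  rw [linearIndependent_iff']
  intro s
  induction s using Finset.induction_on with
  | empty => intro g _ i hi; simp at hi
  | insert i₀ s hi₀ ih =>
    intro g hg
    rw [Finset.sum_insert hi₀] at hg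
    have hs : ∀ i ∈ s, g i = 0 := by
      intro i hi
      have hne : i ≠ i₀ := fun h => hi₀ (h ▸ hi)
      obtain ⟨k, hk⟩ := hsep i i₀ hne
      have h1 : T k (g i₀ • v i₀ + ∑ j ∈ s, g j • v j) = 0 := by rw [hg, map_zero]
      rw [map_add, map_smul, heig, map_sum] at h1
      have h2 : ∑ j ∈ s, (g j * (μ k j - μ k i₀)) • v j = 0 := by
        have h3 : μ k i₀ • (g i₀ • v i₀ + ∑ j ∈ s, g j • v j) = 0 := by rw [hg, smul_zero]
        have h4 : ∑ j ∈ s, (g j * (μ k j - μ k i₀)) • v j =
            (g i₀ • μ k i₀ • v i₀ + ∑ j ∈ s, T k (g j • v j)) - μ k i₀ • (g i₀ • v i₀ + ∑ j ∈ s, g j • v j) := by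
          rw [smul_add, Finset.smul_sum, add_sub_add_comm, smul_comm, sub_self, zero_add, ← Finset.sum_sub_distrib]
          apply Finset.sum_congr rfl
          intro j _
          rw [map_smul, heig, smul_smul, smul_smul, ← sub_smul]
          congr 1
          ring
        rw [h4, h1, h3, sub_zero]
      have h5 := ih (fun j => g j * (μ k j - μ k i₀)) h2 i hi
      have h6 : μ k i - μ k i₀ ≠ 0 := sub_ne_zero.mpr hk
      exact (mul_eq_zero.mp h5).resolve_right h6
    intro i hi
    rw [Finset.mem_insert] at hi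
    rcases hi with rfl | hi
    · have h1 : ∑ j ∈ s, g j • v j = 0 := by
        apply Finset.sum_eq_zero
        intro j hj
        rw [hs j hj, zero_smul]
      rw [h1, add_zero] at hg
      exact (smul_eq_zero.mp hg).resolve_right (hv i)
    · exact hs i hi

/-- scalars are central in `GL` -/
theorem scalar_comm (x g : GL (Fin n) F) (hx : x ∈ scalars (Fin n) F) : g * x = x * g := by
  rw [mem_scalars_iff] at hx
  obtain ⟨c, hc⟩ := hx
  apply Units.ext
  rw [Units.val_mul, Units.val_mul, hc, Matrix.mul_smul, Matrix.smul_mul, Matrix.mul_one, Matrix.one_mul]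

/-- a matrix of a unit which is a scalar multiple of `1` lies in `scalars` -/
theorem mem_scalars_of_eq_smul (x : GL (Fin n) F) (c : F) (hc : (x : Matrix (Fin n) (Fin n) F) = c • 1) :
    x ∈ scalars (Fin n) F := by
  rw [mem_scalars_iff]
  by_cases h0 : c = 0
  · have h1 : (x : Matrix (Fin n) (Fin n) F) = 0 := by rw [hc, h0, zero_smul]
    have h2 : (1 : Matrix (Fin n) (Fin n) F) = 0 := by
      rw [← Units.mul_inv x, h1, zero_mul]
    refine ⟨1, ?_⟩
    rw [h1, h2, smul_zero]
  · exact ⟨Units.mk0 c h0, hc⟩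

/-- **R-CEN** the centre of `R` consists of its scalars -/
theorem mem_center_iff {H R : Subgroup (GL (Fin n) F)} {r : ℕ} (hR : SympCore H R r) (x : R) :
    x ∈ Subgroup.center R ↔ (x : GL (Fin n) F) ∈ scalars (Fin n) F := by
  constructor
  · intro hx
    rw [Subgroup.mem_center_iff] at hx
    obtain ⟨c, hc⟩ := hR.absIrr.2 ((x : GL (Fin n) F) : Matrix (Fin n) (Fin n) F) (by
      rintro s ⟨g, hg, rfl⟩
      have h1 := hx ⟨g, hg⟩
      have h2 : g * (x : GL (Fin n) F) = (x : GL (Fin n) F) * g := by
        have := congrArg (fun y : R => (y : GL (Fin n) F)) h1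
        simpa using this
      rw [← Units.val_mul, ← Units.val_mul, h2])
    exact mem_scalars_of_eq_smul _ c hc
  · intro hx
    rw [Subgroup.mem_center_iff]
    intro g
    apply Subtype.ext
    rw [Subgroup.coe_mul, Subgroup.coe_mul]
    exact scalar_comm _ _ hx

end Cfsg.Agent.Lib.Helper3.AschC6
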