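import Mathlib
import Cfsg.Agent.Lib.Helper1.BGSigmaDecomp
import Cfsg.Agent.Lib.Helper3.BGStubs
import Cfsg.Agent.Lib.Helper19.BGCompl
import Cfsg.Agent.Lib.Helper9.BGExc7
import Cfsg.Agent.Lib.Helper10.BGTwelveG

/-!
B&G Lemma 14.2 / Theorem A block, part 1: generalities on Hall subgroups and on the standard
factorisation `M = K U M_σ`; consequences of the frozen statement of S1430 (`P1430`).
-/

set_option autoImplicit false
open Cfsg

namespace Cfsg.Agent.Lib.Helper3.BG14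

open Cfsg.Agent.Lib.Helper10.BG Cfsg.Agent.Lib.Helper10 Cfsg.Agent.Lib.Helper9.BGExc
open Cfsg.Agent.Lib.Helper19.BGCompl Cfsg.Agent.Lib.Helper1.BGSigmaDecomp
open Cfsg.Agent.Lib.Helper3.BGStubs

variable {G : Type*} [Group G]

/-- two subgroups meeting trivially whose orders multiply to `|M|` are complements in `M`. -/
theorem isComplIn_of_inf_of_card [Finite G] {A B M : Subgroup G} (hA : A ≤ M) (hB : B ≤ M)
    (hinf : A ⊓ B = ⊥) (hcard : Nat.card A * Nat.card B = Nat.card M) : IsComplIn A B M := by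
  refine ⟨hA, hB, hinf, ?_⟩
  let f : A × B → M := fun x => ⟨(x.1 : G) * (x.2 : G), M.mul_mem (hA x.1.2) (hB x.2.2)⟩
  have hf : Function.Injective f := by
    rintro ⟨a, b⟩ ⟨a', b'⟩ h
    have h' : (a : G) * b = a' * b' := congrArg Subtype.val h
    have h1 : (a' : G)⁻¹ * a = b' * (b : G)⁻¹ := by
      have : (a' : G)⁻¹ * (a * b) * (b : G)⁻¹ = (a' : G)⁻¹ * (a' * b') * (b : G)⁻¹ := by rw [h']
      simpa [mul_assoc] using this
    have h2 : (a' : G)⁻¹ * a ∈ A ⊓ B := by
      refine Subgroup.mem_inf.mpr ⟨A.mul_mem (A.inv_mem a'.2) a.2, ?_⟩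
      rw [h1]
      exact B.mul_mem b'.2 (B.inv_mem b.2)
    rw [hinf, Subgroup.mem_bot] at h2
    have h3 : (a : G) = a' := by
      have : (a' : G) * ((a' : G)⁻¹ * a) = a' * 1 := by rw [h2]
      simpa using this
    have h4 : (b : G) = b' := by
      rw [h3] at h'
      exact mul_left_cancel h'
    exact Prod.ext (Subtype.ext h3) (Subtype.ext h4)
  have hbij : Function.Bijective f := by
    apply hf.bijective_of_nat_card_le
    rw [Nat.card_prod, hcard]
  intro m hm
  obtain ⟨⟨a, b⟩, hab⟩ := hbij.2 ⟨m, hm⟩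
  exact ⟨a, a.2, b, b.2, (congrArg Subtype.val hab).symm⟩

/-- a Hall `π`-subgroup and a Hall `π'`-subgroup of `X` have orders multiplying to `|X|`. -/
theorem card_mul_card_of_hall [Finite G] {X B H : Subgroup G} {π : Set ℕ} (hBX : B ≤ X)
    (hHX : H ≤ X)
    (hB : ∀ p : ℕ, p.Prime → p ∣ Nat.card B → p ∈ π)
    (hBi : ∀ p : ℕ, p.Prime → p ∈ π → ¬ p ∣ B.relIndex X)
    (hH : ∀ p : ℕ, p.Prime → p ∣ Nat.card H → p ∉ π)
    (hHi : ∀ p : ℕ, p.Prime → p ∉ π → ¬ p ∣ H.relIndex X) :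
    Nat.card B * Nat.card H = Nat.card X := by
  have e1 : Nat.card B * B.relIndex X = Nat.card X :=
    Cfsg.Agent.Lib.Helper12.card_mul_relIndex_eq hBX
  have e2 : Nat.card H * H.relIndex X = Nat.card X :=
    Cfsg.Agent.Lib.Helper12.card_mul_relIndex_eq hHX
  have c1 : (Nat.card B).Coprime (Nat.card H) :=
    Nat.coprime_of_dvd (fun k hk hk1 hk2 => hH k hk hk2 (hB k hk hk1))
  have c2 : (H.relIndex X).Coprime (B.relIndex X) := by
    apply Nat.coprime_of_dvd
    intro k hk hk1 hk2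
    by_cases hkπ : k ∈ π
    · exact hBi k hk hkπ hk2
    · exact hHi k hk hkπ hk1
  have hj : H.relIndex X ∣ Nat.card B :=
    c2.dvd_of_dvd_mul_right (Dvd.intro_left (Nat.card H) (e2.trans e1.symm))
  have d1 : Nat.card B * Nat.card H ∣ Nat.card X :=
    c1.mul_dvd_of_dvd_of_dvd (Subgroup.card_dvd_of_le hBX) (Subgroup.card_dvd_of_le hHX)
  apply le_antisymm (Nat.le_of_dvd Nat.card_pos d1)
  calc Nat.card X = Nat.card H * H.relIndex X := e2.symm
    _ ≤ Nat.card H * Nat.card B := Nat.mul_le_mul_left _ (Nat.le_of_dvd Nat.card_pos hj)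
    _ = Nat.card B * Nat.card H := mul_comm _ _

/-- a subgroup `V ≤ X` lies in a subgroup `N` normalized by `X` as soon as `|V|` is prime to `|X : N|`. -/
theorem le_of_coprime_relIndex [Finite G] {N X V : Subgroup G}
    (hn : X ≤ Subgroup.normalizer (N : Set G)) (hVX : V ≤ X)
    (hcop : (Nat.card V).Coprime (N.relIndex X)) : V ≤ N := by
  apply le_of_forall_sylow_le
  intro r hr
  haveI : Fact r.Prime := ⟨hr⟩
  obtain ⟨Q, hQ⟩ := exists_isSylowIn r V
  refine ⟨Q, hQ, ?_⟩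
  by_cases hd : r ∣ Nat.card V
  · apply pgroup_le_of_not_dvd_relIndex hn _ hQ.isPGroup (hQ.le.trans hVX)
    intro hd2
    have := Nat.Coprime.eq_one_of_dvd (Nat.Coprime.coprime_dvd_left hd hcop) hd2
    exact hr.one_lt.ne' this
  · have h1 : Q = ⊥ := by
      rcases hQ.isPGroup.card_eq_or_dvd with h | h
      · exact Subgroup.card_eq_one.mp h
      · exact absurd (h.trans (Subgroup.card_dvd_of_le hQ.le)) hd
    rw [h1]; exact bot_le

end Cfsg.Agent.Lib.Helper3.BG14
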