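import Mathlib
import Cfsg.Agent.Lib.Helper3.BG14A

/-!
B&G Lemma 14.2 / Theorem A block, part 2: consequences of the frozen statement of S1430 (`P1430`):
`K* ≠ 1`, `C_M(k) = K K*`, existence of `U`.
-/

set_option autoImplicit false
open Cfsg

namespace Cfsg.Agent.Lib.Helper3.BG14

open Cfsg.Agent.Lib.Helper10.BG Cfsg.Agent.Lib.Helper10 Cfsg.Agent.Lib.Helper9.BGExc
open Cfsg.Agent.Lib.Helper19.BGCompl Cfsg.Agent.Lib.Helper1.BGSigmaDecomp
open Cfsg.Agent.Lib.Helper3.BGStubs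

variable {G : Type*} [Group G] [Finite G]

/-- a nontrivial subgroup contains a subgroup of prime order. -/
theorem exists_prime_card_le {K : Subgroup G} (hK : K ≠ ⊥) :
    ∃ X : Subgroup G, X ≤ K ∧ (Nat.card X).Prime := by
  have h1 : Nat.card K ≠ 1 := fun h => hK (Subgroup.card_eq_one.mp h)
  obtain ⟨p, hp, hpd⟩ := Nat.exists_prime_and_dvd h1
  haveI : Fact p.Prime := ⟨hp⟩
  obtain ⟨x, hx⟩ := exists_prime_orderOf_dvd_card' (G := K) p hpd
  refine ⟨Subgroup.zpowers (x : G), Subgroup.zpowers_le.mpr x.2, ?_⟩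
  rw [Nat.card_zpowers, Subgroup.orderOf_coe, hx]
  exact hp

/-- the witnesses in the definition of `κ(M)`, for a Sylow subgroup given as a subgroup of `G`. -/
theorem kappa_witness {M : Subgroup G} {p : ℕ} [Fact p.Prime] (hκ : p ∈ kappa M) {T : Subgroup G}
    (hT : IsSylowIn p T M) :
    ∃ x ∈ T, x ≠ 1 ∧ ∃ y ∈ sigmaCore M, y ≠ 1 ∧ x * y = y * x := by
  obtain ⟨-, x, hx, hx1, y, hy, hy1, hxy⟩ := hκ.2.2.2 hT.toSylow
  refine ⟨(x : G), (hT.mem_toSylow x).mp hx, ?_, y, hy, hy1, hxy⟩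
  intro h
  exact hx1 (Subtype.ext h)

/-- `K* = C_{M_σ}(K) ≠ 1` for a Hall `κ(M)`-subgroup `K`. -/
theorem Kstar_ne_bot (hG : IsMinSimpleOddOrder G) {M : Subgroup G} (hM : IsCoatom M)
    (h30 : P1430 G) {K : Subgroup G} (hK : IsPiHallOf (kappa M) K M) :
    sigmaCore M ⊓ Subgroup.centralizer (K : Set G) ≠ ⊥ := by
  by_cases hK1 : K = ⊥
  · rw [hK1]
    have : Subgroup.centralizer (((⊥ : Subgroup G) : Set G)) = ⊤ := by
      rw [Subgroup.coe_bot, Subgroup.centralizer_eq_top_iff_subset]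
      intro x hx
      rw [Set.mem_singleton_iff] at hx
      rw [hx]
      exact (Subgroup.center G).one_mem
    rw [this, inf_top_eq]
    exact sigmaCore_ne_bot hG hM
  · obtain ⟨h1, -, -⟩ := h30 M hM K hK hK1
    have hc1 : Nat.card K ≠ 1 := fun h => hK1 (Subgroup.card_eq_one.mp h)
    obtain ⟨p, hp, hpd⟩ := Nat.exists_prime_and_dvd hc1
    haveI : Fact p.Prime := ⟨hp⟩
    have hpκ : p ∈ kappa M := hK.2.1 p hp hpd
    obtain ⟨T, hT⟩ := exists_isSylowIn p K
    have hTM : IsSylowIn p T M := hT.of_not_dvd_relIndex hK.1 (hK.2.2 p hp hpκ)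
    obtain ⟨x, hxT, hx1, y, hy, hy1, hxy⟩ := kappa_witness hpκ hTM
    have hyK : y ∈ sigmaCore M ⊓ Subgroup.centralizer (K : Set G) := by
      rw [← h1 x (hT.le hxT) hx1]
      refine Subgroup.mem_inf.mpr ⟨hy, ?_⟩
      rw [Subgroup.mem_centralizer_singleton_iff]
      exact hxy.symm
    intro hbot
    rw [hbot, Subgroup.mem_bot] at hyK
    exact hy1 hyK

/-- `N_M(K) = K K*`. -/
theorem normalizer_K_eq {M : Subgroup G} (hM : IsCoatom M)
    (h30 : P1430 G) {K : Subgroup G} (hK : IsPiHallOf (kappa M) K M) (hK1 : K ≠ ⊥) :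
    M ⊓ Subgroup.normalizer (K : Set G) =
      K ⊔ (sigmaCore M ⊓ Subgroup.centralizer (K : Set G)) := by
  obtain ⟨-, -, h3⟩ := h30 M hM K hK hK1
  obtain ⟨X, hXK, hXp⟩ := exists_prime_card_le hK1
  exact (h3 X hXK hXp).2.1

/-- `C_M(k) = K K*` for `k ∈ K#` when `K` is abelian. -/
theorem centralizer_elt_eq {M : Subgroup G} (hM : IsCoatom M)
    (h30 : P1430 G) {K : Subgroup G} (hK : IsPiHallOf (kappa M) K M)
    (hKc : ∀ a ∈ K, ∀ b ∈ K, a * b = b * a) {k : G} (hk : k ∈ K) (hk1 : k ≠ 1) :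
    M ⊓ Subgroup.centralizer ({k} : Set G) =
      K ⊔ (sigmaCore M ⊓ Subgroup.centralizer (K : Set G)) := by
  have hK1 : K ≠ ⊥ := by
    rintro rfl
    exact hk1 (Subgroup.mem_bot.mp hk)
  obtain ⟨-, -, h3⟩ := h30 M hM K hK hK1
  apply le_antisymm
  · -- a subgroup of prime order of `⟨k⟩`
    have hZ1 : Subgroup.zpowers k ≠ ⊥ := by
      intro h
      have : k ∈ (⊥ : Subgroup G) := h ▸ Subgroup.mem_zpowers k
      exact hk1 (Subgroup.mem_bot.mp this)
    obtain ⟨X, hXZ, hXp⟩ := exists_prime_card_le hZ1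
    have hXK : X ≤ K := hXZ.trans (Subgroup.zpowers_le.mpr hk)
    rw [← (h3 X hXK hXp).1]
    intro g hg
    obtain ⟨hgM, hgc⟩ := Subgroup.mem_inf.mp hg
    refine Subgroup.mem_inf.mpr ⟨hgM, ?_⟩
    have hgk : g * k = k * g := Subgroup.mem_centralizer_singleton_iff.mp hgc
    -- `g` centralizes `⟨k⟩`, hence `X`
    have hcomm : ∀ x ∈ X, g * x * g⁻¹ = x := by
      intro x hx
      obtain ⟨n, rfl⟩ := Subgroup.mem_zpowers_iff.mp (hXZ hx)
      have : Commute g (k ^ n) := (show Commute g k from hgk).zpow_right n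
      rw [this.eq, mul_inv_cancel_right]
    rw [Subgroup.mem_normalizer_iff]
    intro x
    constructor
    · intro hx
      rw [hcomm x hx]; exact hx
    · intro hx
      have h1 : g⁻¹ * (g * x * g⁻¹) * g = x := by group
      have h2 := hcomm _ hx
      -- `g⁻¹` also centralizes
      have h3' : g * (g * x * g⁻¹) * g⁻¹ = g * x * g⁻¹ := h2
      have h4 : g * x * g⁻¹ = x := by
        have := congrArg (fun t => g⁻¹ * t * g) h3'
        simpa [mul_assoc] using this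
      rw [← h4]; exact hx
  · apply sup_le
    · intro a ha
      refine Subgroup.mem_inf.mpr ⟨hK.1 ha, ?_⟩
      rw [Subgroup.mem_centralizer_singleton_iff]
      exact hKc a ha k hk
    · intro a ha
      obtain ⟨haσ, hac⟩ := Subgroup.mem_inf.mp ha
      refine Subgroup.mem_inf.mpr ⟨sigmaCore_le M haσ, ?_⟩
      rw [Subgroup.mem_centralizer_singleton_iff]
      exact (Subgroup.mem_centralizer_iff.mp hac k hk).symm

end Cfsg.Agent.Lib.Helper3.BG14
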