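import Mathlib
import Cfsg.Agent.Lib.Helper3.BG14B

/-!
B&G Lemma 14.2 / Theorem A block, part 3: existence of `U` in the standard factorisation,
normality of `U M_σ`, conjugacy of the `K`-invariant complements under `C_{M_σ}(K)`,
`U` abelian with `K` acting freely (all from the frozen statement of S1430).
-/

set_option autoImplicit false
open Cfsg

namespace Cfsg.Agent.Lib.Helper3.BG14

open Cfsg.Agent.Lib.Helper10.BG Cfsg.Agent.Lib.Helper10 Cfsg.Agent.Lib.Helper9.BGExc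
open Cfsg.Agent.Lib.Helper19.BGCompl Cfsg.Agent.Lib.Helper1.BGSigmaDecomp
open Cfsg.Agent.Lib.Helper3.BGStubs

variable {G : Type*} [Group G] [Finite G]

/-- `K ∩ M_σ = 1` for a `κ(M)`-subgroup `K` of `M`. -/
theorem kappa_group_inf_sigmaCore (hG : IsMinSimpleOddOrder G) {M : Subgroup G} (hM : IsCoatom M)
    {K : Subgroup G} (hK : ∀ p : ℕ, p.Prime → p ∣ Nat.card K → p ∈ kappa M) :
    K ⊓ sigmaCore M = ⊥ := by
  apply inf_eq_bot_of_coprime
  apply Nat.Coprime.symm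
  apply Nat.coprime_of_dvd
  intro q hq hd1 hd2
  exact (hK q hq hd2).2.2.1 (mem_sigma_of_dvd_card_sigmaCore hG hM hq hd1)

/-- `|K M_σ| = |K| |M_σ|` for a `κ(M)`-subgroup `K` of `M`. -/
theorem card_kappa_group_sup_sigmaCore (hG : IsMinSimpleOddOrder G) {M : Subgroup G}
    (hM : IsCoatom M) {K : Subgroup G} (hKM : K ≤ M)
    (hK : ∀ p : ℕ, p.Prime → p ∣ Nat.card K → p ∈ kappa M) :
    Nat.card ↥(K ⊔ sigmaCore M) = Nat.card K * Nat.card (sigmaCore M) := by
  have h1 := Cfsg.H5.card_sup_mul_card_inf (hKM.trans (le_normalizer_sigmaCore M))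
  rw [kappa_group_inf_sigmaCore hG hM hK, Subgroup.card_bot, mul_one] at h1
  exact h1

/-- A Hall `(κ ∪ σ)'`-subgroup of `M` normalized by the Hall `κ(M)`-subgroup `K` gives a standard
factorisation. -/
theorem isSigmaDecomposition_of_hall (hG : IsMinSimpleOddOrder G) {M : Subgroup G}
    (hM : IsCoatom M) {K U : Subgroup G} (hKc : IsCyclic K) (hK : IsPiHallOf (kappa M) K M)
    (hU : IsPiHallOf {q | q.Prime ∧ q ∉ kappa M ∧ q ∉ sigma M} U M)
    (hKU : K ≤ Subgroup.normalizer (U : Set G)) : IsSigmaDecomposition M K U := by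
  have hB : K ⊔ sigmaCore M ≤ M := sup_le hK.1 (sigmaCore_le M)
  have hBcard := card_kappa_group_sup_sigmaCore hG hM hK.1 hK.2.1
  set π : Set ℕ := {q | q ∈ kappa M ∨ q ∈ sigma M} with hπ
  have hBπ : ∀ p : ℕ, p.Prime → p ∣ Nat.card ↥(K ⊔ sigmaCore M) → p ∈ π := by
    intro p hp hd
    rw [hBcard] at hd
    rcases (Nat.Prime.dvd_mul hp).mp hd with h | h
    · exact Or.inl (hK.2.1 p hp h)
    · exact Or.inr (mem_sigma_of_dvd_card_sigmaCore hG hM hp h)
  have hBi : ∀ p : ℕ, p.Prime → p ∈ π → ¬ p ∣ (K ⊔ sigmaCore M).relIndex M := by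
    intro p hp hpπ hd
    rcases hpπ with h | h
    · exact hK.2.2 p hp h (hd.trans (Subgroup.relIndex_dvd_of_le_left M le_sup_left))
    · exact not_dvd_relIndex_sigmaCore hG hM hp h
        (hd.trans (Subgroup.relIndex_dvd_of_le_left M le_sup_right))
  have hUπ : ∀ p : ℕ, p.Prime → p ∣ Nat.card U → p ∉ π := by
    intro p hp hd hpπ
    obtain ⟨-, h1, h2⟩ := hU.2.1 p hp hd
    rcases hpπ with h | h
    · exact h1 h
    · exact h2 h
  have hUi : ∀ p : ℕ, p.Prime → p ∉ π → ¬ p ∣ U.relIndex M := by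
    intro p hp hpπ
    apply hU.2.2 p hp
    refine ⟨hp, fun h => hpπ (Or.inl h), fun h => hpπ (Or.inr h)⟩
  have hcard := card_mul_card_of_hall hB hU.1 hBπ hBi hUπ hUi
  have hinf : U ⊓ (K ⊔ sigmaCore M) = ⊥ := by
    apply inf_eq_bot_of_coprime
    apply Nat.coprime_of_dvd
    intro k hk hk1 hk2
    exact hUπ k hk hk1 (hBπ k hk hk2)
  refine ⟨hKc, hK, ?_, hKU⟩
  apply isComplIn_of_inf_of_card hU.1 hB hinf
  rw [mul_comm]; exact hcard

/-- Existence of `U` (first half of S1352). -/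
theorem exists_decomposition (hG : IsMinSimpleOddOrder G) {M : Subgroup G} (hM : IsCoatom M)
    (h30 : P1430 G) {K : Subgroup G} (hKc : IsCyclic K) (hK : IsPiHallOf (kappa M) K M) :
    ∃ U : Subgroup G, IsSigmaDecomposition M K U ∧ (K ≠ ⊥ → IsMulCommutative U ∧
      ∀ k ∈ K, k ≠ 1 → U ⊓ Subgroup.centralizer ({k} : Set G) = ⊥) := by
  by_cases hK1 : K = ⊥
  · obtain ⟨E, hE, -⟩ := exists_isComplIn_sigmaCore_ge hG hM (X := ⊥) bot_le
      (by rw [Subgroup.card_bot]; exact Nat.coprime_one_left _)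
    refine ⟨E, ⟨hKc, hK, ?_, ?_⟩, fun h => absurd hK1 h⟩
    · rw [hK1, bot_sup_eq]; exact hE
    · rw [hK1]; exact bot_le
  · obtain ⟨-, ⟨U, hUc, hUH, hKU, hfree⟩, -⟩ := h30 M hM K hK hK1
    exact ⟨U, isSigmaDecomposition_of_hall hG hM hKc hK hUH hKU, fun _ => ⟨hUc, hfree⟩⟩

/-- `U M_σ` is normal in `M` (second half of S1352). -/
theorem le_normalizer_U_sup_sigmaCore (hG : IsMinSimpleOddOrder G) {M : Subgroup G}
    (hM : IsCoatom M) {K U : Subgroup G} (hKU : IsSigmaDecomposition M K U) :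
    M ≤ Subgroup.normalizer ((U ⊔ sigmaCore M : Subgroup G) : Set G) := by
  have hE := isComplIn_UK hG hM hKU
  have hsup : (U ⊔ K) ⊔ sigmaCore M = M := IsComplIn.sup_eq hE
  have hUn : U ≤ Subgroup.normalizer ((U ⊔ sigmaCore M : Subgroup G) : Set G) :=
    le_sup_left.trans Subgroup.le_normalizer
  have hσn : sigmaCore M ≤ Subgroup.normalizer ((U ⊔ sigmaCore M : Subgroup G) : Set G) :=
    le_sup_right.trans Subgroup.le_normalizer
  have hKn : K ≤ Subgroup.normalizer ((U ⊔ sigmaCore M : Subgroup G) : Set G) :=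
    le_normalizer_sup hKU.normal (hKU.hall.1.trans (le_normalizer_sigmaCore M))
  calc M = (U ⊔ K) ⊔ sigmaCore M := hsup.symm
    _ ≤ _ := sup_le (sup_le hUn hKn) hσn

end Cfsg.Agent.Lib.Helper3.BG14
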