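import Mathlib
import Cfsg.Agent.Lib.Helper3.BG14C

/-!
B&G Lemma 14.2 / Theorem A block, part 4: conjugacy of the `K`-invariant complements under
`C_{M_σ}(K)`; `U` abelian with `K` acting freely, for every standard factorisation with `K ≠ 1`.
-/

set_option autoImplicit false
open Cfsg

namespace Cfsg.Agent.Lib.Helper3.BG14

open Cfsg.Agent.Lib.Helper10.BG Cfsg.Agent.Lib.Helper10 Cfsg.Agent.Lib.Helper9.BGExc
open Cfsg.Agent.Lib.Helper19.BGCompl Cfsg.Agent.Lib.Helper1.BGSigmaDecomp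
open Cfsg.Agent.Lib.Helper3.BGStubs

variable {G : Type*} [Group G] [Finite G]

theorem card_cj (g : G) (X : Subgroup G) : Nat.card (cj g X) = Nat.card X :=
  Subgroup.card_map_of_injective (MulAut.conj g).injective

/-- `|U|` and `|K|` are coprime. -/
theorem coprime_card_U_K (hG : IsMinSimpleOddOrder G) {M : Subgroup G} (hM : IsCoatom M)
    {K U : Subgroup G} (h : IsSigmaDecomposition M K U) : (Nat.card U).Coprime (Nat.card K) := by
  apply Nat.coprime_of_dvd
  intro q hq hd1 hd2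
  exact not_mem_kappa_of_dvd_card_U hG hM h hq hd1 (h.hall.2.1 q hq hd2)

/-- two standard factorisations with the same `K ≠ 1` have the same `|U|`. -/
theorem card_U_eq (hG : IsMinSimpleOddOrder G) {M : Subgroup G} (hM : IsCoatom M)
    {K U U' : Subgroup G} (h : IsSigmaDecomposition M K U) (h' : IsSigmaDecomposition M K U') :
    Nat.card U' = Nat.card U := by
  have h1 := Cfsg.Agent.Lib.Helper1.BGSigmaDecomp.card_eq hG hM h
  have h2 := Cfsg.Agent.Lib.Helper1.BGSigmaDecomp.card_eq hG hM h'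
  rw [h1, mul_assoc, mul_assoc] at h2
  have hpos : 0 < Nat.card K * Nat.card (sigmaCore M) := Nat.mul_pos Nat.card_pos Nat.card_pos
  exact (Nat.eq_of_mul_eq_mul_right hpos h2).symm

/-- two standard factorisations with the same `K ≠ 1` are conjugate under `K* = C_{M_σ}(K)`. -/
theorem exists_conj_decomposition (hG : IsMinSimpleOddOrder G) {M : Subgroup G} (hM : IsCoatom M)
    (h30 : P1430 G) {K U U' : Subgroup G} (hK1 : K ≠ ⊥)
    (h : IsSigmaDecomposition M K U) (h' : IsSigmaDecomposition M K U') :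
    ∃ c ∈ sigmaCore M ⊓ Subgroup.centralizer (K : Set G), U' = cj c U := by
  have hE := isComplIn_UK hG hM h
  have hE' := isComplIn_UK hG hM h'
  -- step 1: `E' = cj m E`
  obtain ⟨m, hm, hle⟩ := compl_dominance hG hM hE hE'.1
    (fun q hq hd => compl_not_mem_sigma hG hM hE' hq hd)
  have hcardE : Nat.card ↥(U' ⊔ K) = Nat.card ↥(U ⊔ K) := by
    rw [← compl_relIndex hE', ← compl_relIndex hE]
  have hEm : U' ⊔ K = cj m (U ⊔ K) :=
    Subgroup.eq_of_le_of_card_ge hle (by rw [card_cj, hcardE])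
  -- step 2: Hall conjugacy of `K` and `cj m K` inside `E'`
  have hE'top : U' ⊔ K ≠ ⊤ := fun htop => hM.1 (top_le_iff.mp (htop ▸ hE'.1))
  have hsol : Group.IsSolvable ↥(U' ⊔ K) := isSolvable_of_ne_top hG hE'top
  have hKE' : K ≤ U' ⊔ K := le_sup_right
  have hmKE' : cj m K ≤ U' ⊔ K := by rw [hEm]; exact cj_mono m le_sup_right
  have hrel : (cj m K).relIndex (U' ⊔ K) = Nat.card U' := by
    have e1 := Cfsg.Agent.Lib.Helper12.card_mul_relIndex_eq hmKE'
    rw [card_cj, card_U_sup_K h', mul_comm] at e1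
    exact Nat.eq_of_mul_eq_mul_right Nat.card_pos e1
  have hcop : (Nat.card K).Coprime (Nat.card U') := (coprime_card_U_K hG hM h').symm
  obtain ⟨g, hg, hgK⟩ := hall_le_conj_in hsol hmKE' hKE' (by rw [card_cj, hrel]; exact hcop)
    (by rw [hrel]; exact hcop)
  have hgK' : cj g K = cj m K :=
    Subgroup.eq_of_le_of_card_ge hgK (by rw [card_cj, card_cj])
  -- `n := g⁻¹ m` normalizes `K`
  set n := g⁻¹ * m with hn
  have hnK : cj n K = K := by
    rw [hn, ← cj_cj, ← hgK', cj_inv_cj]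
  have hnM : n ∈ M := M.mul_mem (M.inv_mem (hE'.1 hg)) hm
  have hnN : n ∈ M ⊓ Subgroup.normalizer (K : Set G) :=
    Subgroup.mem_inf.mpr ⟨hnM, mem_normalizer_of_map_conj_eq hnK⟩
  rw [normalizer_K_eq hM h30 h.hall hK1] at hnN
  -- `E' = cj n E`
  have hEn : U' ⊔ K = cj n (U ⊔ K) := by
    have h1 : cj g⁻¹ (U' ⊔ K) = U' ⊔ K := cj_eq_self_of_mem ((U' ⊔ K).inv_mem hg)
    rw [hn, ← cj_cj, ← hEm, h1]
  -- step 3: write `n = c k`
  have hKn : K ≤ Subgroup.normalizer
      ((sigmaCore M ⊓ Subgroup.centralizer (K : Set G) : Subgroup G) : Set G) :=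
    le_normalizer_inf (h.hall.1.trans (le_normalizer_sigmaCore M))
      (le_normalizer_centralizer Subgroup.le_normalizer)
  rw [sup_comm] at hnN
  obtain ⟨c, hc, k, hk, hnck⟩ := exists_mul_of_mem_sup_of_le_normalizer hKn hnN
  have hEc : U' ⊔ K = cj c (U ⊔ K) := by
    rw [hEn, hnck, ← cj_cj, cj_eq_self_of_mem (Subgroup.mem_sup_right hk : k ∈ U ⊔ K)]
  refine ⟨c, hc, ?_⟩
  -- step 4: `cj c U ≤ U'`
  have hU'n : U' ⊔ K ≤ Subgroup.normalizer (U' : Set G) := sup_le Subgroup.le_normalizer h'.normal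
  have hrelU : U'.relIndex (U' ⊔ K) = Nat.card K := by
    have e1 := Cfsg.Agent.Lib.Helper12.card_mul_relIndex_eq (le_sup_left : U' ≤ U' ⊔ K)
    rw [card_U_sup_K h'] at e1
    exact Nat.eq_of_mul_eq_mul_left Nat.card_pos e1
  have hVle : cj c U ≤ U' := by
    apply le_of_coprime_relIndex hU'n
    · rw [hEc]; exact cj_mono c le_sup_left
    · rw [hrelU, card_cj]; exact coprime_card_U_K hG hM h
  exact (Subgroup.eq_of_le_of_card_ge hVle (by rw [card_cj, card_U_eq hG hM h h'])).symm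

/-- For every standard factorisation with `K ≠ 1`: `U` is abelian and `K` acts freely on it
(S1353 and the first half of S1363). -/
theorem U_comm_free (hG : IsMinSimpleOddOrder G) {M : Subgroup G} (hM : IsCoatom M)
    (h30 : P1430 G) {K U : Subgroup G} (hK1 : K ≠ ⊥) (h : IsSigmaDecomposition M K U) :
    IsMulCommutative U ∧ ∀ k ∈ K, k ≠ 1 → U ⊓ Subgroup.centralizer ({k} : Set G) = ⊥ := by
  obtain ⟨U₀, h₀, h₀'⟩ := exists_decomposition hG hM h30 h.cyclic h.hall
  obtain ⟨hU₀c, hfree⟩ := h₀' hK1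
  obtain ⟨c, hc, rfl⟩ := exists_conj_decomposition hG hM h30 hK1 h₀ h
  obtain ⟨-, hcK⟩ := Subgroup.mem_inf.mp hc
  refine ⟨Cfsg.Agent.Lib.Helper10.isMulCommutative_map' _ hU₀c, ?_⟩
  intro k hk hk1
  rw [eq_bot_iff]
  intro x hx
  obtain ⟨hxU, hxc⟩ := Subgroup.mem_inf.mp hx
  rw [Subgroup.mem_bot]
  have hck : c * k = k * c := (Subgroup.mem_centralizer_iff.mp hcK k hk).symm
  have hxk : x * k = k * x := Subgroup.mem_centralizer_singleton_iff.mp hxc
  have h1 : c⁻¹ * x * c ∈ U₀ ⊓ Subgroup.centralizer ({k} : Set G) := by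
    refine Subgroup.mem_inf.mpr ⟨mem_cj.mp hxU, ?_⟩
    rw [Subgroup.mem_centralizer_singleton_iff]
    have hck' : k * c⁻¹ = c⁻¹ * k := by
      have := congrArg (fun t => c⁻¹ * t * c⁻¹) hck
      simpa [mul_assoc] using this
    calc c⁻¹ * x * c * k = c⁻¹ * x * (c * k) := by group
      _ = c⁻¹ * x * (k * c) := by rw [hck]
      _ = c⁻¹ * (x * k) * c := by group
      _ = c⁻¹ * (k * x) * c := by rw [hxk]
      _ = (c⁻¹ * k) * x * c := by group
      _ = (k * c⁻¹) * x * c := by rw [hck']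
      _ = k * (c⁻¹ * x * c) := by group
  rw [hfree k hk hk1, Subgroup.mem_bot] at h1
  have : x = c * (c⁻¹ * x * c) * c⁻¹ := by group
  rw [this, h1]; group

end Cfsg.Agent.Lib.Helper3.BG14
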