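import Mathlib
import Cfsg.Agent.Lib.Helper3.BG14D

/-!
S1352, S1353, S1354 and the first half of S1363 modulo the frozen statement of S1430.
-/

set_option autoImplicit false
open Cfsg

namespace Cfsg.Agent.Lib.Helper3.BG14

open Cfsg.Agent.Lib.Helper10.BG Cfsg.Agent.Lib.Helper10 Cfsg.Agent.Lib.Helper9.BGExc
open Cfsg.Agent.Lib.Helper19.BGCompl Cfsg.Agent.Lib.Helper1.BGSigmaDecomp
open Cfsg.Agent.Lib.Helper3.BGStubs

variable {G : Type*} [Group G] [Finite G]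

theorem s1352_of (hG : Cfsg.IsMinSimpleOddOrder G) (h30 : P1430 G)
    (M : Subgroup G) (hM : IsCoatom M) (K : Subgroup G)
    (hKc : IsCyclic K) (hK : Cfsg.IsPiHallOf (Cfsg.kappa M) K M) :
    (∃ U : Subgroup G, Cfsg.IsSigmaDecomposition M K U) ∧
      ∀ U : Subgroup G, Cfsg.IsSigmaDecomposition M K U → M ≤ Subgroup.normalizer ((U ⊔ Cfsg.sigmaCore M : Subgroup G) : Set G) := by
  refine ⟨?_, fun U hU => le_normalizer_U_sup_sigmaCore hG hM hU⟩
  obtain ⟨U, hU, -⟩ := exists_decomposition hG hM h30 hKc hK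
  exact ⟨U, hU⟩

theorem s1353_of (hG : Cfsg.IsMinSimpleOddOrder G) (h30 : P1430 G)
    (M : Subgroup G) (hM : IsCoatom M) (K U : Subgroup G) (hKU : Cfsg.IsSigmaDecomposition M K U) :
    ∀ k ∈ K, k ≠ 1 → U ⊓ Subgroup.centralizer ({k} : Set G) = ⊥ := by
  intro k hk hk1
  have hK1 : K ≠ ⊥ := by
    rintro rfl
    exact hk1 (Subgroup.mem_bot.mp hk)
  exact (U_comm_free hG hM h30 hK1 hKU).2 k hk hk1

theorem s1354_of (hG : Cfsg.IsMinSimpleOddOrder G) (h30 : P1430 G)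
    (M : Subgroup G) (hM : IsCoatom M) (K : Subgroup G)
    (hKc : IsCyclic K) (hK : Cfsg.IsPiHallOf (Cfsg.kappa M) K M) :
    Cfsg.sigmaCore M ⊓ Subgroup.centralizer (K : Set G) ≠ ⊥ ∧
      (K ≠ ⊥ → ∀ k ∈ K, k ≠ 1 →
        M ⊓ Subgroup.centralizer ({k} : Set G) = K ⊔ (Cfsg.sigmaCore M ⊓ Subgroup.centralizer (K : Set G))) := by
  refine ⟨Kstar_ne_bot hG hM h30 hK, fun _ k hk hk1 => ?_⟩
  apply centralizer_elt_eq hM h30 hK _ hk hk1
  intro a ha b hb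
  haveI : IsMulCommutative K := IsCyclic.isMulCommutative
  exact congrArg Subtype.val (mul_comm' (⟨a, ha⟩ : K) ⟨b, hb⟩)

/-- first half of S1363. -/
theorem s1363a_of (hG : Cfsg.IsMinSimpleOddOrder G) (h30 : P1430 G)
    (M : Subgroup G) (hM : IsCoatom M) (K U : Subgroup G) (hKU : Cfsg.IsSigmaDecomposition M K U)
    (hK1 : K ≠ ⊥) : IsMulCommutative U :=
  (U_comm_free hG hM h30 hK1 hKU).1

end Cfsg.Agent.Lib.Helper3.BG14
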