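import Mathlib
import Cfsg.Agent.Lib.Helper3.BG14E
import Cfsg.Agent.Lib.Helper10.BGTwelveF
import Cfsg.Agent.Lib.Helper10.FrobComplement
import Cfsg.Agent.S1417
import Cfsg.Agent.S1420

/-!
S1361 and S1359 modulo the frozen statements of S1430 and S1421.
-/

set_option autoImplicit false
open Cfsg

namespace Cfsg.Agent.Lib.Helper3.BG14

open Cfsg.Agent.Lib.Helper10.BG Cfsg.Agent.Lib.Helper10 Cfsg.Agent.Lib.Helper9.BGExc
open Cfsg.Agent.Lib.Helper19.BGCompl Cfsg.Agent.Lib.Helper1.BGSigmaDecomp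
open Cfsg.Agent.Lib.Helper3.BGStubs

variable {G : Type*} [Group G] [Finite G]

/-- an element of prime order `p ∉ σ(M)` of `M`, with `M` of `p`-rank one, centralizing a
non-identity element of `M_σ`, puts `p` in `κ(M)`. -/
theorem mem_kappa_of_commute (hG : IsMinSimpleOddOrder G) {M : Subgroup G}
    {p : ℕ} [Fact p.Prime] (hpσ : p ∉ sigma M) (hr1 : PRankLE p 1 ↥M) {x : G} (hxM : x ∈ M)
    (hxo : orderOf x = p) {y : G} (hy : y ∈ sigmaCore M) (hy1 : y ≠ 1) (hxy : x * y = y * x) :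
    p ∈ kappa M := by
  have hp : p.Prime := Fact.out
  have hpM : p ∣ Nat.card M := by
    have h1 : orderOf (⟨x, hxM⟩ : M) = p := by rw [← hxo]; exact Subgroup.orderOf_mk x hxM
    rw [← h1]; exact orderOf_dvd_natCard _
  have hpG : p ∣ Nat.card G := hpM.trans (Subgroup.card_subgroup_dvd_card M)
  have hp2 : p ≠ 2 := prime_ne_two hG hpG
  have hZp : IsPGroup p (Subgroup.zpowers x) := by
    apply IsPGroup.of_card (n := 1)
    rw [Nat.card_zpowers, hxo, pow_one]
  obtain ⟨T, hT, hxT⟩ := exists_isSylowIn_ge (Subgroup.zpowers_le.mpr hxM) hZp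
  refine ⟨hp, hpM, hpσ, fun P => ⟨?_, ?_⟩⟩
  · have h1 := isCyclic_of_pRankLE_one hp2 hr1 (isSylowIn_of_sylow P).le
      (isSylowIn_of_sylow P).isPGroup
    exact (MulEquiv.isCyclic
      ((P : Subgroup M).equivMapOfInjective M.subtype M.subtype_injective)).mpr h1
  · obtain ⟨m, hm, hconj⟩ := hT.exists_conj (isSylowIn_of_sylow P)
    have hx' : m * x * m⁻¹ ∈ (P : Subgroup M).map M.subtype := by
      rw [hconj]
      exact ⟨x, hxT (Subgroup.mem_zpowers x), rfl⟩
    obtain ⟨x'', hx''P, hx''⟩ := hx'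
    have hx1 : x ≠ 1 := by
      intro h
      rw [h, orderOf_one] at hxo
      exact hp.one_lt.ne hxo
    refine ⟨x'', hx''P, ?_, m * y * m⁻¹, ?_, ?_, ?_⟩
    · intro h1
      apply hx1
      have h2 : m * x * m⁻¹ = 1 := by rw [← hx'', h1]; rfl
      have h3 : x = m⁻¹ * (m * x * m⁻¹) * m := by group
      rw [h3, h2]; group
    · exact conj_mem_of_mem_normalizer (le_normalizer_sigmaCore M hm) hy
    · intro h1
      apply hy1
      have h3 : y = m⁻¹ * (m * y * m⁻¹) * m := by group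
      rw [h3, h1]; group
    · have h4 : ((x'' : M) : G) = m * x * m⁻¹ := hx''
      rw [h4]
      calc m * x * m⁻¹ * (m * y * m⁻¹) = m * (x * y) * m⁻¹ := by group
        _ = m * (y * x) * m⁻¹ := by rw [hxy]
        _ = m * y * m⁻¹ * (m * x * m⁻¹) := by group

/-- an element of prime order `p ∉ σ(M) ∪ κ(M)` of `M` centralizing a non-identity element of
`M_σ` has `p ∈ τ₂(M)`. -/
theorem mem_tau2_of_commute (hG : IsMinSimpleOddOrder G) {M : Subgroup G} (hM : IsCoatom M)
    {p : ℕ} [Fact p.Prime] (hpσ : p ∉ sigma M) (hpκ : p ∉ kappa M) {x : G} (hxM : x ∈ M)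
    (hxo : orderOf x = p) {y : G} (hy : y ∈ sigmaCore M) (hy1 : y ≠ 1) (hxy : x * y = y * x) :
    p ∈ tau2 M := by
  have hp : p.Prime := Fact.out
  refine ⟨hp, hpσ, alpha_rank M p hp (fun h => hpσ (alpha_subset_sigma hG hM h)), fun hr1 => ?_⟩
  exact hpκ (mem_kappa_of_commute hG hpσ hr1 hxM hxo hy hy1 hxy)

/-- `κ(M) = ∅` when `⊥` is a Hall `κ(M)`-subgroup. -/
theorem not_mem_kappa_of_bot_hall {M : Subgroup G} (hK : IsPiHallOf (kappa M) ⊥ M) (p : ℕ) :
    p ∉ kappa M := by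
  intro hp
  apply hK.2.2 p hp.1 hp
  rw [Subgroup.relIndex_bot_left]
  exact hp.2.1

/-- hypothesis (h) of S1421 holds when `κ(M) = ∅`. -/
theorem hyp_h_of_kappa_empty (hG : IsMinSimpleOddOrder G) {M : Subgroup G}
    (hκ : ∀ p : ℕ, p ∉ kappa M) {E : Subgroup G} (hEM : E ≤ M) :
    ∀ e ∈ E, e ≠ 1 → (∀ p : ℕ, p.Prime → p ∣ orderOf e → p ∈ Cfsg.tau1 M ∪ Cfsg.tau3 M) →
      Cfsg.sigmaCore M ⊓ Subgroup.centralizer ({e} : Set G) = ⊥ := by
  intro e he he1 hτ
  rw [eq_bot_iff]
  intro y hy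
  rw [Subgroup.mem_bot]
  by_contra hy1
  obtain ⟨hyσ, hyc⟩ := Subgroup.mem_inf.mp hy
  have hye : y * e = e * y := Subgroup.mem_centralizer_singleton_iff.mp hyc
  have hox : orderOf e ≠ 1 := fun h => he1 (orderOf_eq_one_iff.mp h)
  obtain ⟨p, hp, hpd⟩ := Nat.exists_prime_and_dvd hox
  haveI : Fact p.Prime := ⟨hp⟩
  obtain ⟨k, hk⟩ := hpd
  have hk0 : k ≠ 0 := by
    rintro rfl
    rw [mul_zero] at hk
    exact (orderOf_pos e).ne' hk
  have hzo : orderOf (e ^ k) = p := by
    rw [orderOf_pow' e hk0, hk, Nat.gcd_eq_right (Dvd.intro_left p rfl),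
      Nat.mul_div_cancel _ (Nat.pos_of_ne_zero hk0)]
  have hcomm : e ^ k * y = y * e ^ k := ((Commute.pow_right (show Commute y e from hye) k)).eq.symm
  have hpτ := hτ p hp ⟨k, hk⟩
  have hpσ : p ∉ sigma M := by
    rcases hpτ with h | h
    · exact h.2.1
    · exact h.2.1
  have hr1 : PRankLE p 1 ↥M := by
    rcases hpτ with h | h
    · exact h.2.2.2.2
    · exact h.2.2.2
  exact hκ p (mem_kappa_of_commute hG hpσ hr1 (M.pow_mem (hEM he) k) hzo hyσ hy1 hcomm)

/-- Every subgroup `X ≤ U` centralizing a non-identity element of `M_σ` is abelian. -/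
theorem comm_of_le_U_of_centralizes (hG : IsMinSimpleOddOrder G) {M : Subgroup G}
    (hM : IsCoatom M) (h30 : P1430 G) (h21 : P1421 G) {K U : Subgroup G}
    (hKU : IsSigmaDecomposition M K U) {X : Subgroup G} (hXU : X ≤ U) {y : G}
    (hy : y ∈ sigmaCore M) (hy1 : y ≠ 1) (hXy : ∀ x ∈ X, x * y = y * x) :
    ∀ a ∈ X, ∀ b ∈ X, a * b = b * a := by
  by_cases hK1 : K = ⊥
  · have hE : IsComplIn U (sigmaCore M) M := by
      have := hKU.compl
      rwa [hK1, bot_sup_eq] at this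
    have hκ : ∀ p : ℕ, p ∉ kappa M := not_mem_kappa_of_bot_hall (hK1 ▸ hKU.hall)
    obtain ⟨⟨A₀, -, -, hA₀c, hA₀⟩, -⟩ := h21 M hM U hE (hyp_h_of_kappa_empty hG hκ hE.1)
    have hXA : X ≤ A₀ := by
      intro x hx
      apply hA₀ y hy hy1
      refine Subgroup.mem_inf.mpr ⟨hXU hx, ?_⟩
      rw [Subgroup.mem_centralizer_singleton_iff]
      exact hXy x hx
    intro a ha b hb
    exact congrArg Subtype.val (mul_comm' (⟨a, hXA ha⟩ : A₀) ⟨b, hXA hb⟩)
  · have hUc := (U_comm_free hG hM h30 hK1 hKU).1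
    intro a ha b hb
    exact congrArg Subtype.val (mul_comm' (⟨a, hXU ha⟩ : U) ⟨b, hXU hb⟩)

theorem s1361_of (hG : Cfsg.IsMinSimpleOddOrder G) (h30 : P1430 G) (h21 : P1421 G)
    (M : Subgroup G) (hM : IsCoatom M) (K U : Subgroup G) (hKU : Cfsg.IsSigmaDecomposition M K U) (X : Subgroup G) (hXU : X ≤ U) (hX : X ≠ ⊥)
    (hXc : Cfsg.sigmaCore M ⊓ Subgroup.centralizer (X : Set G) ≠ ⊥) :
    Subgroup.centralizer (X : Set G) ≤ M ∧ ∀ L : Subgroup G, IsCoatom L → Subgroup.centralizer (X : Set G) ≤ L → L = M := by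
  classical
  -- a non-identity element of `M_σ` centralizing `X`
  obtain ⟨y, hy, hy1⟩ := exists_ne_one_of_ne_bot hXc
  obtain ⟨hyσ, hyc⟩ := Subgroup.mem_inf.mp hy
  have hXy : ∀ x ∈ X, x * y = y * x := fun x hx => (Subgroup.mem_centralizer_iff.mp hyc x hx)
  have hXM : X ≤ M := hXU.trans hKU.compl.1
  have hcomm := comm_of_le_U_of_centralizes hG hM h30 h21 hKU hXU hyσ hy1 hXy
  -- every prime divisor of `|X|` lies in `τ₂(M)`
  have hτ : ∀ p : ℕ, p.Prime → p ∣ Nat.card X → p ∈ tau2 M := by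
    intro p hp hpd
    haveI : Fact p.Prime := ⟨hp⟩
    obtain ⟨x, hx⟩ := exists_prime_orderOf_dvd_card' (G := X) p hpd
    have hpU : p ∣ Nat.card U := hpd.trans (Subgroup.card_dvd_of_le hXU)
    apply mem_tau2_of_commute hG hM (not_mem_sigma_of_dvd_card_U hG hM hKU hp hpU)
      (not_mem_kappa_of_dvd_card_U hG hM hKU hp hpU) (hXM x.2) _ hyσ hy1 (hXy x x.2)
    rw [Subgroup.orderOf_coe, hx]
  -- `X` is cyclic
  have hXnil : Group.IsNilpotent X := by
    haveI : IsMulCommutative X := ⟨⟨fun a b => Subtype.ext (hcomm a a.2 b b.2)⟩⟩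
    letI : CommGroup X := { (inferInstance : Group X) with mul_comm := fun a b => mul_comm' a b }
    exact CommGroup.isNilpotent
  have hXcyc : IsCyclic X := by
    apply isCyclic_of_isNilpotent_of_sylow_cyclic hXnil
    intro r hr S
    have hrp : r.Prime := Fact.out
    by_cases hd : r ∣ Nat.card X
    · have hrτ := hτ r hrp hd
      have hr2 : r ≠ 2 :=
        prime_ne_two hG ((hd.trans (Subgroup.card_dvd_of_le hXM)).trans
          (Subgroup.card_subgroup_dvd_card M))
      set Q : Subgroup G := (S : Subgroup X).map X.subtype with hQ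
      have hQp : IsPGroup r Q := S.isPGroup'.map _
      have hQX : Q ≤ X := Subgroup.map_subtype_le _
      have hQc : IsCyclic Q := by
        by_contra hnc
        obtain ⟨A, hAQ, hAe, hAc⟩ := exists_elementary_sq_of_not_isCyclic hr2 hQp hnc
        have hAM : A ≤ M := (hAQ.trans hQX).trans hXM
        have h17 := (Cfsg.Agent.S1417.result hG M hM r hrτ A ⟨hAM, hAe, hAc⟩).2.2.2.1
        have hyA : y ∈ sigmaCore M ⊓ Subgroup.centralizer (A : Set G) := by
          refine Subgroup.mem_inf.mpr ⟨hyσ, ?_⟩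
          rw [Subgroup.mem_centralizer_iff]
          intro a ha
          exact hXy a (hQX (hAQ ha))
        rw [h17, Subgroup.mem_bot] at hyA
        exact hy1 hyA
      exact (MulEquiv.isCyclic
        ((S : Subgroup X).equivMapOfInjective X.subtype X.subtype_injective)).mpr hQc
    · have h1 : Nat.card (S : Subgroup X) = 1 := by
        rw [S.card_eq_multiplicity, Nat.factorization_eq_zero_of_not_dvd hd, pow_zero]
      haveI : Subsingleton (S : Subgroup X) := (Nat.card_eq_one_iff_unique.mp h1).1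
      exact isCyclic_of_subsingleton
  obtain ⟨z, hz⟩ := hXcyc.exists_generator
  have hzM : (z : G) ∈ M := hXM z.2
  have hz1 : (z : G) ≠ 1 := by
    intro h
    apply hX
    rw [eq_bot_iff]
    intro x hx
    obtain ⟨n, hn⟩ := Subgroup.mem_zpowers_iff.mp (hz ⟨x, hx⟩)
    have : (x : G) = (z : G) ^ n := by
      have := congrArg Subtype.val hn
      simpa using this.symm
    rw [Subgroup.mem_bot, this, h, one_zpow]
  have hzτ : ∀ p : ℕ, p.Prime → p ∣ orderOf (z : G) → p ∈ tau2 M := by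
    intro p hp hpd
    apply hτ p hp
    rw [Subgroup.orderOf_coe] at hpd
    exact hpd.trans (orderOf_dvd_natCard z)
  have hzσ : (z : G) ∈ sigmaHat M := ⟨hzM, y, hyσ, hy1, hXy z z.2⟩
  obtain ⟨E, hE, -⟩ := exists_isComplIn_sigmaCore_ge hG hM (X := ⊥) bot_le
    (by rw [Subgroup.card_bot]; exact Nat.coprime_one_left _)
  have h20 := (Cfsg.Agent.S1420.result hG M hM E hE).2.2.2 (z : G) hzM hz1 hzτ hzσ
  have hcent : Subgroup.centralizer (X : Set G) = Subgroup.centralizer ({(z : G)} : Set G) := by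
    apply le_antisymm
    · exact Subgroup.centralizer_le (by
        intro w hw
        rw [Set.mem_singleton_iff] at hw
        rw [hw]; exact z.2)
    · intro g hg
      rw [Subgroup.mem_centralizer_iff]
      intro x hx
      obtain ⟨n, hn⟩ := Subgroup.mem_zpowers_iff.mp (hz ⟨x, hx⟩)
      have hxz : (x : G) = (z : G) ^ n := by
        have := congrArg Subtype.val hn
        simpa using this.symm
      have hgz : g * z = z * g := Subgroup.mem_centralizer_singleton_iff.mp hg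
      rw [hxz]
      exact ((show Commute g (z : G) from hgz).zpow_right n).eq.symm
  rw [hcent]
  exact h20

theorem s1359_of (hG : Cfsg.IsMinSimpleOddOrder G) (h30 : P1430 G) (h21 : P1421 G)
    (M : Subgroup G) (hM : IsCoatom M) (K U : Subgroup G) (hKU : Cfsg.IsSigmaDecomposition M K U) :
    IsMulCommutative (Subgroup.closure ((U : Set G) ∩ Cfsg.sigmaHat M)) := by
  by_cases hK1 : K = ⊥
  · have hE : IsComplIn U (sigmaCore M) M := by
      have := hKU.compl
      rwa [hK1, bot_sup_eq] at this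
    have hκ : ∀ p : ℕ, p ∉ kappa M := not_mem_kappa_of_bot_hall (hK1 ▸ hKU.hall)
    obtain ⟨⟨A₀, -, -, hA₀c, hA₀⟩, -⟩ := h21 M hM U hE (hyp_h_of_kappa_empty hG hκ hE.1)
    have hle : Subgroup.closure ((U : Set G) ∩ Cfsg.sigmaHat M) ≤ A₀ := by
      rw [Subgroup.closure_le]
      rintro u ⟨huU, -, y, hy, hy1, huy⟩
      apply hA₀ y hy hy1
      refine Subgroup.mem_inf.mpr ⟨huU, ?_⟩
      rw [Subgroup.mem_centralizer_singleton_iff]
      exact huy
    refine ⟨⟨fun a b => Subtype.ext ?_⟩⟩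
    have := congrArg Subtype.val (mul_comm' (⟨a, hle a.2⟩ : A₀) ⟨b, hle b.2⟩)
    exact this
  · have hUc := (U_comm_free hG hM h30 hK1 hKU).1
    have hle : Subgroup.closure ((U : Set G) ∩ Cfsg.sigmaHat M) ≤ U := by
      rw [Subgroup.closure_le]
      exact Set.inter_subset_left
    refine ⟨⟨fun a b => Subtype.ext ?_⟩⟩
    have := congrArg Subtype.val (mul_comm' (⟨a, hle a.2⟩ : U) ⟨b, hle b.2⟩)
    exact this

end Cfsg.Agent.Lib.Helper3.BG14
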