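import Mathlib
import Cfsg.Agent.Lib.Helper7.BG13C
import Cfsg.Agent.Lib.Helper9.BGPrime2
import Cfsg.Agent.Lib.Helper10.BGThirteenA
import Cfsg.Agent.Lib.Helper10.BGTwelveG
import Cfsg.Agent.S1408
import Cfsg.Agent.S1414
import Cfsg.Agent.S1424

/-!
Two chunks for B&G 13.9 (helper2's plan, `notes/BG_13_8_13_9_proof_helper2.md`):
Lemma N (`normalizer_le_of_mem_beta`) and step (2) (`isSylowIn_of_centralizer_beta`).
-/

set_option autoImplicit false
open Cfsg

namespace Cfsg.Agent.Lib.Helper3.BG13NE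

open Cfsg.Agent.Lib.Helper10.BG Cfsg.Agent.Lib.Helper10 Cfsg.Agent.Lib.Helper9.BGExc
open scoped commutatorElement

variable {G : Type*} [Group G] [Finite G]

/-- a `p`-subgroup of `X` whose index in `X` is prime to `p` is a maximal `p`-subgroup. -/
theorem isSylowIn_of_not_dvd_relIndex {s : ℕ} [Fact s.Prime] {T X : Subgroup G} (hTX : T ≤ X)
    (hT : IsPGroup s T) (h : ¬ s ∣ T.relIndex X) : IsSylowIn s T X := by
  have hsp : s.Prime := Fact.out
  apply isSylowIn_of_card_ge hTX hT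
  intro Q hQX hQ hTQ
  have h1 : T.relIndex Q ∣ T.relIndex X :=
    ⟨Q.relIndex X, (Subgroup.relIndex_mul_relIndex T Q X hTQ hQX).symm⟩
  have h2 : Nat.card T * T.relIndex Q = Nat.card Q :=
    Cfsg.Agent.Lib.Helper12.card_mul_relIndex_eq hTQ
  obtain ⟨k, hk⟩ := hQ.exists_card_eq
  have h3 : T.relIndex Q ∣ s ^ k := by rw [← hk, ← h2]; exact Dvd.intro_left _ rfl
  obtain ⟨j, -, hj⟩ := (Nat.dvd_prime_pow hsp).mp h3
  have hj0 : j = 0 := by
    by_contra hj0
    apply h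
    exact (hj ▸ dvd_pow_self s hj0 : s ∣ T.relIndex Q).trans h1
  rw [hj0, pow_zero] at hj
  rw [← h2, hj, mul_one]

theorem dvd_card_of_pgroup_ne_bot {s : ℕ} [Fact s.Prime] {T X : Subgroup G} (hTX : T ≤ X)
    (hT : IsPGroup s T) (hT1 : T ≠ ⊥) : s ∣ Nat.card X := by
  obtain ⟨k, hk⟩ := hT.exists_card_eq
  have hk0 : k ≠ 0 := by
    rintro rfl
    rw [pow_zero] at hk
    exact hT1 (Subgroup.card_eq_one.mp hk)
  have h1 : s ∣ Nat.card T := by rw [hk]; exact dvd_pow_self s hk0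
  exact h1.trans (Subgroup.card_dvd_of_le hTX)

/-- **Lemma N**: for `s ∈ β(M)`, every nontrivial `s`-subgroup `T` of `M` has `N_G(T) ≤ M`. -/
theorem normalizer_le_of_mem_beta (hG : IsMinSimpleOddOrder G) {M T : Subgroup G}
    (hM : IsCoatom M) {s : ℕ} [Fact s.Prime] (hs : s ∈ beta M) (hTs : IsPGroup s T)
    (hT1 : T ≠ ⊥) (hTM : T ≤ M) : Subgroup.normalizer (T : Set G) ≤ M := by
  classical
  have hsp : s.Prime := Fact.out
  by_contra hcon
  have hTtop : T ≠ ⊤ := Cfsg.Agent.Lib.Lead.BGTrans.pgroup_ne_top hG.2 hTs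
  obtain ⟨L, hL, hNL⟩ :=
    exists_isCoatom_ge (Cfsg.Agent.Lib.Lead.BGTrans.normalizer_ne_top hG.2 hT1 hTtop)
  have hne : L ≠ M := by
    rintro rfl
    exact hcon hNL
  have hsσ : s ∈ sigma M := alpha_subset_sigma hG hM hs.1
  have hTL : T ≤ L := Subgroup.le_normalizer.trans hNL
  have hTD : T ≤ M ⊓ L := le_inf hTM hTL
  have hT' : IsPGroup s (T.subgroupOf (M ⊓ L)) := hTs.comap_subtype
  obtain ⟨S, hS⟩ := hT'.exists_le_sylow
  have hTS : T ≤ (S : Subgroup ↥(M ⊓ L)).map (M ⊓ L).subtype := by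
    intro y hy
    exact ⟨⟨y, hTD hy⟩, hS (Subgroup.mem_subgroupOf.mpr hy), rfl⟩
  obtain ⟨hnc, -, hidx⟩ :=
    Cfsg.Agent.S1424.result hG M hM s hsσ T hTs hT1 hTM L hL hne hNL S hTS
  have hS2p : IsPGroup s ((S : Subgroup ↥(M ⊓ L)).map (M ⊓ L).subtype) := S.2.map _
  have hS2L : (S : Subgroup ↥(M ⊓ L)).map (M ⊓ L).subtype ≤ L :=
    (Subgroup.map_subtype_le _).trans inf_le_right
  have hS2syl := isSylowIn_of_not_dvd_relIndex hS2L hS2p hidx
  have hsL : s ∉ sigma L := by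
    intro h
    have hnc' : ∀ g : G, M ≠ L.map (MulAut.conj g).toMonoidHom := by
      intro g hg
      apply hnc g⁻¹
      rw [hg, map_conj_inv_map_conj]
    exact not_mem_beta_of_not_conj hG hL hM hnc' hsp h hs
  have hsLd : s ∣ Nat.card L := dvd_card_of_pgroup_ne_bot hTL hTs hT1
  by_cases hr2 : PRankLE s 2 ↥L
  · by_cases hr1 : PRankLE s 1 ↥L
    · have hs2 : s ≠ 2 :=
        prime_ne_two hG (hsLd.trans (Subgroup.card_subgroup_dvd_card L))
      have hc : IsCyclic ↥((S : Subgroup ↥(M ⊓ L)).map (M ⊓ L).subtype) :=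
        isCyclic_of_pRankLE_one hs2 hr1 hS2L hS2p
      have h1 := Cfsg.Agent.Lib.Helper9.BGPrime.normalizer_le_normalizer_of_le_cyclic hc hTS
      apply hsL
      refine ⟨hsp, hsLd, hS2syl.toSylow, ?_⟩
      have hmap : ((hS2syl.toSylow : Sylow s ↥L) : Subgroup ↥L).map L.subtype =
          (S : Subgroup ↥(M ⊓ L)).map (M ⊓ L).subtype :=
        Subgroup.map_subgroupOf_eq_of_le hS2L
      rw [hmap]
      exact h1.trans hNL
    · exact (Cfsg.Agent.S1408.result hG L hL s hsL hr2 hr1).1 hs.2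
  · exact hsL (alpha_subset_sigma hG hL ⟨hsp, hr2⟩)

/-- step (2) of helper2's proof of B&G 13.9: a nontrivial Sylow `s`-subgroup `T` of
`X = C_{M_β}(P)` (`P` of order `p ∈ τ₁(M)`, `N_G(P) ≤ L`) has `s ∈ β(M)`, is a Sylow
`s`-subgroup of `L`, and is cyclic. -/
theorem isSylowIn_of_centralizer_beta (hG : IsMinSimpleOddOrder G) {M L P T : Subgroup G}
    (hM : IsCoatom M) (hL : IsCoatom L) {p s : ℕ} [Fact p.Prime] [Fact s.Prime]
    (hp : p ∈ tau1 M) (hPM : P ≤ M) (hP : Nat.card P = p)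
    (hNP : Subgroup.normalizer (P : Set G) ≤ L)
    (hT : IsSylowIn s T (piCoreOf (beta M) M ⊓ Subgroup.centralizer (P : Set G)))
    (hT1 : T ≠ ⊥) : s ∈ beta M ∧ IsSylowIn s T L ∧ IsCyclic T := by
  classical
  have hsp : s.Prime := Fact.out
  have hpp : p.Prime := Fact.out
  have hPp : IsPGroup p P := IsPGroup.of_card (n := 1) (by rw [hP, pow_one])
  have hP1 : P ≠ ⊥ := ne_bot_of_card_prime hP
  obtain ⟨hnc, hb, -, -⟩ :=
    Cfsg.Agent.Lib.Helper7.BG13.cor_13_2 hG hM hL (Or.inl hp) hPp hP1 hNP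
  have hPL : P ≤ L := Subgroup.le_normalizer.trans hNP
  have hcomm : ⁅sigmaCore M ⊓ L, P⁆ = ⊥ := hb P (le_inf hPM hPL) hPp
  rw [Subgroup.commutator_eq_bot_iff_le_centralizer] at hcomm
  have hβσ : piCoreOf (beta M) M ≤ sigmaCore M :=
    Cfsg.Agent.Lib.Helper7.BG13.betaCore_le_sigmaCore hG hM
  have hβM : piCoreOf (beta M) M ≤ M := hβσ.trans (sigmaCore_le M)
  have hCL : Subgroup.centralizer (P : Set G) ≤ L :=
    (Subgroup.centralizer_le_normalizer _).trans hNP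
  have hXL : piCoreOf (beta M) M ⊓ L ≤ piCoreOf (beta M) M ⊓ Subgroup.centralizer (P : Set G) :=
    le_inf inf_le_left ((inf_le_inf_right L hβσ).trans hcomm)
  have hTX := hT.le
  have hTβ : T ≤ piCoreOf (beta M) M := hTX.trans inf_le_left
  have hTM : T ≤ M := hTβ.trans hβM
  have hTL : T ≤ L := (hTX.trans inf_le_right).trans hCL
  have hTs := hT.isPGroup
  have hH := (Cfsg.Agent.S1414.result hG M hM).1
  have hsβ : s ∈ beta M := hH.2.1 s hsp (dvd_card_of_pgroup_ne_bot hTβ hTs hT1)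
  refine ⟨hsβ, ?_, ?_⟩
  · apply IsSylowIn.of_normalizer_le hTL hTs
    intro x hxL hxN hxp
    have hN := normalizer_le_of_mem_beta hG hM hsβ hTs hT1 hTM
    have hQN : T ⊔ Subgroup.zpowers x ≤ Subgroup.normalizer (T : Set G) :=
      sup_le Subgroup.le_normalizer (Subgroup.zpowers_le.mpr hxN)
    have hQM : T ⊔ Subgroup.zpowers x ≤ M := hQN.trans hN
    have hQL : T ⊔ Subgroup.zpowers x ≤ L := sup_le hTL (Subgroup.zpowers_le.mpr hxL)
    have hQβ : T ⊔ Subgroup.zpowers x ≤ piCoreOf (beta M) M :=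
      pgroup_le_of_not_dvd_relIndex (Cfsg.Agent.Lib.Helper7.BG13.le_normalizer_betaCore M)
        (hH.2.2 s hsp hsβ) hxp hQM
    have hQX : T ⊔ Subgroup.zpowers x ≤
        piCoreOf (beta M) M ⊓ Subgroup.centralizer (P : Set G) := (le_inf hQβ hQL).trans hXL
    have h1 := hT.eq_of_le hQX hxp le_sup_left
    rw [← h1]
    exact Subgroup.mem_sup_right (Subgroup.mem_zpowers x)
  · have hnc' : ∀ g : G, M ≠ L.map (MulAut.conj g).toMonoidHom := by
      intro g hg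
      apply hnc g⁻¹
      rw [hg, map_conj_inv_map_conj]
    have hsL : s ∉ sigma L := fun h => not_mem_beta_of_not_conj hG hL hM hnc' hsp h hsβ
    have hr1 : PRankLE s 1 ↥L := by
      by_contra hr1
      by_cases hr2 : PRankLE s 2 ↥L
      · exact (Cfsg.Agent.S1408.result hG L hL s hsL hr2 hr1).1 hsβ.2
      · exact hsL (alpha_subset_sigma hG hL ⟨hsp, hr2⟩)
    have hs2 : s ≠ 2 := prime_ne_two_of_pgroup hG hTs hT1
    exact isCyclic_of_pRankLE_one hs2 hr1 hTL hTs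

end Cfsg.Agent.Lib.Helper3.BG13NE
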