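import Mathlib

/-!
A fixed-point lemma for an automorphism of a finite group acting on an abelian quotient:
if `S/D` is abelian, `φ` an automorphism of `S` preserving `D`, and `S` is generated by `D` and the
elements `s⁻¹ φ(s)`, then `φ` has no non-trivial fixed points on `S/D`.
-/

set_option autoImplicit false

namespace Cfsg.Agent.Lib.Helper3.BG14

theorem mem_of_inv_mul_map_mem {S : Type*} [Group S] [Finite S] (D : Subgroup S) [hD : D.Normal]
    (hab : ∀ a b : S, a * b * a⁻¹ * b⁻¹ ∈ D) (φ : S ≃* S) (hφ : ∀ d ∈ D, φ d ∈ D)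
    (hgen : Subgroup.closure ({x | ∃ s : S, x = s⁻¹ * φ s} ∪ (D : Set S)) = ⊤) :
    ∀ c : S, c⁻¹ * φ c ∈ D → c ∈ D := by
  classical
  -- the quotient is commutative
  have hcomm : ∀ x y : S ⧸ D, x * y = y * x := by
    intro x y
    induction x using QuotientGroup.induction_on with
    | H a =>
      induction y using QuotientGroup.induction_on with
      | H b =>
        rw [← QuotientGroup.mk_mul, ← QuotientGroup.mk_mul, QuotientGroup.eq]
        have h1 := hab b⁻¹ a⁻¹
        have h2 : (a * b)⁻¹ * (b * a) = b⁻¹ * a⁻¹ * b⁻¹⁻¹ * a⁻¹⁻¹ := by group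
        rw [h2]; exact h1
  letI : CommGroup (S ⧸ D) := { (inferInstance : Group (S ⧸ D)) with mul_comm := hcomm }
  let mk : S →* S ⧸ D := QuotientGroup.mk' D
  let f : S →* S ⧸ D := (mk.comp φ.toMonoidHom) / mk
  have hf : ∀ s : S, f s = mk (s⁻¹ * φ s) := by
    intro s
    show mk (φ s) / mk s = mk (s⁻¹ * φ s)
    rw [map_mul, map_inv, div_eq_mul_inv, mul_comm]
  have hmkD : ∀ d ∈ D, mk d = 1 := fun d hd => (QuotientGroup.eq_one_iff d).mpr hd
  have hDker : D ≤ f.ker := by
    intro d hd
    rw [MonoidHom.mem_ker, hf, map_mul, map_inv, hmkD d hd, hmkD _ (hφ d hd), inv_one, one_mul]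
  -- `f` is surjective
  have hsurj : Function.Surjective f := by
    have h1 : (⊤ : Subgroup S) ≤ (f.range).comap mk := by
      rw [← hgen, Subgroup.closure_le]
      rintro x (⟨s, rfl⟩ | hx)
      · exact ⟨s, hf s⟩
      · show mk x ∈ f.range
        rw [hmkD x hx]; exact Subgroup.one_mem _
    intro q
    obtain ⟨s, rfl⟩ := QuotientGroup.mk'_surjective D q
    exact h1 (Subgroup.mem_top s)
  -- cardinalities
  have hc1 : Nat.card S = Nat.card (S ⧸ f.ker) * Nat.card f.ker :=
    Subgroup.card_eq_card_quotient_mul_card_subgroup f.ker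
  have hc2 : Nat.card S = Nat.card (S ⧸ D) * Nat.card D :=
    Subgroup.card_eq_card_quotient_mul_card_subgroup D
  have hc3 : Nat.card (S ⧸ f.ker) = Nat.card (S ⧸ D) :=
    Nat.card_congr (QuotientGroup.quotientKerEquivOfSurjective f hsurj).toEquiv
  have hc4 : Nat.card f.ker = Nat.card D := by
    rw [hc1, hc3] at hc2
    exact Nat.eq_of_mul_eq_mul_left Nat.card_pos hc2
  have hker : f.ker = D := (Subgroup.eq_of_le_of_card_ge hDker hc4.le).symm
  intro c hc
  rw [← hker, MonoidHom.mem_ker, hf]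
  exact hmkD _ hc

end Cfsg.Agent.Lib.Helper3.BG14
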