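import Mathlib
import Cfsg.Agent.Lib.Helper3.BG14F
import Cfsg.Agent.Lib.Helper3.BG14G
import Cfsg.Agent.Lib.Helper9.BGExc15
import Cfsg.Agent.S1426

/-!
S1365 (B&G Lemma 14.2(d)/(e) part): for a standard factorisation `M = K U M_σ` with `K ≠ 1`,
`M' = U M_σ` and `C_{M_σ}(K) ≤ M''`; modulo the frozen statement of S1430.
-/

set_option autoImplicit false
open Cfsg

namespace Cfsg.Agent.Lib.Helper3.BG14

open Cfsg.Agent.Lib.Helper10.BG Cfsg.Agent.Lib.Helper10 Cfsg.Agent.Lib.Helper9.BGExc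
open Cfsg.Agent.Lib.Helper19.BGCompl Cfsg.Agent.Lib.Helper1.BGSigmaDecomp
open Cfsg.Agent.Lib.Helper3.BGStubs
open scoped commutatorElement

variable {G : Type*} [Group G]

/-- If `K` is abelian and normalizes `N` then `(N K)' ≤ N`. -/
theorem commutator_sup_le_of_comm {N K : Subgroup G} (hKN : K ≤ Subgroup.normalizer (N : Set G))
    (hK : ∀ a ∈ K, ∀ b ∈ K, a * b = b * a) : ⁅N ⊔ K, N ⊔ K⁆ ≤ N := by
  rw [Subgroup.commutator_le]
  intro a ha b hb
  obtain ⟨n1, hn1, k1, hk1, rfl⟩ := exists_mul_of_mem_sup_of_le_normalizer hKN ha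
  obtain ⟨n2, hn2, k2, hk2, rfl⟩ := exists_mul_of_mem_sup_of_le_normalizer hKN hb
  have hc : k2 * k1⁻¹ = k1⁻¹ * k2 := by
    have := hK k1 hk1 k2 hk2
    calc k2 * k1⁻¹ = k1⁻¹ * (k1 * k2) * k1⁻¹ := by group
      _ = k1⁻¹ * (k2 * k1) * k1⁻¹ := by rw [this]
      _ = k1⁻¹ * k2 := by group
  have h1 : ⁅n1 * k1, n2 * k2⁆ = n1 * (k1 * n2 * k1⁻¹) * (k2 * n1⁻¹ * k2⁻¹) * n2⁻¹ := by
    rw [commutatorElement_def]
    calc n1 * k1 * (n2 * k2) * (n1 * k1)⁻¹ * (n2 * k2)⁻¹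
        = n1 * k1 * n2 * (k2 * k1⁻¹) * n1⁻¹ * k2⁻¹ * n2⁻¹ := by group
      _ = n1 * k1 * n2 * (k1⁻¹ * k2) * n1⁻¹ * k2⁻¹ * n2⁻¹ := by rw [hc]
      _ = _ := by group
  rw [h1]
  have e1 : k1 * n2 * k1⁻¹ ∈ N := (Subgroup.mem_normalizer_iff.mp (hKN hk1) n2).mp hn2
  have e2 : k2 * n1⁻¹ * k2⁻¹ ∈ N :=
    (Subgroup.mem_normalizer_iff.mp (hKN hk2) n1⁻¹).mp (inv_mem hn1)
  exact mul_mem (mul_mem (mul_mem hn1 e1) e2) (inv_mem hn2)

/-- A subgroup normalizing `H₁` and `H₂` normalizes `⁅H₁, H₂⁆`. -/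
theorem le_normalizer_commutator' {X H₁ H₂ : Subgroup G}
    (h₁ : X ≤ Subgroup.normalizer (H₁ : Set G)) (h₂ : X ≤ Subgroup.normalizer (H₂ : Set G)) :
    X ≤ Subgroup.normalizer ((⁅H₁, H₂⁆ : Subgroup G) : Set G) := by
  have key : ∀ x ∈ X, ∀ n ∈ ⁅H₁, H₂⁆, x * n * x⁻¹ ∈ ⁅H₁, H₂⁆ := by
    intro x hx n hn
    induction hn using Subgroup.closure_induction with
    | mem y hy =>
      obtain ⟨k, hk, a, ha, rfl⟩ := hy
      have h1 : x * ⁅k, a⁆ * x⁻¹ = ⁅x * k * x⁻¹, x * a * x⁻¹⁆ := by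
        simp only [commutatorElement_def]; group
      rw [h1]
      exact Subgroup.commutator_mem_commutator
        ((Subgroup.mem_normalizer_iff.mp (h₁ hx) _).mp hk)
        ((Subgroup.mem_normalizer_iff.mp (h₂ hx) _).mp ha)
    | one => simp
    | mul y z _ _ hy hz =>
      have : x * (y * z) * x⁻¹ = (x * y * x⁻¹) * (x * z * x⁻¹) := by group
      rw [this]; exact mul_mem hy hz
    | inv y _ hy =>
      have : x * y⁻¹ * x⁻¹ = (x * y * x⁻¹)⁻¹ := by group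
      rw [this]; exact inv_mem hy
  intro x hx
  rw [Subgroup.mem_normalizer_iff]
  intro n
  refine ⟨key x hx n, fun h => ?_⟩
  have := key x⁻¹ (inv_mem hx) _ h
  have e : x⁻¹ * (x * n * x⁻¹) * x⁻¹⁻¹ = n := by group
  rwa [e] at this

/-- Conjugation by an element of the normalizer as an automorphism of the subgroup. -/
def conjEquiv (S : Subgroup G) (k : G) (hk : k ∈ Subgroup.normalizer (S : Set G)) : ↥S ≃* ↥S where
  toFun s := ⟨k * s * k⁻¹, (Subgroup.mem_normalizer_iff.mp hk s).mp s.2⟩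
  invFun s := ⟨k⁻¹ * s * k, by
    have := (Subgroup.mem_normalizer_iff.mp (inv_mem hk) s).mp s.2
    simpa using this⟩
  left_inv s := by
    apply Subtype.ext
    show k⁻¹ * (k * (s : G) * k⁻¹) * k = s
    group
  right_inv s := by
    apply Subtype.ext
    show k * (k⁻¹ * (s : G) * k) * k⁻¹ = s
    group
  map_mul' a b := by
    apply Subtype.ext
    show k * ((a : G) * b) * k⁻¹ = (k * a * k⁻¹) * (k * b * k⁻¹)
    group

theorem coe_conjEquiv (S : Subgroup G) (k : G) (hk : k ∈ Subgroup.normalizer (S : Set G)) (s : ↥S) :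
    ((conjEquiv S k hk s : ↥S) : G) = k * s * k⁻¹ := rfl

variable [Finite G]

/-- `U ≤ M'` when `K ≠ 1` acts freely on `U`. -/
theorem U_le_commutator (hG : IsMinSimpleOddOrder G) {M : Subgroup G} (hM : IsCoatom M)
    (h30 : P1430 G) {K U : Subgroup G} (hK1 : K ≠ ⊥) (h : IsSigmaDecomposition M K U) :
    U ≤ ⁅M, M⁆ := by
  obtain ⟨-, hfree⟩ := U_comm_free hG hM h30 hK1 h
  obtain ⟨k0, hk0, hk01⟩ := exists_ne_one_of_ne_bot hK1
  have hUM : U ≤ M := h.compl.1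
  have hKM : K ≤ M := h.hall.1
  have hmem : ∀ u ∈ U, ⁅u, k0⁆ ∈ U := by
    intro u hu
    have e : ⁅u, k0⁆ = u * (k0 * u⁻¹ * k0⁻¹) := by rw [commutatorElement_def]; group
    rw [e]
    exact mul_mem hu ((Subgroup.mem_normalizer_iff.mp (h.normal hk0) u⁻¹).mp (inv_mem hu))
  let f : ↥U → ↥U := fun u => ⟨⁅(u : G), k0⁆, hmem u u.2⟩
  have hinj : Function.Injective f := by
    intro u v huv
    have h1 : ⁅(u : G), k0⁆ = ⁅(v : G), k0⁆ := congrArg Subtype.val huv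
    rw [commutatorElement_def, commutatorElement_def] at h1
    have h2 : (u : G) * k0 * (u : G)⁻¹ = v * k0 * (v : G)⁻¹ := mul_right_cancel h1
    have h3 : ((v : G)⁻¹ * u) * k0 = k0 * ((v : G)⁻¹ * u) := by
      calc ((v : G)⁻¹ * u) * k0 = (v : G)⁻¹ * ((u : G) * k0 * (u : G)⁻¹) * u := by group
        _ = (v : G)⁻¹ * ((v : G) * k0 * (v : G)⁻¹) * u := by rw [h2]
        _ = _ := by group
    have h4 : (v : G)⁻¹ * u ∈ U ⊓ Subgroup.centralizer ({k0} : Set G) :=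
      Subgroup.mem_inf.mpr ⟨mul_mem (inv_mem v.2) u.2, Subgroup.mem_centralizer_singleton_iff.mpr h3⟩
    rw [hfree k0 hk0 hk01, Subgroup.mem_bot] at h4
    apply Subtype.ext
    have : (u : G) = v * ((v : G)⁻¹ * u) := by group
    rw [this, h4, mul_one]
  have hsurj : Function.Surjective f := Finite.injective_iff_surjective.mp hinj
  intro u hu
  obtain ⟨u', hu'⟩ := hsurj ⟨u, hu⟩
  have : ⁅(u' : G), k0⁆ = u := congrArg Subtype.val hu'
  rw [← this]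
  exact Subgroup.commutator_mem_commutator (hUM u'.2) (hKM hk0)

theorem s1365_of (hG : Cfsg.IsMinSimpleOddOrder G) (h30 : P1430 G)
    (M : Subgroup G) (hM : IsCoatom M) (K U : Subgroup G)
    (hKU : Cfsg.IsSigmaDecomposition M K U) (hK1 : K ≠ ⊥) :
    ⁅M, M⁆ = U ⊔ Cfsg.sigmaCore M ∧
      (Cfsg.sigmaCore M ⊓ Subgroup.centralizer (K : Set G)) ≤ ⁅⁅M, M⁆, ⁅M, M⁆⁆ := by
  classical
  have hUM : U ≤ M := hKU.compl.1
  have hKM : K ≤ M := hKU.hall.1
  obtain ⟨hUc, hfree⟩ := U_comm_free hG hM h30 hK1 hKU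
  have hE := isComplIn_UK hG hM hKU
  have hsup : (U ⊔ K) ⊔ sigmaCore M = M := IsComplIn.sup_eq hE
  have hNn := le_normalizer_U_sup_sigmaCore hG hM hKU
  have hMsn := le_normalizer_sigmaCore M
  -- a generator of `K`
  haveI : IsCyclic ↥K := hKU.cyclic
  obtain ⟨k0, hk0⟩ := IsCyclic.exists_monoid_generator (α := ↥K)
  have hKpow : ∀ a ∈ K, ∃ n : ℕ, (k0 : G) ^ n = a := by
    intro a ha
    obtain ⟨n, hn⟩ := (Submonoid.mem_powers_iff _ _).mp (hk0 ⟨a, ha⟩)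
    exact ⟨n, by simpa using congrArg Subtype.val hn⟩
  have hKcomm : ∀ a ∈ K, ∀ b ∈ K, a * b = b * a := by
    intro a ha b hb
    obtain ⟨i, rfl⟩ := hKpow a ha
    obtain ⟨j, rfl⟩ := hKpow b hb
    exact (Commute.pow_pow_self (k0 : G) i j).eq
  have hUcomm : ∀ a ∈ U, ∀ b ∈ U, a * b = b * a := by
    intro a ha b hb
    have := hUc.is_comm.comm ⟨a, ha⟩ ⟨b, hb⟩
    exact congrArg Subtype.val this
  -- part 1
  have h1 : ⁅M, M⁆ = U ⊔ sigmaCore M := by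
    apply le_antisymm
    · have e : (U ⊔ sigmaCore M) ⊔ K = M := by
        have := hsup
        rw [sup_assoc, sup_comm K, ← sup_assoc] at this
        exact this
      calc ⁅M, M⁆ = ⁅(U ⊔ sigmaCore M) ⊔ K, (U ⊔ sigmaCore M) ⊔ K⁆ := by rw [e]
        _ ≤ U ⊔ sigmaCore M := commutator_sup_le_of_comm (hKM.trans hNn) hKcomm
    · exact sup_le (U_le_commutator hG hM h30 hK1 hKU) (sigmaCore_le_commutator hG hM)
  refine ⟨h1, ?_⟩
  rw [h1]
  have hDs : ⁅U ⊔ sigmaCore M, U ⊔ sigmaCore M⁆ ≤ sigmaCore M := by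
    rw [sup_comm]
    exact commutator_sup_le_of_comm (hUM.trans hMsn) hUcomm
  have hDn : M ≤ Subgroup.normalizer
      ((⁅U ⊔ sigmaCore M, U ⊔ sigmaCore M⁆ : Subgroup G) : Set G) :=
    le_normalizer_commutator' hNn hNn
  generalize hDdef : ⁅U ⊔ sigmaCore M, U ⊔ sigmaCore M⁆ = D at hDs hDn
  have hk0K : (k0 : G) ∈ K := k0.2
  have hkMs : (k0 : G) ∈ Subgroup.normalizer (sigmaCore M : Set G) := hMsn (hKM hk0K)
  have hconjMs : ∀ a ∈ K, ∀ s ∈ sigmaCore M, a * s * a⁻¹ ∈ sigmaCore M := fun a ha s hs =>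
    (Subgroup.mem_normalizer_iff.mp (hMsn (hKM ha)) s).mp hs
  let φ := conjEquiv (sigmaCore M) (k0 : G) hkMs
  haveI hD'n : (D.subgroupOf (sigmaCore M)).Normal :=
    Subgroup.normal_subgroupOf_of_le_normalizer ((sigmaCore_le M).trans hDn)
  have hab : ∀ a b : ↥(sigmaCore M), a * b * a⁻¹ * b⁻¹ ∈ D.subgroupOf (sigmaCore M) := by
    intro a b
    rw [Subgroup.mem_subgroupOf, ← hDdef]
    exact Subgroup.commutator_mem_commutator (le_sup_right (a := U) a.2) (le_sup_right (a := U) b.2)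
  have hφD : ∀ d ∈ D.subgroupOf (sigmaCore M), φ d ∈ D.subgroupOf (sigmaCore M) := by
    intro d hd
    rw [Subgroup.mem_subgroupOf] at hd ⊢
    exact (Subgroup.mem_normalizer_iff.mp (hDn (hKM hk0K)) _).mp hd
  have hgen : Subgroup.closure ({x | ∃ s : ↥(sigmaCore M), x = s⁻¹ * φ s} ∪
      ((D.subgroupOf (sigmaCore M) : Subgroup ↥(sigmaCore M)) : Set ↥(sigmaCore M))) = ⊤ := by
    set H' := Subgroup.closure ({x | ∃ s : ↥(sigmaCore M), x = s⁻¹ * φ s} ∪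
      ((D.subgroupOf (sigmaCore M) : Subgroup ↥(sigmaCore M)) : Set ↥(sigmaCore M))) with hH'
    let H : Subgroup G := H'.map (sigmaCore M).subtype
    have hgenH : ∀ s ∈ sigmaCore M, s⁻¹ * ((k0 : G) * s * (k0 : G)⁻¹) ∈ H := by
      intro s hs
      refine ⟨(⟨s, hs⟩ : ↥(sigmaCore M))⁻¹ * φ ⟨s, hs⟩, ?_, rfl⟩
      exact Subgroup.subset_closure (Or.inl ⟨_, rfl⟩)
    have hDH : D ≤ H := by
      intro d hd
      refine ⟨⟨d, hDs hd⟩, ?_, rfl⟩
      exact Subgroup.subset_closure (Or.inr (Subgroup.mem_subgroupOf.mpr hd))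
    have hpow : ∀ j : ℕ, ∀ x ∈ sigmaCore M,
        x⁻¹ * ((k0 : G) ^ j * x * ((k0 : G) ^ j)⁻¹) ∈ H := by
      intro j
      induction j with
      | zero => intro x _; simp
      | succ j ih =>
        intro x hx
        have hy : (k0 : G) ^ j * x * ((k0 : G) ^ j)⁻¹ ∈ sigmaCore M :=
          hconjMs _ (pow_mem hk0K j) x hx
        have e : x⁻¹ * ((k0 : G) ^ (j + 1) * x * ((k0 : G) ^ (j + 1))⁻¹) =
            (x⁻¹ * ((k0 : G) ^ j * x * ((k0 : G) ^ j)⁻¹)) *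
            (((k0 : G) ^ j * x * ((k0 : G) ^ j)⁻¹)⁻¹ *
              ((k0 : G) * ((k0 : G) ^ j * x * ((k0 : G) ^ j)⁻¹) * (k0 : G)⁻¹)) := by
          rw [pow_succ']; group
        rw [e]
        exact mul_mem (ih x hx) (hgenH _ hy)
    have hMsH : sigmaCore M ≤ H := by
      have h26 := (Cfsg.Agent.S1426.result hG M hM (U ⊔ K) hE).2.1
      rw [← h26, Subgroup.commutator_le]
      intro s hs e he
      obtain ⟨u, hu, kk, hkk, rfl⟩ := exists_mul_of_mem_sup_of_le_normalizer hKU.normal he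
      obtain ⟨j, rfl⟩ := hKpow kk hkk
      have ht : (k0 : G) ^ j * s * ((k0 : G) ^ j)⁻¹ ∈ sigmaCore M :=
        hconjMs _ (pow_mem hk0K j) s hs
      have e1 : ⁅s, u * (k0 : G) ^ j⁆ =
          ((s⁻¹)⁻¹ * ((k0 : G) ^ j * s⁻¹ * ((k0 : G) ^ j)⁻¹)) *
            ⁅(k0 : G) ^ j * s * ((k0 : G) ^ j)⁻¹, u⁆ := by
        simp only [commutatorElement_def]; group
      rw [e1]
      refine mul_mem (hpow j s⁻¹ (inv_mem hs)) (hDH ?_)
      rw [← hDdef]
      exact Subgroup.commutator_mem_commutator (le_sup_right (a := U) ht)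
        (le_sup_left (b := sigmaCore M) hu)
    rw [eq_top_iff]
    intro s _
    obtain ⟨y, hy, hys⟩ := hMsH s.2
    have : y = s := Subtype.ext hys
    rwa [this] at hy
  have key := mem_of_inv_mul_map_mem (D.subgroupOf (sigmaCore M)) hab φ hφD hgen
  intro c hc
  obtain ⟨hcs, hcK⟩ := Subgroup.mem_inf.mp hc
  have hkc : (k0 : G) * c = c * k0 := Subgroup.mem_centralizer_iff.mp hcK _ hk0K
  have := key ⟨c, hcs⟩ (by
    rw [Subgroup.mem_subgroupOf]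
    show (c⁻¹ * ((k0 : G) * c * (k0 : G)⁻¹)) ∈ D
    rw [hkc]
    have : c⁻¹ * (c * (k0 : G) * (k0 : G)⁻¹) = 1 := by group
    rw [this]; exact one_mem _)
  exact Subgroup.mem_subgroupOf.mp this

end Cfsg.Agent.Lib.Helper3.BG14
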