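import Mathlib
import Cfsg.Agent.Lib.Helper3.BG14F
import Cfsg.Agent.Lib.Helper9.BGPrime1
import Cfsg.Agent.Lib.Helper19.BG12A
import Cfsg.Agent.Lib.Helper29.BG1212b

/-!
S1360 (B&G Lemma 14.2(e)): `U` has a subgroup `U₀` of the same exponent acting regularly on `M_σ`;
modulo the frozen statements of S1430 and S1421.
-/

set_option autoImplicit false
open Cfsg

namespace Cfsg.Agent.Lib.Helper3.BG14

open Cfsg.Agent.Lib.Helper10.BG Cfsg.Agent.Lib.Helper10 Cfsg.Agent.Lib.Helper9.BGExc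
open Cfsg.Agent.Lib.Helper19.BGCompl Cfsg.Agent.Lib.Helper1.BGSigmaDecomp
open Cfsg.Agent.Lib.Helper3.BGStubs
open scoped commutatorElement

variable {G : Type*} [Group G] [Finite G]

/-- in a cyclic group of order `p ^ (n + 1)` generated by `x`, the socle element `x ^ p ^ n` is a
power of every non-identity element. -/
theorem pow_mem_zpowers_of_ne_one {p : ℕ} [Fact p.Prime] {x : G} {n : ℕ}
    (hx : x ^ p ^ (n + 1) = 1) {j : ℕ} (hj : x ^ j ≠ 1) :
    x ^ p ^ n ∈ Subgroup.zpowers (x ^ j) := by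
  have hpp : p.Prime := Fact.out
  have hC : IsPGroup p (Subgroup.zpowers x) := by
    apply IsPGroup.of_card (n := (Nat.card (Subgroup.zpowers x)).factorization p)
    rw [Nat.card_zpowers]
    obtain ⟨i, -, hi⟩ := (Nat.dvd_prime_pow hpp).mp (orderOf_dvd_of_pow_eq_one hx)
    rw [hi, hpp.factorization_pow]
    simp
  have hle : Subgroup.zpowers (x ^ j) ≤ Subgroup.zpowers x :=
    Subgroup.zpowers_le.mpr (Subgroup.pow_mem _ (Subgroup.mem_zpowers x) j)
  have hY : IsPGroup p (Subgroup.zpowers (x ^ j)) := hC.to_le hle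
  have hY1 : Subgroup.zpowers (x ^ j) ≠ ⊥ := by
    intro h
    exact hj (Subgroup.zpowers_eq_bot.mp h)
  obtain ⟨w, hw, hwo⟩ := Cfsg.Agent.Lib.Helper29.BG1212.exists_orderOf_eq_of_ne_bot hY hY1
  have hA₁ : Nat.card (Subgroup.zpowers w) = p := by rw [Nat.card_zpowers, hwo]
  have hA₁Y : Subgroup.zpowers w ≤ Subgroup.zpowers (x ^ j) := Subgroup.zpowers_le.mpr hw
  have hcyc : IsCyclic ↥(Subgroup.zpowers x) := inferInstance
  have h1 : x ^ p ^ n ∈ Subgroup.zpowers w := by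
    apply Cfsg.Agent.Lib.Helper29.BG1212.mem_of_pow_eq_one_of_isCyclic hcyc (hA₁Y.trans hle) hA₁
      (Subgroup.pow_mem _ (Subgroup.mem_zpowers x) _)
    rw [← pow_mul, ← pow_succ]
    exact hx
  exact hA₁Y h1

/-- the key step for one prime: an element `x` of the (abelian) Sylow `p`-subgroup `P` of `U` whose
`p ^ n`-th power is a regular element of order `p`. -/
theorem exists_regular_pow (hG : IsMinSimpleOddOrder G) {M : Subgroup G} (hM : IsCoatom M)
    {K U : Subgroup G} (hKU : IsSigmaDecomposition M K U)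
    (hUcomm : ∀ a ∈ U, ∀ b ∈ U, a * b = b * a)
    {p : ℕ} [Fact p.Prime] {P : Subgroup G} (hP : IsSylowIn p P U) {n : ℕ}
    (hexp : ∀ x ∈ P, x ^ p ^ (n + 1) = 1) {c₀ : G} (hc₀ : c₀ ∈ P) (hc₀n : c₀ ^ p ^ n ≠ 1) :
    ∃ x ∈ P, x ^ p ^ n ≠ 1 ∧
      sigmaCore M ⊓ Subgroup.centralizer ({x ^ p ^ n} : Set G) = ⊥ := by
  classical
  have hp : p.Prime := Fact.out
  have hPp : IsPGroup p P := hP.isPGroup
  have hPU : P ≤ U := hP.le
  have hUM : U ≤ M := hKU.compl.1
  have hP1 : P ≠ ⊥ := by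
    intro h
    rw [h, Subgroup.mem_bot] at hc₀
    apply hc₀n
    rw [hc₀, one_pow]
  have hdU : p ∣ Nat.card U := by
    obtain ⟨k, hk⟩ := hPp.exists_card_eq
    have hk0 : k ≠ 0 := by
      rintro rfl
      rw [pow_zero] at hk
      exact hP1 (Subgroup.card_eq_one.mp hk)
    have h1 : p ∣ Nat.card P := by rw [hk]; exact dvd_pow_self p hk0
    exact h1.trans (Subgroup.card_dvd_of_le hPU)
  have hpσ : p ∉ sigma M := not_mem_sigma_of_dvd_card_U hG hM hKU hp hdU
  have hpκ : p ∉ kappa M := not_mem_kappa_of_dvd_card_U hG hM hKU hp hdU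
  have hE := isComplIn_UK hG hM hKU
  have hnd : ¬ p ∣ U.relIndex (U ⊔ K) := by
    have h1 := Cfsg.Agent.Lib.Helper12.card_mul_relIndex_eq (le_sup_left : U ≤ U ⊔ K)
    rw [card_U_sup_K hKU] at h1
    have h2 : U.relIndex (U ⊔ K) = Nat.card K := Nat.eq_of_mul_eq_mul_left Nat.card_pos h1
    rw [h2]
    intro hd
    exact hpκ (hKU.hall.2.1 p hp hd)
  have hPE : IsSylowIn p P (U ⊔ K) := hP.of_not_dvd_relIndex le_sup_left hnd
  have hPM : IsSylowIn p P M := compl_isSylowIn hG hM hE hpσ hPE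
  have hpG : p ∣ Nat.card G :=
    hdU.trans (Subgroup.card_subgroup_dvd_card U)
  have hp2 : p ≠ 2 := prime_ne_two hG hpG
  by_cases hc : IsCyclic ↥P
  · refine ⟨c₀, hc₀, hc₀n, ?_⟩
    by_contra hne
    obtain ⟨s, hs, hs1⟩ := exists_ne_one_of_ne_bot hne
    obtain ⟨hsσ, hsc⟩ := Subgroup.mem_inf.mp hs
    have hsz : s * c₀ ^ p ^ n = c₀ ^ p ^ n * s := Subgroup.mem_centralizer_singleton_iff.mp hsc
    have hzo : orderOf (c₀ ^ p ^ n) = p := by
      apply orderOf_eq_prime
      · rw [← pow_mul, ← pow_succ]; exact hexp c₀ hc₀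
      · exact hc₀n
    have hzM : c₀ ^ p ^ n ∈ M := M.pow_mem (hPM.le hc₀) _
    have hτ := mem_tau2_of_commute hG hM hpσ hpκ hzM hzo hsσ hs1 hsz.symm
    exact hτ.2.2.2 (Cfsg.Agent.Lib.Helper9.BGPrime.pRankLE_one_of_cyclic hp hPM hc)
  · obtain ⟨A, hAP, hAe, hAc⟩ := exists_elementary_sq_of_not_isCyclic hp2 hPp hc
    have hAM : A ≤ M := hAP.trans hPM.le
    have hτ2 : p ∈ tau2 M := by
      refine ⟨hp, hpσ, alpha_rank M p hp (fun h => hpσ (alpha_subset_sigma hG hM h)), fun h => ?_⟩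
      exact hc (isCyclic_of_pRankLE_one hp2 h hPM.le hPp)
    obtain ⟨-, hb, -, -, -, ⟨A₁', hA₁'A, hA₁'c, hA₁'r⟩⟩ :=
      Cfsg.Agent.S1417.result hG M hM p hτ2 A ⟨hAM, hAe, hAc⟩
    have hmap : ((hPM.toSylow : Sylow p ↥M) : Subgroup ↥M).map M.subtype = P :=
      Subgroup.map_subgroupOf_eq_of_le hPM.le
    have hbP := (hb hPM.toSylow).2 (by rw [hmap]; exact hAP)
    rw [hmap] at hbP
    obtain ⟨-, hNP⟩ := hbP
    have hPc : ∀ u ∈ P, ∀ v ∈ P, u * v = v * u := fun u hu v hv => hUcomm u (hPU hu) v (hPU hv)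
    -- the subgroup `W` of `p ^ n`-th powers
    let φ : ↥P →* G :=
      { toFun := fun x => (x : G) ^ p ^ n
        map_one' := by simp
        map_mul' := fun x y => by
          have hc : Commute (x : G) (y : G) := hPc x x.2 y y.2
          simp only [Subgroup.coe_mul]
          exact hc.mul_pow _ }
    have hWmem : ∀ w ∈ φ.range, ∃ x ∈ P, w = x ^ p ^ n := by
      intro w hw
      obtain ⟨x, rfl⟩ := MonoidHom.mem_range.mp hw
      exact ⟨x, x.2, rfl⟩
    have hmemW : ∀ x ∈ P, x ^ p ^ n ∈ φ.range := fun x hx =>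
      MonoidHom.mem_range.mpr ⟨⟨x, hx⟩, rfl⟩
    have hWA : φ.range ≤ A := by
      intro w hw
      obtain ⟨x, hx, rfl⟩ := hWmem w hw
      apply Cfsg.Agent.Lib.Helper19.BG12.tau2_omega hG hM hτ2 hAM hAe hAc hPp hPM.le hAP
        (P.pow_mem hx _)
      rw [← pow_mul, ← pow_succ]
      exact hexp x hx
    have hW1 : φ.range ≠ ⊥ := by
      intro hW
      have h1 : c₀ ^ p ^ n ∈ φ.range := hmemW c₀ hc₀
      rw [hW, Subgroup.mem_bot] at h1
      exact hc₀n h1
    have hNW : Subgroup.normalizer (P : Set G) ≤ Subgroup.normalizer (φ.range : Set G) := by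
      apply Cfsg.Agent.Lib.Helper10.BG.le_normalizer_of_conj_mem
      intro g hg w hw
      obtain ⟨x, hx, rfl⟩ := hWmem w hw
      have h1 : g * x ^ p ^ n * g⁻¹ = (g * x * g⁻¹) ^ p ^ n := (conj_pow).symm
      rw [h1]
      exact hmemW _ (conj_mem_of_mem_normalizer hg hx)
    -- a regular line inside `W`
    have hline : ∃ A₁ : Subgroup G, A₁ ≤ φ.range ∧ Nat.card A₁ = p ∧
        sigmaCore M ⊓ Subgroup.centralizer (A₁ : Set G) = ⊥ := by
      have hd : Nat.card φ.range ∣ p ^ 2 := by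
        rw [← hAc]
        exact Subgroup.card_dvd_of_le hWA
      obtain ⟨k, hk2, hk⟩ := (Nat.dvd_prime_pow hp).mp hd
      have hk0 : k ≠ 0 := by
        rintro rfl
        rw [pow_zero] at hk
        exact hW1 (Subgroup.card_eq_one.mp hk)
      by_cases hk1 : k = 1
      · rw [hk1, pow_one] at hk
        refine ⟨φ.range, le_refl _, hk, ?_⟩
        by_contra hs
        obtain ⟨hC, hu⟩ := Cfsg.Agent.Lib.Helper19.BG12.tau2_singular hG hM hτ2 hAM hAe hAc
          hWA hW1 hs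
        exact hNP (hNW.trans (Cfsg.Agent.Lib.Helper19.BG12.normalizer_le_of_unique hG hM hC hu))
      · have hk2' : k = 2 := by omega
        rw [hk2'] at hk
        have hWA' : φ.range = A := Subgroup.eq_of_le_of_card_ge hWA (by rw [hk, hAc])
        rw [hWA']
        exact ⟨A₁', hA₁'A, hA₁'c, hA₁'r⟩
    obtain ⟨A₁, hA₁W, hA₁c, hA₁r⟩ := hline
    obtain ⟨a, ha, ha1⟩ := exists_ne_one_of_ne_bot (ne_bot_of_card_prime hA₁c)
    obtain ⟨x, hx, rfl⟩ := hWmem a (hA₁W ha)
    refine ⟨x, hx, ha1, ?_⟩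
    have hA₁z : A₁ = Subgroup.zpowers (x ^ p ^ n) := eq_zpowers_of_card_prime hA₁c ha ha1
    rw [eq_bot_iff, ← hA₁r]
    exact inf_le_inf_left _
      (Cfsg.Agent.Lib.Helper29.BG1212.centralizer_singleton_le_of_eq_zpowers hA₁z)

/-- for one prime `p`: a `p`-element `x` of the abelian `U` of maximal order all of whose
non-identity powers act regularly on `M_σ`. -/
theorem exists_regular_max_order (hG : IsMinSimpleOddOrder G) {M : Subgroup G} (hM : IsCoatom M)
    {K U : Subgroup G} (hKU : IsSigmaDecomposition M K U)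
    (hUcomm : ∀ a ∈ U, ∀ b ∈ U, a * b = b * a) (p : ℕ) [Fact p.Prime] :
    ∃ x ∈ U, IsPGroup p (Subgroup.zpowers x) ∧
      (∀ y ∈ U, IsPGroup p (Subgroup.zpowers y) → orderOf y ∣ orderOf x) ∧
      ∀ j : ℕ, x ^ j ∈ sigmaHat M → x ^ j = 1 := by
  classical
  have hp : p.Prime := Fact.out
  obtain ⟨P, hP⟩ := exists_isSylowIn p U
  have hPp : IsPGroup p P := hP.isPGroup
  have hPU : P ≤ U := hP.le
  have hqel : ∀ y ∈ U, IsPGroup p (Subgroup.zpowers y) → y ∈ P := by
    intro y hy hyq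
    obtain ⟨T, hT, hyT⟩ := exists_isSylowIn_ge (Subgroup.zpowers_le.mpr hy) hyq
    obtain ⟨u, hu, hTu⟩ := hP.exists_conj hT
    have hyT' : y ∈ T := hyT (Subgroup.mem_zpowers y)
    rw [hTu] at hyT'
    obtain ⟨a, haP, hay⟩ := hyT'
    have h1 : u * a * u⁻¹ = y := by simpa [MulAut.conj_apply] using hay
    have h2 : u * a = a * u := hUcomm u hu a (hPU haP)
    rw [← h1, h2, mul_inv_cancel_right]
    exact haP
  obtain ⟨c₀, hc₀P, hc₀max⟩ := Set.exists_max_image (P : Set G) orderOf (Set.toFinite _)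
    ⟨1, P.one_mem⟩
  have hord : ∀ x ∈ P, ∃ j : ℕ, orderOf x = p ^ j := by
    intro x hx
    obtain ⟨j, hj⟩ := (IsPGroup.iff_orderOf.mp hPp) ⟨x, hx⟩
    exact ⟨j, by rw [← hj, Subgroup.orderOf_mk]⟩
  obtain ⟨k, hk⟩ := hord c₀ hc₀P
  have hexpk : ∀ x ∈ P, x ^ p ^ k = 1 := by
    intro x hx
    obtain ⟨j, hj⟩ := hord x hx
    have hle : p ^ j ≤ p ^ k := by
      rw [← hj, ← hk]
      exact hc₀max x hx
    have hjk : j ≤ k := (Nat.pow_le_pow_iff_right hp.one_lt).mp hle
    rw [← orderOf_dvd_iff_pow_eq_one, hj]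
    exact pow_dvd_pow p hjk
  rcases Nat.eq_zero_or_pos k with hk0 | hk0
  · subst hk0
    refine ⟨1, U.one_mem, ?_, ?_, ?_⟩
    · rw [Subgroup.zpowers_one_eq_bot]; exact IsPGroup.of_bot
    · intro y hy hyq
      have := hexpk y (hqel y hy hyq)
      rw [pow_zero, pow_one] at this
      rw [this, orderOf_one]
    · intro j _; exact one_pow j
  · obtain ⟨n, rfl⟩ : ∃ n : ℕ, k = n + 1 := ⟨k - 1, by omega⟩
    have hc₀n : c₀ ^ p ^ n ≠ 1 := by
      intro h
      have h2 : orderOf c₀ ∣ p ^ n := orderOf_dvd_of_pow_eq_one h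
      rw [hk] at h2
      have := (Nat.pow_dvd_pow_iff_le_right hp.one_lt).mp h2
      omega
    obtain ⟨x, hx, hxn, hxr⟩ := exists_regular_pow hG hM hKU hUcomm hP hexpk hc₀P hc₀n
    have hxo : orderOf x = p ^ (n + 1) := by
      obtain ⟨i, hi, hio⟩ := (Nat.dvd_prime_pow hp).mp (orderOf_dvd_of_pow_eq_one (hexpk x hx))
      rcases Nat.lt_or_ge i (n + 1) with hlt | hge
      · exfalso
        apply hxn
        rw [← orderOf_dvd_iff_pow_eq_one, hio]
        exact pow_dvd_pow p (by omega)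
      · have : i = n + 1 := le_antisymm hi hge
        rw [hio, this]
    refine ⟨x, hPU hx, ?_, ?_, ?_⟩
    · apply IsPGroup.of_card (n := n + 1)
      rw [Nat.card_zpowers, hxo]
    · intro y hy hyq
      rw [hxo]
      exact orderOf_dvd_of_pow_eq_one (hexpk y (hqel y hy hyq))
    · intro j hj
      by_contra hne
      obtain ⟨-, s, hs, hs1, hcomm⟩ := hj
      have hz := pow_mem_zpowers_of_ne_one (hexpk x hx) hne
      obtain ⟨i, hi⟩ := Subgroup.mem_zpowers_iff.mp hz
      have hc1 : Commute (x ^ j) s := hcomm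
      have hc2 : Commute ((x ^ j) ^ i) s := hc1.zpow_left i
      rw [hi] at hc2
      have hmem : s ∈ sigmaCore M ⊓ Subgroup.centralizer ({x ^ p ^ n} : Set G) :=
        Subgroup.mem_inf.mpr ⟨hs, Subgroup.mem_centralizer_singleton_iff.mpr hc2.eq.symm⟩
      rw [hxr, Subgroup.mem_bot] at hmem
      exact hs1 hmem

/-- assembling the primes: an element of `U` whose order is divisible by the orders of all
`p`-elements of `U`, `p ∈ S`, and whose non-identity powers act regularly on `M_σ`. -/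
theorem exists_regular_elt (hG : IsMinSimpleOddOrder G) {M : Subgroup G} (hM : IsCoatom M)
    {K U : Subgroup G} (hKU : IsSigmaDecomposition M K U)
    (hUcomm : ∀ a ∈ U, ∀ b ∈ U, a * b = b * a) (S : Finset ℕ) (hS : ∀ r ∈ S, r.Prime) :
    ∃ u ∈ U, (∀ p ∈ S, ∀ y ∈ U, IsPGroup p (Subgroup.zpowers y) → orderOf y ∣ orderOf u) ∧
      (∀ q : ℕ, q.Prime → q ∣ orderOf u → q ∈ S) ∧ ∀ j : ℕ, u ^ j ∈ sigmaHat M → u ^ j = 1 := by
  classical
  induction S using Finset.induction_on with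
  | empty =>
    refine ⟨1, U.one_mem, ?_, ?_, ?_⟩
    · intro p hp; simp at hp
    · intro q hq hd
      rw [orderOf_one] at hd
      exact absurd (Nat.dvd_one.mp hd) hq.ne_one
    · intro j _; exact one_pow j
  | insert p S hpS ih =>
    have hp : p.Prime := hS p (Finset.mem_insert_self p S)
    haveI : Fact p.Prime := ⟨hp⟩
    obtain ⟨u, hu, hu1, hu2, hu3⟩ := ih (fun r hr => hS r (Finset.mem_insert_of_mem hr))
    obtain ⟨x, hx, hx1, hx2, hx3⟩ := exists_regular_max_order hG hM hKU hUcomm p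
    have hcomm : Commute u x := hUcomm u hu x hx
    obtain ⟨i, hi⟩ := Cfsg.Agent.Lib.Helper29.BG1212.exists_orderOf_of_isPGroup_zpowers hx1
    have hcop : (orderOf u).Coprime (orderOf x) := by
      rw [hi]
      apply Nat.Coprime.pow_right
      rw [Nat.coprime_comm, Nat.Prime.coprime_iff_not_dvd hp]
      intro hd
      exact hpS (hu2 p hp hd)
    have hord : orderOf (u * x) = orderOf u * orderOf x :=
      hcomm.orderOf_mul_eq_mul_orderOf_of_coprime hcop
    refine ⟨u * x, U.mul_mem hu hx, ?_, ?_, ?_⟩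
    · intro r hr y hy hyr
      rw [hord]
      rcases Finset.mem_insert.mp hr with rfl | hrS
      · exact (hx2 y hy hyr).trans (Dvd.intro_left _ rfl)
      · exact (hu1 r hrS y hy hyr).trans (Dvd.intro _ rfl)
    · intro q hq hd
      rw [hord] at hd
      rcases (Nat.Prime.dvd_mul hq).mp hd with h | h
      · exact Finset.mem_insert_of_mem (hu2 q hq h)
      · rw [hi] at h
        have : q = p := (Nat.prime_dvd_prime_iff_eq hq hp).mp (hq.dvd_of_dvd_pow h)
        rw [this]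
        exact Finset.mem_insert_self p S
    · intro j hj
      obtain ⟨hjM, s, hs, hs1, hcs⟩ := hj
      have hmul : (u * x) ^ j = u ^ j * x ^ j := hcomm.mul_pow j
      have hcs' : Commute ((u * x) ^ j) s := hcs
      -- the `orderOf x`-th power is a power of `u`
      have h1 : ((u * x) ^ j) ^ orderOf x = u ^ (j * orderOf x) := by
        rw [hmul, (hcomm.pow_pow j j).mul_pow, ← pow_mul, ← pow_mul x, mul_comm j (orderOf x),
          pow_mul x, pow_orderOf_eq_one, one_pow, mul_one, mul_comm]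
      have h2 : ((u * x) ^ j) ^ orderOf u = x ^ (j * orderOf u) := by
        rw [hmul, (hcomm.pow_pow j j).mul_pow, ← pow_mul, ← pow_mul x, mul_comm j (orderOf u),
          pow_mul u, pow_orderOf_eq_one, one_pow, one_mul, mul_comm]
      have hu4 : u ^ (j * orderOf x) = 1 := by
        apply hu3
        rw [← h1]
        exact ⟨M.pow_mem hjM _, s, hs, hs1, (hcs'.pow_left _).eq⟩
      have hx4 : x ^ (j * orderOf u) = 1 := by
        apply hx3
        rw [← h2]
        exact ⟨M.pow_mem hjM _, s, hs, hs1, (hcs'.pow_left _).eq⟩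
      have hu5 : u ^ j = 1 := by
        rw [← orderOf_dvd_iff_pow_eq_one] at hu4 ⊢
        exact hcop.dvd_of_dvd_mul_right hu4
      have hx5 : x ^ j = 1 := by
        rw [← orderOf_dvd_iff_pow_eq_one] at hx4 ⊢
        exact hcop.symm.dvd_of_dvd_mul_right hx4
      rw [hmul, hu5, hx5, mul_one]

theorem s1360_of (hG : Cfsg.IsMinSimpleOddOrder G) (h30 : P1430 G) (h21 : P1421 G)
    (M : Subgroup G) (hM : IsCoatom M) (K U : Subgroup G)
    (hKU : Cfsg.IsSigmaDecomposition M K U) :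
    ∃ U₀ : Subgroup G, U₀ ≤ U ∧ Monoid.exponent U₀ = Monoid.exponent U ∧
      ∀ u ∈ U₀, u ∈ Cfsg.sigmaHat M → u = 1 := by
  classical
  by_cases hK1 : K = ⊥
  · have hE : IsComplIn U (sigmaCore M) M := by
      have := hKU.compl
      rwa [hK1, bot_sup_eq] at this
    have hκ : ∀ p : ℕ, p ∉ kappa M := not_mem_kappa_of_bot_hall (hK1 ▸ hKU.hall)
    obtain ⟨-, E₀, hE₀, hexp, hreg⟩ := h21 M hM U hE (hyp_h_of_kappa_empty hG hκ hE.1)
    refine ⟨E₀, hE₀, hexp, ?_⟩
    intro u hu hσ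
    by_contra hu1
    obtain ⟨-, s, hs, hs1, hcs⟩ := hσ
    have hmem : s ∈ sigmaCore M ⊓ Subgroup.centralizer ({u} : Set G) :=
      Subgroup.mem_inf.mpr ⟨hs, Subgroup.mem_centralizer_singleton_iff.mpr hcs.symm⟩
    rw [hreg u hu hu1, Subgroup.mem_bot] at hmem
    exact hs1 hmem
  · have hUc := (U_comm_free hG hM h30 hK1 hKU).1
    have hUcomm : ∀ a ∈ U, ∀ b ∈ U, a * b = b * a := by
      intro a ha b hb
      exact congrArg Subtype.val (mul_comm' (⟨a, ha⟩ : U) ⟨b, hb⟩)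
    obtain ⟨u, hu, hu1, -, hu3⟩ := exists_regular_elt hG hM hKU hUcomm (Nat.card U).primeFactors
      (fun r hr => Nat.prime_of_mem_primeFactors hr)
    have hle : Subgroup.zpowers u ≤ U := Subgroup.zpowers_le.mpr hu
    refine ⟨Subgroup.zpowers u, hle, ?_, ?_⟩
    · apply Cfsg.Agent.Lib.Helper29.BG1212.exponent_eq_of_forall hle
      intro q hq y hy hyq
      refine ⟨u, Subgroup.mem_zpowers u, ?_⟩
      by_cases hqU : q ∣ Nat.card U
      · exact hu1 q (Nat.mem_primeFactors.mpr ⟨hq, hqU, Nat.card_pos.ne'⟩) y hy hyq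
      · haveI : Fact q.Prime := ⟨hq⟩
        obtain ⟨i, hi⟩ := Cfsg.Agent.Lib.Helper29.BG1212.exists_orderOf_of_isPGroup_zpowers hyq
        have hi0 : i = 0 := by
          by_contra hi0
          apply hqU
          have h1 : q ∣ orderOf y := by rw [hi]; exact dvd_pow_self q hi0
          exact h1.trans (Subgroup.orderOf_dvd_natCard U hy)
        rw [hi, hi0, pow_zero]
        exact one_dvd _
    · intro v hv hσ
      obtain ⟨j, rfl⟩ := (Submonoid.mem_powers_iff _ _).mp (mem_powers_iff_mem_zpowers.mpr hv)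
      exact hu3 j hσ

end Cfsg.Agent.Lib.Helper3.BG14
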