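import Mathlib
import Cfsg.Agent.Lib.Helper3.BG14F
import Cfsg.Agent.Lib.Helper11.BGFourteenA

/-!
S1351 (Hall `κ(M)`-subgroups exist and are cyclic), modulo `κ(M) ⊆ τ₁(M)` (B&G Theorem 13.10).
-/

set_option autoImplicit false
open Cfsg

namespace Cfsg.Agent.Lib.Helper3.BG14

open Cfsg.Agent.Lib.Helper10.BG Cfsg.Agent.Lib.Helper10 Cfsg.Agent.Lib.Helper9.BGExc
open Cfsg.Agent.Lib.Helper19.BGCompl Cfsg.Agent.Lib.Helper1.BGSigmaDecomp
open Cfsg.Agent.Lib.Helper3.BGStubs
open scoped commutatorElement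

variable {G : Type*} [Group G] [Finite G]

/-- a `τ₁(M)`-subgroup of `M` is cyclic. -/
theorem isCyclic_of_tau1_group (hG : IsMinSimpleOddOrder G) {M : Subgroup G}
    {K : Subgroup G} (hKM : K ≤ M)
    (hK : ∀ p : ℕ, p.Prime → p ∣ Nat.card K → p ∈ tau1 M) : IsCyclic K := by
  classical
  have hinf : K ⊓ ⁅M, M⁆ = ⊥ := by
    apply inf_eq_bot_of_coprime
    apply Nat.coprime_of_dvd
    intro q hq hd1 hd2
    exact (hK q hq hd1).2.2.2.1 hd2
  have hcomm : ∀ a b : ↥K, a * b = b * a := by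
    intro a b
    have h1 : ⁅(a : G), (b : G)⁆ ∈ K ⊓ ⁅M, M⁆ := by
      refine Subgroup.mem_inf.mpr ⟨?_, Subgroup.commutator_mem_commutator (hKM a.2) (hKM b.2)⟩
      rw [commutatorElement_def]
      exact K.mul_mem (K.mul_mem (K.mul_mem a.2 b.2) (K.inv_mem a.2)) (K.inv_mem b.2)
    rw [hinf, Subgroup.mem_bot, commutatorElement_eq_one_iff_mul_comm] at h1
    exact Subtype.ext h1
  letI : CommGroup ↥K := { (inferInstance : Group ↥K) with mul_comm := hcomm }
  have hnil : Group.IsNilpotent ↥K := CommGroup.isNilpotent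
  apply isCyclic_of_isNilpotent_of_sylow_cyclic hnil
  intro r hr S
  have hrp : r.Prime := hr.out
  by_cases hS1 : (S : Subgroup ↥K) = ⊥
  · have h0 : IsCyclic ↥(S : Subgroup ↥K) := by rw [hS1]; infer_instance
    exact h0
  · have hrK : r ∣ Nat.card K := by
      obtain ⟨k, hk⟩ := S.2.exists_card_eq
      have hk0 : k ≠ 0 := by
        rintro rfl
        rw [pow_zero] at hk
        exact hS1 (Subgroup.card_eq_one.mp hk)
      have h1 : r ∣ Nat.card (S : Subgroup ↥K) := by rw [hk]; exact dvd_pow_self r hk0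
      exact h1.trans (Subgroup.card_subgroup_dvd_card _)
    have hτ := hK r hrp hrK
    have hrG : r ∣ Nat.card G :=
      hrK.trans (Subgroup.card_subgroup_dvd_card K)
    have hr2 : r ≠ 2 := prime_ne_two hG hrG
    have hQM : (S : Subgroup ↥K).map K.subtype ≤ M := (Subgroup.map_subtype_le _).trans hKM
    have hcyc : IsCyclic ↥((S : Subgroup ↥K).map K.subtype) :=
      isCyclic_of_pRankLE_one hr2 hτ.2.2.2.2 hQM (S.2.map _)
    exact (MulEquiv.isCyclic
      ((S : Subgroup ↥K).equivMapOfInjective K.subtype K.subtype_injective)).mpr hcyc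

theorem s1351_of (hG : Cfsg.IsMinSimpleOddOrder G)
    (hκτ : ∀ M : Subgroup G, IsCoatom M → ∀ p : ℕ, p ∈ kappa M → p ∈ tau1 M)
    (M : Subgroup G) (hM : IsCoatom M) :
    (∃ K : Subgroup G, Cfsg.IsPiHallOf (Cfsg.kappa M) K M) ∧
      ∀ K : Subgroup G, Cfsg.IsPiHallOf (Cfsg.kappa M) K M → IsCyclic K := by
  constructor
  · obtain ⟨K, hK, -⟩ := Cfsg.Agent.Lib.Helper11.BG14.exists_kappa_hall_ge hG hM
      (bot_le : (⊥ : Subgroup G) ≤ M) (by
        intro p hp hd
        rw [Subgroup.card_bot] at hd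
        exact absurd (Nat.dvd_one.mp hd) hp.ne_one)
    exact ⟨K, hK⟩
  · intro K hK
    exact isCyclic_of_tau1_group hG hK.1 (fun p hp hd => hκτ M hM p (hK.2.1 p hp hd))

end Cfsg.Agent.Lib.Helper3.BG14
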