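import Mathlib
import Cfsg.Agent.Lib.Helper3.BG14J
import Cfsg.Agent.Lib.Helper9.BGPrime2
import Cfsg.Agent.Lib.Helper10.BGThirteenA

/-!
S1368 (B&G Theorem 14.7, `M ∩ M* = K K*` cyclic), modulo the frozen statement of S1430 and
"Hall `κ`-subgroups are cyclic".
-/

set_option autoImplicit false
open Cfsg

namespace Cfsg.Agent.Lib.Helper3.BG14

open Cfsg.Agent.Lib.Helper10.BG Cfsg.Agent.Lib.Helper10 Cfsg.Agent.Lib.Helper9.BGExc
open Cfsg.Agent.Lib.Helper19.BGCompl Cfsg.Agent.Lib.Helper1.BGSigmaDecomp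
open Cfsg.Agent.Lib.Helper3.BGStubs
open scoped commutatorElement

variable {G : Type*} [Group G] [Finite G]

/-- "Hall `κ(M)`-subgroups are cyclic" as a hypothesis. -/
def Pcyc (G : Type*) [Group G] : Prop :=
  ∀ M : Subgroup G, IsCoatom M → ∀ K : Subgroup G, IsPiHallOf (kappa M) K M → IsCyclic K

/-- two commuting cyclic subgroups of coprime orders generate a cyclic subgroup. -/
theorem isCyclic_sup_of_coprime {A B : Subgroup G} (hA : IsCyclic A) (hB : IsCyclic B)
    (hcomm : ∀ a ∈ A, ∀ b ∈ B, a * b = b * a) (hcop : (Nat.card A).Coprime (Nat.card B)) :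
    IsCyclic ↥(A ⊔ B) := by
  obtain ⟨a, ha⟩ := hA.exists_generator
  obtain ⟨b, hb⟩ := hB.exists_generator
  have hao : orderOf (a : G) = Nat.card A := by
    rw [Subgroup.orderOf_coe, orderOf_eq_card_of_forall_mem_zpowers ha]
  have hbo : orderOf (b : G) = Nat.card B := by
    rw [Subgroup.orderOf_coe, orderOf_eq_card_of_forall_mem_zpowers hb]
  have hc : Commute (a : G) (b : G) := hcomm a a.2 b b.2
  have hord : orderOf ((a : G) * b) = Nat.card A * Nat.card B := by
    rw [hc.orderOf_mul_eq_mul_orderOf_of_coprime (by rw [hao, hbo]; exact hcop), hao, hbo]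
  have hAB : A ≤ Subgroup.normalizer (B : Set G) := by
    intro x hx
    rw [Subgroup.mem_normalizer_iff]
    intro y
    constructor
    · intro hy
      rw [hcomm x hx y hy, mul_inv_cancel_right]; exact hy
    · intro hy
      have h1 : x⁻¹ * (x * y * x⁻¹) * x = y := by group
      have h2 : (x * y * x⁻¹) * x = x * (x * y * x⁻¹) := (hcomm x hx _ hy).symm
      rw [← h1, mul_assoc, h2, ← mul_assoc, inv_mul_cancel, one_mul]; exact hy
  have hcard : Nat.card ↥(A ⊔ B) = Nat.card A * Nat.card B := by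
    have h1 := Cfsg.H5.card_sup_mul_card_inf hAB
    rw [inf_eq_bot_of_coprime hcop, Subgroup.card_bot, mul_one] at h1
    exact h1
  have hmem : (a : G) * b ∈ A ⊔ B :=
    Subgroup.mul_mem _ (Subgroup.mem_sup_left a.2) (Subgroup.mem_sup_right b.2)
  apply isCyclic_of_orderOf_eq_card (⟨(a : G) * b, hmem⟩ : ↥(A ⊔ B))
  rw [Subgroup.orderOf_mk, hord, hcard]

/-- `M_σ ∩ H ≤ K*` for a maximal subgroup `H` with `K ≤ H_σ`. -/
theorem sigmaCore_inf_le_Kstar (hG : IsMinSimpleOddOrder G) (h30 : P1430 G)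
    {M : Subgroup G} (hM : IsCoatom M) {K : Subgroup G} (hK : IsPiHallOf (kappa M) K M)
    (hK1 : K ≠ ⊥) {H : Subgroup G} (hH : IsCoatom H) (hKH : K ≤ sigmaCore H) :
    sigmaCore M ⊓ H ≤ sigmaCore M ⊓ Subgroup.centralizer (K : Set G) := by
  obtain ⟨h1, -, -⟩ := h30 M hM K hK hK1
  obtain ⟨X, hXK, hXp⟩ := exists_prime_card_le hK1
  haveI : Fact (Nat.card X).Prime := ⟨hXp⟩
  have hpκ : Nat.card X ∈ kappa M := hK.2.1 _ hXp (Subgroup.card_dvd_of_le hXK)
  have hpσM : Nat.card X ∉ sigma M := hpκ.2.2.1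
  have hpσH : Nat.card X ∈ sigma H :=
    mem_sigma_of_dvd_card_sigmaCore hG hH hXp (Subgroup.card_dvd_of_le (hXK.trans hKH))
  have hnc := ne_conj_of_mem_sigma_of_not_mem (M := M) hH hpσH hpσM
  have hXH : X ≤ H := hXK.trans (hKH.trans (sigmaCore_le H))
  have hXM : X ≤ M := hXK.trans hK.1
  have hXp' : IsPGroup (Nat.card X) X := IsPGroup.of_card (n := 1) (by rw [pow_one])
  have hYσ : ∀ r : ℕ, r.Prime → r ∣ Nat.card ↥(sigmaCore M ⊓ H) → r ∈ sigma M := fun r hr hd =>
    mem_sigma_of_dvd_card_sigmaCore hG hM hr (hd.trans (Subgroup.card_dvd_of_le inf_le_left))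
  have hcomm := commutator_eq_bot_of_mem_sigma hG hM hH hnc hpσH hXp' hXH
    (inf_le_right : sigmaCore M ⊓ H ≤ H)
    (le_normalizer_inf (hXM.trans (le_normalizer_sigmaCore M)) (hXH.trans Subgroup.le_normalizer))
    hYσ (fun hd => hpσM (hYσ _ hXp hd))
  rw [Subgroup.commutator_eq_bot_iff_le_centralizer] at hcomm
  obtain ⟨x, hx, hx1⟩ := exists_ne_one_of_ne_bot (ne_bot_of_card_prime (p := Nat.card X) rfl)
  rw [← h1 x (hXK hx) hx1]
  refine le_inf inf_le_left (hcomm.trans (Subgroup.centralizer_le ?_))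
  intro y hy
  rw [Set.mem_singleton_iff] at hy
  rw [hy]; exact hx

/-- `S1368` from the frozen `S1430` and the cyclicity of `K*`. -/
theorem s1368_of_cyc (hG : Cfsg.IsMinSimpleOddOrder G) (h30 : P1430 G)
    (M : Subgroup G) (hM : IsCoatom M) (K U : Subgroup G)
    (hKU : Cfsg.IsSigmaDecomposition M K U) (hK1 : K ≠ ⊥) (Mstar : Subgroup G)
    (hMstar : IsCoatom Mstar)
    (hKst : K = Cfsg.sigmaCore Mstar ⊓ Subgroup.centralizer
      ((Cfsg.sigmaCore M ⊓ Subgroup.centralizer (K : Set G)) : Set G))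
    (hKstH : Cfsg.IsPiHallOf (Cfsg.kappa Mstar)
      (Cfsg.sigmaCore M ⊓ Subgroup.centralizer (K : Set G)) Mstar)
    (hKsc : IsCyclic ↥(sigmaCore M ⊓ Subgroup.centralizer (K : Set G))) :
    M ⊓ Mstar = K ⊔ (Cfsg.sigmaCore M ⊓ Subgroup.centralizer (K : Set G)) ∧
      IsCyclic ↥(K ⊔ (Cfsg.sigmaCore M ⊓ Subgroup.centralizer (K : Set G))) := by
  have hKs1 := Kstar_ne_bot hG hM h30 hKU.hall
  have hKMs : K ≤ sigmaCore Mstar := hKst.le.trans inf_le_left
  have hKst' : K = sigmaCore Mstar ⊓ Subgroup.centralizer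
      (((sigmaCore M ⊓ Subgroup.centralizer (K : Set G) : Subgroup G)) : Set G) := by
    rw [Subgroup.coe_inf]; exact hKst
  clear hKst
  obtain ⟨-, -, h3s⟩ := h30 Mstar hMstar _ hKstH hKs1
  generalize hKsdef : sigmaCore M ⊓ Subgroup.centralizer (K : Set G) = Ks at *
  have hKsM : Ks ≤ sigmaCore M := by rw [← hKsdef]; exact inf_le_left
  have hKsC : Ks ≤ Subgroup.centralizer (K : Set G) := by rw [← hKsdef]; exact inf_le_right
  constructor
  · apply le_antisymm
    · obtain ⟨Y, hYKs, hYp⟩ := exists_prime_card_le hKs1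
      have h4 := (h3s Y hYKs hYp).1
      rw [← hKst'] at h4
      rw [sup_comm, ← h4]
      refine le_inf inf_le_right ?_
      have hinf : sigmaCore M ⊓ Mstar = Ks := by
        apply le_antisymm
        · rw [← hKsdef]
          exact sigmaCore_inf_le_Kstar hG h30 hM hKU.hall hK1 hMstar hKMs
        · exact le_inf hKsM hKstH.1
      have hN : M ⊓ Mstar ≤ Subgroup.normalizer (Ks : Set G) := by
        rw [← hinf]
        exact le_normalizer_inf (inf_le_left.trans (le_normalizer_sigmaCore M))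
          (inf_le_right.trans Subgroup.le_normalizer)
      exact hN.trans
        (Cfsg.Agent.Lib.Helper9.BGPrime.normalizer_le_normalizer_of_le_cyclic hKsc hYKs)
    · exact sup_le (le_inf hKU.hall.1 (hKMs.trans (sigmaCore_le Mstar)))
        (le_inf (hKsM.trans (sigmaCore_le M)) hKstH.1)
  · apply isCyclic_sup_of_coprime hKU.cyclic hKsc
    · intro a ha b hb
      exact (Subgroup.mem_centralizer_iff.mp (hKsC hb) a ha)
    · apply Nat.coprime_of_dvd
      intro q hq hd1 hd2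
      exact (hKU.hall.2.1 q hq hd1).2.2.1
        (mem_sigma_of_dvd_card_sigmaCore hG hM hq (hd2.trans (Subgroup.card_dvd_of_le hKsM)))

theorem s1368_of (hG : Cfsg.IsMinSimpleOddOrder G) (h30 : P1430 G) (hcyc : Pcyc G)
    (M : Subgroup G) (hM : IsCoatom M) (K U : Subgroup G)
    (hKU : Cfsg.IsSigmaDecomposition M K U) (hK1 : K ≠ ⊥) (Mstar : Subgroup G)
    (hMstar : IsCoatom Mstar)
    (hKst : K = Cfsg.sigmaCore Mstar ⊓ Subgroup.centralizer
      ((Cfsg.sigmaCore M ⊓ Subgroup.centralizer (K : Set G)) : Set G))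
    (hKstH : Cfsg.IsPiHallOf (Cfsg.kappa Mstar)
      (Cfsg.sigmaCore M ⊓ Subgroup.centralizer (K : Set G)) Mstar) :
    M ⊓ Mstar = K ⊔ (Cfsg.sigmaCore M ⊓ Subgroup.centralizer (K : Set G)) ∧
      IsCyclic ↥(K ⊔ (Cfsg.sigmaCore M ⊓ Subgroup.centralizer (K : Set G))) :=
  s1368_of_cyc hG h30 M hM K U hKU hK1 Mstar hMstar hKst hKstH (hcyc Mstar hMstar _ hKstH)

end Cfsg.Agent.Lib.Helper3.BG14
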