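import Mathlib
import Cfsg.Prelude.Def_OddOrderLocal

/-!
Counting the union of the conjugates of a TI-subset: if `X` is a TI-subset of the finite group `G`
not containing `1` and `N = N_G(X)`, then `|N| · |⋃_g gXg⁻¹| = |X| · |G|`.
-/

set_option autoImplicit false
open Cfsg

namespace Cfsg.Agent.Lib.Helper3.TICount

section ConjSetPart

variable {G : Type*} [Group G]

/-- the non-identity elements conjugate into `A` -/
def conjSet (A : Subgroup G) : Set G := {x | x ≠ 1 ∧ ∃ g : G, g * x * g⁻¹ ∈ A}

lemma mem_conjSet (A : Subgroup G) (x : G) : x ∈ conjSet A ↔ x ≠ 1 ∧ ∃ g : G, g * x * g⁻¹ ∈ A :=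
  Iff.rfl

/-- the number of non-identity elements conjugate into a trivial intersection subgroup -/
theorem card_conjSet [Finite G] (A : Subgroup G)
    (hTI : ∀ g x : G, x ∈ A → x ≠ 1 → g * x * g⁻¹ ∈ A → g ∈ Subgroup.normalizer (A : Set G)) :
    Nat.card (conjSet A) * Nat.card (Subgroup.normalizer (A : Set G))
      = Nat.card G * (Nat.card A - 1) := by
  classical
  let _ : Fintype G := Fintype.ofFinite G
  set N : Subgroup G := Subgroup.normalizer (A : Set G) with hN
  let r : G → G → Prop := fun g x => x ≠ 1 ∧ g * x * g⁻¹ ∈ A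
  have hcomm : ∑ g : G, (Finset.univ.filter (fun x => r g x)).card
      = ∑ x : G, (Finset.univ.filter (fun g => r g x)).card := by
    simp_rw [Finset.card_filter]
    exact Finset.sum_comm
  -- the rows
  have hrow : ∀ g : G, (Finset.univ.filter (fun x => r g x)).card = Nat.card A - 1 := by
    intro g
    have h1 : (Finset.univ.filter (fun x => r g x)).card
        = (Finset.univ.filter (fun a : G => a ∈ A ∧ a ≠ 1)).card := by
      apply Finset.card_nbij' (fun x => g * x * g⁻¹) (fun a => g⁻¹ * a * g)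
      · intro x hx
        have hx' := (Finset.mem_filter.1 hx).2
        refine Finset.mem_filter.2 ⟨Finset.mem_univ _, hx'.2, ?_⟩
        intro h
        have h : g * x * g⁻¹ = 1 := h
        apply hx'.1
        have : x = g⁻¹ * (g * x * g⁻¹) * g := by group
        rw [this, h]; group
      · intro a ha
        have ha' := (Finset.mem_filter.1 ha).2
        refine Finset.mem_filter.2 ⟨Finset.mem_univ _, ?_, ?_⟩
        · intro h
          have h : g⁻¹ * a * g = 1 := h
          apply ha'.2
          have : a = g * (g⁻¹ * a * g) * g⁻¹ := by group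
          rw [this, h]; group
        · have : g * (g⁻¹ * a * g) * g⁻¹ = a := by group
          rw [this]; exact ha'.1
      · intro x _
        show g⁻¹ * (g * x * g⁻¹) * g = x
        group
      · intro a _
        show g * (g⁻¹ * a * g) * g⁻¹ = a
        group
    rw [h1]
    have h2 : (Finset.univ.filter (fun a : G => a ∈ A ∧ a ≠ 1))
        = (Finset.univ.filter (fun a : G => a ∈ A)).erase 1 := by
      ext a
      simp only [Finset.mem_filter, Finset.mem_univ, true_and, Finset.mem_erase]
      tauto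
    rw [h2, Finset.card_erase_of_mem (Finset.mem_filter.2 ⟨Finset.mem_univ _, A.one_mem⟩)]
    congr 1
    rw [Nat.card_eq_fintype_card, Fintype.card_subtype]
  -- the columns
  have hcol : ∀ x : G, (Finset.univ.filter (fun g => r g x)).card
      = if x ∈ conjSet A then Nat.card N else 0 := by
    intro x
    split_ifs with hx
    · obtain ⟨hx1, g₀, hg₀⟩ := hx
      have h1 : (Finset.univ.filter (fun g => r g x)).card
          = (Finset.univ.filter (fun n : G => n ∈ N)).card := by
        apply Finset.card_nbij' (fun g => g * g₀⁻¹) (fun n => n * g₀)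
        · intro g hg
          have hg' := (Finset.mem_filter.1 hg).2
          refine Finset.mem_filter.2 ⟨Finset.mem_univ _, ?_⟩
          apply hTI (g * g₀⁻¹) (g₀ * x * g₀⁻¹) hg₀
          · intro h
            apply hx1
            have : x = g₀⁻¹ * (g₀ * x * g₀⁻¹) * g₀ := by group
            rw [this, h]; group
          · have : g * g₀⁻¹ * (g₀ * x * g₀⁻¹) * (g * g₀⁻¹)⁻¹ = g * x * g⁻¹ := by group
            rw [this]; exact hg'.2
        · intro n hn
          have hn' : n ∈ N := (Finset.mem_filter.1 hn).2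
          refine Finset.mem_filter.2 ⟨Finset.mem_univ _, hx1, ?_⟩
          have : n * g₀ * x * (n * g₀)⁻¹ = n * (g₀ * x * g₀⁻¹) * n⁻¹ := by group
          rw [this]
          exact (Subgroup.mem_normalizer_iff.1 hn' _).1 hg₀
        · intro g _
          show g * g₀⁻¹ * g₀ = g
          group
        · intro n _
          show n * g₀ * g₀⁻¹ = n
          group
      rw [h1, Nat.card_eq_fintype_card, Fintype.card_subtype]
    · rw [Finset.card_eq_zero, Finset.filter_eq_empty_iff]
      intro g _ hg
      exact hx ⟨hg.1, g, hg.2⟩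
  simp_rw [hrow, hcol] at hcomm
  rw [Finset.sum_const, Finset.card_univ, smul_eq_mul, Finset.sum_ite, Finset.sum_const_zero,
    add_zero, Finset.sum_const, smul_eq_mul] at hcomm
  rw [Nat.card_eq_fintype_card (α := G), hcomm]
  congr 1
  rw [Nat.card_eq_fintype_card, Fintype.card_subtype]


end ConjSetPart

section TISubsetPart

variable {G : Type*} [Group G] [Finite G]

omit [Finite G] in
theorem card_normalizer_mul_ncard_conj (X : Set G) (hTI : IsTISubset X) (h1 : (1 : G) ∉ X) :
    Nat.card (Subgroup.normalizer X) *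
        Set.ncard {a : G | ∃ g : G, ∃ z ∈ X, a = g * z * g⁻¹} =
      Set.ncard X * Nat.card G := by
  classical
  set Y : Set G := {a : G | ∃ g : G, ∃ z ∈ X, a = g * z * g⁻¹} with hY
  -- choose a representation of every element of `Y`
  have hrep : ∀ a : Y, ∃ p : G × G, p.2 ∈ X ∧ (a : G) = p.1 * p.2 * p.1⁻¹ := by
    rintro ⟨a, g, z, hz, rfl⟩
    exact ⟨(g, z), hz, rfl⟩
  choose rep hrepX hrepE using hrep
  -- the normalizer is closed under inverses etc.; conjugation by `h ∈ N` preserves `X`
  have hNX : ∀ h ∈ Subgroup.normalizer X, ∀ z ∈ X, h⁻¹ * z * h ∈ X := by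
    intro h hh z hz
    have := (Subgroup.mem_set_normalizer_iff.mp (inv_mem hh) z).mp hz
    simpa using this
  let Ψ : Y × Subgroup.normalizer X → G × X := fun q =>
    ((rep q.1).1 * (q.2 : G), ⟨(q.2 : G)⁻¹ * (rep q.1).2 * (q.2 : G), hNX _ q.2.2 _ (hrepX q.1)⟩)
  have hΨa : ∀ q : Y × Subgroup.normalizer X,
      (Ψ q).1 * ((Ψ q).2 : G) * (Ψ q).1⁻¹ = (q.1 : G) := by
    intro q
    show (rep q.1).1 * (q.2 : G) * ((q.2 : G)⁻¹ * (rep q.1).2 * (q.2 : G)) *
      ((rep q.1).1 * (q.2 : G))⁻¹ = (q.1 : G)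
    rw [hrepE q.1]
    group
  have hinj : Function.Injective Ψ := by
    intro q q' h
    have ha : (q.1 : G) = (q'.1 : G) := by rw [← hΨa q, ← hΨa q', h]
    have ha' : q.1 = q'.1 := Subtype.ext ha
    have h2 : (rep q.1).1 * (q.2 : G) = (rep q'.1).1 * (q'.2 : G) := congrArg Prod.fst h
    rw [ha'] at h2
    have h3 : (q.2 : G) = (q'.2 : G) := mul_left_cancel h2
    exact Prod.ext ha' (Subtype.ext h3)
  have hsurj : Function.Surjective Ψ := by
    rintro ⟨g, ⟨z, hz⟩⟩
    have haY : g * z * g⁻¹ ∈ Y := ⟨g, z, hz, rfl⟩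
    set a : Y := ⟨g * z * g⁻¹, haY⟩ with ha
    have he := hrepE a
    have hzX := hrepX a
    -- `h = g₀⁻¹ g` normalizes `X`
    have hh : (rep a).1⁻¹ * g ∈ Subgroup.normalizer X := by
      by_contra hcon
      have hconj : ((rep a).1⁻¹ * g) * z * ((rep a).1⁻¹ * g)⁻¹ ∈ X := by
        have : ((rep a).1⁻¹ * g) * z * ((rep a).1⁻¹ * g)⁻¹ = (rep a).2 := by
          have h5 : g * z * g⁻¹ = (rep a).1 * (rep a).2 * (rep a).1⁻¹ := he
          calc ((rep a).1⁻¹ * g) * z * ((rep a).1⁻¹ * g)⁻¹
              = (rep a).1⁻¹ * (g * z * g⁻¹) * (rep a).1 := by group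
            _ = (rep a).1⁻¹ * ((rep a).1 * (rep a).2 * (rep a).1⁻¹) * (rep a).1 := by rw [h5]
            _ = (rep a).2 := by group
        rw [this]; exact hzX
      have := hTI _ hcon z hz hconj
      exact h1 (this ▸ hz)
    refine ⟨(a, ⟨(rep a).1⁻¹ * g, hh⟩), ?_⟩
    apply Prod.ext
    · show (rep a).1 * ((rep a).1⁻¹ * g) = g
      group
    · apply Subtype.ext
      show ((rep a).1⁻¹ * g)⁻¹ * (rep a).2 * ((rep a).1⁻¹ * g) = z
      have h5 : g * z * g⁻¹ = (rep a).1 * (rep a).2 * (rep a).1⁻¹ := he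
      have h6 : (rep a).2 = (rep a).1⁻¹ * (g * z * g⁻¹) * (rep a).1 := by rw [h5]; group
      rw [h6]; group
  have hcard := Nat.card_congr (Equiv.ofBijective Ψ ⟨hinj, hsurj⟩)
  rw [Nat.card_prod, Nat.card_prod] at hcard
  rw [← Nat.card_coe_set_eq Y, ← Nat.card_coe_set_eq X, mul_comm, hcard, mul_comm]


end TISubsetPart

end Cfsg.Agent.Lib.Helper3.TICount
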