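import Mathlib
import Cfsg.Agent.Lib.Helper3.BG14K
import Cfsg.Agent.Lib.Helper3.BG14H
import Cfsg.Agent.Lib.Helper3.TICount
import Cfsg.Agent.Lib.Helper19.BG14B
import Cfsg.Agent.Lib.Helper10.BGNine

/-!
S1434 (B&G Theorem 14.7, parts (c)-(f)), modulo the frozen statements of S1430, S1431 and
`κ(M) ⊆ τ₁(M)`.
-/

set_option autoImplicit false
open Cfsg

namespace Cfsg.Agent.Lib.Helper3.BG14

open Cfsg.Agent.Lib.Helper10.BG Cfsg.Agent.Lib.Helper10 Cfsg.Agent.Lib.Helper9.BGExc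
open Cfsg.Agent.Lib.Helper19.BGCompl Cfsg.Agent.Lib.Helper1.BGSigmaDecomp
open Cfsg.Agent.Lib.Helper3.BGStubs
open scoped commutatorElement

variable {G : Type*} [Group G] [Finite G]

/-- `κ(M) ⊆ τ₁(M)` (B&G Theorem 13.10) as a hypothesis. -/
def Pκτ (G : Type*) [Group G] : Prop :=
  ∀ M : Subgroup G, IsCoatom M → ∀ p : ℕ, p ∈ kappa M → p ∈ tau1 M

theorem pcyc_of (hG : IsMinSimpleOddOrder G) (hκτ : Pκτ G) : Pcyc G := fun M hM K hK =>
  isCyclic_of_tau1_group hG hK.1 (fun p hp hd => hκτ M hM p (hK.2.1 p hp hd))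

/-- helper19's `KData` from the stubs. -/
theorem kdata_of (h30 : P1430 G) (h31 : P1431 G) {M K : Subgroup G} (hM : IsCoatom M)
    (hK : IsPiHallOf (kappa M) K M) (hK1 : K ≠ ⊥) : Cfsg.Agent.Lib.Helper19.BG14.KData M K where
  coatom := hM
  hall := hK
  ne_bot := hK1
  prime := (h30 M hM K hK hK1).1
  fus1 := (h31 M hM K hK hK1).1
  fus2 := (h31 M hM K hK hK1).2.1

/-- `τ₁(M) ⊆ κ(M)` when `K ≠ 1`. -/
theorem tau1_subset_kappa (hG : IsMinSimpleOddOrder G) (h30 : P1430 G) {M : Subgroup G}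
    (hM : IsCoatom M) {K U : Subgroup G} (hKU : IsSigmaDecomposition M K U) (hK1 : K ≠ ⊥)
    {r : ℕ} (hr : r ∈ tau1 M) : r ∈ kappa M := by
  by_contra hκ
  obtain ⟨hrp, hrσ, hrM, hrM', -⟩ := hr
  rw [card_eq hG hM hKU] at hrM
  have hU : r ∣ Nat.card U := by
    rcases (Nat.Prime.dvd_mul hrp).mp hrM with h | h
    · rcases (Nat.Prime.dvd_mul hrp).mp h with h | h
      · exact h
      · exact absurd (hKU.hall.2.1 r hrp h) hκ
    · exact absurd (mem_sigma_of_dvd_card_sigmaCore hG hM hrp h) hrσ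
  exact hrM' (hU.trans (Subgroup.card_dvd_of_le (U_le_commutator hG hM h30 hK1 hKU)))

/-- `K*` is a Hall `σ(M)`-subgroup of the partner `M*`. -/
theorem Kstar_isPiHallOf_sigma_cyc (hG : IsMinSimpleOddOrder G) (h30 : P1430 G) (h31 : P1431 G)
    {M K : Subgroup G} (hM : IsCoatom M) (hK : IsPiHallOf (kappa M) K M)
    (hK1 : K ≠ ⊥) {Mstar : Subgroup G} (hMstar : IsCoatom Mstar)
    (hKMs : K ≤ sigmaCore Mstar)
    (hKstH : IsPiHallOf (kappa Mstar) (sigmaCore M ⊓ Subgroup.centralizer (K : Set G)) Mstar)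
    (hKsc : IsCyclic ↥(sigmaCore M ⊓ Subgroup.centralizer (K : Set G))) :
    IsPiHallOf (sigma M) (sigmaCore M ⊓ Subgroup.centralizer (K : Set G)) Mstar := by
  classical
  have hKs1 := Kstar_ne_bot hG hM h30 hK
  have hinfle := sigmaCore_inf_le_Kstar hG h30 hM hK hK1 hMstar hKMs
  have h4 := (h31 M hM K hK hK1).2.2.2
  generalize hKsdef : sigmaCore M ⊓ Subgroup.centralizer (K : Set G) = Ks at *
  have hKsM : Ks ≤ sigmaCore M := by rw [← hKsdef]; exact inf_le_left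
  have hKsσ : ∀ r : ℕ, r.Prime → r ∣ Nat.card Ks → r ∈ sigma M := fun r hr hd =>
    mem_sigma_of_dvd_card_sigmaCore hG hM hr (hd.trans (Subgroup.card_dvd_of_le hKsM))
  refine ⟨hKstH.1, hKsσ, ?_⟩
  intro q hq hqσ hd
  by_cases hqK : q ∣ Nat.card Ks
  · exact hKstH.2.2 q hq (hKstH.2.1 q hq hqK) hd
  · obtain ⟨Us, hdec, -⟩ := exists_decomposition hG hMstar h30 hKsc hKstH
    have hcop := Cfsg.Agent.Lib.Helper19.BG14.coprime_card_U_sup hG hMstar hdec
    have hn := le_normalizer_U_sup_sigmaCore hG hMstar hdec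
    have hsolv : Group.IsSolvable ↥Ks :=
      isSolvable_of_ne_top hG (ne_top_of_le_isCoatom hMstar hKstH.1)
    have hact : Cfsg.Agent.Lib.Helper1.CoprimeAct Ks (Us ⊔ sigmaCore Mstar) :=
      ⟨hKstH.1.trans hn, hcop.symm, Or.inl hsolv⟩
    obtain ⟨Y, hYH, hYc, hYn⟩ := exists_invariant_sylow' hact hq
    have hHM : Us ⊔ sigmaCore Mstar ≤ Mstar := sup_le hdec.compl.1 (sigmaCore_le Mstar)
    -- `q` divides `|Us M*_σ|`
    have hqH : q ∣ Nat.card ↥(Us ⊔ sigmaCore Mstar) := by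
      have h1 := Cfsg.Agent.Lib.Helper12.card_mul_relIndex_eq hKstH.1
      rw [card_eq hG hMstar hdec] at h1
      have h2 : Ks.relIndex Mstar = Nat.card Us * Nat.card (sigmaCore Mstar) := by
        have h3 : Nat.card Ks * Ks.relIndex Mstar =
            Nat.card Ks * (Nat.card Us * Nat.card (sigmaCore Mstar)) := by rw [h1]; ring
        exact Nat.eq_of_mul_eq_mul_left Nat.card_pos h3
      rw [h2] at hd
      rcases (Nat.Prime.dvd_mul hq).mp hd with h | h
      · exact h.trans (Subgroup.card_dvd_of_le le_sup_left)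
      · exact h.trans (Subgroup.card_dvd_of_le le_sup_right)
    have hfac : (Nat.card ↥(Us ⊔ sigmaCore Mstar)).factorization q ≠ 0 := by
      intro h0
      rcases (Nat.factorization_eq_zero_iff _ _).mp h0 with h | h | h
      · exact h hq
      · exact h hqH
      · exact Nat.card_pos.ne' h
    have hqY : q ∣ Nat.card Y := by rw [hYc]; exact dvd_pow_self q hfac
    -- `Ks ⊔ Y` is a `σ(M)`-group meeting `Ks`
    have hYσ : ∀ r : ℕ, r.Prime → r ∣ Nat.card ↥(Ks ⊔ Y) → r ∈ sigma M := by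
      intro r hr hdr
      have h1 := Cfsg.H5.card_sup_mul_card_inf hYn
      have h2 : Nat.card ↥(Ks ⊔ Y) ∣ Nat.card Ks * Nat.card Y := Dvd.intro _ h1
      rcases (Nat.Prime.dvd_mul hr).mp (hdr.trans h2) with h | h
      · exact hKsσ r hr h
      · rw [hYc] at h
        have : r = q := (Nat.prime_dvd_prime_iff_eq hr hq).mp (hr.dvd_of_dvd_pow h)
        rw [this]; exact hqσ
    have hne : (Ks ⊔ Y) ⊓ Ks ≠ ⊥ := by
      rw [inf_eq_right.mpr le_sup_left]; exact hKs1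
    have hle := h4 (Ks ⊔ Y) hYσ hne
    have hYK : Y ≤ Ks := by
      refine le_trans (le_inf (le_sup_right.trans hle) (hYH.trans hHM)) ?_
      rw [← hKsdef] at hinfle ⊢
      exact hinfle
    exact hqK (hqY.trans (Subgroup.card_dvd_of_le hYK))

omit [Finite G] in
theorem le_normalizer_of_commute {A B : Subgroup G} (hcomm : ∀ a ∈ A, ∀ b ∈ B, a * b = b * a) :
    A ≤ Subgroup.normalizer (B : Set G) := by
  intro x hx
  rw [Subgroup.mem_normalizer_iff]
  intro y
  constructor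
  · intro hy
    rw [hcomm x hx y hy, mul_inv_cancel_right]; exact hy
  · intro hy
    have h2 : x⁻¹ * (x * y * x⁻¹) = (x * y * x⁻¹) * x⁻¹ := hcomm x⁻¹ (inv_mem hx) _ hy
    have h3 : y = x⁻¹ * (x * y * x⁻¹) * x := by group
    rw [h3, h2, inv_mul_cancel_right]; exact hy

/-- the number of elements of `K K* ∖ (K ∪ K*)`. -/
theorem ncard_zhat {K Ks : Subgroup G} (hinf : K ⊓ Ks = ⊥)
    (hcardZ : Nat.card ↥(K ⊔ Ks) = Nat.card K * Nat.card Ks) (hk2 : 2 ≤ Nat.card K)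
    (hks2 : 2 ≤ Nat.card Ks) :
    Set.ncard (((K ⊔ Ks : Subgroup G) : Set G) \ ((K : Set G) ∪ (Ks : Set G))) =
      Nat.card K * Nat.card Ks - Nat.card K - Nat.card Ks + 1 := by
  have hncK : Set.ncard (K : Set G) = Nat.card K := (Nat.card_coe_set_eq (K : Set G)).symm
  have hncKs : Set.ncard (Ks : Set G) = Nat.card Ks := (Nat.card_coe_set_eq (Ks : Set G)).symm
  have hncZ : Set.ncard ((K ⊔ Ks : Subgroup G) : Set G) = Nat.card K * Nat.card Ks := by
    rw [← hcardZ]; exact (Nat.card_coe_set_eq _).symm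
  have hinter : (K : Set G) ∩ (Ks : Set G) = {1} := by
    ext t
    rw [Set.mem_singleton_iff, ← Subgroup.coe_inf, hinf]
    exact Subgroup.mem_bot
  have hunion : Set.ncard ((K : Set G) ∪ (Ks : Set G)) + 1 = Nat.card K + Nat.card Ks := by
    have h5 := Set.ncard_union_add_ncard_inter (K : Set G) (Ks : Set G)
    rw [hinter, Set.ncard_singleton, hncK, hncKs] at h5
    exact h5
  have hsub : (K : Set G) ∪ (Ks : Set G) ⊆ ((K ⊔ Ks : Subgroup G) : Set G) := by
    rintro t (ht | ht)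
    · exact Subgroup.mem_sup_left ht
    · exact Subgroup.mem_sup_right ht
  rw [Set.ncard_diff hsub (Set.toFinite _), hncZ]
  have hP : Nat.card K + Nat.card Ks ≤ Nat.card K * Nat.card Ks := by nlinarith
  omega

/-- the arithmetic of B&G 14.7(f): more than half of the elements. -/
theorem zhat_ineq {k ks g N : ℕ} (hk : Odd k) (hks : Odd ks) (hk2 : 2 ≤ k) (hks2 : 2 ≤ ks)
    (hcop : k.Coprime ks) (hg : 0 < g) (h : k * ks * N = (k * ks - k - ks + 1) * g) :
    g < 2 * N := by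
  have hne : k ≠ ks := by
    intro h1
    rw [h1, Nat.coprime_self] at hcop
    omega
  obtain ⟨a, ha⟩ : ∃ a, k = 2 * a + 3 := by
    obtain ⟨m, hm⟩ := hk
    exact ⟨m - 1, by omega⟩
  obtain ⟨b, hb⟩ : ∃ b, ks = 2 * b + 3 := by
    obtain ⟨m, hm⟩ := hks
    exact ⟨m - 1, by omega⟩
  have hab : a ≠ b := fun h1 => hne (by rw [ha, hb, h1])
  have hkey : k * ks < 2 * (k * ks - k - ks + 1) := by
    have hP : k * ks + 1 ≥ 2 * k + 2 * ks := by
      rw [ha, hb]
      rcases Nat.lt_or_ge a b with h1 | h1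
      · nlinarith
      · have : b < a := lt_of_le_of_ne h1 (Ne.symm hab)
        nlinarith
    omega
  have h9 : k * ks * g < k * ks * (2 * N) := by
    calc k * ks * g < 2 * (k * ks - k - ks + 1) * g := Nat.mul_lt_mul_of_pos_right hkey hg
      _ = k * ks * (2 * N) := by rw [mul_assoc 2, ← h]; ring
  exact Nat.lt_of_mul_lt_mul_left h9

theorem s1434_of_cyc (hG : Cfsg.IsMinSimpleOddOrder G) (h30 : P1430 G) (h31 : P1431 G)
    (M : Subgroup G) (hM : IsCoatom M) (K U : Subgroup G) (hKU : Cfsg.IsSigmaDecomposition M K U) (hK1 : K ≠ ⊥) (Mstar : Subgroup G) (hMstar : IsCoatom Mstar)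
    (hKst : K = Cfsg.sigmaCore Mstar ⊓ Subgroup.centralizer ((Cfsg.sigmaCore M ⊓ Subgroup.centralizer (K : Set G)) : Set G))
    (hKstH : Cfsg.IsPiHallOf (Cfsg.kappa Mstar) (Cfsg.sigmaCore M ⊓ Subgroup.centralizer (K : Set G)) Mstar)
    (hκτM : ∀ p : ℕ, p ∈ kappa M → p ∈ tau1 M)
    (hKsc : IsCyclic ↥(sigmaCore M ⊓ Subgroup.centralizer (K : Set G))) :
    Cfsg.kappa M = Cfsg.tau1 M ∧ Cfsg.IsPiHallOf (Cfsg.sigma M) (Cfsg.sigmaCore M ⊓ Subgroup.centralizer (K : Set G)) Mstar ∧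
      (∀ x ∈ K, x ≠ 1 → ∀ y ∈ (Cfsg.sigmaCore M ⊓ Subgroup.centralizer (K : Set G)), y ≠ 1 →
        M ⊓ Subgroup.centralizer ({x} : Set G) = K ⊔ (Cfsg.sigmaCore M ⊓ Subgroup.centralizer (K : Set G)) ∧ Mstar ⊓ Subgroup.centralizer ({y} : Set G) = K ⊔ (Cfsg.sigmaCore M ⊓ Subgroup.centralizer (K : Set G)) ∧
        Subgroup.centralizer ({x * y} : Set G) = K ⊔ (Cfsg.sigmaCore M ⊓ Subgroup.centralizer (K : Set G))) ∧
      (∀ g : G, g ∉ M → ∀ z ∈ ((↑(K ⊔ (Cfsg.sigmaCore M ⊓ Subgroup.centralizer (K : Set G))) : Set G) \ ((K : Set G) ∪ ↑(Cfsg.sigmaCore M ⊓ Subgroup.centralizer (K : Set G)))), z ∉ M.map (MulAut.conj g).toMonoidHom) ∧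
      Nat.card K * Nat.card ↥(Cfsg.sigmaCore M ⊓ Subgroup.centralizer (K : Set G)) * Set.ncard {a : G | ∃ g : G, ∃ z ∈ ((↑(K ⊔ (Cfsg.sigmaCore M ⊓ Subgroup.centralizer (K : Set G))) : Set G) \ ((K : Set G) ∪ ↑(Cfsg.sigmaCore M ⊓ Subgroup.centralizer (K : Set G)))), a = g * z * g⁻¹} =
        (Nat.card K * Nat.card ↥(Cfsg.sigmaCore M ⊓ Subgroup.centralizer (K : Set G)) - Nat.card K - Nat.card ↥(Cfsg.sigmaCore M ⊓ Subgroup.centralizer (K : Set G)) + 1) * Nat.card G ∧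
      Nat.card G < 2 * Set.ncard {a : G | ∃ g : G, ∃ z ∈ ((↑(K ⊔ (Cfsg.sigmaCore M ⊓ Subgroup.centralizer (K : Set G))) : Set G) \ ((K : Set G) ∪ ↑(Cfsg.sigmaCore M ⊓ Subgroup.centralizer (K : Set G)))), a = g * z * g⁻¹} := by
  classical
  have hK := hKU.hall
  have hd := kdata_of h30 h31 hM hK hK1
  have hKMs : K ≤ sigmaCore Mstar := hKst.le.trans inf_le_left
  have hKst' : K = sigmaCore Mstar ⊓ Subgroup.centralizer
      (((sigmaCore M ⊓ Subgroup.centralizer (K : Set G) : Subgroup G)) : Set G) := by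
    rw [Subgroup.coe_inf]; exact hKst
  have hKs1 := Kstar_ne_bot hG hM h30 hK
  have hcop := hd.coprime hG
  have hKcomm : ∀ a ∈ K, ∀ b ∈ K, a * b = b * a := by
    intro a ha b hb
    have h1 := Cfsg.Agent.Lib.Helper9.BGPrime.le_centralizer_of_cyclic hKU.cyclic (le_refl K) hb
    exact Subgroup.mem_centralizer_iff.mp h1 a ha
  have hKscomm : ∀ a ∈ sigmaCore M ⊓ Subgroup.centralizer (K : Set G),
      ∀ b ∈ sigmaCore M ⊓ Subgroup.centralizer (K : Set G), a * b = b * a := by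
    intro a ha b hb
    have h1 := Cfsg.Agent.Lib.Helper9.BGPrime.le_centralizer_of_cyclic hKsc (le_refl _) hb
    exact Subgroup.mem_centralizer_iff.mp h1 a ha
  have hZc : IsCyclic ↥(K ⊔ (sigmaCore M ⊓ Subgroup.centralizer (K : Set G))) :=
    (s1368_of_cyc hG h30 M hM K U hKU hK1 Mstar hMstar hKst hKstH hKsc).2
  have hKsM : sigmaCore M ⊓ Subgroup.centralizer (K : Set G) ≤ M :=
    inf_le_left.trans (sigmaCore_le M)
  -- powers
  have hpowK : ∀ x ∈ K, ∀ y ∈ sigmaCore M ⊓ Subgroup.centralizer (K : Set G),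
      (x * y) ^ Nat.card K = y ^ Nat.card K := by
    intro x hx y hy
    rw [(show Commute x y from hd.commute hx hy).mul_pow,
      Cfsg.Agent.Lib.Helper19.BG14.KData.pow_card_of_mem hx, one_mul]
  have hpowKs : ∀ x ∈ K, ∀ y ∈ sigmaCore M ⊓ Subgroup.centralizer (K : Set G),
      (x * y) ^ Nat.card ↥(sigmaCore M ⊓ Subgroup.centralizer (K : Set G)) =
        x ^ Nat.card ↥(sigmaCore M ⊓ Subgroup.centralizer (K : Set G)) := by
    intro x hx y hy
    rw [(show Commute x y from hd.commute hx hy).mul_pow,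
      Cfsg.Agent.Lib.Helper19.BG14.KData.pow_card_of_mem hy, mul_one]
  refine ⟨?_, ?_, ?_, ?_, ?_⟩
  · ext r
    exact ⟨fun h => hκτM r h, fun h => tau1_subset_kappa hG h30 hM hKU hK1 h⟩
  · exact Kstar_isPiHallOf_sigma_cyc hG h30 h31 hM hK hK1 hMstar hKMs hKstH hKsc
  · intro x hx hx1 y hy hy1
    refine ⟨centralizer_elt_eq hM h30 hK hKcomm hx hx1, ?_, ?_⟩
    · have h1 := centralizer_elt_eq hMstar h30 hKstH hKscomm hy hy1
      rw [← hKst', sup_comm] at h1
      exact h1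
    · apply le_antisymm
      · intro c hc
        have hc' : Commute c (x * y) := Subgroup.mem_centralizer_singleton_iff.mp hc
        have hw1 : y ^ Nat.card K ≠ 1 :=
          Cfsg.Agent.Lib.Helper19.BG14.KData.pow_ne_one_of_coprime hy hy1 hcop
        have hv1 : x ^ Nat.card ↥(sigmaCore M ⊓ Subgroup.centralizer (K : Set G)) ≠ 1 :=
          Cfsg.Agent.Lib.Helper19.BG14.KData.pow_ne_one_of_coprime hx hx1 hcop.symm
        have hcw : Commute c (y ^ Nat.card K) := by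
          rw [← hpowK x hx y hy]; exact hc'.pow_right _
        have hcv : Commute c (x ^ Nat.card ↥(sigmaCore M ⊓ Subgroup.centralizer (K : Set G))) := by
          rw [← hpowKs x hx y hy]; exact hc'.pow_right _
        have hcM : c ∈ M := by
          by_contra hcM
          have hmem : y ^ Nat.card K ∈
              (sigmaCore M ⊓ Subgroup.centralizer (K : Set G)) ⊓ cj c M := by
            refine Subgroup.mem_inf.mpr ⟨Subgroup.pow_mem _ hy _, ?_⟩
            have h2 : y ^ Nat.card K = c * y ^ Nat.card K * c⁻¹ := by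
              rw [hcw.eq, mul_inv_cancel_right]
            rw [h2]
            exact conj_mem_cj (M.pow_mem (hKsM hy) _)
          rw [hd.fus1 c hcM, Subgroup.mem_bot] at hmem
          exact hw1 hmem
        rw [← centralizer_elt_eq hM h30 hK hKcomm (K.pow_mem hx _) hv1]
        exact Subgroup.mem_inf.mpr ⟨hcM, Subgroup.mem_centralizer_singleton_iff.mpr hcv.eq⟩
      · have h1 := Cfsg.Agent.Lib.Helper9.BGPrime.le_centralizer_of_cyclic hZc (le_refl _)
        refine h1.trans (Subgroup.centralizer_le ?_)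
        intro t ht
        rw [Set.mem_singleton_iff] at ht
        rw [ht]
        exact Subgroup.mul_mem _ (Subgroup.mem_sup_left hx) (Subgroup.mem_sup_right hy)
  · intro g hg z hz hmem
    obtain ⟨k, hk, y, hy, hk1, hy1, rfl⟩ := (hd.mem_zhat_iff hG).mp hz
    have hw1 : y ^ Nat.card K ≠ 1 :=
      Cfsg.Agent.Lib.Helper19.BG14.KData.pow_ne_one_of_coprime hy hy1 hcop
    have h2 : y ^ Nat.card K ∈ (sigmaCore M ⊓ Subgroup.centralizer (K : Set G)) ⊓ cj g M := by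
      refine Subgroup.mem_inf.mpr ⟨Subgroup.pow_mem _ hy _, ?_⟩
      rw [← hpowK k hk y hy]
      exact Subgroup.pow_mem _ hmem _
    rw [hd.fus1 g hg, Subgroup.mem_bot] at h2
    exact hw1 h2
  · -- counting
    have hTI := hd.isTISubset_zhat hG
    have hN := hd.normalizer_zhat hG
    have h1Z : (1 : G) ∉ Cfsg.Agent.Lib.Helper19.BG14.zhat M K := by
      rintro ⟨-, h⟩
      exact h (Or.inl K.one_mem)
    have hcount := Cfsg.Agent.Lib.Helper3.TICount.card_normalizer_mul_ncard_conj _ hTI h1Z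
    rw [hN] at hcount
    have hinf : K ⊓ (sigmaCore M ⊓ Subgroup.centralizer (K : Set G)) = ⊥ := hd.inf_eq_bot hG
    have hcop' : (Nat.card K).Coprime
        (Nat.card ↥(sigmaCore M ⊓ Subgroup.centralizer (K : Set G))) := hcop
    have hcardZ : Nat.card ↥(K ⊔ (sigmaCore M ⊓ Subgroup.centralizer (K : Set G))) =
        Nat.card K * Nat.card ↥(sigmaCore M ⊓ Subgroup.centralizer (K : Set G)) := by
      have h5 := Cfsg.H5.card_sup_mul_card_inf
        (le_normalizer_of_commute (fun a ha b hb => hd.commute ha hb) :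
          K ≤ Subgroup.normalizer
            ((sigmaCore M ⊓ Subgroup.centralizer (K : Set G) : Subgroup G) : Set G))
      rw [hinf, Subgroup.card_bot, mul_one] at h5
      exact h5
    have hk2 : 2 ≤ Nat.card K := by
      have h5 : Nat.card K ≠ 1 := fun h => hK1 (Subgroup.card_eq_one.mp h)
      have h6 : 0 < Nat.card K := Nat.card_pos
      omega
    have hks2 : 2 ≤ Nat.card ↥(sigmaCore M ⊓ Subgroup.centralizer (K : Set G)) := by
      have h5 : Nat.card ↥(sigmaCore M ⊓ Subgroup.centralizer (K : Set G)) ≠ 1 :=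
        fun h => hKs1 (Subgroup.card_eq_one.mp h)
      have h6 : 0 < Nat.card ↥(sigmaCore M ⊓ Subgroup.centralizer (K : Set G)) := Nat.card_pos
      omega
    have hnc := ncard_zhat hinf hcardZ hk2 hks2
    have hcount' : Nat.card K * Nat.card ↥(sigmaCore M ⊓ Subgroup.centralizer (K : Set G)) *
        Set.ncard {a : G | ∃ g : G, ∃ z ∈ ((↑(K ⊔ (sigmaCore M ⊓ Subgroup.centralizer (K : Set G))) :
          Set G) \ ((K : Set G) ∪ ↑(sigmaCore M ⊓ Subgroup.centralizer (K : Set G)))),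
            a = g * z * g⁻¹} =
        (Nat.card K * Nat.card ↥(sigmaCore M ⊓ Subgroup.centralizer (K : Set G)) - Nat.card K -
          Nat.card ↥(sigmaCore M ⊓ Subgroup.centralizer (K : Set G)) + 1) * Nat.card G := by
      rw [← hnc, ← hcardZ]; exact hcount
    refine ⟨hcount', ?_⟩
    exact zhat_ineq (odd_card_subgroup hG K) (odd_card_subgroup hG _) hk2 hks2 hcop'
      Nat.card_pos hcount'

/-- `K*` is a Hall `σ(M)`-subgroup of the partner `M*` (old form, with `Pcyc`). -/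
theorem Kstar_isPiHallOf_sigma (hG : IsMinSimpleOddOrder G) (h30 : P1430 G) (h31 : P1431 G)
    (hcyc : Pcyc G) {M K : Subgroup G} (hM : IsCoatom M) (hK : IsPiHallOf (kappa M) K M)
    (hK1 : K ≠ ⊥) {Mstar : Subgroup G} (hMstar : IsCoatom Mstar)
    (hKMs : K ≤ sigmaCore Mstar)
    (hKstH : IsPiHallOf (kappa Mstar) (sigmaCore M ⊓ Subgroup.centralizer (K : Set G)) Mstar) :
    IsPiHallOf (sigma M) (sigmaCore M ⊓ Subgroup.centralizer (K : Set G)) Mstar :=
  Kstar_isPiHallOf_sigma_cyc hG h30 h31 hM hK hK1 hMstar hKMs hKstH (hcyc Mstar hMstar _ hKstH)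

theorem s1434_of (hG : Cfsg.IsMinSimpleOddOrder G) (h30 : P1430 G) (h31 : P1431 G) (hκτ : Pκτ G)
    (M : Subgroup G) (hM : IsCoatom M) (K U : Subgroup G) (hKU : Cfsg.IsSigmaDecomposition M K U) (hK1 : K ≠ ⊥) (Mstar : Subgroup G) (hMstar : IsCoatom Mstar)
    (hKst : K = Cfsg.sigmaCore Mstar ⊓ Subgroup.centralizer ((Cfsg.sigmaCore M ⊓ Subgroup.centralizer (K : Set G)) : Set G))
    (hKstH : Cfsg.IsPiHallOf (Cfsg.kappa Mstar) (Cfsg.sigmaCore M ⊓ Subgroup.centralizer (K : Set G)) Mstar) :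
    Cfsg.kappa M = Cfsg.tau1 M ∧ Cfsg.IsPiHallOf (Cfsg.sigma M) (Cfsg.sigmaCore M ⊓ Subgroup.centralizer (K : Set G)) Mstar ∧
      (∀ x ∈ K, x ≠ 1 → ∀ y ∈ (Cfsg.sigmaCore M ⊓ Subgroup.centralizer (K : Set G)), y ≠ 1 →
        M ⊓ Subgroup.centralizer ({x} : Set G) = K ⊔ (Cfsg.sigmaCore M ⊓ Subgroup.centralizer (K : Set G)) ∧ Mstar ⊓ Subgroup.centralizer ({y} : Set G) = K ⊔ (Cfsg.sigmaCore M ⊓ Subgroup.centralizer (K : Set G)) ∧
        Subgroup.centralizer ({x * y} : Set G) = K ⊔ (Cfsg.sigmaCore M ⊓ Subgroup.centralizer (K : Set G))) ∧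
      (∀ g : G, g ∉ M → ∀ z ∈ ((↑(K ⊔ (Cfsg.sigmaCore M ⊓ Subgroup.centralizer (K : Set G))) : Set G) \ ((K : Set G) ∪ ↑(Cfsg.sigmaCore M ⊓ Subgroup.centralizer (K : Set G)))), z ∉ M.map (MulAut.conj g).toMonoidHom) ∧
      Nat.card K * Nat.card ↥(Cfsg.sigmaCore M ⊓ Subgroup.centralizer (K : Set G)) * Set.ncard {a : G | ∃ g : G, ∃ z ∈ ((↑(K ⊔ (Cfsg.sigmaCore M ⊓ Subgroup.centralizer (K : Set G))) : Set G) \ ((K : Set G) ∪ ↑(Cfsg.sigmaCore M ⊓ Subgroup.centralizer (K : Set G)))), a = g * z * g⁻¹} =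
        (Nat.card K * Nat.card ↥(Cfsg.sigmaCore M ⊓ Subgroup.centralizer (K : Set G)) - Nat.card K - Nat.card ↥(Cfsg.sigmaCore M ⊓ Subgroup.centralizer (K : Set G)) + 1) * Nat.card G ∧
      Nat.card G < 2 * Set.ncard {a : G | ∃ g : G, ∃ z ∈ ((↑(K ⊔ (Cfsg.sigmaCore M ⊓ Subgroup.centralizer (K : Set G))) : Set G) \ ((K : Set G) ∪ ↑(Cfsg.sigmaCore M ⊓ Subgroup.centralizer (K : Set G)))), a = g * z * g⁻¹} :=
  s1434_of_cyc hG h30 h31 M hM K U hKU hK1 Mstar hMstar hKst hKstH (fun p hp => hκτ M hM p hp)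
    (pcyc_of hG hκτ Mstar hMstar _ hKstH)

end Cfsg.Agent.Lib.Helper3.BG14
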