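import Mathlib
import Cfsg.Agent.S1445
import Cfsg.Agent.Lib.Helper3.BG14L
import Cfsg.Agent.Lib.Helper3.BG14I
import Cfsg.Agent.Lib.Helper25.BG1431
import Cfsg.Agent.Lib.Helper1.Coprime
import Cfsg.Agent.Lib.Helper1.Cores
import Cfsg.Agent.Lib.Helper10.FrobComplement

/-!
# Helper3, B&G section 14 (part M): `U ≠ 1 ⇒ M_σ` nilpotent (Thompson, via `S1445`), `K*` cyclic
-/

set_option autoImplicit false
set_option linter.unusedSectionVars false
set_option linter.style.haveILetI false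
set_option linter.unusedVariables false

open Cfsg
open scoped commutatorElement

namespace Cfsg.Agent.Lib.Helper3.BG14

/-- Thompson's theorem in the solvable odd case (from `S1445`): if `X = S R` is solvable of odd
order, `S` normal, `(|S|,|R|) = 1`, `R ≠ 1` and every non-identity element of `R` acts on `S`
without non-identity fixed points, then `S` is nilpotent. -/
theorem isNilpotent_of_regular_type {X : Type*} [Group X] [Finite X] [Group.IsSolvable X]
    (hodd : Odd (Nat.card X)) (S R : Subgroup X) [S.Normal] (hSR : S ⊔ R = ⊤)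
    (hcop : (Nat.card S).Coprime (Nat.card R)) (hR1 : R ≠ ⊥)
    (hreg : ∀ x ∈ R, x ≠ 1 → S ⊓ Subgroup.centralizer ({x} : Set X) = ⊥) :
    Group.IsNilpotent S := by
  obtain ⟨x, hxR, hx1⟩ : ∃ x ∈ R, x ≠ 1 := by
    by_contra hne
    push Not at hne
    exact hR1 ((Subgroup.eq_bot_iff_forall R).mpr hne)
  have hCR : S ⊓ Subgroup.centralizer (R : Set X) = ⊥ := by
    rw [eq_bot_iff, ← hreg x hxR hx1]
    refine inf_le_inf_left _ (Subgroup.centralizer_le ?_)
    intro y hy
    rw [Set.mem_singleton_iff] at hy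
    rw [hy]; exact hxR
  have hprime : ∀ y ∈ R, y ≠ 1 →
      S ⊓ Subgroup.centralizer ({y} : Set X) = S ⊓ Subgroup.centralizer (R : Set X) := by
    intro y hy hy1
    rw [hreg y hy hy1, hCR]
  have hFS : fittingOf S ≤ S := Subgroup.map_subtype_le _
  have hF : fittingOf S ⊓ Subgroup.centralizer (R : Set X) = ⊥ := by
    rw [eq_bot_iff, ← hCR]
    exact inf_le_inf_right _ hFS
  have h1 := Cfsg.Agent.S1445.result hodd S R hSR hcop hprime hF
  have hact : Cfsg.Agent.Lib.Helper1.CoprimeAct R S :=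
    { norm := by
        rw [Subgroup.normalizer_eq_top]
        exact le_top
      cop := hcop.symm
      solv := Or.inl inferInstance }
  have h2 := hact.commutator_sup_centralizer
  rw [hCR, sup_bot_eq] at h2
  rw [h2] at h1
  have h3 : fittingSubgroup ↥S = ⊤ := by
    rw [eq_top_iff]
    intro s _
    obtain ⟨y, hy, hys⟩ := h1 s.2
    have : y = s := Subtype.ext hys
    exact this ▸ hy
  have h4 : Group.IsNilpotent (fittingSubgroup ↥S) :=
    Cfsg.Agent.Lib.Helper1.fittingSubgroup_isNilpotent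
  rw [h3] at h4
  exact (Group.isNilpotent_congr Subgroup.topEquiv).mp h4

/-- Subgroup form of `isNilpotent_of_regular_type`. -/
theorem isNilpotent_of_regular {G : Type*} [Group G] [Finite G] {S R : Subgroup G}
    (hnorm : R ≤ Subgroup.normalizer (S : Set G))
    (hsolv : Group.IsSolvable ↥(S ⊔ R)) (hodd : Odd (Nat.card ↥(S ⊔ R)))
    (hcop : (Nat.card S).Coprime (Nat.card R)) (hR1 : R ≠ ⊥)
    (hreg : ∀ x ∈ R, x ≠ 1 → S ⊓ Subgroup.centralizer ({x} : Set G) = ⊥) :
    Group.IsNilpotent S := by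
  have hSH : S ≤ S ⊔ R := le_sup_left
  have hRH : R ≤ S ⊔ R := le_sup_right
  have hHn : S ⊔ R ≤ Subgroup.normalizer (S : Set G) := sup_le Subgroup.le_normalizer hnorm
  haveI : (S.subgroupOf (S ⊔ R)).Normal := Subgroup.normal_subgroupOf_of_le_normalizer hHn
  haveI := hsolv
  have hsup : S.subgroupOf (S ⊔ R) ⊔ R.subgroupOf (S ⊔ R) = ⊤ := by
    rw [← Subgroup.subgroupOf_sup hSH hRH, Subgroup.subgroupOf_self]
  have hcS : Nat.card (S.subgroupOf (S ⊔ R)) = Nat.card S :=
    Nat.card_congr (Subgroup.subgroupOfEquivOfLe hSH).toEquiv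
  have hcR : Nat.card (R.subgroupOf (S ⊔ R)) = Nat.card R :=
    Nat.card_congr (Subgroup.subgroupOfEquivOfLe hRH).toEquiv
  have hR1' : R.subgroupOf (S ⊔ R) ≠ ⊥ := by
    intro h
    apply hR1
    rw [← Subgroup.card_eq_one, ← hcR, h, Subgroup.card_bot]
  have hreg' : ∀ x ∈ R.subgroupOf (S ⊔ R), x ≠ 1 →
      S.subgroupOf (S ⊔ R) ⊓ Subgroup.centralizer ({x} : Set ↥(S ⊔ R)) = ⊥ := by
    intro x hx hx1
    rw [eq_bot_iff]
    intro s hs
    rw [Subgroup.mem_bot]
    have hs1 : (s : G) ∈ S := Subgroup.mem_subgroupOf.mp (Subgroup.mem_inf.mp hs).1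
    have hs2 : s * x = x * s := by
      have := (Subgroup.mem_inf.mp hs).2
      rw [Subgroup.mem_centralizer_singleton_iff] at this
      exact this
    have hx1' : (x : G) ≠ 1 := fun h => hx1 (Subtype.ext h)
    have hmem : (s : G) ∈ S ⊓ Subgroup.centralizer ({(x : G)} : Set G) := by
      refine Subgroup.mem_inf.mpr ⟨hs1, ?_⟩
      rw [Subgroup.mem_centralizer_singleton_iff]
      have := congrArg Subtype.val hs2
      simpa using this
    rw [hreg (x : G) (Subgroup.mem_subgroupOf.mp hx) hx1', Subgroup.mem_bot] at hmem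
    exact Subtype.ext hmem
  have h := isNilpotent_of_regular_type hodd (S.subgroupOf (S ⊔ R)) (R.subgroupOf (S ⊔ R)) hsup
    (by rw [hcS, hcR]; exact hcop) hR1' hreg'
  exact (Group.isNilpotent_congr (Subgroup.subgroupOfEquivOfLe hSH)).mp h

section Kappa

variable {G : Type*} [Group G] [Finite G]

open Cfsg.Agent.Lib.Helper3.BGStubs
open Cfsg.Agent.Lib.Helper10 in
/-- a nilpotent `κ(M)`-subgroup of `M` is cyclic. -/
theorem isCyclic_of_kappa_group_of_nilpotent {M K : Subgroup G} (hKM : K ≤ M)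
    (hK : ∀ p : ℕ, p.Prime → p ∣ Nat.card K → p ∈ kappa M) (hnil : Group.IsNilpotent K) :
    IsCyclic K := by
  classical
  apply isCyclic_of_isNilpotent_of_sylow_cyclic hnil
  intro r hr S
  have hrp : r.Prime := hr.out
  by_cases hS1 : (S : Subgroup ↥K) = ⊥
  · have h0 : IsCyclic ↥(S : Subgroup ↥K) := by rw [hS1]; infer_instance
    exact h0
  · have hrK : r ∣ Nat.card K := by
      obtain ⟨k, hk⟩ := S.2.exists_card_eq
      have hk0 : k ≠ 0 := by
        rintro rfl
        rw [pow_zero] at hk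
        exact hS1 (Subgroup.card_eq_one.mp hk)
      have h1 : r ∣ Nat.card (S : Subgroup ↥K) := by rw [hk]; exact dvd_pow_self r hk0
      exact h1.trans (Subgroup.card_subgroup_dvd_card _)
    have hκ := hK r hrp hrK
    -- the image of `S` in `M`
    have hQM : (S : Subgroup ↥K).map K.subtype ≤ M := (Subgroup.map_subtype_le _).trans hKM
    have hQp : IsPGroup r (((S : Subgroup ↥K).map K.subtype).subgroupOf M) :=
      (S.2.map _).comap_of_injective M.subtype M.subtype_injective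
    obtain ⟨P, hP⟩ := hQp.exists_le_sylow
    haveI hPc : IsCyclic ↥(P : Subgroup ↥M) := (hκ.2.2.2 P).1
    have e1 : ↥((S : Subgroup ↥K).map K.subtype) ≃* ↥(S : Subgroup ↥K) :=
      ((S : Subgroup ↥K).equivMapOfInjective K.subtype K.subtype_injective).symm
    have e2 : ↥(((S : Subgroup ↥K).map K.subtype).subgroupOf M) ≃*
        ↥((S : Subgroup ↥K).map K.subtype) := Subgroup.subgroupOfEquivOfLe hQM
    let f : ↥(((S : Subgroup ↥K).map K.subtype).subgroupOf M) →* ↥(P : Subgroup ↥M) :=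
      Subgroup.inclusion hP
    have hf : Function.Injective f := Subgroup.inclusion_injective hP
    haveI : IsCyclic ↥(((S : Subgroup ↥K).map K.subtype).subgroupOf M) :=
      isCyclic_of_injective f hf
    exact (MulEquiv.isCyclic (e2.trans e1)).mp inferInstance

end Kappa

section Main

variable {G : Type*} [Group G] [Finite G]

open Cfsg.Agent.Lib.Helper10.BG Cfsg.Agent.Lib.Helper10 Cfsg.Agent.Lib.Helper9.BGExc
open Cfsg.Agent.Lib.Helper19.BGCompl Cfsg.Agent.Lib.Helper1.BGSigmaDecomp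
open Cfsg.Agent.Lib.Helper3.BGStubs

/-- B&G: if `U ≠ 1` in the standard factorisation `M = K U M_σ` then `M_σ` is nilpotent
(Thompson's theorem applied to the regular subgroup `U₀` of `S1360`). -/
theorem sigmaCore_isNilpotent_of_U_ne_bot (hG : IsMinSimpleOddOrder G) (h30 : P1430 G)
    (h21 : P1421 G) {M : Subgroup G} (hM : IsCoatom M) {K U : Subgroup G}
    (hKU : IsSigmaDecomposition M K U) (hU1 : U ≠ ⊥) :
    Group.IsNilpotent (sigmaCore M) := by
  obtain ⟨U₀, hU₀, hexp, hreg⟩ := s1360_of hG h30 h21 M hM K U hKU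
  have hUM : U ≤ M := hKU.compl.1
  have hU₀M : U₀ ≤ M := hU₀.trans hUM
  have hU₀1 : U₀ ≠ ⊥ := by
    intro h
    apply hU1
    have h1 : Monoid.exponent ↥U = 1 := by
      rw [← hexp, h]
      exact Monoid.exp_eq_one_iff.mpr inferInstance
    have h2 : Subsingleton ↥U := Monoid.exp_eq_one_iff.mp h1
    rw [eq_bot_iff]
    intro u hu
    rw [Subgroup.mem_bot]
    exact congrArg Subtype.val (Subsingleton.elim (⟨u, hu⟩ : ↥U) 1)
  have hnorm : U₀ ≤ Subgroup.normalizer ((sigmaCore M : Subgroup G) : Set G) :=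
    hU₀M.trans (le_normalizer_sigmaCore M)
  have hle : sigmaCore M ⊔ U₀ ≤ M := sup_le (sigmaCore_le M) hU₀M
  have hne : sigmaCore M ⊔ U₀ ≠ ⊤ := ne_top_of_le_isCoatom hM hle
  have hsolv : Group.IsSolvable ↥(sigmaCore M ⊔ U₀) := isSolvable_of_ne_top hG hne
  have hodd : Odd (Nat.card ↥(sigmaCore M ⊔ U₀)) := odd_card_subgroup hG _
  have hcop : (Nat.card (sigmaCore M)).Coprime (Nat.card U₀) := by
    apply Nat.coprime_of_dvd
    intro q hq hd1 hd2
    exact not_mem_sigma_of_dvd_card_U hG hM hKU hq (hd2.trans (Subgroup.card_dvd_of_le hU₀))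
      (mem_sigma_of_dvd_card_sigmaCore hG hM hq hd1)
  refine isNilpotent_of_regular hnorm hsolv hodd hcop hU₀1 ?_
  intro x hx hx1
  rw [eq_bot_iff]
  intro y hy
  rw [Subgroup.mem_bot]
  by_contra hy1
  apply hx1
  apply hreg x hx
  refine ⟨hU₀M hx, y, (Subgroup.mem_inf.mp hy).1, hy1, ?_⟩
  have := (Subgroup.mem_inf.mp hy).2
  rw [Subgroup.mem_centralizer_singleton_iff] at this
  exact this.symm

/-- If `U ≠ 1` then every nilpotent... `K* = C_{M_σ}(K)` is cyclic as soon as it is a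
`κ(M*)`-subgroup of some subgroup `M*` (e.g. a Hall `κ(M*)`-subgroup of the partner). -/
theorem Kstar_isCyclic_of_U_ne_bot (hG : IsMinSimpleOddOrder G) (h30 : P1430 G)
    (h21 : P1421 G) {M : Subgroup G} (hM : IsCoatom M) {K U : Subgroup G}
    (hKU : IsSigmaDecomposition M K U) (hU1 : U ≠ ⊥) {Mstar : Subgroup G}
    (hKstH : IsPiHallOf (kappa Mstar) (sigmaCore M ⊓ Subgroup.centralizer (K : Set G)) Mstar) :
    IsCyclic ↥(sigmaCore M ⊓ Subgroup.centralizer (K : Set G)) := by
  have hnil := sigmaCore_isNilpotent_of_U_ne_bot hG h30 h21 hM hKU hU1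
  have hle : sigmaCore M ⊓ Subgroup.centralizer (K : Set G) ≤ sigmaCore M := inf_le_left
  haveI := hnil
  have h1 : Group.IsNilpotent
      ↥((sigmaCore M ⊓ Subgroup.centralizer (K : Set G)).subgroupOf (sigmaCore M)) :=
    inferInstance
  have h2 : Group.IsNilpotent ↥(sigmaCore M ⊓ Subgroup.centralizer (K : Set G)) :=
    (Group.isNilpotent_congr (Subgroup.subgroupOfEquivOfLe hle)).mp h1
  exact isCyclic_of_kappa_group_of_nilpotent hKstH.1 hKstH.2.1 h2

/-- With a standard factorisation `M = K U M_σ` (`K` cyclic) one has `κ(M) ⊆ τ₁(M)`. -/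
theorem kappa_subset_tau1_of_decomp (hG : IsMinSimpleOddOrder G) (h30 : P1430 G)
    {M : Subgroup G} (hM : IsCoatom M) {K U : Subgroup G}
    (hKU : IsSigmaDecomposition M K U) : ∀ p : ℕ, p ∈ kappa M → p ∈ tau1 M := by
  intro p hp
  by_cases hK1 : K = ⊥
  · exact absurd hp (not_mem_kappa_of_bot_hall (hK1 ▸ hKU.hall) p)
  have hpp : p.Prime := hp.1
  obtain ⟨P⟩ := (inferInstance : Nonempty (Sylow p ↥M))
  refine ⟨hpp, hp.2.2.1, hp.2.1, ?_,
    Cfsg.Agent.Lib.Helper25.BG1431.pRankLE_one_of_cyclic_sylow hpp P (hp.2.2.2 P).1⟩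
  rw [(s1365_of hG h30 M hM K U hKU hK1).1]
  intro hd
  have hUn : U ≤ Subgroup.normalizer ((sigmaCore M : Subgroup G) : Set G) :=
    hKU.compl.1.trans (le_normalizer_sigmaCore M)
  have h1 := Cfsg.H5.card_sup_mul_card_inf hUn
  have h2 : p ∣ Nat.card U * Nat.card (sigmaCore M) := by
    rw [← h1]; exact Dvd.dvd.mul_right hd _
  rcases (Nat.Prime.dvd_mul hpp).mp h2 with h | h
  · exact not_mem_kappa_of_dvd_card_U hG hM hKU hpp h hp
  · exact hp.2.2.1 (mem_sigma_of_dvd_card_sigmaCore hG hM hpp h)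

end Main

end Cfsg.Agent.Lib.Helper3.BG14
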