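import Mathlib
import Cfsg.Agent.Lib.Helper3.BG14M
import Cfsg.Agent.Lib.Helper1.BGConjEq
import Cfsg.Agent.Lib.Helper1.BGCount
import Cfsg.Agent.Lib.Helper1.BGFthm
import Cfsg.Agent.Lib.Helper10.BGCaseIIAsm

/-!
# Helper3, B&G section 14 (part N): the count of B&G 14.7(f) for a pair of type `P₁`;
`K*` cyclic when `U = 1`
-/

set_option autoImplicit false
set_option linter.unusedSectionVars false
set_option linter.style.haveILetI false
set_option linter.unusedVariables false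

open Cfsg
open scoped commutatorElement
open Cfsg.Agent.Lib.Helper10.BG Cfsg.Agent.Lib.Helper10 Cfsg.Agent.Lib.Helper9.BGExc
open Cfsg.Agent.Lib.Helper19.BGCompl Cfsg.Agent.Lib.Helper1.BGSigmaDecomp
open Cfsg.Agent.Lib.Helper3.BGStubs
open Cfsg.Agent.Lib.Helper1.BGConjEq

namespace Cfsg.Agent.Lib.Helper3.BG14

variable {G : Type*} [Group G] [Finite G]

omit [Finite G] in
/-- if `w ^ n = 1`, `w ^ m = 1` and `(n, m) = 1` then `w = 1`. -/
theorem eq_one_of_pow_eq_one_of_coprime {w : G} {n m : ℕ} (hn : w ^ n = 1) (hm : w ^ m = 1)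
    (hc : n.Coprime m) : w = 1 := by
  have h1 : orderOf w ∣ n := orderOf_dvd_of_pow_eq_one hn
  have h2 : orderOf w ∣ m := orderOf_dvd_of_pow_eq_one hm
  have h3 : orderOf w ∣ 1 := by
    have := Nat.dvd_gcd h1 h2
    rwa [hc] at this
  exact orderOf_eq_one_iff.mp (Nat.dvd_one.mp h3)

/-- **Lemma D.** Let `N` be maximal, `c ∈ N_σ` with `C_G(c) ≤ N`, and `a ≠ 1` an element of order
prime to `|N_σ|` commuting with `c`.  Then `a c` does not lie in `Ñ` (the union of the conjugates of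
the cosets `x R(x)`, `x ∈ N_σ^#`). -/
theorem not_mem_tildeOf (hG : IsMinSimpleOddOrder G) {N : Subgroup G} (hN : IsCoatom N)
    {a c : G} (hac : a * c = c * a) (hcN : c ∈ sigmaCore N)
    (ha : (orderOf a).Coprime (Nat.card (sigmaCore N))) (ha1 : a ≠ 1)
    (hC : Subgroup.centralizer ({c} : Set G) ≤ N) :
    a * c ∉ tildeOf N ((sigmaCore N : Set G) \ {1}) := by
  rintro ⟨x, ⟨hxσ, hx1⟩, r, hr, y, hz⟩
  set n := Nat.card (sigmaCore N) with hn
  -- conjugate data
  have hNy := isCoatom_map_conj y hN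
  have hx' : y * x * y⁻¹ ∈ sigmaCore (cj y N) := by
    rw [sigmaCore_cj hN y, mem_cj]
    have : y⁻¹ * (y * x * y⁻¹) * y = x := by group
    rw [this]; exact hxσ
  have hr' : y * r * y⁻¹ ∈ supportR (cj y N) (y * x * y⁻¹) := by
    rw [supportR_cj, mem_cj]
    have : y⁻¹ * (y * r * y⁻¹) * y = r := by group
    rw [this]; exact hr
  have hz' : a * c = (y * x * y⁻¹) * (y * r * y⁻¹) := by rw [hz]; group
  generalize y * x * y⁻¹ = x' at hx' hr' hz'
  generalize y * r * y⁻¹ = r' at hr' hz'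
  have hcard' : Nat.card (sigmaCore (cj y N)) = n := by
    rw [sigmaCore_cj hN y, card_cj]
  have hx'n : x' ^ n = 1 := by
    have := pow_card_eq_one' (G := ↥(sigmaCore (cj y N))) (x := ⟨x', hx'⟩)
    rw [hcard'] at this
    exact congrArg Subtype.val this
  have hcn : c ^ n = 1 := by
    have := pow_card_eq_one' (G := ↥(sigmaCore N)) (x := ⟨c, hcN⟩)
    exact congrArg Subtype.val this
  have hxr : x' * r' = r' * x' := by
    have := supportR_le_centralizer (cj y N) x' hr'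
    rw [Subgroup.mem_centralizer_singleton_iff] at this
    exact this.symm
  -- `(a c)^n = a^n = r'^n`
  have h1 : (a * c) ^ n = a ^ n := by
    rw [(show Commute a c from hac).mul_pow, hcn, mul_one]
  have h2 : (a * c) ^ n = r' ^ n := by
    rw [hz', (show Commute x' r' from hxr).mul_pow, hx'n, one_mul]
  have han : a ^ n ≠ 1 := by
    intro h
    apply ha1
    exact eq_one_of_pow_eq_one_of_coprime (pow_orderOf_eq_one a) h ha
  have hr'n : r' ^ n ≠ 1 := by rw [← h2, h1]; exact han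
  have hr'1 : r' ≠ 1 := by
    intro h
    apply hr'n
    rw [h, one_pow]
  -- the support condition holds
  have hcond : SuppCond (cj y N) x' := by
    by_contra hnot
    rw [supportR_of_not hnot, Subgroup.mem_bot] at hr'
    exact hr'1 hr'
  obtain ⟨hnle, L, ⟨hL, hxL⟩, huniq⟩ := hcond
  have huniq' : ∀ L' : Subgroup G, IsCoatom L' →
      Subgroup.centralizer ({x'} : Set G) ≤ L' → L' = L := fun L' hL' hxL' => huniq L' ⟨hL', hxL'⟩
  rw [supportR_eq hnle hL hxL huniq'] at hr'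
  have hr'L : r' ∈ sigmaCore L :=
    Cfsg.Agent.Lib.Helper1.BGFthm.fittingHallOf_le_sigmaCore hG hL (Subgroup.mem_inf.mp hr').1
  have hr'm : r' ^ Nat.card (sigmaCore L) = 1 := by
    have := pow_card_eq_one' (G := ↥(sigmaCore L)) (x := ⟨r', hr'L⟩)
    exact congrArg Subtype.val this
  by_cases hconj : ∃ g : G, L = cj g N
  · obtain ⟨g, rfl⟩ := hconj
    apply hr'n
    rw [sigmaCore_cj hN g, card_cj] at hr'm
    exact hr'm
  · push Not at hconj
    -- coprimality of `|L_σ|` and `|N_σ|`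
    have hcop : n.Coprime (Nat.card (sigmaCore L)) := by
      apply Nat.coprime_of_dvd
      intro q hq hd1 hd2
      exact sigma_disjoint hG hN hL hconj (mem_sigma_of_dvd_card_sigmaCore hG hN hq hd1)
        (mem_sigma_of_dvd_card_sigmaCore hG hL hq hd2)
    -- `a` and `c` are powers of `z = a c`
    obtain ⟨j, hj⟩ := exists_pow_eq_self_of_coprime ha.symm
    have haz : a ∈ Subgroup.zpowers (a * c) := by
      have e : (a * c) ^ (n * j) = a := by rw [pow_mul, h1, hj]
      have := Subgroup.npow_mem_zpowers (a * c) (n * j)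
      rwa [e] at this
    have hcz : c ∈ Subgroup.zpowers (a * c) := by
      have e : a⁻¹ * (a * c) = c := by group
      have := mul_mem (inv_mem haz) (Subgroup.mem_zpowers (a * c))
      rwa [e] at this
    -- elements commuting with `z`
    have hcomm_of : ∀ t : G, t * (a * c) = (a * c) * t → ∀ u ∈ Subgroup.zpowers (a * c),
        t * u = u * t := by
      intro t ht u hu
      obtain ⟨i, rfl⟩ := Subgroup.mem_zpowers_iff.mp hu
      exact ((show Commute t (a * c) from ht).zpow_right i)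
    have hx'z : x' * (a * c) = (a * c) * x' := by
      rw [hz', ← mul_assoc, mul_assoc x' r' x', ← hxr]; group
    have hr'z : r' * (a * c) = (a * c) * r' := by
      rw [hz', ← mul_assoc r' x' r', ← hxr]
    have hx'c : x' * c = c * x' := hcomm_of x' hx'z c hcz
    have hr'a : r' * a = a * r' := hcomm_of r' hr'z a haz
    -- `w = x'⁻¹ c = r' a⁻¹`
    have hw : x'⁻¹ * c = r' * a⁻¹ := by
      have e1 : x'⁻¹ * (a * c) = r' := by rw [hz']; group
      have e2 : x'⁻¹ * c = x'⁻¹ * (a * c) * a⁻¹ := by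
        rw [hac]; group
      rw [e2, e1]
    have hwn : (x'⁻¹ * c) ^ n = 1 := by
      have hc' : Commute x'⁻¹ c := (show Commute x' c from hx'c).inv_left
      rw [hc'.mul_pow, inv_pow, hx'n, hcn, inv_one, one_mul]
    have hwm : (x'⁻¹ * c) ^ (Nat.card (sigmaCore L) * orderOf a) = 1 := by
      rw [hw]
      have hc' : Commute r' a⁻¹ := (show Commute r' a from hr'a).inv_right
      rw [hc'.mul_pow, pow_mul, hr'm, one_pow, one_mul, mul_comm, pow_mul, inv_pow,
        pow_orderOf_eq_one, inv_one, one_pow]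
    have hw1 : x'⁻¹ * c = 1 :=
      eq_one_of_pow_eq_one_of_coprime hwn hwm (Nat.Coprime.mul_right hcop ha.symm)
    have hcx : c = x' := by
      have : c = x' * (x'⁻¹ * c) := by group
      rw [this, hw1, mul_one]
    -- hence `C_G(x') ≤ N`, so `L = N`
    rw [← hcx] at huniq'
    have hNL : N = L := huniq' N hN hC
    exact hconj 1 (by rw [cj_one]; exact hNL.symm)

open Cfsg.Agent.Lib.Helper19.BG14 in
/-- the number of elements of the union of the conjugates of `Ẑ`. -/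
theorem ncard_conj_zhat (hG : IsMinSimpleOddOrder G) {M K : Subgroup G} (hd : KData M K) :
    Nat.card K * Nat.card ↥(kstar M K) *
        Set.ncard {a : G | ∃ g : G, ∃ z ∈ zhat M K, a = g * z * g⁻¹} =
      (Nat.card K * Nat.card ↥(kstar M K) - Nat.card K - Nat.card ↥(kstar M K) + 1) *
        Nat.card G := by
  have hTI := hd.isTISubset_zhat hG
  have hN := hd.normalizer_zhat hG
  have h1Z : (1 : G) ∉ zhat M K := by
    rintro ⟨-, h⟩
    exact h (Or.inl K.one_mem)
  have hcount := Cfsg.Agent.Lib.Helper3.TICount.card_normalizer_mul_ncard_conj _ hTI h1Z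
  rw [hN] at hcount
  have hinf : K ⊓ kstar M K = ⊥ := hd.inf_eq_bot hG
  have hcardZ : Nat.card ↥(K ⊔ kstar M K) = Nat.card K * Nat.card ↥(kstar M K) := by
    have h5 := Cfsg.H5.card_sup_mul_card_inf
      (le_normalizer_of_commute (fun a ha b hb => hd.commute ha hb) :
        K ≤ Subgroup.normalizer ((kstar M K : Subgroup G) : Set G))
    rw [hinf, Subgroup.card_bot, mul_one] at h5
    exact h5
  have hk2 : 2 ≤ Nat.card K := by
    have h5 : Nat.card K ≠ 1 := fun h => hd.ne_bot (Subgroup.card_eq_one.mp h)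
    have h6 : 0 < Nat.card K := Nat.card_pos
    omega
  have hks2 : 2 ≤ Nat.card ↥(kstar M K) := by
    have h5 : Nat.card ↥(kstar M K) ≠ 1 :=
      fun h => hd.kstar_ne_bot hG (Subgroup.card_eq_one.mp h)
    have h6 : 0 < Nat.card ↥(kstar M K) := Nat.card_pos
    omega
  have hnc := ncard_zhat hinf hcardZ hk2 hks2
  rw [← hnc, ← hcardZ]
  exact hcount

/-- a proper subgroup of a group of odd order has index at least `3`. -/
theorem three_mul_card_le_of_lt {H L : Subgroup G} (hHL : H ≤ L) (hne : H ≠ L)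
    (hodd : Odd (Nat.card L)) : 3 * Nat.card H ≤ Nat.card L := by
  obtain ⟨a, ha⟩ := Subgroup.card_dvd_of_le hHL
  have hLpos : 0 < Nat.card L := Nat.card_pos
  have ha1 : a ≠ 1 := by
    intro h1
    rw [h1, mul_one] at ha
    exact hne (Subgroup.eq_of_le_of_card_ge hHL ha.le)
  have ha0 : a ≠ 0 := by
    intro h0
    rw [h0, mul_zero] at ha
    omega
  have ha2 : a ≠ 2 := by
    intro h2
    rw [h2] at ha
    rw [ha] at hodd
    exact (Nat.not_odd_iff_even.mpr (even_two.mul_left _)) hodd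
  have ha3 : 3 ≤ a := by omega
  rw [ha]
  calc 3 * Nat.card H = Nat.card H * 3 := by ring
    _ ≤ Nat.card H * a := Nat.mul_le_mul_left _ ha3

/-- `3 |K*| ≤ |M_σ|` (from `S1431(3)`: no Sylow subgroup of `M_σ` lies in `K*`). -/
theorem three_mul_card_Kstar_le (hG : IsMinSimpleOddOrder G) (h30 : P1430 G) (h31 : P1431 G)
    {M K : Subgroup G} (hM : IsCoatom M) (hK : IsPiHallOf (kappa M) K M) (hK1 : K ≠ ⊥) :
    3 * Nat.card ↥(sigmaCore M ⊓ Subgroup.centralizer (K : Set G)) ≤ Nat.card (sigmaCore M) := by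
  apply three_mul_card_le_of_lt inf_le_left _ (odd_card_subgroup hG _)
  intro heq
  have hKs1 := Kstar_ne_bot hG hM h30 hK
  obtain ⟨p, hp, hpd⟩ := Nat.exists_prime_and_dvd
    (fun h : Nat.card ↥(sigmaCore M ⊓ Subgroup.centralizer (K : Set G)) = 1 =>
      hKs1 (Subgroup.card_eq_one.mp h))
  haveI : Fact p.Prime := ⟨hp⟩
  obtain ⟨S⟩ := (inferInstance : Nonempty (Sylow p ↥(sigmaCore M)))
  have h3 := ((h31 M hM K hK hK1).2.2.1 p hp hpd S).2.2
  apply h3
  rw [heq]
  exact Subgroup.map_subtype_le _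

open Cfsg.Agent.Lib.Helper19.BG12 Cfsg.Agent.Lib.Helper29.BG1212 Cfsg.Agent.Lib.Helper29.BG13K
  Cfsg.Agent.Lib.Helper7.BG13 in
/-- If `κ(M)` meets `τ₃(M)` then a Hall `κ(M)`-subgroup `K` is a complement of `M_σ` in `M`
("`U = 1`"); from the frozen `S1430` for `(M, K)`, B&G 13.5 and the first half of 13.7. -/
theorem isComplIn_of_kappa_tau3 (hG : IsMinSimpleOddOrder G) (h30 : P1430 G)
    {M K : Subgroup G} (hM : IsCoatom M) (hK : IsPiHallOf (kappa M) K M) (hK1 : K ≠ ⊥)
    (h3 : ∃ p, p ∈ kappa M ∧ p ∈ tau3 M) : IsComplIn K (sigmaCore M) M := by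
  obtain ⟨-, ⟨U, hUc, hUH, hKU, hfree⟩, -⟩ := h30 M hM K hK hK1
  have hE := Cfsg.Agent.Lib.Helper25.BG1431.isComplIn_UK' hG hM hK hUH hKU
  obtain ⟨p₀, hp₀κ, hp₀3⟩ := h3
  have hp₀ : p₀.Prime := hp₀κ.1
  haveI : Fact p₀.Prime := ⟨hp₀⟩
  have hEtop : U ⊔ K ≠ ⊤ := ne_top_of_le_isCoatom hM hE.1
  obtain ⟨E₃, hE₃⟩ := exists_isPiHallOf hG hEtop (tau3 M)
  -- a Sylow `p₀`-subgroup of `E₃` is one of `M`
  obtain ⟨T, hT⟩ := exists_isSylowIn p₀ E₃
  have hTE : IsSylowIn p₀ T (U ⊔ K) := hT.of_not_dvd_relIndex hE₃.1 (hE₃.2.2 p₀ hp₀ hp₀3)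
  have hTM : IsSylowIn p₀ T M := IsComplIn.isSylowIn hG hM hE hp₀3.2.1 hTE
  obtain ⟨x, hxT, hx1, y, hy, hy1, hxy⟩ := kappa_witness hp₀κ hTM
  have hz1 : Subgroup.zpowers x ≠ ⊥ := by
    intro h
    apply hx1
    have : x ∈ Subgroup.zpowers x := Subgroup.mem_zpowers x
    rw [h, Subgroup.mem_bot] at this
    exact this
  obtain ⟨X, hXz, hX⟩ := exists_le_card_prime hz1
  have hzT : Subgroup.zpowers x ≤ T := Subgroup.zpowers_le.mpr hxT
  have hXE₃ : X ≤ E₃ := (hXz.trans hzT).trans hT.le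
  have hE₃1 : E₃ ≠ ⊥ := by
    intro h
    rw [h] at hXE₃
    have h1 : X = ⊥ := le_bot_iff.mp hXE₃
    rw [h1, Subgroup.card_bot] at hX
    exact Nat.not_prime_one hX
  have hyX : y ∈ sigmaCore M ⊓ Subgroup.centralizer (X : Set G) := by
    refine Subgroup.mem_inf.mpr ⟨hy, ?_⟩
    have h1 : y ∈ Subgroup.centralizer ({x} : Set G) := by
      rw [Subgroup.mem_centralizer_singleton_iff]
      exact hxy.symm
    exact ((centralizer_singleton_le_of_eq_zpowers rfl).trans (Subgroup.centralizer_le hXz)) h1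
  have hyE₃ : y ∈ Subgroup.centralizer (E₃ : Set G) :=
    tau3_prime_action hG hM hE hE₃ hXE₃ hX hyX
  have hD : sigmaCore M ⊓ Subgroup.centralizer (E₃ : Set G) ≠ ⊥ := by
    intro h
    have h1 : y ∈ sigmaCore M ⊓ Subgroup.centralizer (E₃ : Set G) :=
      Subgroup.mem_inf.mpr ⟨hy, hyE₃⟩
    rw [h, Subgroup.mem_bot] at h1
    exact hy1 h1
  have hτ₂ : ∀ q : ℕ, q ∉ tau2 M := not_mem_tau2_of_tau3_nonregular hG hM hE hE₃ hE₃1 hD
  -- `U = 1`
  have hU1 : U = ⊥ := by
    by_contra hU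
    obtain ⟨r, hr, hrd⟩ := Nat.exists_prime_and_dvd
      (fun h : Nat.card U = 1 => hU (Subgroup.card_eq_one.mp h))
    haveI : Fact r.Prime := ⟨hr⟩
    obtain ⟨-, hrκ, hrσ⟩ := hUH.2.1 r hr hrd
    have hrE : r ∣ Nat.card ↥(U ⊔ K) := hrd.trans (Subgroup.card_dvd_of_le le_sup_left)
    rcases mem_tau_of_dvd_card hG hM hE hr hrE with h | h
    · rcases h with h | h
      · -- `τ₁`
        obtain ⟨k0, hk0, hk01⟩ := exists_ne_one_of_ne_bot hK1
        have hUM' := Cfsg.Agent.Lib.Helper25.BG1431.U_le_commutator' hUH.1 hK.1 hKU hk0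
          (hfree k0 hk0 hk01)
        exact h.2.2.2.1 (hrd.trans (Subgroup.card_dvd_of_le hUM'))
      · -- `τ₃`
        have hrE₃ : r ∣ Nat.card E₃ := by
          have h1 := Cfsg.Agent.Lib.Helper12.card_mul_relIndex_eq hE₃.1
          rw [← h1] at hrE
          rcases (Nat.Prime.dvd_mul hr).mp hrE with h2 | h2
          · exact h2
          · exact absurd h2 (hE₃.2.2 r hr h)
        obtain ⟨t, ht⟩ := exists_prime_orderOf_dvd_card' (G := E₃) r hrE₃
        have htM : (t : G) ∈ M := hE.1 (hE₃.1 t.2)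
        apply hrκ
        apply mem_kappa_of_commute hG hrσ h.2.2.2 htM (by rw [Subgroup.orderOf_coe]; exact ht)
          hy hy1
        exact (Subgroup.mem_centralizer_iff.mp hyE₃ (t : G) t.2)
    · exact hτ₂ r h
  rw [hU1, bot_sup_eq] at hE
  exact hE

open Cfsg.Agent.Lib.Helper29.BG1212 Cfsg.Agent.Lib.Helper29.BG13K in
/-- `C_G(y) ≤ M` for `y ∈ K*^#` (B&G 13.6 for `K*`, via helper25's `uniq_of_le_Kstar`). -/
theorem centralizer_singleton_le_of_mem_Kstar (hG : IsMinSimpleOddOrder G) (h30 : P1430 G)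
    {M K : Subgroup G} (hM : IsCoatom M) (hK : IsPiHallOf (kappa M) K M) (hK1 : K ≠ ⊥)
    {y : G} (hy : y ∈ sigmaCore M ⊓ Subgroup.centralizer (K : Set G)) (hy1 : y ≠ 1) :
    Subgroup.centralizer ({y} : Set G) ≤ M := by
  have hz1 : Subgroup.zpowers y ≠ ⊥ := by
    intro h
    apply hy1
    have : y ∈ Subgroup.zpowers y := Subgroup.mem_zpowers y
    rw [h, Subgroup.mem_bot] at this
    exact this
  obtain ⟨X, hXz, hX⟩ := exists_le_card_prime hz1
  have hXK : X ≤ sigmaCore M ⊓ Subgroup.centralizer (K : Set G) :=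
    hXz.trans (Subgroup.zpowers_le.mpr hy)
  have h1 := (Cfsg.Agent.Lib.Helper25.BG1431.uniq_of_le_Kstar hG h30 hM hK hK1 hX hXK rfl).2.1.1
  exact ((centralizer_singleton_le_of_eq_zpowers rfl).trans (Subgroup.centralizer_le hXz)).trans h1

omit [Finite G] in
/-- `tildeOf` is closed under conjugation. -/
theorem conj_mem_tildeOf {N : Subgroup G} {A : Set G} {a : G} (g : G)
    (ha : g * a * g⁻¹ ∈ tildeOf N A) : a ∈ tildeOf N A := by
  obtain ⟨x, hx, r, hr, y, hy⟩ := ha
  refine ⟨x, hx, r, hr, g⁻¹ * y, ?_⟩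
  have : a = g⁻¹ * (g * a * g⁻¹) * g := by group
  rw [this, hy]; group

open Cfsg.Agent.Lib.Helper19.BG14 in
/-- **B&G 14.7(f)-type count.** If `M = M_σ K` (`U = 1`) and its partner `M* = M*_σ K*` are both of
type `𝒫₁`, we reach a contradiction: `|M̃| + |M̃*| + |𝒞_G(Ẑ)| > |G|`. -/
theorem false_of_both_P1 (hG : IsMinSimpleOddOrder G) (h30 : P1430 G) (h31 : P1431 G)
    (h77 : Cfsg.Agent.Lib.Helper1.BGStubs2.P1377 G) (h33 : Cfsg.Agent.Lib.Helper1.BGStubs2.P1433 G)
    {M : Subgroup G} (hM : IsCoatom M) {K : Subgroup G} (hK : IsPiHallOf (kappa M) K M)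
    (hK1 : K ≠ ⊥) (hcM : Nat.card M = Nat.card K * Nat.card (sigmaCore M))
    {Mstar : Subgroup G} (hMstar : IsCoatom Mstar)
    (hKst : K = sigmaCore Mstar ⊓ Subgroup.centralizer ((kstar M K : Subgroup G) : Set G))
    (hKstH : IsPiHallOf (kappa Mstar) (kstar M K) Mstar)
    (hcMs : Nat.card Mstar = Nat.card ↥(kstar M K) * Nat.card (sigmaCore Mstar)) : False := by
  classical
  have hd := kdata_of h30 h31 hM hK hK1
  have hKs1 : kstar M K ≠ ⊥ := hd.kstar_ne_bot hG
  have hKle : K ≤ sigmaCore Mstar := hKst.le.trans inf_le_left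
  -- `M*` is not conjugate to `M`
  have hnc : ∀ g : G, Mstar ≠ cj g M := by
    intro g hg
    obtain ⟨p, hp, hpK⟩ := Nat.exists_prime_and_dvd
      (fun h1 : Nat.card K = 1 => hK1 (Subgroup.card_eq_one.mp h1))
    haveI : Fact p.Prime := ⟨hp⟩
    have hpσ : p ∉ sigma M := (hK.2.1 p hp hpK).2.2.1
    have hpσs : p ∈ sigma Mstar :=
      mem_sigma_of_dvd_card_sigmaCore hG hMstar hp (hpK.trans (Subgroup.card_dvd_of_le hKle))
    have h1 := mem_sigma_cj hMstar hpσs g⁻¹
    rw [hg, cj_inv_cj] at h1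
    exact hpσ h1
  -- coprimality
  have hcopK : (Nat.card K).Coprime (Nat.card (sigmaCore M)) := by
    apply Nat.coprime_of_dvd
    intro q hq hd1 hd2
    exact (hK.2.1 q hq hd1).2.2.1 (mem_sigma_of_dvd_card_sigmaCore hG hM hq hd2)
  have hcopKs : (Nat.card ↥(kstar M K)).Coprime (Nat.card (sigmaCore Mstar)) := by
    apply Nat.coprime_of_dvd
    intro q hq hd1 hd2
    exact (hKstH.2.1 q hq hd1).2.2.1 (mem_sigma_of_dvd_card_sigmaCore hG hMstar hq hd2)
  -- the three sets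
  set A := tildeOf M ((sigmaCore M : Set G) \ {1}) with hA
  set B := tildeOf Mstar ((sigmaCore Mstar : Set G) \ {1}) with hB
  set T : Set G := {a : G | ∃ g : G, ∃ z ∈ zhat M K, a = g * z * g⁻¹} with hT
  have hAB : Disjoint A B :=
    Set.disjoint_iff_inter_eq_empty.mpr (tilde_disjoint hG h33 hM hMstar hnc)
  have hAT : Disjoint A T := by
    rw [Set.disjoint_left]
    rintro a haA ⟨g, z, hz, rfl⟩
    have hzA : z ∈ A := conj_mem_tildeOf g haA
    obtain ⟨k, hk, y, hy, hk1, hy1, rfl⟩ := (hd.mem_zhat_iff hG).mp hz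
    refine not_mem_tildeOf hG hM (hd.commute hk hy) hy.1 ?_ hk1
      (centralizer_singleton_le_of_mem_Kstar hG h30 hM hK hK1 hy hy1) hzA
    exact Nat.Coprime.coprime_dvd_left (by
      have := orderOf_dvd_natCard (⟨k, hk⟩ : ↥K)
      rwa [Subgroup.orderOf_mk] at this) hcopK
  have hBT : Disjoint B T := by
    rw [Set.disjoint_left]
    rintro a haB ⟨g, z, hz, rfl⟩
    have hzB : z ∈ B := conj_mem_tildeOf g haB
    obtain ⟨k, hk, y, hy, hk1, hy1, rfl⟩ := (hd.mem_zhat_iff hG).mp hz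
    rw [hd.commute hk hy] at hzB
    have hkK : k ∈ sigmaCore Mstar ⊓
        Subgroup.centralizer ((kstar M K : Subgroup G) : Set G) := hKst ▸ hk
    refine not_mem_tildeOf hG hMstar (hd.commute hk hy).symm (hKle hk) ?_ hy1
      (centralizer_singleton_le_of_mem_Kstar hG h30 hMstar hKstH hKs1 hkK hk1) hzB
    exact Nat.Coprime.coprime_dvd_left (by
      have := orderOf_dvd_natCard (⟨y, hy⟩ : ↥(kstar M K))
      rwa [Subgroup.orderOf_mk] at this) hcopKs
  have hsum : A.ncard + B.ncard + T.ncard ≤ Nat.card G := by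
    have h1 : (A ∪ B ∪ T).ncard = A.ncard + B.ncard + T.ncard := by
      rw [Set.ncard_union_eq (Set.disjoint_union_left.mpr ⟨hAT, hBT⟩) (Set.toFinite _)
        (Set.toFinite _), Set.ncard_union_eq hAB (Set.toFinite _) (Set.toFinite _)]
    rw [← h1]
    exact Set.ncard_le_card _
  have hcA := h77 M hM
  have hcB := h77 Mstar hMstar
  have hcT := ncard_conj_zhat hG hd
  have h3a := three_mul_card_Kstar_le hG h30 h31 hM hK hK1
  have h3b := three_mul_card_Kstar_le hG h30 h31 hMstar hKstH hKs1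
  rw [← hKst] at h3b
  have hZ : 3 * (Nat.card K * Nat.card ↥(kstar M K)) ≤ Nat.card M := by
    rw [hcM]
    calc 3 * (Nat.card K * Nat.card ↥(kstar M K))
        = Nat.card K * (3 * Nat.card ↥(kstar M K)) := by ring
      _ ≤ Nat.card K * Nat.card (sigmaCore M) := Nat.mul_le_mul_left _ h3a
  have hZs : 3 * (Nat.card K * Nat.card ↥(kstar M K)) ≤ Nat.card Mstar := by
    rw [hcMs]
    calc 3 * (Nat.card K * Nat.card ↥(kstar M K))
        = Nat.card ↥(kstar M K) * (3 * Nat.card K) := by ring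
      _ ≤ Nat.card ↥(kstar M K) * Nat.card (sigmaCore Mstar) := Nat.mul_le_mul_left _ h3b
  have hk2 : 2 ≤ Nat.card K := Cfsg.Agent.Lib.Helper1.BGCount.two_le_card_of_ne_bot hK1
  have hks2 : 2 ≤ Nat.card ↥(kstar M K) :=
    Cfsg.Agent.Lib.Helper1.BGCount.two_le_card_of_ne_bot hKs1
  exact Cfsg.Agent.Lib.Helper1.BGCount.count_arith (g := Nat.card G) Nat.card_pos
    (Nat.card_pos (α := ↥(sigmaCore M))) (Nat.card_pos (α := ↥(sigmaCore Mstar))) hk2 hks2
    hcA hcB hcT hcM M.card_mul_index hcMs Mstar.card_mul_index hZ hZs hsum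

open Cfsg.Agent.Lib.Helper19.BG14 in
/-- `K*` is cyclic (B&G 14.7(d)), given the partner relation; from the frozen `S1430`, `S1431`,
`S1421`, `S1377`, `S1433`. -/
theorem Kstar_isCyclic (hG : IsMinSimpleOddOrder G) (h30 : P1430 G) (h31 : P1431 G)
    (h21 : P1421 G)
    (h77 : Cfsg.Agent.Lib.Helper1.BGStubs2.P1377 G) (h33 : Cfsg.Agent.Lib.Helper1.BGStubs2.P1433 G)
    {M : Subgroup G} (hM : IsCoatom M) {K U : Subgroup G} (hKU : IsSigmaDecomposition M K U)
    (hK1 : K ≠ ⊥) {Mstar : Subgroup G} (hMstar : IsCoatom Mstar)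
    (hKst : K = sigmaCore Mstar ⊓ Subgroup.centralizer ((kstar M K : Subgroup G) : Set G))
    (hKstH : IsPiHallOf (kappa Mstar) (kstar M K) Mstar) :
    IsCyclic ↥(kstar M K) := by
  by_cases hU : U = ⊥
  · by_contra hnc
    have hKs1 : kstar M K ≠ ⊥ := Kstar_ne_bot hG hM h30 hKU.hall
    -- `κ(M*)` meets `τ₃(M*)`
    have h3 : ∃ p, p ∈ kappa Mstar ∧ p ∈ tau3 Mstar := by
      by_contra h3'
      push Not at h3'
      apply hnc
      apply isCyclic_of_tau1_group hG hKstH.1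
      intro p hp hd
      have hκ := hKstH.2.1 p hp hd
      obtain ⟨P⟩ := (inferInstance : Nonempty (Sylow p ↥Mstar))
      have hr1 : PRankLE p 1 ↥Mstar :=
        Cfsg.Agent.Lib.Helper25.BG1431.pRankLE_one_of_cyclic_sylow hp P (hκ.2.2.2 P).1
      refine ⟨hp, hκ.2.2.1, hκ.2.1, ?_, hr1⟩
      intro hd'
      exact h3' p hκ ⟨hp, hκ.2.2.1, hd', hr1⟩
    have hcompl := isComplIn_of_kappa_tau3 hG h30 hMstar hKstH hKs1 h3
    have hcM : Nat.card M = Nat.card K * Nat.card (sigmaCore M) := by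
      have := card_eq hG hM hKU
      rw [hU, Subgroup.card_bot, one_mul] at this
      exact this
    exact false_of_both_P1 hG h30 h31 h77 h33 hM hKU.hall hK1 hcM hMstar hKst hKstH
      (Cfsg.Agent.Lib.Helper10.IsComplIn.card_eq hcompl)
  · exact Kstar_isCyclic_of_U_ne_bot hG h30 h21 hM hKU hU hKstH

end Cfsg.Agent.Lib.Helper3.BG14
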