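import Mathlib
import Cfsg.Prelude.Def_Sporadic_a

set_option autoImplicit false

namespace Cfsg.Agent.Lib.Helper3
namespace Steiner

open Finset

variable {α : Type*} [Fintype α] [DecidableEq α]

/-- the number of `t`-subsets `T` with `I ⊆ T ⊆ b`. -/
lemma card_between {I b : Finset α} (hIb : I ⊆ b) (t : ℕ) (hit : I.card ≤ t) :
    ((b.powersetCard t).filter (I ⊆ ·)).card = (b.card - I.card).choose (t - I.card) := by
  have h1 : ((b \ I).powersetCard (t - I.card)).card = (b.card - I.card).choose (t - I.card) := by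
    rw [card_powersetCard, card_sdiff_of_subset hIb]
  rw [← h1]
  apply Finset.card_bij' (fun T _ => T \ I) (fun U _ => U ∪ I)
  · intro T hT
    rw [mem_filter, mem_powersetCard] at hT
    rw [mem_powersetCard]
    exact ⟨sdiff_subset_sdiff hT.1.1 (Subset.refl _), by rw [card_sdiff_of_subset hT.2, hT.1.2]⟩
  · intro U hU
    rw [mem_powersetCard] at hU
    rw [mem_filter, mem_powersetCard]
    have hdisj : Disjoint U I := by
      rw [disjoint_left]
      intro x hx hxI
      exact (mem_sdiff.1 (hU.1 hx)).2 hxI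
    refine ⟨⟨union_subset (hU.1.trans sdiff_subset) hIb, ?_⟩, subset_union_right⟩
    rw [card_union_of_disjoint hdisj, hU.2]
    omega
  · intro T hT
    rw [mem_filter] at hT
    exact sdiff_union_of_subset hT.2
  · intro U hU
    rw [mem_powersetCard] at hU
    have hdisj : Disjoint U I := by
      rw [disjoint_left]
      intro x hx hxI
      exact (mem_sdiff.1 (hU.1 hx)).2 hxI
    exact union_sdiff_cancel_right hdisj

variable {t k : ℕ} {B : Set (Finset α)}

/-- the blocks as a finset -/
noncomputable def blocksF (B : Set (Finset α)) : Finset (Finset α) := (Set.toFinite B).toFinset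

lemma mem_blocksF {b : Finset α} : b ∈ blocksF B ↔ b ∈ B := by
  simp [blocksF]

lemma card_blocksF : (blocksF B).card = B.ncard := by
  rw [blocksF, Set.ncard_eq_toFinset_card B (Set.toFinite B)]

/-- The number of blocks through an `i`-subset, `i ≤ t`. -/
theorem card_blocks_containing (hB : Cfsg.IsSteinerSystem t k B) (I : Finset α) (hI : I.card ≤ t) :
    ((blocksF B).filter (I ⊆ ·)).card * (k - I.card).choose (t - I.card) =
      (Fintype.card α - I.card).choose (t - I.card) := by
  classical
  set 𝒯 := ((univ : Finset α).powersetCard t).filter (I ⊆ ·) with h𝒯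
  set ℬ := (blocksF B).filter (I ⊆ ·) with hℬ
  have hdc := Finset.sum_card_bipartiteAbove_eq_sum_card_bipartiteBelow (s := 𝒯) (t := ℬ)
    (fun (T : Finset α) (b : Finset α) => T ⊆ b)
  have hL : ∀ T ∈ 𝒯, (ℬ.bipartiteAbove (fun (T : Finset α) (b : Finset α) => T ⊆ b) T).card = 1 := by
    intro T hT
    rw [h𝒯, mem_filter, mem_powersetCard] at hT
    obtain ⟨b, ⟨hbB, hTb⟩, huniq⟩ := hB.2 T hT.1.2
    rw [card_eq_one]
    refine ⟨b, ?_⟩
    ext c
    simp only [bipartiteAbove, mem_filter, mem_singleton, hℬ, mem_blocksF]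
    constructor
    · rintro ⟨⟨hcB, _⟩, hTc⟩
      exact huniq c ⟨hcB, hTc⟩
    · rintro rfl
      exact ⟨⟨hbB, hT.2.trans hTb⟩, hTb⟩
  have hR : ∀ b ∈ ℬ, (𝒯.bipartiteBelow (fun (T : Finset α) (b : Finset α) => T ⊆ b) b).card =
      (k - I.card).choose (t - I.card) := by
    intro b hb
    rw [hℬ, mem_filter, mem_blocksF] at hb
    have hbk : b.card = k := hB.1 b hb.1
    rw [← hbk, ← card_between hb.2 t hI]
    congr 1
    ext T
    simp only [bipartiteBelow, mem_filter, mem_powersetCard, h𝒯]
    constructor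
    · rintro ⟨⟨⟨_, hTt⟩, hIT⟩, hTb⟩
      exact ⟨⟨hTb, hTt⟩, hIT⟩
    · rintro ⟨⟨hTb, hTt⟩, hIT⟩
      exact ⟨⟨⟨subset_univ _, hTt⟩, hIT⟩, hTb⟩
  rw [Finset.sum_congr rfl hL, Finset.sum_congr rfl hR] at hdc
  simp only [sum_const, smul_eq_mul, mul_one] at hdc
  rw [← hdc, h𝒯, card_between (subset_univ I) t hI, card_univ]

/-- Counting pairs `(I, c)` with `I ⊆ b ∩ c`, `|I| = i`, `c ≠ b`. -/
theorem sum_choose_inter (hB : Cfsg.IsSteinerSystem t k B) {b : Finset α} (hb : b ∈ B)
    (i lam : ℕ)
    (hlam : ∀ I : Finset α, I.card = i → ((blocksF B).filter (I ⊆ ·)).card = lam) :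
    ∑ c ∈ (blocksF B).erase b, ((b ∩ c).card).choose i = k.choose i * (lam - 1) := by
  classical
  have hdc := Finset.sum_card_bipartiteAbove_eq_sum_card_bipartiteBelow (s := b.powersetCard i)
    (t := (blocksF B).erase b) (fun (I : Finset α) (c : Finset α) => I ⊆ c)
  have hL : ∀ I ∈ b.powersetCard i,
      (((blocksF B).erase b).bipartiteAbove (fun (I : Finset α) (c : Finset α) => I ⊆ c) I).card =
        lam - 1 := by
    intro I hI
    rw [mem_powersetCard] at hI
    rw [← hlam I hI.2]
    have : ((blocksF B).erase b).bipartiteAbove (fun (I : Finset α) (c : Finset α) => I ⊆ c) I =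
        ((blocksF B).filter (I ⊆ ·)).erase b := by
      ext c
      simp only [bipartiteAbove, mem_filter, mem_erase]
      tauto
    rw [this, card_erase_of_mem]
    rw [mem_filter, mem_blocksF]
    exact ⟨hb, hI.1⟩
  have hR : ∀ c ∈ (blocksF B).erase b,
      ((b.powersetCard i).bipartiteBelow (fun (I : Finset α) (c : Finset α) => I ⊆ c) c).card =
        ((b ∩ c).card).choose i := by
    intro c _
    rw [← card_powersetCard]
    congr 1
    ext I
    simp only [bipartiteBelow, mem_filter, mem_powersetCard, subset_inter_iff]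
    tauto
  rw [Finset.sum_congr rfl hL, Finset.sum_congr rfl hR] at hdc
  rw [← hdc]
  simp only [sum_const, smul_eq_mul, card_powersetCard, hB.1 b hb]

/-- two distinct blocks meet in fewer than `t` points -/
lemma inter_card_lt (hB : Cfsg.IsSteinerSystem t k B) {b c : Finset α} (hb : b ∈ B) (hc : c ∈ B)
    (hbc : b ≠ c) : (b ∩ c).card < t := by
  by_contra h
  push Not at h
  obtain ⟨T, hT, hTt⟩ := exists_subset_card_eq h
  obtain ⟨d, _, huniq⟩ := hB.2 T hTt
  have h1 := huniq b ⟨hb, hT.trans inter_subset_left⟩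
  have h2 := huniq c ⟨hc, hT.trans inter_subset_right⟩
  exact hbc (h1.trans h2.symm)

end Steiner
end Cfsg.Agent.Lib.Helper3
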