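import Mathlib
import Cfsg.Agent.Lib.Helper3.Steiner

set_option autoImplicit false

namespace Cfsg.Agent.Lib.Helper3
namespace Steiner

open Finset

variable {α : Type*} [Fintype α] [DecidableEq α] {B : Set (Finset α)}

section S5824

variable (hα : Fintype.card α = 24) (hB : Cfsg.IsSteinerSystem 5 8 B)
include hα hB

lemma lam4_5824 (I : Finset α) (hI : I.card = 4) : ((blocksF B).filter (I ⊆ ·)).card = 5 := by
  have h := card_blocks_containing hB I (by omega)
  rw [hα, hI] at h
  norm_num [Nat.choose] at h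
  omega

lemma lam3_5824 (I : Finset α) (hI : I.card = 3) : ((blocksF B).filter (I ⊆ ·)).card = 21 := by
  have h := card_blocks_containing hB I (by omega)
  rw [hα, hI] at h
  norm_num [Nat.choose] at h
  omega

lemma lam2_5824 (I : Finset α) (hI : I.card = 2) : ((blocksF B).filter (I ⊆ ·)).card = 77 := by
  have h := card_blocks_containing hB I (by omega)
  rw [hα, hI] at h
  norm_num [Nat.choose] at h
  omega

lemma lam1_5824 (I : Finset α) (hI : I.card = 1) : ((blocksF B).filter (I ⊆ ·)).card = 253 := by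
  have h := card_blocks_containing hB I (by omega)
  rw [hα, hI] at h
  norm_num [Nat.choose] at h
  omega

lemma lam0_5824 (I : Finset α) (hI : I.card = 0) : ((blocksF B).filter (I ⊆ ·)).card = 759 := by
  have h := card_blocks_containing hB I (by omega)
  rw [hα, hI] at h
  norm_num [Nat.choose] at h
  omega

variable {b : Finset α} (hb : b ∈ B)
include hb

lemma sum4_5824 : ∑ c ∈ (blocksF B).erase b, ((b ∩ c).card).choose 4 = 280 := by
  rw [sum_choose_inter hB hb 4 5 (lam4_5824 hα hB)]; norm_num [Nat.choose]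

lemma sum3_5824 : ∑ c ∈ (blocksF B).erase b, ((b ∩ c).card).choose 3 = 1120 := by
  rw [sum_choose_inter hB hb 3 21 (lam3_5824 hα hB)]; norm_num [Nat.choose]

lemma sum2_5824 : ∑ c ∈ (blocksF B).erase b, ((b ∩ c).card).choose 2 = 2128 := by
  rw [sum_choose_inter hB hb 2 77 (lam2_5824 hα hB)]; norm_num [Nat.choose]

lemma sum1_5824 : ∑ c ∈ (blocksF B).erase b, ((b ∩ c).card).choose 1 = 2016 := by
  rw [sum_choose_inter hB hb 1 253 (lam1_5824 hα hB)]; norm_num [Nat.choose]

lemma sum0_5824 : ∑ c ∈ (blocksF B).erase b, ((b ∩ c).card).choose 0 = 758 := by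
  rw [sum_choose_inter hB hb 0 759 (lam0_5824 hα hB)]; norm_num [Nat.choose]

omit hα in
lemma inter_le4_5824 {c : Finset α} (hc : c ∈ (blocksF B).erase b) : (b ∩ c).card ≤ 4 := by
  rw [mem_erase, mem_blocksF] at hc
  have := inter_card_lt hB hb hc.2 (Ne.symm hc.1)
  omega

/-- two distinct blocks of an S(5,8,24) meet in 0, 2 or 4 points. -/
theorem inter_card_5824 {c : Finset α} (hc : c ∈ B) (hbc : b ≠ c) :
    (b ∩ c).card = 0 ∨ (b ∩ c).card = 2 ∨ (b ∩ c).card = 4 := by
  have hcm : c ∈ (blocksF B).erase b := by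
    rw [mem_erase, mem_blocksF]; exact ⟨Ne.symm hbc, hc⟩
  have hle := inter_le4_5824 hB hb hcm
  -- x₃ = 0
  have h3 : ∀ c ∈ (blocksF B).erase b, 4 * ((b ∩ c).card).choose 4 = ((b ∩ c).card).choose 3 := by
    rw [← Finset.sum_eq_sum_iff_of_le]
    · rw [← Finset.mul_sum, sum4_5824 hα hB hb, sum3_5824 hα hB hb]
      norm_num
    · intro d hd
      have := inter_le4_5824 hB hb hd
      interval_cases (b ∩ d).card <;> simp [Nat.choose]
  -- x₁ = 0
  have h1 : ∀ c ∈ (blocksF B).erase b,
      2 * ((b ∩ c).card).choose 2 + 4 * ((b ∩ c).card).choose 4 =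
        ((b ∩ c).card).choose 1 + 3 * ((b ∩ c).card).choose 3 := by
    rw [← Finset.sum_eq_sum_iff_of_le]
    · rw [Finset.sum_add_distrib, Finset.sum_add_distrib, ← Finset.mul_sum, ← Finset.mul_sum,
        ← Finset.mul_sum, sum4_5824 hα hB hb, sum3_5824 hα hB hb, sum2_5824 hα hB hb,
        sum1_5824 hα hB hb]
      norm_num
    · intro d hd
      have := inter_le4_5824 hB hb hd
      interval_cases (b ∩ d).card <;> simp [Nat.choose]
  have h3c := h3 c hcm
  have h1c := h1 c hcm
  interval_cases h : (b ∩ c).card <;> simp_all [Nat.choose]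

/-- the number of blocks disjoint from a given block of an S(5,8,24) is 30 -/
theorem card_disjoint_5824 : {c : Finset α | c ∈ B ∧ Disjoint b c}.ncard = 30 := by
  classical
  have hset : {c : Finset α | c ∈ B ∧ Disjoint b c} =
      (((blocksF B).erase b).filter (fun c => (b ∩ c).card = 0) : Finset (Finset α)) := by
    ext c
    simp only [Set.mem_ofPred_eq, coe_filter, mem_erase, mem_blocksF, card_eq_zero,
      disjoint_iff_inter_eq_empty]
    constructor
    · rintro ⟨hc, hd⟩
      refine ⟨⟨?_, hc⟩, hd⟩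
      rintro rfl
      rw [inter_self] at hd
      have := hB.1 c hc
      rw [hd] at this
      simp at this
    · rintro ⟨⟨_, hc⟩, hd⟩
      exact ⟨hc, hd⟩
  rw [hset, Set.ncard_coe_finset, Finset.card_filter]
  have key : ∀ c ∈ (blocksF B).erase b,
      (if (b ∩ c).card = 0 then 1 else 0) + ((b ∩ c).card).choose 1 + ((b ∩ c).card).choose 3 =
        ((b ∩ c).card).choose 0 + ((b ∩ c).card).choose 2 + ((b ∩ c).card).choose 4 := by
    intro d hd
    have := inter_le4_5824 hB hb hd
    interval_cases (b ∩ d).card <;> simp [Nat.choose]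
  have hsum := Finset.sum_congr rfl key
  rw [Finset.sum_add_distrib, Finset.sum_add_distrib, Finset.sum_add_distrib,
    Finset.sum_add_distrib, sum4_5824 hα hB hb, sum3_5824 hα hB hb, sum2_5824 hα hB hb,
    sum1_5824 hα hB hb, sum0_5824 hα hB hb] at hsum
  omega

end S5824

end Steiner
end Cfsg.Agent.Lib.Helper3
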