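import Mathlib
import Cfsg.Prelude.Def_GeometricClasses
import Cfsg.Agent.Lib.Helper7.AschDefs
import Cfsg.Agent.Lib.Helper3.AschC6Defs
import Cfsg.Agent.Lib.Helper3.AschC6Basic

/-!
# S5630, block I6, HALF B: counting (helper3; real proofs): R-CARDQ, R-CARD, R-NPOW from R-IND and R-SPAN (hypotheses)
-/

set_option autoImplicit false

namespace Cfsg.Agent.Lib.Helper3.AschC6

open Matrix Cfsg.Geo Cfsg.Agent.Lib.Helper7.Asch
open scoped commutatorElement

variable {F : Type*} [Field F] [Fintype F] {n : ℕ} {H R : Subgroup (GL (Fin n) F)} {r : ℕ}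

/-- **R-CARDQ** `|R / Z(R)| = n²` -/
theorem card_quot_of (hind : LinearIndependent F (rep R))
    (hspan : Submodule.span F (Set.range (rep R)) = ⊤) : Nat.card (R ⧸ Subgroup.center R) = n ^ 2 := by
  haveI : Fintype (R ⧸ Subgroup.center R) := Fintype.ofFinite _
  have b : Module.Basis (R ⧸ Subgroup.center R) F (Matrix (Fin n) (Fin n) F) :=
    Module.Basis.mk hind (by rw [hspan])
  have h1 := Module.finrank_eq_card_basis b
  rw [Nat.card_eq_fintype_card, ← h1, Module.finrank_matrix]
  simp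
  ring

/-- **R-CARD** `|R| = |Z(R)| n²` -/
theorem card_eq_of (hind : LinearIndependent F (rep R))
    (hspan : Submodule.span F (Set.range (rep R)) = ⊤) :
    Nat.card R = Nat.card (Subgroup.center R) * n ^ 2 := by
  rw [← card_quot_of hind hspan, mul_comm]
  exact Subgroup.card_eq_card_quotient_mul_card_subgroup _

/-- **R-NPOW** `n` is a power of `r` -/
theorem n_eq_pow_of (hn : 2 ≤ n) (hR : SympCore H R r) (hind : LinearIndependent F (rep R))
    (hspan : Submodule.span F (Set.range (rep R)) = ⊤) : ∃ m : ℕ, 1 ≤ m ∧ n = r ^ m := by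
  haveI : Fact r.Prime := ⟨hR.prime⟩
  obtain ⟨k, hk⟩ := IsPGroup.iff_card.mp hR.sympType.pGroup
  have h1 := card_eq_of hind hspan
  rw [hk] at h1
  have h2 : n ∣ r ^ k := by
    rw [h1]
    exact Dvd.dvd.mul_left (dvd_pow_self n (by omega)) _
  obtain ⟨m, _, hm⟩ := (Nat.dvd_prime_pow hR.prime).mp h2
  refine ⟨m, ?_, hm⟩
  by_contra h0
  have : m = 0 := by omega
  rw [this, pow_zero] at hm
  omega

end Cfsg.Agent.Lib.Helper3.AschC6
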