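import Mathlib

/-!
# Descent for forms of the matrix algebra over finite fields (helper3)

`F` a finite field, `F₀` a subfield, `T` an `F`-basis of `M_n(F)` whose `F₀`-span `A₀` is closed under multiplication and
contains `1`.  Then `A₀` is a central simple `F₀`-algebra, hence `≅ M_n(F₀)` (Wedderburn-Artin + little Wedderburn), and
by Skolem-Noether there is `B ∈ GL_n(F)` with `B T_i B⁻¹ ∈ M_n(F₀)` for all `i`.
-/

set_option autoImplicit false

namespace Cfsg.Agent.Lib.Helper3.FormDescent

open Matrix Module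

variable {F : Type*} [Field F] {n : ℕ} (F₀ : Subfield F) {ι : Type*}
  (T : ι → Matrix (Fin n) (Fin n) F)

/-- the `F₀`-span of the family `T`, as a subalgebra -/
noncomputable def formAlg
    (hone : (1 : Matrix (Fin n) (Fin n) F) ∈ Submodule.span F₀ (Set.range T))
    (hmul : ∀ i j, T i * T j ∈ Submodule.span F₀ (Set.range T)) : Subalgebra F₀ (Matrix (Fin n) (Fin n) F) :=
  Submodule.toSubalgebra (Submodule.span F₀ (Set.range T)) hone (by
    intro x y hx hy
    induction hx, hy using Submodule.span_induction₂ with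
    | mem_mem x y hx hy =>
      obtain ⟨i, rfl⟩ := hx
      obtain ⟨j, rfl⟩ := hy
      exact hmul i j
    | zero_left y _ => simp
    | zero_right x _ => simp
    | add_left x y z _ _ _ h1 h2 => rw [add_mul]; exact Submodule.add_mem _ h1 h2
    | add_right x y z _ _ _ h1 h2 => rw [mul_add]; exact Submodule.add_mem _ h1 h2
    | smul_left r x y _ _ h => rw [smul_mul_assoc]; exact Submodule.smul_mem _ _ h
    | smul_right r x y _ _ h => rw [mul_smul_comm]; exact Submodule.smul_mem _ _ h)

variable {F₀ T}
variable {hone : (1 : Matrix (Fin n) (Fin n) F) ∈ Submodule.span F₀ (Set.range T)}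
  {hmul : ∀ i j, T i * T j ∈ Submodule.span F₀ (Set.range T)}

theorem mem_formAlg (x : Matrix (Fin n) (Fin n) F) :
    x ∈ formAlg F₀ T hone hmul ↔ x ∈ Submodule.span F₀ (Set.range T) := Iff.rfl

theorem T_mem (i : ι) : T i ∈ formAlg F₀ T hone hmul := Submodule.subset_span ⟨i, rfl⟩

theorem subfield_smul (a : F₀) (X : Matrix (Fin n) (Fin n) F) : a • X = (a : F) • X := rfl

variable [Fintype ι]

/-- membership in the `F₀`-span in coordinates -/
theorem mem_formAlg_iff (x : Matrix (Fin n) (Fin n) F) :
    x ∈ formAlg F₀ T hone hmul ↔ ∃ a : ι → F₀, x = ∑ i, (a i : F) • T i := by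
  rw [mem_formAlg, Submodule.mem_span_range_iff_exists_fun]
  constructor
  · rintro ⟨a, rfl⟩
    exact ⟨a, rfl⟩
  · rintro ⟨a, rfl⟩
    exact ⟨a, rfl⟩

/-- a scalar matrix in `A₀` has its scalar in `F₀` -/
theorem coeff_mem (hn : 0 < n) (hind : LinearIndependent F T) (c : F)
    (hc : c • (1 : Matrix (Fin n) (Fin n) F) ∈ formAlg F₀ T hone hmul) : c ∈ F₀ := by
  classical
  obtain ⟨a, ha⟩ := (mem_formAlg_iff (hone := hone) (hmul := hmul) 1).mp ((formAlg F₀ T hone hmul).one_mem)
  obtain ⟨b, hb⟩ := (mem_formAlg_iff (hone := hone) (hmul := hmul) _).mp hc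
  rw [ha, Finset.smul_sum] at hb
  have h1 : ∑ i, (c * (a i : F) - (b i : F)) • T i = 0 := by
    simp_rw [sub_smul, Finset.sum_sub_distrib, ← smul_smul]
    rw [hb, sub_self]
  have h2 := Fintype.linearIndependent_iff.mp hind _ h1
  have h3 : ∃ i, (a i : F) ≠ 0 := by
    by_contra hall
    push Not at hall
    have h10 : (1 : Matrix (Fin n) (Fin n) F) = 0 := by
      rw [ha]
      apply Finset.sum_eq_zero
      intro i _
      rw [hall i, zero_smul]
    haveI : Nonempty (Fin n) := ⟨⟨0, hn⟩⟩
    exact one_ne_zero h10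
  obtain ⟨i, hi⟩ := h3
  have h4 : c = (b i : F) / (a i : F) := by
    have := h2 i
    field_simp
    linear_combination this
  rw [h4]
  exact F₀.div_mem (b i).2 (a i).2


/-- the family `T` inside `A₀` -/
def TA (i : ι) : formAlg F₀ T hone hmul := ⟨T i, T_mem i⟩

theorem linearIndependent_sub (hind : LinearIndependent F T) : LinearIndependent F₀ T :=
  hind.restrict_scalars (by
    intro a b h
    apply Subtype.ext
    have h1 : ((a : F₀) : F) * 1 = ((b : F₀) : F) * 1 := h
    simpa using h1)

theorem linearIndependent_TA (hind : LinearIndependent F T) :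
    LinearIndependent F₀ (TA (hone := hone) (hmul := hmul)) := by
  have h1 := linearIndependent_sub (F₀ := F₀) hind
  apply LinearIndependent.of_comp ((formAlg F₀ T hone hmul).val.toLinearMap)
  exact h1

theorem span_TA : Submodule.span F₀ (Set.range (TA (hone := hone) (hmul := hmul))) = ⊤ := by
  rw [eq_top_iff]
  rintro ⟨x, hx⟩ _
  obtain ⟨a, ha⟩ := (mem_formAlg_iff (hone := hone) (hmul := hmul) x).mp hx
  have h1 : (⟨x, hx⟩ : formAlg F₀ T hone hmul) = ∑ i, a i • TA (hone := hone) (hmul := hmul) i := by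
    apply Subtype.ext
    show x = _
    rw [ha]
    simp [TA, subfield_smul]
  rw [h1]
  exact Submodule.sum_mem _ (fun i _ => Submodule.smul_mem _ _ (Submodule.subset_span ⟨i, rfl⟩))

/-- the `F₀`-basis `T` of `A₀` -/
noncomputable def basisA (hind : LinearIndependent F T) : Basis ι F₀ (formAlg F₀ T hone hmul) :=
  Basis.mk (linearIndependent_TA hind) (by rw [span_TA])

theorem finrank_formAlg (hind : LinearIndependent F T) :
    finrank F₀ (formAlg F₀ T hone hmul) = Fintype.card ι :=
  finrank_eq_card_basis (basisA hind)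

theorem finite_formAlg (hind : LinearIndependent F T) : Module.Finite F₀ (formAlg F₀ T hone hmul) :=
  Module.Finite.of_basis (basisA hind)

theorem card_index (hind : LinearIndependent F T) (hspan : Submodule.span F (Set.range T) = ⊤) :
    Fintype.card ι = n * n := by
  have b : Basis ι F (Matrix (Fin n) (Fin n) F) := Basis.mk hind (by rw [hspan])
  rw [← finrank_eq_card_basis b, Module.finrank_matrix]
  simp


/-- the coefficientwise `F₀`-linear retraction `M_n(F) → A₀` attached to an `F₀`-linear retraction `lam : F → F₀` -/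
noncomputable def Lam (hind : LinearIndependent F T) (hspan : Submodule.span F (Set.range T) = ⊤)
    (lam : F →ₗ[F₀] F₀) : Matrix (Fin n) (Fin n) F →ₗ[F₀] formAlg F₀ T hone hmul :=
  ∑ i, (LinearMap.toSpanSingleton F₀ (formAlg F₀ T hone hmul) (TA i)).comp
    (lam.comp (((Basis.mk hind (by rw [hspan])).coord i).restrictScalars F₀))

theorem Lam_apply (hind : LinearIndependent F T) (hspan : Submodule.span F (Set.range T) = ⊤)
    (lam : F →ₗ[F₀] F₀) (X : Matrix (Fin n) (Fin n) F) :
    Lam (hone := hone) (hmul := hmul) hind hspan lam X =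
      ∑ i, lam ((Basis.mk hind (by rw [hspan])).repr X i) • TA (hone := hone) (hmul := hmul) i := by
  simp [Lam, LinearMap.toSpanSingleton_apply]

theorem Lam_smul (hind : LinearIndependent F T) (hspan : Submodule.span F (Set.range T) = ⊤)
    (lam : F →ₗ[F₀] F₀) (c : F) (s : formAlg F₀ T hone hmul) :
    Lam (hone := hone) (hmul := hmul) hind hspan lam (c • (s : Matrix (Fin n) (Fin n) F)) = lam c • s := by
  classical
  obtain ⟨a, ha⟩ := (mem_formAlg_iff (hone := hone) (hmul := hmul) s.1).mp s.2
  have hs : s = ∑ i, a i • TA (hone := hone) (hmul := hmul) i := by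
    apply Subtype.ext
    rw [ha]
    simp [TA, subfield_smul]
  rw [Lam_apply]
  have hrepr : ∀ i, (Basis.mk hind (by rw [hspan])).repr (c • (s : Matrix (Fin n) (Fin n) F)) i = c * (a i : F) := by
    intro i
    rw [map_smul, Finsupp.smul_apply, smul_eq_mul]
    congr 1
    have h1 : (s : Matrix (Fin n) (Fin n) F) = ∑ j, (a j : F) • (Basis.mk hind (by rw [hspan])) j := by
      rw [ha]
      simp
    rw [h1, Basis.repr_sum_self]
  simp_rw [hrepr]
  conv_rhs => rw [hs, Finset.smul_sum]
  apply Finset.sum_congr rfl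
  intro i _
  rw [smul_smul]
  congr 1
  have h2 : c * (a i : F) = a i • c := by
    rw [mul_comm]
    rfl
  rw [h2, map_smul, smul_eq_mul, mul_comm]


/-- **`A₀` is a simple ring** -/
theorem isSimpleRing_formAlg (hn : 0 < n) (hind : LinearIndependent F T)
    (hspan : Submodule.span F (Set.range T) = ⊤) : IsSimpleRing (formAlg F₀ T hone hmul) := by
  classical
  haveI : Nonempty (Fin n) := ⟨⟨0, hn⟩⟩
  haveI : Nontrivial (formAlg F₀ T hone hmul) := by
    refine ⟨⟨0, 1, fun h => ?_⟩⟩
    have h1 := congrArg (fun y : formAlg F₀ T hone hmul => (y : Matrix (Fin n) (Fin n) F)) h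
    exact zero_ne_one h1
  rw [isSimpleRing_iff_isTwoSided_imp]
  refine ⟨inferInstance, ?_⟩
  intro I hI
  by_cases hbot : I = ⊥
  · exact Or.inl hbot
  right
  obtain ⟨x, hxI, hx0⟩ := Submodule.exists_mem_ne_zero_of_ne_bot hbot
  set S : Set (Matrix (Fin n) (Fin n) F) :=
    (fun y : formAlg F₀ T hone hmul => (y : Matrix (Fin n) (Fin n) F)) '' (I : Set (formAlg F₀ T hone hmul)) with hS
  have hleft : ∀ X Y : Matrix (Fin n) (Fin n) F, Y ∈ Submodule.span F S → X * Y ∈ Submodule.span F S := by
    intro X Y hY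
    have hX : X ∈ Submodule.span F (Set.range T) := by rw [hspan]; trivial
    induction hX, hY using Submodule.span_induction₂ with
    | mem_mem X Y hX hY =>
      obtain ⟨i, rfl⟩ := hX
      obtain ⟨y, hy, rfl⟩ := hY
      exact Submodule.subset_span ⟨TA i * y, I.mul_mem_left _ hy, rfl⟩
    | zero_left y _ => simp
    | zero_right x _ => simp
    | add_left x y z _ _ _ h1 h2 => rw [add_mul]; exact Submodule.add_mem _ h1 h2
    | add_right x y z _ _ _ h1 h2 => rw [mul_add]; exact Submodule.add_mem _ h1 h2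
    | smul_left r x y _ _ h => rw [smul_mul_assoc]; exact Submodule.smul_mem _ _ h
    | smul_right r x y _ _ h => rw [mul_smul_comm]; exact Submodule.smul_mem _ _ h
  have hright : ∀ X Y : Matrix (Fin n) (Fin n) F, X ∈ Submodule.span F S → X * Y ∈ Submodule.span F S := by
    intro X Y hX
    have hY : Y ∈ Submodule.span F (Set.range T) := by rw [hspan]; trivial
    induction hX, hY using Submodule.span_induction₂ with
    | mem_mem X Y hX hY =>
      obtain ⟨i, rfl⟩ := hY
      obtain ⟨y, hy, rfl⟩ := hX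
      exact Submodule.subset_span ⟨y * TA i, hI.mul_mem_of_left _ hy, rfl⟩
    | zero_left y _ => simp
    | zero_right x _ => simp
    | add_left x y z _ _ _ h1 h2 => rw [add_mul]; exact Submodule.add_mem _ h1 h2
    | add_right x y z _ _ _ h1 h2 => rw [mul_add]; exact Submodule.add_mem _ h1 h2
    | smul_left r x y _ _ h => rw [smul_mul_assoc]; exact Submodule.smul_mem _ _ h
    | smul_right r x y _ _ h => rw [mul_smul_comm]; exact Submodule.smul_mem _ _ h
  let J : TwoSidedIdeal (Matrix (Fin n) (Fin n) F) :=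
    TwoSidedIdeal.mk' (Submodule.span F S) (Submodule.zero_mem _) (fun h1 h2 => Submodule.add_mem _ h1 h2)
      (fun h => Submodule.neg_mem _ h) (fun h => hleft _ _ h) (fun h => hright _ _ h)
  have hxJ : (x : Matrix (Fin n) (Fin n) F) ∈ J := by
    rw [TwoSidedIdeal.mem_mk']
    exact Submodule.subset_span ⟨x, hxI, rfl⟩
  have hx0' : (x : Matrix (Fin n) (Fin n) F) ≠ 0 := fun h => hx0 (Subtype.ext h)
  have h1J : (1 : Matrix (Fin n) (Fin n) F) ∈ J := IsSimpleRing.one_mem_of_ne_zero_mem J hx0' hxJ
  have h1S : (1 : Matrix (Fin n) (Fin n) F) ∈ Submodule.span F S := by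
    rwa [TwoSidedIdeal.mem_mk'] at h1J
  -- the retraction
  obtain ⟨lam, hlam⟩ := LinearMap.exists_leftInverse_of_injective (Algebra.linearMap F₀ F)
    (LinearMap.ker_eq_bot.mpr (FaithfulSMul.algebraMap_injective F₀ F))
  have hlam1 : lam 1 = 1 := by
    have := congrArg (fun f => f 1) hlam
    simpa using this
  have hkey : ∀ Y ∈ Submodule.span F S, ∀ c : F,
      Lam (hone := hone) (hmul := hmul) hind hspan lam (c • Y) ∈ I := by
    intro Y hY
    induction hY using Submodule.span_induction with
    | mem Y hY =>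
      obtain ⟨y, hy, rfl⟩ := hY
      intro c
      rw [Lam_smul]
      exact Submodule.smul_of_tower_mem I _ hy
    | zero => intro c; simp
    | add Y Y' _ _ h1 h2 =>
      intro c
      rw [smul_add, map_add]
      exact I.add_mem (h1 c) (h2 c)
    | smul d Y _ h =>
      intro c
      rw [smul_smul]
      exact h (c * d)
  have h1I : (1 : formAlg F₀ T hone hmul) ∈ I := by
    have h2 := hkey 1 h1S 1
    have h3 : (1 : F) • (1 : Matrix (Fin n) (Fin n) F) = (1 : F) • ((1 : formAlg F₀ T hone hmul) : Matrix (Fin n) (Fin n) F) := rfl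
    rw [h3, Lam_smul, hlam1, one_smul] at h2
    exact h2
  exact (Ideal.eq_top_iff_one I).mpr h1I

end Cfsg.Agent.Lib.Helper3.FormDescent
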