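import Mathlib
import Cfsg.Agent.Lib.Helper10.S5630CoreSN
import Cfsg.Agent.Lib.Helper3.FormDescent

/-!
# Descent for forms of the matrix algebra over finite fields, main theorem (helper3)

`exists_conj`: `F` finite, `F₀ ≤ F`, `T` an `F`-basis of `M_n(F)` whose `F₀`-span is closed under multiplication and
contains `1`: there is `B ∈ GL_n(F)` with `B T_i B⁻¹ ∈ M_n(F₀)` for all `i`.
-/

set_option autoImplicit false

namespace Cfsg.Agent.Lib.Helper3.FormDescent

open Matrix Module

/-- matrix units `E a b` in a `K`-algebra `R` define an algebra homomorphism `M_k(K) → R` -/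
noncomputable def unitsHom {K R : Type*} [Field K] [Ring R] [Algebra K R] {k : ℕ} (E : Fin k → Fin k → R)
    (hmul : ∀ a b c d, E a b * E c d = if b = c then E a d else 0) (hone : ∑ a, E a a = 1) :
    Matrix (Fin k) (Fin k) K →ₐ[K] R :=
  AlgHom.ofLinearMap
    (∑ a, ∑ b, (LinearMap.toSpanSingleton K R (E a b)).comp (Matrix.entryLinearMap K K a b))
    (by
      classical
      simp only [LinearMap.sum_apply, LinearMap.comp_apply, Matrix.entryLinearMap_apply,
        LinearMap.toSpanSingleton_apply, Matrix.one_apply]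
      rw [← hone]
      apply Finset.sum_congr rfl
      intro a _
      rw [Finset.sum_eq_single a]
      · simp
      · intro b _ hb
        rw [if_neg (Ne.symm hb), zero_smul]
      · intro h
        exact absurd (Finset.mem_univ _) h)
    (by
      classical
      intro X Y
      simp only [LinearMap.sum_apply, LinearMap.comp_apply, Matrix.entryLinearMap_apply,
        LinearMap.toSpanSingleton_apply, Matrix.mul_apply]
      rw [Finset.sum_mul]
      apply Finset.sum_congr rfl
      intro a _
      rw [Finset.sum_mul]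
      simp_rw [Finset.mul_sum, smul_mul_smul_comm, hmul, Finset.sum_smul]
      rw [Finset.sum_comm]
      apply Finset.sum_congr rfl
      intro b _
      symm
      rw [Finset.sum_eq_single b]
      · simp
      · intro c _ hc
        apply Finset.sum_eq_zero
        intro d _
        rw [if_neg (Ne.symm hc), smul_zero]
      · intro h
        exact absurd (Finset.mem_univ _) h)

theorem unitsHom_apply {K R : Type*} [Field K] [Ring R] [Algebra K R] {k : ℕ} (E : Fin k → Fin k → R)
    (hmul : ∀ a b c d, E a b * E c d = if b = c then E a d else 0) (hone : ∑ a, E a a = 1)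
    (X : Matrix (Fin k) (Fin k) K) : unitsHom E hmul hone X = ∑ a, ∑ b, X a b • E a b := by
  simp [unitsHom, LinearMap.toSpanSingleton_apply]


variable {F : Type*} [Field F] [Fintype F] {n : ℕ} {F₀ : Subfield F} {ι : Type*} [Fintype ι]
  {T : ι → Matrix (Fin n) (Fin n) F}

/-- a matrix commuting with an `F`-spanning family is scalar -/
theorem scalar_of_commute_T (hspan : Submodule.span F (Set.range T) = ⊤) (z : Matrix (Fin n) (Fin n) F)
    (hz : ∀ i, z * T i = T i * z) : ∃ c : F, z = c • (1 : Matrix (Fin n) (Fin n) F) := by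
  classical
  have hall : ∀ X : Matrix (Fin n) (Fin n) F, z * X = X * z := by
    intro X
    have hX : X ∈ Submodule.span F (Set.range T) := by rw [hspan]; trivial
    induction hX using Submodule.span_induction with
    | mem X hX => obtain ⟨i, rfl⟩ := hX; exact hz i
    | zero => simp
    | add X Y _ _ h1 h2 => rw [mul_add, add_mul, h1, h2]
    | smul c X _ h => rw [mul_smul_comm, smul_mul_assoc, h]
  have h1 : z ∈ Set.range (Matrix.scalar (Fin n)) := by
    rw [Matrix.mem_range_scalar_iff_commute_single']
    intro i j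
    exact (hall _).symm
  obtain ⟨c, hc⟩ := h1
  refine ⟨c, ?_⟩
  rw [← hc, Matrix.smul_one_eq_diagonal]
  rfl

/-- **DESCENT** -/
theorem exists_conj (hn : 0 < n) (hind : LinearIndependent F T)
    (hspan : Submodule.span F (Set.range T) = ⊤)
    (hone : (1 : Matrix (Fin n) (Fin n) F) ∈ Submodule.span F₀ (Set.range T))
    (hmul : ∀ i j, T i * T j ∈ Submodule.span F₀ (Set.range T)) :
    ∃ B : GL (Fin n) F, ∀ i a b,
      ((B : Matrix (Fin n) (Fin n) F) * T i * ((B⁻¹ : GL (Fin n) F) : Matrix (Fin n) (Fin n) F)) a b ∈ F₀ := by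
  classical
  haveI hsimple : IsSimpleRing (formAlg F₀ T hone hmul) := isSimpleRing_formAlg hn hind hspan
  haveI hfin : Module.Finite F₀ (formAlg F₀ T hone hmul) := finite_formAlg hind
  haveI : IsArtinianRing (formAlg F₀ T hone hmul) := IsArtinianRing.of_finite F₀ _
  obtain ⟨k, hk, D, hD, hAlg, hDfin, ⟨e⟩⟩ :=
    IsSimpleRing.exists_algEquiv_matrix_divisionRing_finite F₀ (formAlg F₀ T hone hmul)
  haveI : Finite D := Module.finite_of_finite F₀
  have hDcomm : ∀ x y : D, x * y = y * x := fun x y => (littleWedderburn D).mul_comm x y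
  -- the scalars of `D` come from `F₀`
  have hsurj : Function.Surjective (algebraMap F₀ D) := by
    intro d
    set z : formAlg F₀ T hone hmul := e.symm (Matrix.scalar (Fin k) d) with hz
    have hzc : ∀ y : formAlg F₀ T hone hmul, z * y = y * z := by
      intro y
      apply e.injective
      rw [map_mul, map_mul, hz, AlgEquiv.apply_symm_apply]
      exact (Matrix.scalar_commute d (fun r' => hDcomm d r') (e y)).eq
    have hzT : ∀ i, (z : Matrix (Fin n) (Fin n) F) * T i = T i * (z : Matrix (Fin n) (Fin n) F) := by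
      intro i
      have := congrArg (fun y : formAlg F₀ T hone hmul => (y : Matrix (Fin n) (Fin n) F)) (hzc (TA i))
      exact this
    obtain ⟨c, hc⟩ := scalar_of_commute_T hspan _ hzT
    have hc0 : c ∈ F₀ := coeff_mem (hone := hone) (hmul := hmul) hn hind c (hc ▸ z.2)
    refine ⟨⟨c, hc0⟩, ?_⟩
    have hz2 : z = algebraMap F₀ (formAlg F₀ T hone hmul) ⟨c, hc0⟩ := by
      apply Subtype.ext
      rw [hc, Algebra.algebraMap_eq_smul_one]
      rfl
    have h3 : e z = Matrix.scalar (Fin k) d := by rw [hz, AlgEquiv.apply_symm_apply]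
    rw [hz2, AlgEquiv.commutes] at h3
    have h4 := congrFun (congrFun h3 0) 0
    rw [Matrix.algebraMap_matrix_apply, if_pos rfl, Matrix.scalar_apply, Matrix.diagonal_apply_eq] at h4
    exact h4
  -- `k = n`
  have hinj : Function.Injective (algebraMap F₀ D) := (algebraMap F₀ D).injective
  have hrankD : finrank F₀ D = 1 := by
    have e1 : F₀ ≃ₗ[F₀] D := LinearEquiv.ofBijective (Algebra.linearMap F₀ D) ⟨hinj, hsurj⟩
    rw [← e1.finrank_eq, Module.finrank_self]
  have hkn : k = n := by
    have h1 := e.toLinearEquiv.finrank_eq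
    rw [finrank_formAlg hind, card_index hind hspan, Module.finrank_matrix, hrankD] at h1
    simp only [Fintype.card_fin, mul_one] at h1
    exact (Nat.mul_self_inj.mp h1).symm
  subst hkn
  -- matrix units
  set E : Fin k → Fin k → Matrix (Fin k) (Fin k) F := fun a b =>
    ((e.symm (Matrix.single a b (1 : D)) : formAlg F₀ T hone hmul) : Matrix (Fin k) (Fin k) F) with hE
  have hEmul : ∀ a b c d, E a b * E c d = if b = c then E a d else 0 := by
    intro a b c d
    simp only [hE]
    rw [← Subalgebra.coe_mul, ← map_mul]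
    by_cases hbc : b = c
    · subst hbc
      rw [Matrix.single_mul_single_same, mul_one, if_pos rfl]
    · rw [Matrix.single_mul_single_of_ne _ _ _ _ hbc, map_zero, if_neg hbc]
      rfl
  have hEone : ∑ a, E a a = 1 := by
    simp only [hE]
    rw [← Subalgebra.coe_one (formAlg F₀ T hone hmul), ← map_one e.symm, ← Matrix.sum_single_one, map_sum]
    simp
  obtain ⟨P, hP⟩ := Cfsg.Agent.Lib.Helper10.S5630CoreSN.inner_of_algHom (unitsHom E hEmul hEone)
  refine ⟨P⁻¹, ?_⟩
  intro i
  -- coordinates of `T i`
  set Y : Matrix (Fin k) (Fin k) D := e (TA i) with hY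
  choose y hy using fun a b => hsurj (Y a b)
  have h1 : (TA i : formAlg F₀ T hone hmul) = ∑ a, ∑ b, y a b • e.symm (Matrix.single a b (1 : D)) := by
    apply e.injective
    rw [map_sum]
    simp_rw [map_sum, map_smul, AlgEquiv.apply_symm_apply]
    rw [← hY]
    conv_lhs => rw [Matrix.matrix_eq_sum_single Y]
    apply Finset.sum_congr rfl
    intro a _
    apply Finset.sum_congr rfl
    intro b _
    rw [Matrix.smul_single, Algebra.smul_def, mul_one, hy]
  have h2 : T i = unitsHom E hEmul hEone (Matrix.of fun a b => ((y a b : F₀) : F)) := by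
    rw [unitsHom_apply]
    have := congrArg (fun x : formAlg F₀ T hone hmul => (x : Matrix (Fin k) (Fin k) F)) h1
    simp only [TA] at this
    rw [this]
    simp [hE, subfield_smul]
  intro a b
  rw [h2, hP, inv_inv]
  have h3 : ((P⁻¹ : GL (Fin k) F) : Matrix (Fin k) (Fin k) F) *
      ((P : Matrix (Fin k) (Fin k) F) * (Matrix.of fun a b => ((y a b : F₀) : F)) *
        ((P⁻¹ : GL (Fin k) F) : Matrix (Fin k) (Fin k) F)) * (P : Matrix (Fin k) (Fin k) F) =
      Matrix.of fun a b => ((y a b : F₀) : F) := by
    simp only [Matrix.mul_assoc]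
    rw [← Units.val_mul, inv_mul_cancel, Units.val_one, Matrix.mul_one, ← Matrix.mul_assoc, ← Units.val_mul,
      inv_mul_cancel, Units.val_one, Matrix.one_mul]
  rw [h3]
  exact (y a b).2

end Cfsg.Agent.Lib.Helper3.FormDescent
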