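import Mathlib
import Cfsg.Prelude.Def_GeometricClasses
import Cfsg.Agent.Lib.Helper7.AschDefs
import Cfsg.Agent.Lib.Helper12.AschG1
import Cfsg.Agent.Lib.Helper3.AschC6Defs
import Cfsg.Agent.Lib.Helper3.AschC6Basic
import Cfsg.Agent.Lib.Helper3.FormDescent2

/-!
# Absolutely irreducible groups of class two modulo scalars (helper3)

`ClassTwo R`: `R ≤ GL_n(F)` absolutely irreducible with scalar commutators.  Then representatives of `R` modulo its centre
form a basis of `M_n(F)` (`span_rep'`, `linearIndependent_rep'`: helper19's proofs of R-SPAN / R-IND, which use nothing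
else), `|R / Z(R)| = n²`, and **`R` is realisable over every subfield containing the scalars of `R`**
(`realisable_of_scalars_mem`, from `FormDescent.exists_conj`: no roots of unity needed, unlike the monomial model).
-/

set_option autoImplicit false

namespace Cfsg.Agent.Lib.Helper3.AschC6

open Matrix Cfsg.Geo Cfsg.Agent.Lib.Helper7.Asch
open scoped commutatorElement

variable {F : Type*} [Field F] {n : ℕ}

/-- absolutely irreducible with scalar commutators -/
structure ClassTwo (R : Subgroup (GL (Fin n) F)) : Prop where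
  absIrr : AbsIrr R
  comm : ∀ x ∈ R, ∀ y ∈ R, ⁅x, y⁆ ∈ scalars (Fin n) F

theorem SympCore.classTwo {H R : Subgroup (GL (Fin n) F)} {r : ℕ} (hR : SympCore H R r) : ClassTwo R :=
  ⟨hR.absIrr, hR.comm⟩

/-- the centre of `R` consists of its scalars -/
theorem mem_center_iff' {R : Subgroup (GL (Fin n) F)} (hR : ClassTwo R) (x : R) :
    x ∈ Subgroup.center R ↔ (x : GL (Fin n) F) ∈ scalars (Fin n) F := by
  constructor
  · intro hx
    rw [Subgroup.mem_center_iff] at hx
    obtain ⟨c, hc⟩ := hR.absIrr.2 ((x : GL (Fin n) F) : Matrix (Fin n) (Fin n) F) (by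
      rintro s ⟨g, hg, rfl⟩
      have h1 := hx ⟨g, hg⟩
      have h2 : g * (x : GL (Fin n) F) = (x : GL (Fin n) F) * g := by
        have := congrArg (fun y : R => (y : GL (Fin n) F)) h1
        simpa using this
      rw [← Units.val_mul, ← Units.val_mul, h2])
    exact mem_scalars_of_eq_smul _ c hc
  · intro hx
    rw [Subgroup.mem_center_iff]
    intro g
    apply Subtype.ext
    rw [Subgroup.coe_mul, Subgroup.coe_mul]
    exact scalar_comm _ _ hx

variable [Fintype F] {H R : Subgroup (GL (Fin n) F)} {r : ℕ}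

/-- **R-SPAN** representatives of `R` modulo its centre span the matrix algebra (Burnside) -/
theorem span_rep' (hR : ClassTwo R) : Submodule.span F (Set.range (rep R)) = ⊤ := by
  rw [eq_top_iff, ← Cfsg.Agent.Lib.Helper12.AschG1.span_matrixSet_eq_top R hR.absIrr, Submodule.span_le]
  rintro M ⟨g, hg, rfl⟩
  obtain ⟨z, hz⟩ := QuotientGroup.mk_out_eq_mul (Subgroup.center R) (⟨g, hg⟩ : R)
  have hzS : ((z⁻¹ : Subgroup.center R) : R).1 ∈ scalars (Fin n) F :=
    (mem_center_iff' hR _).1 (z⁻¹).2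
  obtain ⟨c, hc⟩ := (mem_scalars_iff _).1 hzS
  have e1 : (⟨g, hg⟩ : R) = (QuotientGroup.mk (s := Subgroup.center R) (⟨g, hg⟩ : R)).out *
      ((z⁻¹ : Subgroup.center R) : R) := by
    rw [hz]; simp
  have e2 : g = ((QuotientGroup.mk (s := Subgroup.center R) (⟨g, hg⟩ : R)).out : R).1 *
      ((z⁻¹ : Subgroup.center R) : R).1 := congrArg Subtype.val e1
  have e3 : (g : Matrix (Fin n) (Fin n) F) =
      (c : F) • rep R (QuotientGroup.mk (s := Subgroup.center R) (⟨g, hg⟩ : R)) := by
    conv_lhs => rw [e2]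
    rw [Units.val_mul, hc, Matrix.mul_smul, mul_one]
    rfl
  change (g : Matrix (Fin n) (Fin n) F) ∈ _
  rw [e3]
  exact Submodule.smul_mem _ _ (Submodule.subset_span ⟨_, rfl⟩)

/-- a scalar matrix is its `(i, i)` entry times `1` -/
theorem scalar_eq_entry (z : GL (Fin n) F) (hz : z ∈ scalars (Fin n) F) (i : Fin n) :
    (z : Matrix (Fin n) (Fin n) F) = ((z : Matrix (Fin n) (Fin n) F) i i) • (1 : Matrix (Fin n) (Fin n) F) := by
  obtain ⟨c, hc⟩ := (mem_scalars_iff z).1 hz
  rw [hc]
  simp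

/-- conjugation by `y` as an endomorphism of the matrix algebra -/
def conjEnd (y : GL (Fin n) F) : Module.End F (Matrix (Fin n) (Fin n) F) :=
  (LinearMap.mulLeft F (y : Matrix (Fin n) (Fin n) F)).comp
    (LinearMap.mulRight F ((y⁻¹ : GL (Fin n) F) : Matrix (Fin n) (Fin n) F))

theorem conjEnd_apply (y : GL (Fin n) F) (X : Matrix (Fin n) (Fin n) F) :
    conjEnd y X = (y : Matrix (Fin n) (Fin n) F) * (X * ((y⁻¹ : GL (Fin n) F) : Matrix (Fin n) (Fin n) F)) := rfl

/-- **R-IND** representatives of `R` modulo its centre are linearly independent -/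
theorem linearIndependent_rep' (hn : 2 ≤ n) (hR : ClassTwo R) : LinearIndependent F (rep R) := by
  have i0 : Fin n := ⟨0, by omega⟩
  have hnz : ∀ g : GL (Fin n) F, (g : Matrix (Fin n) (Fin n) F) ≠ 0 := by
    intro g h0
    have h1 : (1 : Matrix (Fin n) (Fin n) F) = 0 := by
      rw [← Units.mul_inv g, h0, zero_mul]
    have := congrFun (congrFun h1 i0) i0
    simp at this
  refine linearIndependent_of_separating (K := F) (κ := R)
    (fun y : R => conjEnd (y : GL (Fin n) F)) (rep R)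
    (fun (y : R) (q : R ⧸ Subgroup.center R) =>
      ((⁅(y : GL (Fin n) F), ((q.out : R) : GL (Fin n) F)⁆ : GL (Fin n) F) : Matrix (Fin n) (Fin n) F) i0 i0)
    (fun q => hnz _) ?_ ?_
  · intro y q
    have hS : ⁅(y : GL (Fin n) F), ((q.out : R) : GL (Fin n) F)⁆ ∈ scalars (Fin n) F :=
      hR.comm _ y.2 _ (q.out).2
    have e1 := scalar_eq_entry _ hS i0
    have e2 : (y : GL (Fin n) F) * ((q.out : R) : GL (Fin n) F) * (y : GL (Fin n) F)⁻¹ =
        ⁅(y : GL (Fin n) F), ((q.out : R) : GL (Fin n) F)⁆ * ((q.out : R) : GL (Fin n) F) := by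
      rw [commutatorElement_def]; group
    have e3 := congrArg (fun g : GL (Fin n) F => (g : Matrix (Fin n) (Fin n) F)) e2
    simp only [Units.val_mul] at e3
    rw [conjEnd_apply, ← mul_assoc]
    unfold rep
    rw [e3]
    conv_lhs => rw [e1]
    rw [Matrix.smul_mul, one_mul]
  · intro q q' hqq'
    by_contra hcon
    push Not at hcon
    set t : R := q.out with ht
    set t' : R := q'.out with ht'
    have hw : t⁻¹ * t' ∉ Subgroup.center R := by
      intro hmem
      apply hqq'
      have := (QuotientGroup.eq (s := Subgroup.center R) (a := t) (b := t')).2 hmem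
      rw [ht, ht', QuotientGroup.out_eq', QuotientGroup.out_eq'] at this
      exact this
    rw [Subgroup.mem_center_iff] at hw
    push Not at hw
    obtain ⟨y, hy⟩ := hw
    have hSt : ⁅(y : GL (Fin n) F), (t : GL (Fin n) F)⁆ ∈ scalars (Fin n) F := hR.comm _ y.2 _ t.2
    have hSt' : ⁅(y : GL (Fin n) F), (t' : GL (Fin n) F)⁆ ∈ scalars (Fin n) F := hR.comm _ y.2 _ t'.2
    have hSw : ⁅(y : GL (Fin n) F), ((t⁻¹ * t' : R) : GL (Fin n) F)⁆ ∈ scalars (Fin n) F :=
      hR.comm _ y.2 _ (t⁻¹ * t').2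
    have heq : ⁅(y : GL (Fin n) F), (t : GL (Fin n) F)⁆ = ⁅(y : GL (Fin n) F), (t' : GL (Fin n) F)⁆ := by
      apply Units.ext
      rw [scalar_eq_entry _ hSt i0, scalar_eq_entry _ hSt' i0]
      congr 1
      exact hcon y
    have e4 : ⁅(y : GL (Fin n) F), (t' : GL (Fin n) F)⁆ =
        ⁅(y : GL (Fin n) F), (t : GL (Fin n) F)⁆ *
          ((t : GL (Fin n) F) * ⁅(y : GL (Fin n) F), ((t⁻¹ * t' : R) : GL (Fin n) F)⁆ * (t : GL (Fin n) F)⁻¹) := by
      simp only [commutatorElement_def, Subgroup.coe_mul, Subgroup.coe_inv]; group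
    rw [scalar_comm _ (t : GL (Fin n) F) hSw, mul_inv_cancel_right, ← heq] at e4
    have e5 : ⁅(y : GL (Fin n) F), ((t⁻¹ * t' : R) : GL (Fin n) F)⁆ = 1 := by
      have := e4.symm
      exact mul_eq_left.mp this
    rw [commutatorElement_eq_one_iff_mul_comm] at e5
    apply hy
    apply Subtype.ext
    rw [Subgroup.coe_mul, Subgroup.coe_mul]
    exact e5


/-- every element of `R` is an `F₀`-multiple of the representative of its class, when the scalars of `R` lie in `F₀` -/
theorem eq_smul_rep (hR : ClassTwo R) (F₀ : Subfield F)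
    (hsc : ∀ x ∈ R, ∀ c : F, (x : Matrix (Fin n) (Fin n) F) = c • (1 : Matrix (Fin n) (Fin n) F) → c ∈ F₀)
    (g : GL (Fin n) F) (hg : g ∈ R) :
    ∃ c : F₀, (g : Matrix (Fin n) (Fin n) F) =
      (c : F) • rep R (QuotientGroup.mk (⟨g, hg⟩ : R) : R ⧸ Subgroup.center R) := by
  set q : R ⧸ Subgroup.center R := QuotientGroup.mk (⟨g, hg⟩ : R) with hq
  set t : R := q.out with ht
  have h1 : (QuotientGroup.mk t : R ⧸ Subgroup.center R) = QuotientGroup.mk (⟨g, hg⟩ : R) := Quotient.out_eq' q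
  have h2 : t⁻¹ * ⟨g, hg⟩ ∈ Subgroup.center R := QuotientGroup.eq.mp h1
  have h3 := (mem_center_iff' hR _).mp h2
  rw [mem_scalars_iff] at h3
  obtain ⟨c, hc⟩ := h3
  have hc0 : (c : F) ∈ F₀ := hsc _ (t⁻¹ * ⟨g, hg⟩ : R).2 _ hc
  refine ⟨⟨c, hc0⟩, ?_⟩
  have h4 : g = (t : GL (Fin n) F) * ((t⁻¹ * ⟨g, hg⟩ : R) : GL (Fin n) F) := by simp
  have h5 := congrArg (fun z : GL (Fin n) F => (z : Matrix (Fin n) (Fin n) F)) h4
  simp only [Units.val_mul] at h5
  rw [hc] at h5
  rw [h5, Matrix.mul_smul, Matrix.mul_one]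
  rfl

/-- **an absolutely irreducible group of class two modulo scalars is realisable over every subfield containing its
scalars** -/
theorem realisable_of_scalars_mem (hn : 2 ≤ n) (hR : ClassTwo R) (F₀ : Subfield F)
    (hsc : ∀ x ∈ R, ∀ c : F, (x : Matrix (Fin n) (Fin n) F) = c • (1 : Matrix (Fin n) (Fin n) F) → c ∈ F₀) :
    RealisableOver F₀ (matrixSet R) := by
  classical
  haveI : Fintype (R ⧸ Subgroup.center R) := Fintype.ofFinite _
  have hind := linearIndependent_rep' hn hR
  have hspan := span_rep' hR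
  have hmem : ∀ g : GL (Fin n) F, g ∈ R →
      (g : Matrix (Fin n) (Fin n) F) ∈ Submodule.span F₀ (Set.range (rep R)) := by
    intro g hg
    obtain ⟨c, hc⟩ := eq_smul_rep hR F₀ hsc g hg
    rw [hc]
    exact Submodule.smul_mem _ c (Submodule.subset_span ⟨_, rfl⟩)
  have hone : (1 : Matrix (Fin n) (Fin n) F) ∈ Submodule.span F₀ (Set.range (rep R)) := by
    have := hmem 1 R.one_mem
    simpa using this
  have hmul : ∀ i j, rep R i * rep R j ∈ Submodule.span F₀ (Set.range (rep R)) := by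
    intro i j
    have := hmem ((i.out : R) * (j.out : R) : R) (R.mul_mem (i.out : R).2 (j.out : R).2)
    simpa [rep] using this
  obtain ⟨B, hB⟩ := FormDescent.exists_conj (F₀ := F₀) (by omega) hind hspan hone hmul
  refine ⟨B, ?_⟩
  rintro s ⟨g, hg, rfl⟩ a b
  obtain ⟨c, hc⟩ := eq_smul_rep hR F₀ hsc g hg
  show ((B : Matrix (Fin n) (Fin n) F) * (g : Matrix (Fin n) (Fin n) F) *
    ((B⁻¹ : GL (Fin n) F) : Matrix (Fin n) (Fin n) F)) a b ∈ F₀
  rw [hc, Matrix.mul_smul, Matrix.smul_mul, Matrix.smul_apply, smul_eq_mul]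
  exact F₀.mul_mem c.2 (hB _ a b)

end Cfsg.Agent.Lib.Helper3.AschC6
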