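import Mathlib
import Cfsg.Prelude.Def_GeometricClasses
import Cfsg.Agent.Lib.Helper7.AschDefs
import Cfsg.Agent.Lib.Helper16.SpADefs
import Cfsg.Agent.Lib.Helper14.S5630CoreAB
import Cfsg.Agent.Lib.Helper3.ClassTwo
import Cfsg.Agent.Lib.Helper3.AschC6Count

/-!
# The symplectic-type case for the isometry group of ANY non-degenerate bilinear form (helper3)

Generic copy of `Lib/Helper3/SpC6Basic` + `SpC6Struct` (S5662 block SpI6): `f` bilinear and non-degenerate (alternating or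
symmetric), `N ≤ Iso f` (helper16's `SpA.Iso f`, the isometry group of a two-argument form) absolutely irreducible with scalar
commutators (`ClassTwo N`), `2 ≤ n`.  Then the scalars of `N` are `±1`, `-1 ∈ N`, `2 ≠ 0` in `F`, a prime `r` with `x ^ r`
scalar on `N` is `2`, `x ^ 4 = 1`, `|Z(N)| = 2`, `|N| = 2n²`, `n = 2^k`, `|N| = 2^(1+2k)`, the exponent is `4`, and `N` is of
symplectic type when it is minimal among the non-scalar `H`-invariant subgroups.
-/

set_option autoImplicit false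

namespace Cfsg.Agent.Lib.Helper3.FormC6

open Matrix Cfsg.Geo Cfsg.Agent.Lib.Helper7.Asch Cfsg.Agent.Lib.Helper16.SpA Cfsg.Agent.Lib.Helper3.AschC6
open scoped commutatorElement

variable {F : Type*} [Field F] {n : ℕ} {f : (Fin n → F) → (Fin n → F) → F}

/-- a scalar isometry of a non-degenerate bilinear form has square one -/
theorem sq_eq_one_of_scalar_iso (hb : IsBilinearForm f) (hnd : IsNondegenerateForm f) (hn : 0 < n) (g : GL (Fin n) F) (hg : g ∈ Iso f) (c : F)
    (hc : (g : Matrix (Fin n) (Fin n) F) = c • (1 : Matrix (Fin n) (Fin n) F)) : c ^ 2 = 1 := by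
  let v : Fin n → F := Pi.single ⟨0, hn⟩ 1
  have hv : v ≠ 0 := by
    intro h
    have := congrFun h ⟨0, hn⟩
    simp [v] at this
  obtain ⟨⟨x, hx⟩, -⟩ := hnd v hv
  have h1 := hg x v
  rw [hc, Matrix.smul_mulVec, Matrix.one_mulVec, Matrix.smul_mulVec, Matrix.one_mulVec, hb.smul_left,
    hb.smul_right] at h1
  have h2 : (c ^ 2 - 1) * f x v = 0 := by
    rw [sub_mul, one_mul, pow_two, mul_assoc, h1, sub_self]
  rcases mul_eq_zero.mp h2 with h | h
  · exact sub_eq_zero.mp h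
  · exact absurd h hx

/-- a scalar isometry is `1` or `-1` -/
theorem eq_one_or_neg_one_of_scalar_iso (hb : IsBilinearForm f) (hnd : IsNondegenerateForm f) (hn : 0 < n) (g : GL (Fin n) F) (hg : g ∈ Iso f)
    (hs : g ∈ scalars (Fin n) F) : g = 1 ∨ g = -1 := by
  obtain ⟨c, hc⟩ := (mem_scalars_iff _).mp hs
  have h1 := sq_eq_one_of_scalar_iso hb hnd hn g hg c hc
  have h2 : ((c : F) - 1) * ((c : F) + 1) = 0 := by
    have : ((c : F) - 1) * ((c : F) + 1) = (c : F) ^ 2 - 1 := by ring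
    rw [this, h1, sub_self]
  rcases mul_eq_zero.mp h2 with h | h
  · left
    apply Units.ext
    rw [hc, sub_eq_zero.mp h, one_smul]
    rfl
  · right
    apply Units.ext
    rw [hc, eq_neg_of_add_eq_zero_left h, Units.val_neg, neg_smul, one_smul]
    rfl

variable {N : Subgroup (GL (Fin n) F)}

/-- an absolutely irreducible group in dimension at least two is not commutative -/
theorem exists_comm_ne_one (hn : 2 ≤ n) (hN : AbsIrr N) : ∃ x ∈ N, ∃ y ∈ N, ⁅x, y⁆ ≠ 1 := by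
  by_contra hcon
  push Not at hcon
  refine Cfsg.Agent.Lib.Helper14.S5630Core.not_absIrr_of_comm hn N ?_ hN
  intro x hx y hy
  exact commutatorElement_eq_one_iff_mul_comm.mp (hcon x hx y hy)

theorem comm_mem {x y : GL (Fin n) F} (hx : x ∈ N) (hy : y ∈ N) : ⁅x, y⁆ ∈ N := by
  rw [commutatorElement_def]
  exact N.mul_mem (N.mul_mem (N.mul_mem hx hy) (N.inv_mem hx)) (N.inv_mem hy)

/-- every commutator of `N` is `1` or `-1` -/
theorem comm_eq (hb : IsBilinearForm f) (hnd : IsNondegenerateForm f) (hn : 0 < n) (hNI : N ≤ Iso f)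
    (hcomm : ∀ x ∈ N, ∀ y ∈ N, ⁅x, y⁆ ∈ scalars (Fin n) F) {x y : GL (Fin n) F} (hx : x ∈ N) (hy : y ∈ N) :
    ⁅x, y⁆ = 1 ∨ ⁅x, y⁆ = -1 :=
  eq_one_or_neg_one_of_scalar_iso hb hnd hn _ (hNI (comm_mem hx hy)) (hcomm x hx y hy)

/-- there are `x, y ∈ N` with `⁅x, y⁆ = -1`, and `-1 ≠ 1` in `GL` -/
theorem exists_comm_eq_neg_one (hb : IsBilinearForm f) (hnd : IsNondegenerateForm f) (hn : 2 ≤ n) (hNI : N ≤ Iso f) (hN : ClassTwo N) :
    ∃ x ∈ N, ∃ y ∈ N, ⁅x, y⁆ = -1 ∧ (-1 : GL (Fin n) F) ≠ 1 := by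
  obtain ⟨x, hx, y, hy, hxy⟩ := exists_comm_ne_one hn hN.absIrr
  rcases comm_eq hb hnd (by omega) hNI hN.comm hx hy with h | h
  · exact absurd h hxy
  · exact ⟨x, hx, y, hy, h, fun h1 => hxy (h.trans h1)⟩

theorem neg_one_mem (hb : IsBilinearForm f) (hnd : IsNondegenerateForm f) (hn : 2 ≤ n) (hNI : N ≤ Iso f) (hN : ClassTwo N) :
    (-1 : GL (Fin n) F) ∈ N := by
  obtain ⟨x, hx, y, hy, hxy, -⟩ := exists_comm_eq_neg_one hb hnd hn hNI hN
  rw [← hxy]
  exact comm_mem hx hy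

theorem neg_one_ne_one (hb : IsBilinearForm f) (hnd : IsNondegenerateForm f) (hn : 2 ≤ n) (hNI : N ≤ Iso f) (hN : ClassTwo N) :
    (-1 : GL (Fin n) F) ≠ 1 := by
  obtain ⟨x, hx, y, hy, -, h⟩ := exists_comm_eq_neg_one hb hnd hn hNI hN
  exact h

/-- the characteristic is not two -/
theorem two_ne_zero' (hb : IsBilinearForm f) (hnd : IsNondegenerateForm f) (hn : 2 ≤ n) (hNI : N ≤ Iso f) (hN : ClassTwo N) : (2 : F) ≠ 0 := by
  intro h2
  apply neg_one_ne_one hb hnd hn hNI hN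
  apply Units.ext
  rw [Units.val_neg, Units.val_one]
  have h3 : (-1 : F) = 1 := by
    rw [neg_eq_iff_add_eq_zero]
    rw [← h2]
    norm_num
  ext i j
  by_cases hij : i = j
  · subst hij
    simp [h3]
  · simp [hij]

theorem neg_one_mem_scalars : (-1 : GL (Fin n) F) ∈ scalars (Fin n) F := by
  apply mem_scalars_of_eq_smul _ (-1)
  rw [Units.val_neg, Units.val_one, neg_smul, one_smul]

/-- conjugation by `x ^ k` when `x y x⁻¹ = -y` -/
theorem conj_pow_of_neg (x y : GL (Fin n) F) (h : x * y * x⁻¹ = -y) (k : ℕ) :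
    x ^ k * y * (x ^ k)⁻¹ = (-1) ^ k * y := by
  induction k with
  | zero => simp
  | succ k ih =>
    have h1 : x ^ (k + 1) * y * (x ^ (k + 1))⁻¹ = x * (x ^ k * y * (x ^ k)⁻¹) * x⁻¹ := by
      rw [pow_succ']
      group
    rw [h1, ih]
    have h2 : x * ((-1) ^ k * y) * x⁻¹ = (-1) ^ k * (x * y * x⁻¹) := by
      rcases neg_one_pow_eq_or (GL (Fin n) F) k with h3 | h3
      · rw [h3, one_mul, one_mul]
      · rw [h3, neg_one_mul, neg_one_mul, mul_neg, neg_mul]
    rw [h2, h, pow_succ]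
    simp

/-- **`r = 2`** -/
theorem r_eq_two (hb : IsBilinearForm f) (hnd : IsNondegenerateForm f) (hn : 2 ≤ n) (hNI : N ≤ Iso f) (hN : ClassTwo N) (r : ℕ) (hr : r.Prime)
    (hpow : ∀ x ∈ N, x ^ r ∈ scalars (Fin n) F) : r = 2 := by
  obtain ⟨x, hx, y, hy, hxy, hne⟩ := exists_comm_eq_neg_one hb hnd hn hNI hN
  have h1 : x * y * x⁻¹ = -y := by
    have : x * y * x⁻¹ = ⁅x, y⁆ * y := by rw [commutatorElement_def]; group
    rw [this, hxy, neg_one_mul]
  have h2 := conj_pow_of_neg x y h1 r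
  have h3 : x ^ r * y * (x ^ r)⁻¹ = y := by
    rw [← scalar_comm _ y (hpow x hx)]
    group
  rw [h3] at h2
  have h4 : ((-1 : GL (Fin n) F)) ^ r = 1 := by
    have := congrArg (fun z => z * y⁻¹) h2
    simp only [mul_inv_cancel, mul_assoc] at this
    simpa using this.symm
  rcases hr.eq_two_or_odd' with h | h
  · exact h
  · exfalso
    rw [h.neg_one_pow] at h4
    exact hne h4


/-- every scalar of `N` is `±1` -/
theorem scalar_eq (hb : IsBilinearForm f) (hnd : IsNondegenerateForm f) (hn : 0 < n) (hNI : N ≤ Iso f) {z : GL (Fin n) F} (hz : z ∈ N)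
    (hs : z ∈ scalars (Fin n) F) : z = 1 ∨ z = -1 :=
  eq_one_or_neg_one_of_scalar_iso hb hnd hn z (hNI hz) hs

/-- `x ^ 4 = 1` on `N` -/
theorem pow_four (hb : IsBilinearForm f) (hnd : IsNondegenerateForm f) (hn : 0 < n) (hNI : N ≤ Iso f)
    (hsq : ∀ x ∈ N, x ^ 2 ∈ scalars (Fin n) F) {x : GL (Fin n) F} (hx : x ∈ N) : x ^ 4 = 1 := by
  have h4 : x ^ 4 = (x ^ 2) ^ 2 := by rw [← pow_mul]
  rw [h4]
  rcases scalar_eq hb hnd hn hNI (N.pow_mem hx 2) (hsq x hx) with h | h
  · rw [h, one_pow]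
  · rw [h]; simp

theorem isPGroup_two (hb : IsBilinearForm f) (hnd : IsNondegenerateForm f) (hn : 0 < n) (hNI : N ≤ Iso f)
    (hsq : ∀ x ∈ N, x ^ 2 ∈ scalars (Fin n) F) : IsPGroup 2 N := by
  intro x
  refine ⟨2, ?_⟩
  apply Subtype.ext
  have := pow_four hb hnd hn hNI hsq x.2
  simpa using this

/-- the centre of `N` has order two -/
theorem card_center (hb : IsBilinearForm f) (hnd : IsNondegenerateForm f) (hn : 2 ≤ n) (hNI : N ≤ Iso f) (hN : ClassTwo N) :
    Nat.card (Subgroup.center N) = 2 := by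
  have hm := neg_one_mem hb hnd hn hNI hN
  have hne := neg_one_ne_one hb hnd hn hNI hN
  rw [Nat.card_eq_two_iff]
  have h1 : (1 : N) ∈ Subgroup.center N := Subgroup.one_mem _
  have h2 : (⟨-1, hm⟩ : N) ∈ Subgroup.center N := (mem_center_iff' hN _).mpr neg_one_mem_scalars
  refine ⟨⟨1, h1⟩, ⟨⟨-1, hm⟩, h2⟩, ?_, ?_⟩
  · intro h
    have h3 := congrArg (fun z : Subgroup.center N => ((z : N) : GL (Fin n) F)) h
    exact hne h3.symm
  · ext z
    simp only [Set.mem_insert_iff, Set.mem_singleton_iff, Set.mem_univ, iff_true]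
    have h3 := (mem_center_iff' hN (z : N)).mp z.2
    rcases scalar_eq hb hnd (by omega) hNI (z : N).2 h3 with h | h
    · left
      apply Subtype.ext
      apply Subtype.ext
      exact h
    · right
      apply Subtype.ext
      apply Subtype.ext
      exact h

variable [Fintype F]

/-- `|N| = 2 n²` -/
theorem card_N (hb : IsBilinearForm f) (hnd : IsNondegenerateForm f) (hn : 2 ≤ n) (hNI : N ≤ Iso f) (hN : ClassTwo N) :
    Nat.card N = 2 * n ^ 2 := by
  rw [card_eq_of (linearIndependent_rep' hn hN) (span_rep' hN), card_center hb hnd hn hNI hN]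

/-- `n = 2 ^ k` and `|N| = 2 ^ (1 + 2k)` -/
theorem exists_k (hb : IsBilinearForm f) (hnd : IsNondegenerateForm f) (hn : 2 ≤ n) (hNI : N ≤ Iso f) (hN : ClassTwo N)
    (hsq : ∀ x ∈ N, x ^ 2 ∈ scalars (Fin n) F) : ∃ k : ℕ, n = 2 ^ k ∧ Nat.card N = 2 ^ (1 + 2 * k) := by
  haveI : Fact (Nat.Prime 2) := ⟨Nat.prime_two⟩
  obtain ⟨a, ha⟩ := IsPGroup.iff_card.mp (isPGroup_two hb hnd (by omega) hNI hsq)
  have h1 := card_N hb hnd hn hNI hN
  rw [ha] at h1
  have h2 : n ∣ 2 ^ a := by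
    rw [h1]
    exact Dvd.dvd.mul_left (dvd_pow_self n (by omega)) _
  obtain ⟨k, _, hk⟩ := (Nat.dvd_prime_pow Nat.prime_two).mp h2
  refine ⟨k, hk, ?_⟩
  rw [card_N hb hnd hn hNI hN, hk]
  ring

/-- the exponent of `N` is four -/
theorem exponent_eq (hb : IsBilinearForm f) (hnd : IsNondegenerateForm f) (hn : 2 ≤ n) (hNI : N ≤ Iso f) (hN : ClassTwo N)
    (hsq : ∀ x ∈ N, x ^ 2 ∈ scalars (Fin n) F) : Monoid.exponent N = 4 := by
  have hdvd : Monoid.exponent N ∣ 4 := by
    apply Monoid.exponent_dvd_of_forall_pow_eq_one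
    intro x
    apply Subtype.ext
    have := pow_four hb hnd (by omega) hNI hsq x.2
    simpa using this
  by_contra hne
  have h2 : Monoid.exponent N ∣ 2 := by
    have h4 : (4 : ℕ) = 2 ^ 2 := by norm_num
    rw [h4] at hdvd
    obtain ⟨k, hk, hk'⟩ := (Nat.dvd_prime_pow Nat.prime_two).1 hdvd
    interval_cases k
    · rw [hk']; norm_num
    · rw [hk']; norm_num
    · exact absurd hk' (by rw [← h4]; exact hne)
  have hsq1 : ∀ x ∈ N, x * x = 1 := by
    intro x hx
    have h1 : (⟨x, hx⟩ : N) ^ Monoid.exponent N = 1 := Monoid.pow_exponent_eq_one _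
    obtain ⟨t, ht⟩ := h2
    have h3 : (⟨x, hx⟩ : N) ^ 2 = 1 := by rw [ht, pow_mul, h1, one_pow]
    have h4 := congrArg (Subtype.val) h3
    simpa [pow_two] using h4
  have hcomm : ∀ x ∈ N, ∀ y ∈ N, x * y = y * x := by
    intro x hx y hy
    have hxy := hsq1 (x * y) (N.mul_mem hx hy)
    have hx2 := hsq1 x hx
    have hy2 := hsq1 y hy
    have e1 : x * y = (x * y)⁻¹ := eq_inv_of_mul_eq_one_left hxy
    have e2 : x = x⁻¹ := eq_inv_of_mul_eq_one_left hx2
    have e3 : y = y⁻¹ := eq_inv_of_mul_eq_one_left hy2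
    rw [e1, _root_.mul_inv_rev, ← e2, ← e3]
  exact Cfsg.Agent.Lib.Helper14.S5630Core.not_absIrr_of_comm hn N hcomm hN.absIrr

/-- every characteristic abelian subgroup of `N` is cyclic -/
theorem cyclic_of_char (hb : IsBilinearForm f) (hnd : IsNondegenerateForm f) (hn : 2 ≤ n) (hNI : N ≤ Iso f) (hN : ClassTwo N)
    (H : Subgroup (GL (Fin n) F)) (hnorm : NormBy H N)
    (hmin : ∀ K : Subgroup (GL (Fin n) F), K ≤ N → NormBy H K → K ≤ scalars (Fin n) F ∨ K = N) :
    ∀ A : Subgroup N, A.Characteristic → IsMulCommutative A → IsCyclic A := by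
  intro A hchar hcommA
  have hfix : ∀ (h : GL (Fin n) F) (hh : h ∈ H), ∀ x : N, x ∈ A → (⟨h * x * h⁻¹, hnorm h hh x x.2⟩ : N) ∈ A := by
    intro h hh x hx
    have hh' : h⁻¹ ∈ H := H.inv_mem hh
    let φ : N ≃* N :=
      { toFun := fun y => ⟨h * y * h⁻¹, hnorm h hh y y.2⟩
        invFun := fun y => ⟨h⁻¹ * y * h, by simpa using hnorm h⁻¹ hh' y y.2⟩
        left_inv := fun y => by apply Subtype.ext; simp only; group
        right_inv := fun y => by apply Subtype.ext; simp only; group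
        map_mul' := fun y z => by apply Subtype.ext; simp only [Subgroup.coe_mul]; group }
    have := hchar.fixed φ
    have hx' : x ∈ A.comap φ.toMonoidHom := by rw [this]; exact hx
    exact hx'
  have hA'n : NormBy H (A.map N.subtype) := by
    rintro h hh _ ⟨x, hx, rfl⟩
    exact ⟨⟨h * x * h⁻¹, hnorm h hh x x.2⟩, hfix h hh x hx, rfl⟩
  have hA'N : A.map N.subtype ≤ N := by
    rintro _ ⟨x, _, rfl⟩
    exact x.2
  have hA'c : ∀ a ∈ A.map N.subtype, ∀ b ∈ A.map N.subtype, a * b = b * a := by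
    rintro _ ⟨x, hx, rfl⟩ _ ⟨y, hy, rfl⟩
    have := hcommA.is_comm.comm (⟨x, hx⟩ : A) ⟨y, hy⟩
    have h2 := congrArg (fun z : A => ((z : N) : GL (Fin n) F)) this
    simpa using h2
  have hA'S : A.map N.subtype ≤ scalars (Fin n) F := by
    rcases hmin _ hA'N hA'n with h1 | h1
    · exact h1
    · exfalso
      rw [h1] at hA'c
      exact Cfsg.Agent.Lib.Helper14.S5630Core.not_absIrr_of_comm hn N hA'c hN.absIrr
  have hle : A ≤ Subgroup.center N := by
    intro x hx
    exact (mem_center_iff' hN x).mpr (hA'S ⟨x, hx, rfl⟩)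
  haveI : IsCyclic (Subgroup.center N) := by
    haveI : Fact (Nat.Prime 2) := ⟨Nat.prime_two⟩
    exact isCyclic_of_prime_card (p := 2) (card_center hb hnd hn hNI hN)
  let g : A →* Subgroup.center N := Subgroup.inclusion hle
  exact isCyclic_of_injective g (Subgroup.inclusion_injective hle)

/-- `N` is a `2`-group of symplectic type -/
theorem isSymplecticTypeGroup (hb : IsBilinearForm f) (hnd : IsNondegenerateForm f) (hn : 2 ≤ n) (hNI : N ≤ Iso f) (hN : ClassTwo N)
    (hsq : ∀ x ∈ N, x ^ 2 ∈ scalars (Fin n) F) (H : Subgroup (GL (Fin n) F)) (hnorm : NormBy H N)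
    (hmin : ∀ K : Subgroup (GL (Fin n) F), K ≤ N → NormBy H K → K ≤ scalars (Fin n) F ∨ K = N) :
    IsSymplecticTypeGroup 2 N where
  prime := Nat.prime_two
  pGroup := isPGroup_two hb hnd (by omega) hNI hsq
  cyclic_of_characteristic := cyclic_of_char hb hnd hn hNI hN H hnorm hmin
  exponent_eq := by
    rw [exponent_eq hb hnd hn hNI hN hsq, Nat.gcd_self]

end Cfsg.Agent.Lib.Helper3.FormC6
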