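import Mathlib
import Cfsg.Prelude.Def_GeometricClasses
import Cfsg.Agent.Lib.Helper7.AschDefs
import Cfsg.Agent.Lib.Helper16.SpADefs
import Cfsg.Agent.Lib.Helper3.FormC6

/-!
# Non-central involutions and isometric halves (helper3)

`f` a non-degenerate bilinear form on `F^n`, `N ≤ Iso f` absolutely irreducible with scalar commutators and scalar squares,
`4 ≤ n`.  Then `N` has a non-central involution `a`; `F^n = V⁺(a) ⊕ V⁻(a)` is an `f`-orthogonal decomposition and some
`y ∈ N` with `y a y⁻¹ = -a` exchanges the two eigenspaces.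
-/

set_option autoImplicit false

namespace Cfsg.Agent.Lib.Helper3.FormC6

open Matrix Cfsg.Geo Cfsg.Agent.Lib.Helper7.Asch Cfsg.Agent.Lib.Helper16.SpA Cfsg.Agent.Lib.Helper3.AschC6
open scoped commutatorElement

variable {F : Type*} [Field F] {n : ℕ} {f : (Fin n → F) → (Fin n → F) → F} {N : Subgroup (GL (Fin n) F)}

/-- two elements of `N` commute or anticommute -/
theorem comm_or_anticomm (hb : IsBilinearForm f) (hnd : IsNondegenerateForm f) (hn : 0 < n) (hNI : N ≤ Iso f)
    (hcomm : ∀ x ∈ N, ∀ y ∈ N, ⁅x, y⁆ ∈ scalars (Fin n) F) {g x : GL (Fin n) F} (hg : g ∈ N) (hx : x ∈ N) :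
    g * x = x * g ∨ g * x = -(x * g) := by
  rcases comm_eq hb hnd hn hNI hcomm hg hx with h | h
  · left
    exact commutatorElement_eq_one_iff_mul_comm.mp h
  · right
    have h1 : g * x = ⁅g, x⁆ * (x * g) := by
      rw [commutatorElement_def]
      group
    rw [h1, h, neg_one_mul]

/-- the square of an element of `N` is `1` or `-1` -/
theorem sq_eq (hb : IsBilinearForm f) (hnd : IsNondegenerateForm f) (hn : 0 < n) (hNI : N ≤ Iso f)
    (hsq : ∀ x ∈ N, x ^ 2 ∈ scalars (Fin n) F) {g : GL (Fin n) F} (hg : g ∈ N) : g * g = 1 ∨ g * g = -1 := by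
  have := scalar_eq hb hnd hn hNI (N.pow_mem hg 2) (hsq g hg)
  rwa [pow_two] at this

variable [Fintype F]

/-- **`N` has a non-central involution** -/
theorem exists_noncentral_involution (hb : IsBilinearForm f) (hnd : IsNondegenerateForm f) (hn : 4 ≤ n)
    (hNI : N ≤ Iso f) (hN : ClassTwo N) (hsq : ∀ x ∈ N, x ^ 2 ∈ scalars (Fin n) F) :
    ∃ a ∈ N, a * a = 1 ∧ a ∉ scalars (Fin n) F := by
  classical
  by_contra hcon
  push Not at hcon
  have hn0 : 0 < n := by omega
  have hn2 : 2 ≤ n := by omega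
  obtain ⟨x, hx, y, hy, hxy, hne⟩ := exists_comm_eq_neg_one hb hnd hn2 hNI hN
  have hm1 : (-1 : GL (Fin n) F) ∈ N := neg_one_mem hb hnd hn2 hNI hN
  -- a non-scalar element of `N` has square `-1`
  have hsqm : ∀ g ∈ N, g ∉ scalars (Fin n) F → g * g = -1 := by
    intro g hg hgs
    rcases sq_eq hb hnd hn0 hNI hsq hg with h | h
    · exact absurd (hcon g hg h) hgs
    · exact h
  have hxs : x ∉ scalars (Fin n) F := by
    intro h
    apply hne
    rw [← hxy]
    have := scalar_comm x y h
    rw [commutatorElement_def, ← this]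
    group
  have hyx : y * x = -(x * y) := by
    rcases comm_or_anticomm hb hnd hn0 hNI hN.comm hy hx with h | h
    · exfalso
      apply hne
      rw [← hxy, commutatorElement_def, ← h]
      group
    · exact h
  -- the centraliser of `x` in `N` is at least half of `N`
  haveI : Fintype N := Fintype.ofFinite _
  let S : Finset N := Finset.univ.filter (fun g : N => (g : GL (Fin n) F) * x = x * g)
  have hhalf : Fintype.card N ≤ 2 * S.card := by
    have h1 : (Finset.univ.filter (fun g : N => ¬ (g : GL (Fin n) F) * x = x * g)).card ≤ S.card := by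
      apply Finset.card_le_card_of_injOn (fun g : N => g * ⟨y, hy⟩)
      · intro g hg
        have hg' : ¬ (g : GL (Fin n) F) * x = x * g := by simpa using hg
        have h2 := (comm_or_anticomm hb hnd hn0 hNI hN.comm g.2 hx).resolve_left hg'
        have : ((g * ⟨y, hy⟩ : N) : GL (Fin n) F) * x = x * ((g * ⟨y, hy⟩ : N) : GL (Fin n) F) := by
          show (g : GL (Fin n) F) * y * x = x * ((g : GL (Fin n) F) * y)
          rw [mul_assoc, hyx, mul_neg, ← mul_assoc, h2, neg_mul, neg_neg, mul_assoc]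
        simpa [S] using this
      · intro g _ g' _ h
        exact mul_right_cancel h
    have h3 : S.card + (Finset.univ.filter (fun g : N => ¬ (g : GL (Fin n) F) * x = x * g)).card =
        Fintype.card N := by
      rw [← Finset.card_univ]
      exact Finset.card_filter_add_card_filter_not (s := (Finset.univ : Finset N))
        (fun g : N => (g : GL (Fin n) F) * x = x * g)
    omega
  have hcardN : Fintype.card N = 2 * n ^ 2 := by
    rw [← Nat.card_eq_fintype_card]
    exact card_N hb hnd hn2 hNI hN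
  have hS16 : 16 ≤ S.card := by
    have : 4 ^ 2 ≤ n ^ 2 := Nat.pow_le_pow_left hn 2
    omega
  -- the four elements `±1, ±x⁻¹`
  let T : Finset N := {1, ⟨-1, hm1⟩, ⟨x, hx⟩⁻¹, ⟨-1, hm1⟩ * ⟨x, hx⟩⁻¹}
  have hT : T.card ≤ 4 := Finset.card_le_four
  obtain ⟨w, hwS, hwT⟩ := Finset.exists_mem_notMem_of_card_lt_card (lt_of_le_of_lt hT (by omega : 4 < S.card))
  have hwx : (w : GL (Fin n) F) * x = x * w := by simpa [S] using hwS
  have hwT' : w ≠ 1 ∧ w ≠ ⟨-1, hm1⟩ ∧ w ≠ ⟨x, hx⟩⁻¹ ∧ w ≠ ⟨-1, hm1⟩ * ⟨x, hx⟩⁻¹ := by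
    simpa [T] using hwT
  -- `w` is not scalar
  have hws : (w : GL (Fin n) F) ∉ scalars (Fin n) F := by
    intro h
    rcases scalar_eq hb hnd hn0 hNI w.2 h with h1 | h1
    · exact hwT'.1 (Subtype.ext h1)
    · exact hwT'.2.1 (Subtype.ext h1)
  -- `x * w` is not scalar
  have hxws : x * (w : GL (Fin n) F) ∉ scalars (Fin n) F := by
    intro h
    rcases scalar_eq hb hnd hn0 hNI (N.mul_mem hx w.2) h with h1 | h1
    · apply hwT'.2.2.1
      apply Subtype.ext
      show (w : GL (Fin n) F) = x⁻¹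
      exact eq_inv_of_mul_eq_one_right h1
    · apply hwT'.2.2.2
      apply Subtype.ext
      show (w : GL (Fin n) F) = -1 * x⁻¹
      have : (w : GL (Fin n) F) = x⁻¹ * (x * w) := by group
      rw [this, h1, mul_neg, mul_one, neg_one_mul]
  -- but its square is `1`
  have h1 : x * (w : GL (Fin n) F) * (x * w) = 1 := by
    have e1 : x * (w : GL (Fin n) F) * (x * w) = (x * x) * ((w : GL (Fin n) F) * w) := by
      rw [mul_assoc, ← mul_assoc (w : GL (Fin n) F) x, hwx]
      group
    rw [e1, hsqm x hx hxs, hsqm w w.2 hws]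
    simp
  exact hxws (hcon _ (N.mul_mem hx w.2) h1)

/-- **isometric halves**: a non-central involution `a ∈ N` splits `F^n` into its two eigenspaces, which are `f`-orthogonal
and exchanged by some `y ∈ N` -/
theorem exists_isometric_halves (hb : IsBilinearForm f) (hnd : IsNondegenerateForm f) (hn : 4 ≤ n)
    (hNI : N ≤ Iso f) (hN : ClassTwo N) (hsq : ∀ x ∈ N, x ^ 2 ∈ scalars (Fin n) F) :
    ∃ (U U' : Submodule F (Fin n → F)) (y : GL (Fin n) F), y ∈ N ∧ IsCompl U U' ∧
      (∀ u ∈ U, ∀ w ∈ U', f u w = 0 ∧ f w u = 0) ∧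
      (∀ u ∈ U, (y : Matrix (Fin n) (Fin n) F) *ᵥ u ∈ U') ∧
      (∀ w ∈ U', (y : Matrix (Fin n) (Fin n) F) *ᵥ w ∈ U) := by
  have hn0 : 0 < n := by omega
  have hn2 : 2 ≤ n := by omega
  have h2 : (2 : F) ≠ 0 := two_ne_zero' hb hnd hn2 hNI hN
  obtain ⟨a, ha, haa, has⟩ := exists_noncentral_involution hb hnd hn hNI hN hsq
  -- some `y ∈ N` anticommutes with `a`
  have hex : ∃ y ∈ N, y * a = -(a * y) := by
    by_contra hcon
    push Not at hcon
    apply has
    have hcen : (⟨a, ha⟩ : N) ∈ Subgroup.center N := by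
      rw [Subgroup.mem_center_iff]
      intro g
      apply Subtype.ext
      show (g : GL (Fin n) F) * a = a * g
      exact (comm_or_anticomm hb hnd hn0 hNI hN.comm g.2 ha).resolve_right (hcon g g.2)
    exact (mem_center_iff' hN _).mp hcen
  obtain ⟨y, hy, hya⟩ := hex
  have hyaM : (y : Matrix (Fin n) (Fin n) F) * (a : Matrix (Fin n) (Fin n) F) =
      -((a : Matrix (Fin n) (Fin n) F) * (y : Matrix (Fin n) (Fin n) F)) := by
    have := congrArg (fun z : GL (Fin n) F => (z : Matrix (Fin n) (Fin n) F)) hya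
    simpa using this
  have haaM : (a : Matrix (Fin n) (Fin n) F) * (a : Matrix (Fin n) (Fin n) F) = 1 := by
    have := congrArg (fun z : GL (Fin n) F => (z : Matrix (Fin n) (Fin n) F)) haa
    simpa using this
  set A : Module.End F (Fin n → F) := Matrix.toLin' (a : Matrix (Fin n) (Fin n) F) with hA
  have hAA : ∀ v, A (A v) = v := by
    intro v
    rw [hA, Matrix.toLin'_apply, Matrix.toLin'_apply, Matrix.mulVec_mulVec, haaM, Matrix.one_mulVec]
  refine ⟨Module.End.eigenspace A 1, Module.End.eigenspace A (-1), y, hy, ?_, ?_, ?_, ?_⟩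
  · rw [isCompl_iff]
    constructor
    · rw [Submodule.disjoint_def]
      intro v hv hv'
      rw [Module.End.mem_eigenspace_iff] at hv hv'
      rw [hv, one_smul] at hv'
      have h3 : (2 : F) • v = 0 := by
        rw [two_smul]
        nth_rewrite 1 [hv']
        rw [neg_smul, one_smul, neg_add_cancel]
      exact (smul_eq_zero.mp h3).resolve_left h2
    · rw [codisjoint_iff, Submodule.eq_top_iff']
      intro v
      rw [Submodule.mem_sup]
      refine ⟨(2 : F)⁻¹ • (v + A v), ?_, (2 : F)⁻¹ • (v - A v), ?_, ?_⟩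
      · rw [Module.End.mem_eigenspace_iff, map_smul, map_add, hAA, one_smul, add_comm]
      · rw [Module.End.mem_eigenspace_iff, map_smul, map_sub, hAA, neg_smul, one_smul, ← smul_neg, neg_sub]
      · rw [← smul_add, add_add_sub_cancel, ← two_smul F v, smul_smul, inv_mul_cancel₀ h2, one_smul]
  · intro u hu w hw
    rw [Module.End.mem_eigenspace_iff, hA, Matrix.toLin'_apply] at hu hw
    have h3 := hNI ha u w
    rw [hu, hw, one_smul, hb.smul_right] at h3
    have h4 := hNI ha w u
    rw [hu, hw, one_smul, hb.smul_left] at h4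
    constructor
    · have : (2 : F) * f u w = 0 := by linear_combination -h3
      exact (mul_eq_zero.mp this).resolve_left h2
    · have : (2 : F) * f w u = 0 := by linear_combination -h4
      exact (mul_eq_zero.mp this).resolve_left h2
  · intro u hu
    rw [Module.End.mem_eigenspace_iff, hA, Matrix.toLin'_apply] at hu ⊢
    rw [Matrix.mulVec_mulVec]
    have : (a : Matrix (Fin n) (Fin n) F) * (y : Matrix (Fin n) (Fin n) F) =
        -((y : Matrix (Fin n) (Fin n) F) * (a : Matrix (Fin n) (Fin n) F)) := by rw [hyaM, neg_neg]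
    rw [this, Matrix.neg_mulVec, ← Matrix.mulVec_mulVec, hu, one_smul, neg_smul, one_smul]
  · intro w hw
    rw [Module.End.mem_eigenspace_iff, hA, Matrix.toLin'_apply] at hw ⊢
    rw [Matrix.mulVec_mulVec]
    have : (a : Matrix (Fin n) (Fin n) F) * (y : Matrix (Fin n) (Fin n) F) =
        -((y : Matrix (Fin n) (Fin n) F) * (a : Matrix (Fin n) (Fin n) F)) := by rw [hyaM, neg_neg]
    rw [this, Matrix.neg_mulVec, ← Matrix.mulVec_mulVec, hw, Matrix.mulVec_smul, neg_smul, one_smul, neg_neg]

end Cfsg.Agent.Lib.Helper3.FormC6
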