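import Mathlib
import Cfsg.Prelude.Def_GeometricClasses
import Cfsg.Agent.Lib.Helper7.AschDefs
import Cfsg.Agent.Lib.Helper16.SpADefs
import Cfsg.Agent.Lib.Helper3.FormC6Inv
import Cfsg.Agent.Lib.Helper27.HallLite

/-!
# Class 6 in an orthogonal group forces plus type (helper3)

`Q` a non-degenerate quadratic function on `F^n`, `q` odd, `4 ≤ n`, `R ≤ isometryGroup F Q` an absolutely irreducible
`2`-group of symplectic type.  Then `R` has class two modulo scalars (P. Hall-lite, helper27), so a non-central involution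
`a ∈ R` splits `F^n = V⁺(a) ⊥ V⁻(a)` and some `y ∈ R` exchanges the two halves; moreover `n = 2 ^ k`, so the halves have
even dimension `n / 2`.
-/

set_option autoImplicit false

namespace Cfsg.Agent.Lib.Helper3.OEC6

open Matrix Cfsg Cfsg.Geo Cfsg.Agent.Lib.Helper7.Asch Cfsg.Agent.Lib.Helper16.SpA Cfsg.Agent.Lib.Helper3.AschC6
  Cfsg.Agent.Lib.Helper3.FormC6
open scoped commutatorElement

variable {F : Type*} [Field F] {n : ℕ} {Q : (Fin n → F) → F}

/-- isometries of `Q` are isometries of its polar form -/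
theorem isometryGroup_le_iso : isometryGroup F Q ≤ Iso (QuadraticMap.polar Q) := by
  intro g hg u v
  have h : ∀ w, Q ((g : Matrix (Fin n) (Fin n) F) *ᵥ w) = Q w := fun w => hg w w
  unfold QuadraticMap.polar
  rw [← Matrix.mulVec_add, h, h, h]

/-- a symplectic-type `2`-group of isometries of a non-degenerate bilinear form, absolutely irreducible: the centre has
order two -/
theorem card_center_eq_two {f : (Fin n → F) → (Fin n → F) → F} (hb : IsBilinearForm f) (hnd : IsNondegenerateForm f)
    [Finite F] (hn : 2 ≤ n) (R : Subgroup (GL (Fin n) F)) (hp : IsPGroup 2 R) (hirr : AbsIrr R) (hRI : R ≤ Iso f) :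
    Nat.card (Subgroup.center R) = 2 := by
  have hn0 : 0 < n := by omega
  haveI : Fact (Nat.Prime 2) := ⟨Nat.prime_two⟩
  haveI : Finite (GL (Fin n) F) := inferInstance
  -- central elements are `± 1`
  have hpm : ∀ w : R, w ∈ Subgroup.center R → (w : GL (Fin n) F) = 1 ∨ (w : GL (Fin n) F) = -1 := by
    intro w hw
    obtain ⟨c, hc⟩ := hirr.2 ((w : GL (Fin n) F) : Matrix (Fin n) (Fin n) F) (by
      rintro s ⟨g, hg, rfl⟩
      have h1 := (Subgroup.mem_center_iff.1 hw) ⟨g, hg⟩
      have h2 : g * (w : GL (Fin n) F) = (w : GL (Fin n) F) * g := by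
        have := congrArg (fun y : R => (y : GL (Fin n) F)) h1
        simpa using this
      rw [← Units.val_mul, ← Units.val_mul, h2])
    exact scalar_eq hb hnd hn0 hRI w.2 (mem_scalars_of_eq_smul _ c hc)
  -- `R` is non-trivial
  obtain ⟨x, hx, y, hy, hxy⟩ := exists_comm_ne_one hn hirr
  haveI : Nontrivial R := by
    refine ⟨⟨⟨x, hx⟩, 1, ?_⟩⟩
    intro h
    apply hxy
    have hx1 : x = 1 := congrArg Subtype.val h
    rw [hx1, commutatorElement_def]
    group
  haveI : Nontrivial (Subgroup.center R) := hp.center_nontrivial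
  obtain ⟨z, hz⟩ := exists_ne (1 : Subgroup.center R)
  have hzv : ((z : R) : GL (Fin n) F) = -1 := by
    rcases hpm z z.2 with h | h
    · exfalso
      apply hz
      apply Subtype.ext
      apply Subtype.ext
      exact h
    · exact h
  rw [Nat.card_eq_two_iff]
  refine ⟨1, z, hz.symm, ?_⟩
  rw [Set.eq_univ_iff_forall]
  intro w
  rcases hpm w w.2 with h | h
  · left
    apply Subtype.ext
    apply Subtype.ext
    exact h
  · right
    rw [Set.mem_singleton_iff]
    apply Subtype.ext
    apply Subtype.ext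
    rw [h, hzv]

/-- **symplectic type ⇒ class two modulo scalars and scalar squares** (for groups of isometries of a non-degenerate
bilinear form) -/
theorem classTwo_of_symplecticType {f : (Fin n → F) → (Fin n → F) → F} (hb : IsBilinearForm f)
    (hnd : IsNondegenerateForm f) [Finite F] (hn : 2 ≤ n) (R : Subgroup (GL (Fin n) F))
    (hR : IsSymplecticTypeGroup 2 R) (hirr : ActsAbsolutelyIrreducibly (matrixSet R)) (hRI : R ≤ Iso f) :
    ClassTwo R ∧ ∀ x ∈ R, x ^ 2 ∈ scalars (Fin n) F := by
  haveI : Finite (GL (Fin n) F) := inferInstance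
  have hZ : Nat.card (Subgroup.center R) = 2 := card_center_eq_two hb hnd hn R hR.pGroup hirr hRI
  have h4 : ∀ g : R, g ^ 4 = 1 := by
    intro g
    have h4 : Monoid.exponent ↥R = 4 := by
      rw [hR.exponent_eq]
      rfl
    rw [← h4]
    exact Monoid.pow_exponent_eq_one g
  have hcen : ∀ x y : R, ⁅x, y⁆ ∈ Subgroup.center R := fun x y =>
    Cfsg.Agent.Lib.Helper27.HallLite.commutator_mem_center hR.pGroup h4 hZ hR.cyclic_of_characteristic x y
  -- central elements are scalar
  have hsc : ∀ w : R, w ∈ Subgroup.center R → (w : GL (Fin n) F) ∈ scalars (Fin n) F := by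
    intro w hw
    obtain ⟨c, hc⟩ := hirr.2 ((w : GL (Fin n) F) : Matrix (Fin n) (Fin n) F) (by
      rintro s ⟨g, hg, rfl⟩
      have h1 := (Subgroup.mem_center_iff.1 hw) ⟨g, hg⟩
      have h2 : g * (w : GL (Fin n) F) = (w : GL (Fin n) F) * g := by
        have := congrArg (fun y : R => (y : GL (Fin n) F)) h1
        simpa using this
      rw [← Units.val_mul, ← Units.val_mul, h2])
    exact mem_scalars_of_eq_smul _ c hc
  refine ⟨⟨hirr, ?_⟩, ?_⟩
  · intro x hx y hy
    exact hsc _ (hcen ⟨x, hx⟩ ⟨y, hy⟩)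
  · intro x hx
    have h1 : (⟨x, hx⟩ : R) * ⟨x, hx⟩ ∈ Subgroup.center R :=
      Cfsg.Agent.Lib.Helper27.HallLite.sq_mem_center_of_mem_Z2 hZ ⟨x, hx⟩
        ((Cfsg.Agent.Lib.Helper27.HallLite.mem_Z2 _).2 (fun y => hcen _ y))
    have h2 := hsc _ h1
    rw [pow_two]
    exact h2

variable [Fintype F]

/-- `q` odd gives `2 ≠ 0` -/
theorem two_ne_zero_of_odd (hodd : Odd (Fintype.card F)) : (2 : F) ≠ 0 := by
  intro h
  have h1 : ringChar F = 2 := CharP.ringChar_of_prime_eq_zero Nat.prime_two h
  have h2 := FiniteField.even_card_iff_char_two.mp h1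
  rcases hodd with ⟨k, hk⟩
  omega

/-- **the halves**: an absolutely irreducible symplectic-type `2`-group `R` of isometries of the non-degenerate quadratic
function `Q` on `F^n`, `4 ≤ n`, yields a decomposition `F^n = U ⊕ U'` into polar-orthogonal halves of even dimension
exchanged by some `g ∈ R` -/
theorem c6_halves (hQ : IsNondegenerateQuadraticForm Q) (hn : 4 ≤ n) (R : Subgroup (GL (Fin n) F))
    (hR : IsSymplecticTypeGroup 2 R) (hirr : ActsAbsolutelyIrreducibly (matrixSet R))
    (hRI : R ≤ isometryGroup F Q) :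
    ∃ (U U' : Submodule F (Fin n → F)) (g : GL (Fin n) F), g ∈ R ∧ IsCompl U U' ∧
      (∀ u ∈ U, ∀ w ∈ U', QuadraticMap.polar Q u w = 0 ∧ QuadraticMap.polar Q w u = 0) ∧
      U.map (Matrix.toLin' (g : Matrix (Fin n) (Fin n) F)) = U' ∧
      2 * Module.finrank F U = n ∧ Module.finrank F U' = Module.finrank F U ∧ Even (Module.finrank F U) := by
  have hb := hQ.polar_bilinear
  have hnd := hQ.nondegenerate
  have hn0 : 0 < n := by omega
  have hn2 : 2 ≤ n := by omega
  have hRI' : R ≤ Iso (QuadraticMap.polar Q) := hRI.trans isometryGroup_le_iso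
  obtain ⟨hN, hsq⟩ := classTwo_of_symplecticType hb hnd hn2 R hR hirr hRI'
  obtain ⟨U, U', y, hy, hc, horth, hUU', hU'U⟩ := exists_isometric_halves hb hnd hn hRI' hN hsq
  have hmap : U.map (Matrix.toLin' (y : Matrix (Fin n) (Fin n) F)) = U' := by
    apply le_antisymm
    · rintro _ ⟨u, hu, rfl⟩
      rw [Matrix.toLin'_apply]
      exact hUU' u hu
    · intro w hw
      have hyy := sq_eq hb hnd hn0 hRI' hsq hy
      have hyyM : ∃ c : F, (y : Matrix (Fin n) (Fin n) F) * (y : Matrix (Fin n) (Fin n) F) = c • 1 ∧ c * c = 1 := by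
        rcases hyy with h | h
        · refine ⟨1, ?_, by ring⟩
          rw [← Units.val_mul, h, one_smul, Units.val_one]
        · refine ⟨-1, ?_, by ring⟩
          rw [← Units.val_mul, h, neg_smul, one_smul]
          rfl
      obtain ⟨c, hcM, hcc⟩ := hyyM
      refine ⟨c • ((y : Matrix (Fin n) (Fin n) F) *ᵥ w), U.smul_mem _ (hU'U w hw), ?_⟩
      rw [Matrix.toLin'_apply, Matrix.mulVec_smul, Matrix.mulVec_mulVec, hcM, Matrix.smul_mulVec, Matrix.one_mulVec,
        smul_smul, hcc, one_smul]
  have hinj : Function.Injective (Matrix.toLin' (y : Matrix (Fin n) (Fin n) F)) := by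
    intro u v huv
    rw [Matrix.toLin'_apply, Matrix.toLin'_apply] at huv
    have := congrArg (fun z => ((y⁻¹ : GL (Fin n) F) : Matrix (Fin n) (Fin n) F) *ᵥ z) huv
    simpa using this
  have hfr : Module.finrank F U' = Module.finrank F U := by
    rw [← hmap]
    exact (LinearEquiv.finrank_eq (Submodule.equivMapOfInjective _ hinj U)).symm
  have hsum : Module.finrank F U + Module.finrank F U' = n := by
    rw [Submodule.finrank_add_eq_of_isCompl hc]
    simp
  have h2n : 2 * Module.finrank F U = n := by omega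
  obtain ⟨k, hk, _⟩ := exists_k hb hnd hn2 hRI' hN hsq
  refine ⟨U, U', y, hy, hc, horth, hmap, h2n, hfr, ?_⟩
  -- `n = 2 ^ k` with `k ≥ 2`
  have hk2 : 2 ≤ k := by
    by_contra hlt
    have : k = 0 ∨ k = 1 := by omega
    rcases this with rfl | rfl
    · omega
    · omega
  obtain ⟨j, rfl⟩ : ∃ j, k = j + 2 := ⟨k - 2, by omega⟩
  have : Module.finrank F U = 2 * 2 ^ j := by
    have h2n' : 2 * Module.finrank F U = 2 ^ (j + 2) := h2n.trans hk
    rw [pow_add] at h2n'
    omega
  rw [this]
  exact even_two_mul _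

/-- the two halves are non-degenerate -/
theorem nondegenerateOn_of_isCompl {f : (Fin n → F) → (Fin n → F) → F} (hb : IsBilinearForm f)
    (hnd : IsNondegenerateForm f) {U U' : Submodule F (Fin n → F)} (hc : IsCompl U U')
    (horth : ∀ u ∈ U, ∀ w ∈ U', f u w = 0 ∧ f w u = 0) : IsNondegenerateOn f U := by
  intro w hw hw0
  obtain ⟨⟨x, hx⟩, ⟨x', hx'⟩⟩ := hnd w hw0
  have hx1 : x ∈ U ⊔ U' := by rw [hc.sup_eq_top]; trivial
  have hx1' : x' ∈ U ⊔ U' := by rw [hc.sup_eq_top]; trivial
  obtain ⟨a, ha, b, hb', rfl⟩ := Submodule.mem_sup.1 hx1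
  obtain ⟨a', ha', b', hb'', rfl⟩ := Submodule.mem_sup.1 hx1'
  constructor
  · refine ⟨a, ha, ?_⟩
    rw [hb.add_left, (horth w hw b hb').2, add_zero] at hx
    exact hx
  · refine ⟨a', ha', ?_⟩
    rw [hb.add_right, (horth w hw b' hb'').1, add_zero] at hx'
    exact hx'

/-- **`c6_plus`, helper1's shape** -/
theorem c6_plus (hQ : IsNondegenerateQuadraticForm Q) (hn : 4 ≤ n) (R : Subgroup (GL (Fin n) F))
    (hR : IsSymplecticTypeGroup 2 R) (hirr : ActsAbsolutelyIrreducibly (matrixSet R))
    (hRI : R ≤ isometryGroup F Q) :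
    ∃ U U' : Submodule F (Fin n → F), IsCompl U U' ∧ (∀ u ∈ U, ∀ u' ∈ U', QuadraticMap.polar Q u u' = 0) ∧
      ∃ g ∈ isometryGroup F Q, U.map (Matrix.toLin' (g : Matrix (Fin n) (Fin n) F)) = U' := by
  obtain ⟨U, U', g, hg, hc, horth, hmap, _⟩ := c6_halves hQ hn R hR hirr hRI
  exact ⟨U, U', hc, fun u hu w hw => (horth u hu w hw).1, g, hRI hg, hmap⟩

/-- **`c6_plus`, type-calculus shape**: orthogonal, isometric, non-degenerate halves of even dimension -/
theorem c6_isometric_halves (hQ : IsNondegenerateQuadraticForm Q) (hn : 4 ≤ n) (R : Subgroup (GL (Fin n) F))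
    (hR : IsSymplecticTypeGroup 2 R) (hirr : ActsAbsolutelyIrreducibly (matrixSet R))
    (hRI : R ≤ isometryGroup F Q) :
    ∃ U U' : Submodule F (Fin n → F), IsCompl U U' ∧ AreOrthogonalFor (QuadraticMap.polar Q) U U' ∧
      AreIsometricFor Q U U' ∧ IsNondegenerateOn (QuadraticMap.polar Q) U ∧
      IsNondegenerateOn (QuadraticMap.polar Q) U' ∧ 2 * Module.finrank F U = n ∧
      Module.finrank F U' = Module.finrank F U ∧ Even (Module.finrank F U) := by
  obtain ⟨U, U', g, hg, hc, horth, hmap, h2n, hfr, hev⟩ := c6_halves hQ hn R hR hirr hRI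
  have hinj : Function.Injective (Matrix.toLin' (g : Matrix (Fin n) (Fin n) F)) := by
    intro u v huv
    rw [Matrix.toLin'_apply, Matrix.toLin'_apply] at huv
    have := congrArg (fun z => ((g⁻¹ : GL (Fin n) F) : Matrix (Fin n) (Fin n) F) *ᵥ z) huv
    simpa using this
  refine ⟨U, U', hc, fun u hu w hw => (horth u hu w hw).1, ?_,
    nondegenerateOn_of_isCompl hQ.polar_bilinear hQ.nondegenerate hc horth,
    nondegenerateOn_of_isCompl hQ.polar_bilinear hQ.nondegenerate hc.symm
      (fun u hu w hw => ⟨(horth w hw u hu).2, (horth w hw u hu).1⟩), h2n, hfr, hev⟩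
  refine ⟨(Submodule.equivMapOfInjective _ hinj U).trans (LinearEquiv.ofEq _ _ hmap), ?_⟩
  intro w
  have : (((Submodule.equivMapOfInjective _ hinj U).trans (LinearEquiv.ofEq _ _ hmap)) w : Fin n → F) =
      (g : Matrix (Fin n) (Fin n) F) *ᵥ (w : Fin n → F) := by
    simp [Matrix.toLin'_apply]
  rw [this]
  exact (hRI hg) (w : Fin n → F) (w : Fin n → F)

/-- isometric subspaces: symmetry and reflexivity -/
theorem areIsometricFor_refl (W : Submodule F (Fin n → F)) : AreIsometricFor Q W W :=
  ⟨LinearEquiv.refl F W, fun _ => rfl⟩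

theorem areIsometricFor_symm {W W' : Submodule F (Fin n → F)} (h : AreIsometricFor Q W W') : AreIsometricFor Q W' W := by
  obtain ⟨e, he⟩ := h
  refine ⟨e.symm, fun w => ?_⟩
  have := he (e.symm w)
  rw [LinearEquiv.apply_symm_apply] at this
  exact this.symm

/-- **`c6_plus`, decomposition shape**: an absolutely irreducible symplectic-type `2`-group of isometries of `Q` (`4 ≤ n`)
yields an orthogonal decomposition of `F^n` into two isometric non-degenerate halves of EVEN dimension `k`; with helper7's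
R1 (`isPlusTypeOn_top_of_decomposition_even`, `t = 2`, `Even k`) this gives `IsPlusTypeOn Q ⊤` -/
theorem c6_decomposition (hQ : IsNondegenerateQuadraticForm Q) (hn : 4 ≤ n) (R : Subgroup (GL (Fin n) F))
    (hR : IsSymplecticTypeGroup 2 R) (hirr : ActsAbsolutelyIrreducibly (matrixSet R))
    (hRI : R ≤ isometryGroup F Q) :
    ∃ (k : ℕ) (D : Fin 2 → Submodule F (Fin n → F)), Even k ∧ 2 * k = n ∧ IsOrthogonalMDecomposition Q k D := by
  obtain ⟨U, U', hc, horth, hiso, hndU, hndU', h2n, hfr, hev⟩ := c6_isometric_halves hQ hn R hR hirr hRI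
  have hsymm : ∀ u v, QuadraticMap.polar Q u v = QuadraticMap.polar Q v u := fun u v => QuadraticMap.polar_comm Q u v
  refine ⟨Module.finrank F U, ![U, U'], hev, h2n, ⟨⟨⟨le_refl 2, by omega, ?_, ?_, ?_⟩, ?_, ?_⟩, ?_⟩⟩
  · intro i
    fin_cases i
    · rfl
    · exact hfr
  · rw [iSupIndep_pair (i := (0 : Fin 2)) (j := 1) (by decide) (by decide)]
    exact hc.disjoint
  · apply le_antisymm le_top
    rw [← hc.sup_eq_top]
    exact sup_le (le_iSup ![U, U'] 0) (le_iSup ![U, U'] 1)
  · intro i
    fin_cases i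
    · exact hndU
    · exact hndU'
  · intro i j hij
    fin_cases i <;> fin_cases j
    · exact absurd rfl hij
    · exact horth
    · intro u hu v hv
      rw [hsymm]
      exact horth v hv u hu
    · exact absurd rfl hij
  · intro i j
    fin_cases i <;> fin_cases j
    · exact areIsometricFor_refl _
    · exact hiso
    · exact areIsometricFor_symm hiso
    · exact areIsometricFor_refl _

end Cfsg.Agent.Lib.Helper3.OEC6
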