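import Mathlib
import Cfsg.Prelude.Def_GeometricClasses
import Cfsg.Agent.Lib.Helper3.OEC6

/-!
# OECor piece E-C6 (helper3): exact signature of `notes/OECorSkel_helper1.lean.txt`
-/

set_option autoImplicit false
set_option linter.unusedVariables false

namespace Cfsg.Agent.Lib.Helper3.OECorEC6

open Matrix Cfsg Cfsg.Geo Module QuadraticMap

variable {F : Type*} [Field F] [Fintype F] {n : ℕ}

/-- **E-C6**: a symplectic-type `2`-group of isometries, absolutely irreducible, splits the space into two isometric
halves -/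
theorem exists_halves_of_symplecticType {Q : (Fin n → F) → F} (hQ : IsNondegenerateQuadraticForm Q)
    (hq : Odd (Fintype.card F)) (m : ℕ) (hn : n = 2 * m) (hm : 2 ≤ m) (R : Subgroup (GL (Fin n) F))
    (hR : IsSymplecticTypeGroup 2 R) (hirr : ActsAbsolutelyIrreducibly (matrixSet R))
    (hRI : R ≤ isometryGroup F Q) :
    ∃ D : Fin 2 → Submodule F (Fin n → F), IsOrthogonalMDecomposition Q m D := by
  obtain ⟨k, D, _, h2k, hD⟩ := Cfsg.Agent.Lib.Helper3.OEC6.c6_decomposition hQ (by omega) R hR hirr hRI
  have hkm : k = m := by omega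
  subst hkm
  exact ⟨D, hD⟩

end Cfsg.Agent.Lib.Helper3.OECorEC6
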