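import Mathlib
import Cfsg.Agent.Lib.Helper15.PSpJ3

/-!
# Orthogonality calculus for reflexive bilinear forms

The lemmas of `Helper15.PSpI1` (stated there for alternating forms) for an arbitrary reflexive
form: `B x y = 0 → B y x = 0`.  The definitions `NondegOn`, `Orth`, `perpIn` are those of
`Helper15.PSpI`.
-/

set_option autoImplicit false

namespace Cfsg.Agent.Lib.Helper3.Orth

open Module Submodule Cfsg.Agent.Lib.Helper15 Cfsg.Agent.Lib.Helper15.PSpI

section basic

variable {F V : Type*} [Field F] [AddCommGroup V] [Module F V]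
variable {B : V →ₗ[F] V →ₗ[F] F}

theorem orth_symm (hrefl : ∀ x y, B x y = 0 → B y x = 0) {S T : Submodule F V} (h : Orth B S T) :
    Orth B T S := fun u hu v hv => hrefl _ _ (h v hv u hu)

theorem orth_sup_left (hrefl : ∀ x y, B x y = 0 → B y x = 0) {S S' T : Submodule F V}
    (h : Orth B S T) (h' : Orth B S' T) : Orth B (S ⊔ S') T :=
  orth_symm hrefl ((orth_symm hrefl h).sup_right (orth_symm hrefl h'))

theorem orth_disjoint (hrefl : ∀ x y, B x y = 0 → B y x = 0) {S T : Submodule F V}
    (h : Orth B S T) (hS : NondegOn B S) : Disjoint S T := by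
  rw [Submodule.disjoint_def]
  intro u huS huT
  apply hS u huS
  intro v hv
  exact hrefl _ _ (h v hv u huT)

theorem nondegOn_sup (hrefl : ∀ x y, B x y = 0 → B y x = 0) {S T : Submodule F V}
    (h : Orth B S T) (hS : NondegOn B S) (hT : NondegOn B T) : NondegOn B (S ⊔ T) := by
  intro u hu hu0
  obtain ⟨s, hs, t, ht, rfl⟩ := mem_sup.mp hu
  have hs0 : s = 0 := by
    apply hS s hs
    intro v hv
    have := hu0 v (mem_sup_left hv)
    rw [map_add, LinearMap.add_apply, (orth_symm hrefl h) t ht v hv, add_zero] at this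
    exact this
  have ht0 : t = 0 := by
    apply hT t ht
    intro v hv
    have := hu0 v (mem_sup_right hv)
    rw [map_add, LinearMap.add_apply, h s hs v hv, zero_add] at this
    exact this
  rw [hs0, ht0, add_zero]

theorem finrank_sup_of_orth [FiniteDimensional F V] (hrefl : ∀ x y, B x y = 0 → B y x = 0)
    {S T : Submodule F V} (h : Orth B S T) (hS : NondegOn B S) :
    finrank F ↥(S ⊔ T) = finrank F S + finrank F T := by
  have h1 := Submodule.finrank_sup_add_finrank_inf_eq S T
  rw [(orth_disjoint hrefl h hS).eq_bot, finrank_bot, add_zero] at h1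
  exact h1

/-- the orthogonal projection onto a nondegenerate subspace -/
theorem exists_proj [FiniteDimensional F V] (hrefl : ∀ x y, B x y = 0 → B y x = 0)
    (S : Submodule F V) (hS : NondegOn B S) (v : V) : ∃ s ∈ S, ∀ u ∈ S, B u (v - s) = 0 := by
  let φ : S →ₗ[F] Module.Dual F S :=
    { toFun := fun s => (B.flip s.1).domRestrict S
      map_add' := fun a b => by ext u; simp
      map_smul' := fun c a => by ext u; simp }
  have hinj : Function.Injective φ := by
    rw [← LinearMap.ker_eq_bot, LinearMap.ker_eq_bot']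
    intro s hs
    apply Subtype.ext
    apply hS s.1 s.2
    intro u hu
    have := LinearMap.congr_fun hs ⟨u, hu⟩
    have h2 : B u s.1 = 0 := this
    exact hrefl _ _ h2
  have hsurj : Function.Surjective φ :=
    (LinearMap.injective_iff_surjective_of_finrank_eq_finrank
      (Subspace.dual_finrank_eq (K := F) (V := S)).symm).mp hinj
  obtain ⟨s, hs⟩ := hsurj ((B.flip v).domRestrict S)
  refine ⟨s.1, s.2, fun u hu => ?_⟩
  have := LinearMap.congr_fun hs ⟨u, hu⟩
  have h2 : B u s.1 = B u v := this
  rw [map_sub, h2, sub_self]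

theorem sup_perpIn [FiniteDimensional F V] (hrefl : ∀ x y, B x y = 0 → B y x = 0)
    {V' S : Submodule F V} (hSV : S ≤ V') (hS : NondegOn B S) : S ⊔ perpIn B V' S = V' := by
  apply le_antisymm (sup_le hSV (perpIn_le V' S))
  intro v hv
  obtain ⟨s, hs, hsv⟩ := exists_proj hrefl S hS v
  have : v = s + (v - s) := by abel
  rw [this]
  exact add_mem (mem_sup_left hs) (mem_sup_right (mem_perpIn.mpr ⟨sub_mem hv (hSV hs), hsv⟩))

theorem nondegOn_perpIn [FiniteDimensional F V] (hrefl : ∀ x y, B x y = 0 → B y x = 0)
    {V' S : Submodule F V} (hSV : S ≤ V') (hS : NondegOn B S) (hV' : NondegOn B V') :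
    NondegOn B (perpIn B V' S) := by
  intro t ht ht0
  apply hV' t (perpIn_le V' S ht)
  intro v hv
  rw [← sup_perpIn hrefl hSV hS] at hv
  obtain ⟨s, hs, t', ht', rfl⟩ := mem_sup.mp hv
  rw [map_add, ht0 t' ht', add_zero]
  exact hrefl _ _ ((mem_perpIn.mp ht).2 s hs)

theorem finrank_perpIn [FiniteDimensional F V] (hrefl : ∀ x y, B x y = 0 → B y x = 0)
    {V' S : Submodule F V} (hSV : S ≤ V') (hS : NondegOn B S) :
    finrank F S + finrank F (perpIn B V' S) = finrank F V' := by
  rw [← finrank_sup_of_orth hrefl (orth_perpIn V' S) hS, sup_perpIn hrefl hSV hS]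

theorem nondegOn_bot : NondegOn B (⊥ : Submodule F V) := by
  intro u hu _
  exact (mem_bot F).mp hu

/-- a totally isotropic subspace of a nondegenerate subspace has at most half the dimension -/
theorem two_mul_finrank_le [FiniteDimensional F V] (hrefl : ∀ x y, B x y = 0 → B y x = 0)
    {X U : Submodule F V} (hX : NondegOn B X) (hUX : U ≤ X) (hU : Orth B U U) :
    2 * finrank F U ≤ finrank F X := by
  set U' : Submodule F X := Submodule.comap X.subtype U with hU'
  let ψ : X →ₗ[F] Module.Dual F X :=
    { toFun := fun s => (B.flip s.1).domRestrict X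
      map_add' := fun a b => by ext u; simp
      map_smul' := fun c a => by ext u; simp }
  have hinj : Function.Injective ψ := by
    rw [← LinearMap.ker_eq_bot, LinearMap.ker_eq_bot']
    intro s hs
    apply Subtype.ext
    apply hX s.1 s.2
    intro u hu
    have := LinearMap.congr_fun hs ⟨u, hu⟩
    have h2 : B u s.1 = 0 := this
    exact hrefl _ _ h2
  have hsurjψ : Function.Surjective ψ :=
    (LinearMap.injective_iff_surjective_of_finrank_eq_finrank
      (Subspace.dual_finrank_eq (K := F) (V := X)).symm).mp hinj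
  let φ : X →ₗ[F] Module.Dual F U' := (Submodule.dualRestrict U').comp ψ
  have hsurj : Function.Surjective φ :=
    (Subspace.dualRestrict_surjective (W := U')).comp hsurjψ
  have hker : U' ≤ LinearMap.ker φ := by
    intro x hx
    rw [LinearMap.mem_ker]
    ext u
    change B u.1.1 x.1 = 0
    exact hU u.1.1 u.2 x.1 hx
  have h1 := LinearMap.finrank_range_add_finrank_ker φ
  rw [LinearMap.range_eq_top.mpr hsurj, finrank_top, Subspace.dual_finrank_eq] at h1
  have h2 := Submodule.finrank_mono hker
  have h3 : finrank F ↥U' = finrank F U := by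
    have := Submodule.finrank_map_subtype_eq X U'
    rw [← this, hU', Submodule.map_comap_subtype, inf_eq_right.mpr hUX]
  omega

end basic

end Cfsg.Agent.Lib.Helper3.Orth
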