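import Mathlib
import Cfsg.Agent.Lib.Helper3.OrthBase
import Cfsg.Agent.Lib.Helper15.Witt3

/-!
# Plus type of nondegenerate subspaces of a quadratic space

`PlusOn Q W`: `W` contains a totally singular subspace of half its dimension.
Orthogonal sums, and cancellation of a hyperbolic plane.
-/

set_option autoImplicit false

namespace Cfsg.Agent.Lib.Helper3.Orth

open Module Submodule QuadraticMap Cfsg.Agent.Lib.Helper15 Cfsg.Agent.Lib.Helper15.PSpI

section defs

variable {F V : Type*} [Field F] [AddCommGroup V] [Module F V]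
variable (Q : QuadraticForm F V)

/-- the polar form as a bilinear map -/
noncomputable abbrev pB : V →ₗ[F] V →ₗ[F] F := QuadraticMap.polarBilin Q

theorem pB_apply (x y : V) : pB Q x y = polar Q x y := rfl

theorem pB_refl : ∀ x y, pB Q x y = 0 → pB Q y x = 0 := by
  intro x y h
  rw [pB_apply, polar_comm]
  exact h

/-- `Q` vanishes on `U` -/
def TSOn (U : Submodule F V) : Prop := ∀ u ∈ U, Q u = 0

/-- `W` has a totally singular subspace of half its dimension -/
def PlusOn (W : Submodule F V) : Prop :=
  ∃ U : Submodule F V, U ≤ W ∧ TSOn Q U ∧ 2 * finrank F U = finrank F W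

variable {Q}

theorem TSOn.orth {U : Submodule F V} (h : TSOn Q U) : Orth (pB Q) U U := by
  intro u hu v hv
  rw [pB_apply]
  unfold polar
  rw [h _ (U.add_mem hu hv), h u hu, h v hv]
  ring

theorem TSOn.mono {U U' : Submodule F V} (h : TSOn Q U) (hle : U' ≤ U) : TSOn Q U' :=
  fun u hu => h u (hle hu)

theorem TSOn.sup {U U' : Submodule F V} (h : TSOn Q U) (h' : TSOn Q U')
    (ho : Orth (pB Q) U U') : TSOn Q (U ⊔ U') := by
  intro w hw
  obtain ⟨u, hu, v, hv, rfl⟩ := mem_sup.mp hw
  have h1 : Q (u + v) = Q u + Q v + polar Q u v := by unfold polar; ring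
  rw [h1, h u hu, h' v hv, ← pB_apply, ho u hu v hv]
  ring

theorem tsOn_bot : TSOn Q (⊥ : Submodule F V) := by
  intro u hu
  rw [(mem_bot F).mp hu, map_zero]

theorem plusOn_bot : PlusOn Q (⊥ : Submodule F V) :=
  ⟨⊥, le_rfl, tsOn_bot, by rw [finrank_bot]⟩

/-- **(T1)** the orthogonal sum of two plus-type subspaces has plus type -/
theorem plusOn_sup [FiniteDimensional F V] {S T : Submodule F V} (ho : Orth (pB Q) S T)
    (hS : NondegOn (pB Q) S) (hPS : PlusOn Q S) (hPT : PlusOn Q T) : PlusOn Q (S ⊔ T) := by
  obtain ⟨U, hUS, hU, hUf⟩ := hPS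
  obtain ⟨U', hUT, hU', hUf'⟩ := hPT
  refine ⟨U ⊔ U', sup_le_sup hUS hUT, hU.sup hU' (ho.mono hUS hUT), ?_⟩
  rw [finrank_sup_of_orth (pB_refl Q) ho hS]
  have hdis : Disjoint U U' := (orth_disjoint (pB_refl Q) ho hS).mono hUS hUT
  have h1 := Submodule.finrank_sup_add_finrank_inf_eq U U'
  rw [hdis.eq_bot, finrank_bot, add_zero] at h1
  omega

end defs

section plane

variable {F V : Type*} [Field F] [AddCommGroup V] [Module F V]
variable {Q : QuadraticForm F V}

theorem quad_add' (a b : V) : Q (a + b) = Q a + Q b + polar Q a b := by unfold polar; ring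

/-- the projection killing a hyperbolic pair -/
noncomputable def killPair (Q : QuadraticForm F V) (e f : V) : V →ₗ[F] V :=
  LinearMap.id - (pB Q f).smulRight e - (pB Q e).smulRight f

theorem killPair_apply (e f v : V) :
    killPair Q e f v = v - polar Q f v • e - polar Q e v • f := by
  simp [killPair, pB_apply]

/-- properties of a hyperbolic pair -/
theorem hyp_pair_mem {e f : V} (he : Q e = 0) (hf : Q f = 0) (hef : polar Q e f = 1)
    {p : V} (hp : p ∈ span F {e, f}) :
    p = polar Q f p • e + polar Q e p • f := by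
  obtain ⟨a, b, rfl⟩ := mem_span_pair.mp hp
  have hee : polar Q e e = 0 := by rw [polar_self, he]; simp
  have hff : polar Q f f = 0 := by rw [polar_self, hf]; simp
  have hfe : polar Q f e = 1 := by rw [polar_comm]; exact hef
  rw [polar_add_right, polar_add_right, polar_smul_right, polar_smul_right, polar_smul_right,
    polar_smul_right, hee, hff, hef, hfe]
  simp

theorem killPair_pair {e f : V} (he : Q e = 0) (hf : Q f = 0) (hef : polar Q e f = 1)
    {p : V} (hp : p ∈ span F {e, f}) : killPair Q e f p = 0 := by
  rw [killPair_apply]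
  nth_rewrite 1 [hyp_pair_mem he hf hef hp]
  abel

theorem killPair_perp {e f x : V} (h1 : polar Q e x = 0) (h2 : polar Q f x = 0) :
    killPair Q e f x = x := by
  rw [killPair_apply, h1, h2]
  simp

/-- **Cancellation of a hyperbolic plane, subspace form.** -/
theorem exists_ts_of_plane [FiniteDimensional F V] {e f : V} (he : Q e = 0) (hf : Q f = 0)
    (hef : polar Q e f = 1) (X : Submodule F V)
    (hX : ∀ x ∈ X, polar Q e x = 0 ∧ polar Q f x = 0) (U : Submodule F V)
    (hU : U ≤ span F {e, f} ⊔ X) (hUts : TSOn Q U) :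
    ∃ U' : Submodule F V, U' ≤ X ∧ TSOn Q U' ∧ finrank F U ≤ finrank F U' + 1 := by
  classical
  -- `U₀ = U ∩ e^⊥`
  set U₀ : Submodule F V := U ⊓ LinearMap.ker (pB Q e) with hU₀
  have hU₀U : U₀ ≤ U := inf_le_left
  have hU₀e : ∀ u ∈ U₀, polar Q e u = 0 := fun u hu => LinearMap.mem_ker.mp hu.2
  have hmapX : ∀ u ∈ U, killPair Q e f u ∈ X := by
    intro u hu
    obtain ⟨p, hp, x, hx, rfl⟩ := mem_sup.mp (hU hu)
    rw [map_add, killPair_pair he hf hef hp, zero_add, killPair_perp (hX x hx).1 (hX x hx).2]
    exact hx
  have hts : TSOn Q (U₀.map (killPair Q e f)) := by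
    rintro _ ⟨u, hu, rfl⟩
    rw [killPair_apply, hU₀e u hu, zero_smul, sub_zero]
    have h1 : Q (u - polar Q f u • e) = Q u + (polar Q f u) * (polar Q f u) * Q e
        - polar Q f u * polar Q u e := by
      rw [sub_eq_add_neg, quad_add', QuadraticMap.map_neg, QuadraticMap.map_smul,
        polar_neg_right, polar_smul_right]
      simp only [smul_eq_mul]
      ring
    have h2 : polar Q u e = 0 := by rw [polar_comm]; exact hU₀e u hu
    rw [h1, hUts u (hU₀U hu), he, h2]
    ring
  refine ⟨U₀.map (killPair Q e f), ?_, hts, ?_⟩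
  · rintro _ ⟨u, hu, rfl⟩
    exact hmapX u (hU₀U hu)
  -- dimension count
  have he0 : e ≠ 0 := by
    rintro rfl
    rw [polar_zero_left] at hef
    exact zero_ne_one hef
  have hker : ∀ u ∈ U₀, killPair Q e f u = 0 → u = polar Q f u • e := by
    intro u hu h0
    rw [killPair_apply, hU₀e u hu, zero_smul, sub_zero, sub_eq_zero] at h0
    exact h0
  by_cases heU : e ∈ U
  · -- then `U ≤ e^⊥`
    have hUU₀ : U₀ = U := by
      apply le_antisymm hU₀U
      intro u hu
      refine ⟨hu, LinearMap.mem_ker.mpr ?_⟩
      exact hUts.orth e heU u hu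
    rw [hUU₀]
    have h1 := LinearMap.finrank_range_add_finrank_ker ((killPair Q e f).domRestrict U)
    rw [LinearMap.range_domRestrict] at h1
    have h4 : finrank F ↥(LinearMap.ker ((killPair Q e f).domRestrict U)) ≤ 1 := by
      have hle : (LinearMap.ker ((killPair Q e f).domRestrict U)).map U.subtype ≤ span F {e} := by
        rintro _ ⟨u, hu, rfl⟩
        have hu' : killPair Q e f u.1 = 0 := LinearMap.mem_ker.mp hu
        have := hker u.1 (by rw [hUU₀]; exact u.2) hu'
        rw [Submodule.subtype_apply, this]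
        exact smul_mem _ _ (mem_span_singleton_self e)
      have h5 := Submodule.finrank_mono hle
      rw [Submodule.finrank_map_subtype_eq] at h5
      have h6 : finrank F ↥(span F {e}) = 1 := finrank_span_singleton he0
      omega
    omega
  · -- `U₀ → X` is injective and `U₀` has codimension at most one in `U`
    have hinj : ∀ u ∈ U₀, killPair Q e f u = 0 → u = 0 := by
      intro u hu h0
      have h1 := hker u hu h0
      by_contra hne
      apply heU
      have hc : polar Q f u ≠ 0 := by
        intro hc
        rw [hc, zero_smul] at h1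
        exact hne h1
      have : e = (polar Q f u)⁻¹ • u := by
        nth_rewrite 2 [h1]
        rw [smul_smul, inv_mul_cancel₀ hc, one_smul]
      rw [this]
      exact U.smul_mem _ (hU₀U hu)
    have h1 : finrank F ↥(U₀.map (killPair Q e f)) = finrank F U₀ := by
      have h := LinearMap.finrank_range_add_finrank_ker ((killPair Q e f).domRestrict U₀)
      have hk : LinearMap.ker ((killPair Q e f).domRestrict U₀) = ⊥ := by
        rw [LinearMap.ker_eq_bot']
        intro u hu
        exact Subtype.ext (hinj u.1 u.2 hu)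
      rw [hk, finrank_bot, add_zero, LinearMap.range_domRestrict] at h
      exact h
    rw [h1]
    -- codimension
    have h2 := LinearMap.finrank_range_add_finrank_ker ((pB Q e).domRestrict U)
    have h3 : finrank F ↥(LinearMap.range ((pB Q e).domRestrict U)) ≤ 1 := by
      have := Submodule.finrank_le (LinearMap.range ((pB Q e).domRestrict U))
      rwa [Module.finrank_self] at this
    have h4 : finrank F ↥(LinearMap.ker ((pB Q e).domRestrict U)) = finrank F U₀ := by
      rw [LinearMap.ker_domRestrict]
      have h5 := Submodule.finrank_map_subtype_eq U ((LinearMap.ker (pB Q e)).comap U.subtype)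
      rw [← h5, Submodule.map_comap_subtype, hU₀]
    omega

end plane

end Cfsg.Agent.Lib.Helper3.Orth
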