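import Mathlib
import Cfsg.Agent.Lib.Helper3.OrthType1

/-!
# Plus type: hyperbolic planes, cancellation, growth
-/

set_option autoImplicit false

namespace Cfsg.Agent.Lib.Helper3.Orth

open Module Submodule QuadraticMap Cfsg.Agent.Lib.Helper15 Cfsg.Agent.Lib.Helper15.PSpI

section plane2

variable {F V : Type*} [Field F] [AddCommGroup V] [Module F V]
variable {Q : QuadraticForm F V}

theorem hyp_pair_indep {e f : V} (he : Q e = 0) (hf : Q f = 0) (hef : polar Q e f = 1) :
    LinearIndependent F ![e, f] := by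
  rw [LinearIndependent.pair_iff]
  intro s t h
  have hee : polar Q e e = 0 := by rw [polar_self, he]; simp
  have hff : polar Q f f = 0 := by rw [polar_self, hf]; simp
  have hfe : polar Q f e = 1 := by rw [polar_comm]; exact hef
  have h1 := congrArg (polar Q e) h
  have h2 := congrArg (polar Q f) h
  rw [polar_add_right, polar_smul_right, polar_smul_right, hee, hef, polar_zero_right] at h1
  rw [polar_add_right, polar_smul_right, polar_smul_right, hff, hfe, polar_zero_right] at h2
  simp only [smul_eq_mul, mul_zero, mul_one, zero_add, add_zero] at h1 h2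
  exact ⟨h2, h1⟩

theorem hyp_plane_finrank {e f : V} (he : Q e = 0) (hf : Q f = 0) (hef : polar Q e f = 1) :
    finrank F ↥(span F {e, f}) = 2 := by
  have h := finrank_span_eq_card (hyp_pair_indep he hf hef)
  have h2 : Set.range ![e, f] = {e, f} := by
    ext x
    simp only [Matrix.range_cons, Matrix.range_empty, Set.union_empty, Set.mem_union,
      Set.mem_singleton_iff, Set.mem_insert_iff]
  rw [h2] at h
  rw [h]
  simp

theorem hyp_plane_nondeg {e f : V} (he : Q e = 0) (hf : Q f = 0) (hef : polar Q e f = 1) :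
    NondegOn (pB Q) (span F {e, f}) := by
  intro p hp h0
  have h1 := h0 e (subset_span (by simp))
  have h2 := h0 f (subset_span (by simp))
  rw [pB_apply, polar_comm] at h1 h2
  rw [hyp_pair_mem he hf hef hp, h1, h2]
  simp

theorem hyp_plane_plus {e f : V} (he : Q e = 0) (hf : Q f = 0) (hef : polar Q e f = 1) :
    PlusOn Q (span F {e, f}) := by
  have he0 : e ≠ 0 := by
    rintro rfl
    rw [polar_zero_left] at hef
    exact zero_ne_one hef
  refine ⟨span F {e}, span_mono (by simp), ?_, ?_⟩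
  · intro u hu
    obtain ⟨a, rfl⟩ := mem_span_singleton.mp hu
    rw [QuadraticMap.map_smul, he, smul_zero]
  · rw [finrank_span_singleton he0, hyp_plane_finrank he hf hef]

theorem hyp_plane_orth {e f : V} {X : Submodule F V}
    (hX : ∀ x ∈ X, polar Q e x = 0 ∧ polar Q f x = 0) : Orth (pB Q) (span F {e, f}) X := by
  intro p hp x hx
  obtain ⟨a, b, rfl⟩ := mem_span_pair.mp hp
  rw [pB_apply, polar_add_left, polar_smul_left, polar_smul_left, (hX x hx).1, (hX x hx).2]
  simp

/-- cancellation of a hyperbolic plane -/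
theorem plusOn_of_plane [FiniteDimensional F V] {e f : V} (he : Q e = 0) (hf : Q f = 0)
    (hef : polar Q e f = 1) (X : Submodule F V)
    (hX : ∀ x ∈ X, polar Q e x = 0 ∧ polar Q f x = 0) (hXn : NondegOn (pB Q) X)
    (hP : PlusOn Q (span F {e, f} ⊔ X)) : PlusOn Q X := by
  obtain ⟨U, hU, hUts, hUf⟩ := hP
  obtain ⟨U', hU'X, hU'ts, hU'f⟩ := exists_ts_of_plane he hf hef X hX U hU hUts
  have h1 := two_mul_finrank_le (pB_refl Q) hXn hU'X hU'ts.orth
  have h2 := finrank_sup_of_orth (pB_refl Q) (hyp_plane_orth hX) (hyp_plane_nondeg he hf hef)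
  rw [hyp_plane_finrank he hf hef] at h2
  refine ⟨U', hU'X, hU'ts, ?_⟩
  omega

theorem exists_partner_in [FiniteDimensional F V] {W : Submodule F V} (hW : NondegOn (pB Q) W)
    {e : V} (heW : e ∈ W) (he0 : e ≠ 0) (he : Q e = 0) :
    ∃ f ∈ W, Q f = 0 ∧ polar Q e f = 1 := by
  have h1 : ∃ y₀ ∈ W, polar Q e y₀ ≠ 0 := by
    by_contra hcon
    push Not at hcon
    exact he0 (hW e heW hcon)
  obtain ⟨y₀, hy₀W, hy₀⟩ := h1
  obtain ⟨y₁, hy₁W, h2⟩ : ∃ y₁ ∈ W, polar Q e y₁ = 1 :=
    ⟨(polar Q e y₀)⁻¹ • y₀, W.smul_mem _ hy₀W,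
      by rw [polar_smul_right, smul_eq_mul, inv_mul_cancel₀ hy₀]⟩
  have key : ∀ (a : V) (c : F), Q (a - c • e) = Q a + c * c * Q e - c * polar Q a e := by
    intro a c
    rw [sub_eq_add_neg, quad_add', QuadraticMap.map_neg, QuadraticMap.map_smul, polar_neg_right,
      polar_smul_right]
    simp only [smul_eq_mul]
    ring
  refine ⟨y₁ - Q y₁ • e, W.sub_mem hy₁W (W.smul_mem _ heW), ?_, ?_⟩
  · rw [key, he, polar_comm, h2]
    ring
  · rw [polar_sub_right, polar_smul_right, polar_self, he, h2]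
    simp

/-- splitting off a hyperbolic plane containing a given singular vector -/
theorem exists_split [FiniteDimensional F V] {W : Submodule F V} (hW : NondegOn (pB Q) W)
    {e : V} (heW : e ∈ W) (he0 : e ≠ 0) (he : Q e = 0) :
    ∃ f ∈ W, Q f = 0 ∧ polar Q e f = 1 ∧ span F {e, f} ≤ W ∧
      span F {e, f} ⊔ perpIn (pB Q) W (span F {e, f}) = W ∧
      NondegOn (pB Q) (perpIn (pB Q) W (span F {e, f})) ∧
      finrank F ↥(perpIn (pB Q) W (span F {e, f})) + 2 = finrank F W ∧
      (∀ x ∈ perpIn (pB Q) W (span F {e, f}), polar Q e x = 0 ∧ polar Q f x = 0) := by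
  obtain ⟨f, hfW, hf, hef⟩ := exists_partner_in hW heW he0 he
  have hPW : span F {e, f} ≤ W := by
    rw [span_le]
    rintro x (rfl | rfl)
    · exact heW
    · exact hfW
  have hPn := hyp_plane_nondeg he hf hef
  refine ⟨f, hfW, hf, hef, hPW, sup_perpIn (pB_refl Q) hPW hPn,
    nondegOn_perpIn (pB_refl Q) hPW hPn hW, ?_, ?_⟩
  · have := finrank_perpIn (pB_refl Q) hPW hPn (V' := W)
    rw [hyp_plane_finrank he hf hef] at this
    omega
  · intro x hx
    have h := (mem_perpIn.mp hx).2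
    exact ⟨h e (subset_span (by simp)), h f (subset_span (by simp))⟩

/-- **(T3)** cancellation: if `W₁` and `W₁ ⊥ W₂` have plus type then so has `W₂` -/
theorem plusOn_cancel [FiniteDimensional F V] : ∀ (n : ℕ) (W₁ W₂ : Submodule F V),
    finrank F W₁ = n → Orth (pB Q) W₁ W₂ → NondegOn (pB Q) W₁ → NondegOn (pB Q) W₂ →
    PlusOn Q W₁ → PlusOn Q (W₁ ⊔ W₂) → PlusOn Q W₂ := by
  intro n
  induction n using Nat.strong_induction_on with
  | _ n ih =>
    intro W₁ W₂ hn ho hW₁ hW₂ hP₁ hP
    rcases Nat.eq_zero_or_pos n with rfl | hpos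
    · have : W₁ = ⊥ := Submodule.finrank_eq_zero.mp hn
      rwa [this, bot_sup_eq] at hP
    · obtain ⟨U, hUW, hUts, hUf⟩ := hP₁
      have hU0 : U ≠ ⊥ := by
        intro h
        rw [h, finrank_bot] at hUf
        omega
      obtain ⟨e, heU, he0⟩ := Submodule.exists_mem_ne_zero_of_ne_bot hU0
      obtain ⟨f, hfW, hf, hef, hPW, hsup, hW₁'n, hW₁'f, hW₁'p⟩ :=
        exists_split hW₁ (hUW heU) he0 (hUts e heU)
      have he := hUts e heU
      set W₁' := perpIn (pB Q) W₁ (span F {e, f}) with hW₁'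
      have hW₁'W : W₁' ≤ W₁ := perpIn_le _ _
      have hP₁' : PlusOn Q W₁' := by
        apply plusOn_of_plane he hf hef W₁' hW₁'p hW₁'n
        rw [hsup]
        exact ⟨U, hUW, hUts, hUf⟩
      have ho' : Orth (pB Q) W₁' W₂ := ho.mono hW₁'W le_rfl
      have hXn : NondegOn (pB Q) (W₁' ⊔ W₂) := nondegOn_sup (pB_refl Q) ho' hW₁'n hW₂
      have hXp : ∀ x ∈ W₁' ⊔ W₂, polar Q e x = 0 ∧ polar Q f x = 0 := by
        intro x hx
        obtain ⟨a, ha, b, hb, rfl⟩ := mem_sup.mp hx
        rw [polar_add_right, polar_add_right, (hW₁'p a ha).1, (hW₁'p a ha).2]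
        have h1 : polar Q e b = 0 := ho e (hUW heU) b hb
        have h2 : polar Q f b = 0 := ho f hfW b hb
        rw [h1, h2]
        simp
      have hP' : PlusOn Q (W₁' ⊔ W₂) := by
        apply plusOn_of_plane he hf hef _ hXp hXn
        rw [← sup_assoc, hsup]
        exact hP
      exact ih (finrank F W₁') (by omega) W₁' W₂ rfl ho' hW₁'n hW₂ hP₁' hP'

end plane2

end Cfsg.Agent.Lib.Helper3.Orth
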