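import Mathlib
import Cfsg.Agent.Lib.Helper3.OrthType2

/-!
# Minus type: anisotropic planes, `(-) ⊥ (-) = (+)`, existence of subspaces of both types
(finite fields of odd characteristic)
-/

set_option autoImplicit false

namespace Cfsg.Agent.Lib.Helper3.Orth

open Module Submodule QuadraticMap Cfsg.Agent.Lib.Helper15 Cfsg.Agent.Lib.Helper15.PSpI

section aniso

variable {F V : Type*} [Field F] [AddCommGroup V] [Module F V]
variable {Q : QuadraticForm F V}

theorem polar_self' (x : V) : polar Q x x = 2 * Q x := by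
  rw [polar_self, two_smul, two_mul]

/-- `Q` is anisotropic on `A` -/
def AnisoOn (Q : QuadraticForm F V) (A : Submodule F V) : Prop := ∀ a ∈ A, Q a = 0 → a = 0

theorem AnisoOn.nondeg (h2 : (2 : F) ≠ 0) {A : Submodule F V} (h : AnisoOn Q A) :
    NondegOn (pB Q) A := by
  intro a ha h0
  apply h a ha
  have h1 := h0 a ha
  rw [pB_apply, polar_self'] at h1
  exact (mul_eq_zero.mp h1).resolve_left h2

theorem AnisoOn.not_plus [FiniteDimensional F V] {A : Submodule F V} (h : AnisoOn Q A)
    (hA : A ≠ ⊥) : ¬ PlusOn Q A := by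
  rintro ⟨U, hUA, hUts, hUf⟩
  have hU : U = ⊥ := by
    rw [eq_bot_iff]
    intro u hu
    exact (mem_bot F).mpr (h u (hUA hu) (hUts u hu))
  rw [hU, finrank_bot] at hUf
  apply hA
  apply Submodule.finrank_eq_zero.mp
  omega

/-- a nondegenerate plane that is not of plus type is anisotropic -/
theorem anisoOn_of_not_plus [FiniteDimensional F V] {A : Submodule F V}
    (hf : finrank F A = 2) (hP : ¬ PlusOn Q A) : AnisoOn Q A := by
  intro a ha hQa
  by_contra ha0
  apply hP
  refine ⟨span F {a}, by rwa [span_singleton_le_iff_mem], ?_, ?_⟩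
  · intro u hu
    obtain ⟨c, rfl⟩ := mem_span_singleton.mp hu
    rw [QuadraticMap.map_smul, hQa, smul_zero]
  · rw [finrank_span_singleton ha0, hf]

/-- an orthogonal basis of an anisotropic plane starting with a given nonzero vector -/
theorem exists_orth_vec [FiniteDimensional F V] (h2 : (2 : F) ≠ 0) {A : Submodule F V}
    (hA : AnisoOn Q A) (hf : finrank F A = 2) {a : V} (haA : a ∈ A) (ha0 : a ≠ 0) :
    ∃ b ∈ A, b ≠ 0 ∧ polar Q a b = 0 := by
  have hQa : Q a ≠ 0 := fun h => ha0 (hA a haA h)
  have hSn : NondegOn (pB Q) (span F {a}) := by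
    intro u hu h0
    obtain ⟨c, rfl⟩ := mem_span_singleton.mp hu
    have h1 := h0 a (mem_span_singleton_self a)
    rw [pB_apply, polar_smul_left, polar_self', smul_eq_mul] at h1
    have hc : c = 0 := by
      rcases mul_eq_zero.mp h1 with h | h
      · exact h
      · exact absurd ((mul_eq_zero.mp h).resolve_left h2) hQa
    rw [hc, zero_smul]
  have hSA : span F {a} ≤ A := by rwa [span_singleton_le_iff_mem]
  have h1 := finrank_perpIn (pB_refl Q) hSA hSn
  rw [finrank_span_singleton ha0, hf] at h1
  have h3 : perpIn (pB Q) A (span F {a}) ≠ ⊥ := by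
    intro h
    rw [h, finrank_bot] at h1
    omega
  obtain ⟨b, hb, hb0⟩ := Submodule.exists_mem_ne_zero_of_ne_bot h3
  exact ⟨b, (mem_perpIn.mp hb).1, hb0, (mem_perpIn.mp hb).2 a (mem_span_singleton_self a)⟩

/-- an anisotropic plane over a finite field represents every value -/
theorem exists_value [Finite F] [FiniteDimensional F V] {A : Submodule F V}
    (hA : AnisoOn Q A) (hf : finrank F A = 2) (c : F) (hc : c ≠ 0) :
    ∃ x ∈ A, Q x = c := by
  obtain ⟨x, hx⟩ := exists_quad_eq_one ((c⁻¹ • Q).comp A.subtype) hf (by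
    intro v hv
    have h1 : c⁻¹ * Q v.1 = 0 := hv
    have h2 : Q v.1 = 0 := (mul_eq_zero.mp h1).resolve_left (inv_ne_zero hc)
    exact Subtype.ext (hA v.1 v.2 h2))
  refine ⟨x.1, x.2, ?_⟩
  have h1 : c⁻¹ * Q x.1 = 1 := hx
  field_simp at h1
  exact h1

theorem quad_pair {a b : V} (hab : polar Q a b = 0) (x y : F) :
    Q (x • a + y • b) = x * x * Q a + y * y * Q b := by
  rw [quad_add', QuadraticMap.map_smul, QuadraticMap.map_smul, polar_smul_left, polar_smul_right,
    hab]
  simp

/-- in an anisotropic plane with orthogonal basis `a, b`, `-(Q a * Q b)` is not a square -/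
theorem not_isSquare_of_aniso {A : Submodule F V} (hA : AnisoOn Q A) {a b : V} (haA : a ∈ A)
    (hbA : b ∈ A) (ha0 : a ≠ 0) (hb0 : b ≠ 0) (h2 : (2 : F) ≠ 0) (hab : polar Q a b = 0) :
    ¬ IsSquare (-(Q a * Q b)) := by
  rintro ⟨s, hs⟩
  have hQa : Q a ≠ 0 := fun h => ha0 (hA a haA h)
  have hQb : Q b ≠ 0 := fun h => hb0 (hA b hbA h)
  have h1 : Q (s • a + Q a • b) = 0 := by
    rw [quad_pair hab, ← hs]
    ring
  have h3 := hA _ (A.add_mem (A.smul_mem s haA) (A.smul_mem (Q a) hbA)) h1
  have h4 := congrArg (polar Q b) h3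
  rw [polar_add_right, polar_smul_right, polar_smul_right, polar_comm, hab, polar_self',
    polar_zero_right] at h4
  simp only [smul_eq_mul, mul_zero, zero_add] at h4
  rcases mul_eq_zero.mp h4 with h | h
  · exact hQa h
  · exact hQb ((mul_eq_zero.mp h).resolve_left h2)

end aniso

section fin

variable {F V : Type*} [Field F] [Fintype F] [AddCommGroup V] [Module F V]
  [FiniteDimensional F V]
variable {Q : QuadraticForm F V}

omit [Fintype F] in
theorem ringChar_ne_two (h2 : (2 : F) ≠ 0) : ringChar F ≠ 2 := by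
  intro h
  apply h2
  have := ringChar.Nat.cast_ringChar (R := F)
  rw [h] at this
  exact_mod_cast this

/-- the quotient of two nonsquares is a square -/
theorem exists_sq_mul {x y : F} (hx : ¬ IsSquare x) (hy : ¬ IsSquare y) :
    ∃ s : F, s ≠ 0 ∧ x = s * s * y := by
  classical
  have hx0 : x ≠ 0 := fun h => hx (h ▸ IsSquare.zero)
  have hy0 : y ≠ 0 := fun h => hy (h ▸ IsSquare.zero)
  have h1 : quadraticChar F (x * y) = 1 := by
    rw [map_mul, quadraticChar_neg_one_iff_not_isSquare.mpr hx,
      quadraticChar_neg_one_iff_not_isSquare.mpr hy]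
    norm_num
  obtain ⟨t, ht⟩ := (quadraticChar_one_iff_isSquare (mul_ne_zero hx0 hy0)).mp h1
  have ht0 : t ≠ 0 := by
    rintro rfl
    rw [mul_zero] at ht
    exact mul_ne_zero hx0 hy0 ht
  refine ⟨t / y, div_ne_zero ht0 hy0, ?_⟩
  field_simp
  rw [pow_two, ← ht]

/-- **two orthogonal anisotropic planes span a plus-type space** -/
theorem plusOn_sup_aniso (h2 : (2 : F) ≠ 0) {A A' : Submodule F V} (ho : Orth (pB Q) A A')
    (hA : AnisoOn Q A) (hA' : AnisoOn Q A') (hf : finrank F A = 2) (hf' : finrank F A' = 2) :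
    PlusOn Q (A ⊔ A') := by
  have hA0 : A ≠ ⊥ := by
    intro h
    rw [h, finrank_bot] at hf
    omega
  obtain ⟨a, haA, ha0⟩ := Submodule.exists_mem_ne_zero_of_ne_bot hA0
  obtain ⟨b, hbA, hb0, hab⟩ := exists_orth_vec h2 hA hf haA ha0
  have hQa : Q a ≠ 0 := fun h => ha0 (hA a haA h)
  have hQb : Q b ≠ 0 := fun h => hb0 (hA b hbA h)
  obtain ⟨a', ha'A, hQa'⟩ := exists_value hA' hf' (-(Q a)) (neg_ne_zero.mpr hQa)
  have ha'0 : a' ≠ 0 := by
    rintro rfl
    rw [map_zero] at hQa'
    exact neg_ne_zero.mpr hQa hQa'.symm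
  obtain ⟨b', hb'A, hb'0, hab'⟩ := exists_orth_vec h2 hA' hf' ha'A ha'0
  have hQb' : Q b' ≠ 0 := fun h => hb'0 (hA' b' hb'A h)
  have hn1 := not_isSquare_of_aniso hA haA hbA ha0 hb0 h2 hab
  have hn2 := not_isSquare_of_aniso hA' ha'A hb'A ha'0 hb'0 h2 hab'
  obtain ⟨s, hs0, hs⟩ := exists_sq_mul hn2 hn1
  rw [hQa'] at hs
  -- `Q b' = - s² Q b`
  have hb'' : Q (s⁻¹ • b') = -(Q b) := by
    rw [QuadraticMap.map_smul, smul_eq_mul]
    have h3 : Q b' = -(s * s * Q b) := by
      have h4 : Q a * Q b' = Q a * (-(s * s * Q b)) := by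
        have : -(-Q a * Q b') = s * s * -(Q a * Q b) := hs
        linear_combination this
      exact mul_left_cancel₀ hQa h4
    rw [h3]
    field_simp
  set b'' := s⁻¹ • b' with hb''def
  have hb''A : b'' ∈ A' := A'.smul_mem _ hb'A
  have hab'' : polar Q a' b'' = 0 := by rw [hb''def, polar_smul_right, hab', smul_zero]
  have hdis : Disjoint A A' := orth_disjoint (pB_refl Q) ho (hA.nondeg h2)
  -- cross terms
  have c1 : polar Q a a' = 0 := ho a haA a' ha'A
  have c2 : polar Q a b'' = 0 := ho a haA b'' hb''A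
  have c3 : polar Q b a' = 0 := ho b hbA a' ha'A
  have c4 : polar Q b b'' = 0 := ho b hbA b'' hb''A
  have hu : Q (a + a') = 0 := by rw [quad_add', hQa', c1]; ring
  have hv : Q (b + b'') = 0 := by rw [quad_add', hb'', c4]; ring
  have huv : polar Q (a + a') (b + b'') = 0 := by
    rw [polar_add_left, polar_add_right, polar_add_right, hab, c2, hab'']
    have : polar Q a' b = 0 := by rw [polar_comm]; exact c3
    rw [this]
    ring
  refine ⟨span F {a + a', b + b''}, ?_, ?_, ?_⟩
  · rw [span_le]
    rintro x (rfl | rfl)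
    · exact add_mem (mem_sup_left haA) (mem_sup_right ha'A)
    · exact add_mem (mem_sup_left hbA) (mem_sup_right hb''A)
  · intro w hw
    obtain ⟨x, y, rfl⟩ := mem_span_pair.mp hw
    rw [quad_pair huv, hu, hv]
    ring
  · rw [finrank_sup_of_orth (pB_refl Q) ho (hA.nondeg h2), hf, hf']
    have hli : LinearIndependent F ![a + a', b + b''] := by
      rw [LinearIndependent.pair_iff]
      intro x y h
      have h5 : x • a + y • b = -(x • a' + y • b'') := by
        rw [eq_neg_iff_add_eq_zero]
        rw [← h]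
        simp only [smul_add]
        abel
      have h6 : x • a + y • b ∈ A := A.add_mem (A.smul_mem _ haA) (A.smul_mem _ hbA)
      have h7 : x • a + y • b ∈ A' := by
        rw [h5]
        exact A'.neg_mem (A'.add_mem (A'.smul_mem _ ha'A) (A'.smul_mem _ hb''A))
      have h8 : x • a + y • b = 0 := (Submodule.disjoint_def.mp hdis) _ h6 h7
      have h9 := congrArg (polar Q a) h8
      have h10 := congrArg (polar Q b) h8
      rw [polar_add_right, polar_smul_right, polar_smul_right, hab, polar_self',
        polar_zero_right] at h9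
      have hba : polar Q b a = 0 := by rw [polar_comm]; exact hab
      rw [polar_add_right, polar_smul_right, polar_smul_right, hba, polar_self',
        polar_zero_right] at h10
      simp only [smul_eq_mul, mul_zero, add_zero, zero_add] at h9 h10
      constructor
      · rcases mul_eq_zero.mp h9 with h | h
        · exact h
        · exact absurd ((mul_eq_zero.mp h).resolve_left h2) hQa
      · rcases mul_eq_zero.mp h10 with h | h
        · exact h
        · exact absurd ((mul_eq_zero.mp h).resolve_left h2) hQb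
    have h := finrank_span_eq_card hli
    have hr : Set.range ![a + a', b + b''] = {a + a', b + b''} := by
      ext x
      simp only [Matrix.range_cons, Matrix.range_empty, Set.union_empty, Set.mem_union,
        Set.mem_singleton_iff, Set.mem_insert_iff]
    rw [hr] at h
    rw [h]
    simp

end fin

end Cfsg.Agent.Lib.Helper3.Orth
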