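import Mathlib
import Cfsg.Agent.Lib.Helper3.OrthType3

/-!
# `(-) ⊥ (-) = (+)` in general, and existence of nondegenerate subspaces of both types
-/

set_option autoImplicit false

namespace Cfsg.Agent.Lib.Helper3.Orth

open Module Submodule QuadraticMap Cfsg.Agent.Lib.Helper15 Cfsg.Agent.Lib.Helper15.PSpI

section fin

variable {F V : Type*} [Field F] [Fintype F] [AddCommGroup V] [Module F V]
  [FiniteDimensional F V]
variable {Q : QuadraticForm F V}

/-- a singular vector in a subspace of dimension at least three -/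
theorem exists_sing_in {W : Submodule F V} (h3 : 3 ≤ finrank F W) :
    ∃ e ∈ W, e ≠ 0 ∧ Q e = 0 := by
  obtain ⟨x, hx0, hx⟩ := exists_singular_of_three_le_finrank (Q.comp W.subtype) h3
  exact ⟨x.1, x.2, fun h => hx0 (Subtype.ext h), hx⟩

/-- splitting a hyperbolic plane off a subspace that is not of plus type -/
theorem split_not_plus {W : Submodule F V} (hW : NondegOn (pB Q) W) (h3 : 3 ≤ finrank F W)
    (hP : ¬ PlusOn Q W) :
    ∃ (e f : V) (W' : Submodule F V), Q e = 0 ∧ Q f = 0 ∧ polar Q e f = 1 ∧ span F {e, f} ≤ W ∧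
      W' ≤ W ∧ span F {e, f} ⊔ W' = W ∧ NondegOn (pB Q) W' ∧ finrank F W' + 2 = finrank F W ∧
      (∀ x ∈ W', polar Q e x = 0 ∧ polar Q f x = 0) ∧ ¬ PlusOn Q W' := by
  obtain ⟨e, heW, he0, he⟩ := exists_sing_in (Q := Q) h3
  obtain ⟨f, hfW, hf, hef, hPW, hsup, hW'n, hW'f, hW'p⟩ := exists_split hW heW he0 he
  refine ⟨e, f, _, he, hf, hef, hPW, perpIn_le _ _, hsup, hW'n, hW'f, hW'p, ?_⟩
  intro hP'
  apply hP
  rw [← hsup]
  exact plusOn_sup (hyp_plane_orth hW'p) (hyp_plane_nondeg he hf hef) (hyp_plane_plus he hf hef) hP'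

/-- **(T2)** the orthogonal sum of two subspaces of minus type has plus type -/
theorem plusOn_sup_of_not_plus (h2 : (2 : F) ≠ 0) : ∀ (n : ℕ) (W₁ W₂ : Submodule F V),
    finrank F W₁ + finrank F W₂ = n → Orth (pB Q) W₁ W₂ → NondegOn (pB Q) W₁ →
    NondegOn (pB Q) W₂ → Even (finrank F W₁) → Even (finrank F W₂) → ¬ PlusOn Q W₁ →
    ¬ PlusOn Q W₂ → PlusOn Q (W₁ ⊔ W₂) := by
  intro n
  induction n using Nat.strong_induction_on with
  | _ n ih =>
    intro W₁ W₂ hn ho hW₁ hW₂ he₁ he₂ hP₁ hP₂
    by_cases h31 : 3 ≤ finrank F W₁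
    · obtain ⟨e, f, W', he, hf, hef, hPW, hW'W, hsup, hW'n, hW'f, hW'p, hW'P⟩ :=
        split_not_plus hW₁ h31 hP₁
      have ho' : Orth (pB Q) W' W₂ := ho.mono hW'W le_rfl
      have hev : Even (finrank F W') := by
        rcases he₁ with ⟨k, hk⟩
        exact ⟨k - 1, by omega⟩
      have h1 := ih (finrank F W' + finrank F W₂) (by omega) W' W₂ rfl ho' hW'n hW₂ hev he₂
        hW'P hP₂
      have hXp : ∀ x ∈ W' ⊔ W₂, polar Q e x = 0 ∧ polar Q f x = 0 := by
        intro x hx
        obtain ⟨a, ha, b, hb, rfl⟩ := mem_sup.mp hx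
        rw [polar_add_right, polar_add_right, (hW'p a ha).1, (hW'p a ha).2]
        have h1 : polar Q e b = 0 := ho e (hPW (subset_span (by simp))) b hb
        have h2 : polar Q f b = 0 := ho f (hPW (subset_span (by simp))) b hb
        rw [h1, h2]
        simp
      rw [← hsup, sup_assoc]
      exact plusOn_sup (hyp_plane_orth hXp) (hyp_plane_nondeg he hf hef)
        (hyp_plane_plus he hf hef) h1
    by_cases h32 : 3 ≤ finrank F W₂
    · obtain ⟨e, f, W', he, hf, hef, hPW, hW'W, hsup, hW'n, hW'f, hW'p, hW'P⟩ :=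
        split_not_plus hW₂ h32 hP₂
      have ho' : Orth (pB Q) W₁ W' := ho.mono le_rfl hW'W
      have hev : Even (finrank F W') := by
        rcases he₂ with ⟨k, hk⟩
        exact ⟨k - 1, by omega⟩
      have h1 := ih (finrank F W₁ + finrank F W') (by omega) W₁ W' rfl ho' hW₁ hW'n he₁ hev
        hP₁ hW'P
      have hXp : ∀ x ∈ W₁ ⊔ W', polar Q e x = 0 ∧ polar Q f x = 0 := by
        intro x hx
        obtain ⟨a, ha, b, hb, rfl⟩ := mem_sup.mp hx
        rw [polar_add_right, polar_add_right, (hW'p b hb).1, (hW'p b hb).2]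
        have h1 : polar Q e a = 0 := by
          rw [polar_comm]; exact ho a ha e (hPW (subset_span (by simp)))
        have h2 : polar Q f a = 0 := by
          rw [polar_comm]; exact ho a ha f (hPW (subset_span (by simp)))
        rw [h1, h2]
        simp
      have h5 : W₁ ⊔ W₂ = span F {e, f} ⊔ (W₁ ⊔ W') := by
        rw [← hsup, sup_left_comm]
      rw [h5]
      exact plusOn_sup (hyp_plane_orth hXp) (hyp_plane_nondeg he hf hef)
        (hyp_plane_plus he hf hef) h1
    · -- both are planes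
      have hf1 : finrank F W₁ = 2 := by
        rcases he₁ with ⟨k, hk⟩
        have : finrank F W₁ ≠ 0 := by
          intro h
          apply hP₁
          rw [Submodule.finrank_eq_zero.mp h]
          exact plusOn_bot
        omega
      have hf2 : finrank F W₂ = 2 := by
        rcases he₂ with ⟨k, hk⟩
        have : finrank F W₂ ≠ 0 := by
          intro h
          apply hP₂
          rw [Submodule.finrank_eq_zero.mp h]
          exact plusOn_bot
        omega
      exact plusOn_sup_aniso h2 ho (anisoOn_of_not_plus hf1 hP₁) (anisoOn_of_not_plus hf2 hP₂)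
        hf1 hf2

/-- growing a nondegenerate subspace by a hyperbolic plane -/
theorem exists_grow {X W : Submodule F V} (hX : NondegOn (pB Q) X) (hWX : W ≤ X)
    (hW : NondegOn (pB Q) W) (h3 : finrank F W + 3 ≤ finrank F X) :
    ∃ W' : Submodule F V, W ≤ W' ∧ W' ≤ X ∧ NondegOn (pB Q) W' ∧
      finrank F W' = finrank F W + 2 ∧ (PlusOn Q W' ↔ PlusOn Q W) := by
  have hYn := nondegOn_perpIn (pB_refl Q) hWX hW hX
  have hYf := finrank_perpIn (pB_refl Q) hWX hW (V' := X)
  obtain ⟨e, heY, he0, he⟩ := exists_sing_in (Q := Q) (W := perpIn (pB Q) X W) (by omega)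
  obtain ⟨f, hfY, hf, hef⟩ := exists_partner_in hYn heY he0 he
  have hWp : ∀ x ∈ W, polar Q e x = 0 ∧ polar Q f x = 0 := by
    intro x hx
    constructor
    · rw [polar_comm]; exact (mem_perpIn.mp heY).2 x hx
    · rw [polar_comm]; exact (mem_perpIn.mp hfY).2 x hx
  have hPn := hyp_plane_nondeg he hf hef
  have hPo : Orth (pB Q) (span F {e, f}) W := hyp_plane_orth hWp
  have hPX : span F {e, f} ≤ X := by
    rw [span_le]
    rintro x (rfl | rfl)
    · exact (mem_perpIn.mp heY).1
    · exact (mem_perpIn.mp hfY).1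
  refine ⟨span F {e, f} ⊔ W, le_sup_right, sup_le hPX hWX, nondegOn_sup (pB_refl Q) hPo hPn hW,
    ?_, ?_, ?_⟩
  · rw [finrank_sup_of_orth (pB_refl Q) hPo hPn, hyp_plane_finrank he hf hef]
    omega
  · exact plusOn_of_plane he hf hef W hWp hW
  · exact plusOn_sup hPo hPn (hyp_plane_plus he hf hef)

/-- nondegenerate subspaces of plus type of every even dimension below the dimension -/
theorem exists_plus_sub {X : Submodule F V} (hX : NondegOn (pB Q) X) :
    ∀ k : ℕ, 2 * k + 1 ≤ finrank F X →
      ∃ W : Submodule F V, W ≤ X ∧ NondegOn (pB Q) W ∧ finrank F W = 2 * k ∧ PlusOn Q W := by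
  intro k
  induction k with
  | zero =>
    intro _
    exact ⟨⊥, bot_le, nondegOn_bot, by rw [finrank_bot], plusOn_bot⟩
  | succ k ih =>
    intro hk
    obtain ⟨W, hWX, hWn, hWf, hWP⟩ := ih (by omega)
    obtain ⟨W', -, hW'X, hW'n, hW'f, hW'P⟩ := exists_grow hX hWX hWn (by omega)
    exact ⟨W', hW'X, hW'n, by omega, hW'P.mpr hWP⟩

/-- an anisotropic plane inside a nondegenerate subspace of dimension at least three -/
theorem exists_aniso_plane (h2 : (2 : F) ≠ 0) {X : Submodule F V} (hX : NondegOn (pB Q) X)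
    (h3 : 3 ≤ finrank F X) :
    ∃ A : Submodule F V, A ≤ X ∧ AnisoOn Q A ∧ finrank F A = 2 := by
  obtain ⟨e, heX, he0, he⟩ := exists_sing_in (Q := Q) h3
  obtain ⟨f, hfX, hf, hef, hPX, hsup, hYn, hYf, hYp⟩ := exists_split hX heX he0 he
  set Y := perpIn (pB Q) X (span F {e, f}) with hY
  have hY0 : Y ≠ ⊥ := by
    intro h
    rw [h, finrank_bot] at hYf
    omega
  obtain ⟨z, hzY, hz⟩ : ∃ z ∈ Y, Q z ≠ 0 := by
    by_contra hcon
    push Not at hcon
    have hts : TSOn Q Y := hcon
    apply hY0
    rw [eq_bot_iff]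
    intro y hy
    exact (mem_bot F).mpr (hYn y hy (fun v hv => hts.orth y hy v hv))
  obtain ⟨ν, hν⟩ := FiniteField.exists_nonsquare (ringChar_ne_two h2)
  set α := Q z with hα
  set β := -(α * ν) with hβ
  have hze : polar Q z e = 0 := by rw [polar_comm]; exact (hYp z hzY).1
  have hzf : polar Q z f = 0 := by rw [polar_comm]; exact (hYp z hzY).2
  have hv : Q (e + β • f) = β := by
    rw [quad_add', QuadraticMap.map_smul, polar_smul_right, he, hf, hef]
    simp
  have hzv : polar Q z (e + β • f) = 0 := by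
    rw [polar_add_right, polar_smul_right, hze, hzf]
    simp
  have key : ∀ x y : F, Q (x • z + y • (e + β • f)) = 0 → x = 0 ∧ y = 0 := by
    intro x y h
    rw [quad_pair hzv, hv, ← hα, hβ] at h
    have h1 : x * x = ν * (y * y) := by
      have : α * (x * x - ν * (y * y)) = 0 := by linear_combination h
      have := (mul_eq_zero.mp this).resolve_left hz
      linear_combination this
    have hy : y = 0 := by
      by_contra hy
      apply hν
      refine ⟨x / y, ?_⟩
      field_simp
      rw [pow_two, pow_two, h1]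
    rw [hy] at h1
    simp only [mul_zero] at h1
    exact ⟨mul_self_eq_zero.mp h1, hy⟩
  have hzX : z ∈ X := (mem_perpIn.mp hzY).1
  have hvX : e + β • f ∈ X := X.add_mem heX (X.smul_mem _ hfX)
  refine ⟨span F {z, e + β • f}, ?_, ?_, ?_⟩
  · rw [span_le]
    rintro x (rfl | rfl)
    · exact hzX
    · exact hvX
  · intro w hw hQw
    obtain ⟨x, y, rfl⟩ := mem_span_pair.mp hw
    obtain ⟨rfl, rfl⟩ := key x y hQw
    simp
  · have hli : LinearIndependent F ![z, e + β • f] := by
      rw [LinearIndependent.pair_iff]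
      intro x y h
      apply key x y
      rw [h, map_zero]
    have h := finrank_span_eq_card hli
    have hr : Set.range ![z, e + β • f] = {z, e + β • f} := by
      ext x
      simp only [Matrix.range_cons, Matrix.range_empty, Set.union_empty, Set.mem_union,
        Set.mem_singleton_iff, Set.mem_insert_iff]
    rw [hr] at h
    rw [h]
    simp

/-- nondegenerate subspaces of minus type of every positive even dimension below the dimension -/
theorem exists_minus_sub (h2 : (2 : F) ≠ 0) {X : Submodule F V} (hX : NondegOn (pB Q) X) :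
    ∀ k : ℕ, 1 ≤ k → 2 * k + 1 ≤ finrank F X →
      ∃ W : Submodule F V, W ≤ X ∧ NondegOn (pB Q) W ∧ finrank F W = 2 * k ∧ ¬ PlusOn Q W := by
  intro k hk1
  induction k, hk1 using Nat.le_induction with
  | base =>
    intro hk
    obtain ⟨A, hAX, hA, hAf⟩ := exists_aniso_plane h2 hX (by omega)
    have hA0 : A ≠ ⊥ := by
      intro h
      rw [h, finrank_bot] at hAf
      omega
    exact ⟨A, hAX, hA.nondeg h2, hAf, hA.not_plus hA0⟩
  | succ k hk1 ih =>
    intro hk
    obtain ⟨W, hWX, hWn, hWf, hWP⟩ := ih (by omega)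
    obtain ⟨W', -, hW'X, hW'n, hW'f, hW'P⟩ := exists_grow hX hWX hWn (by omega)
    exact ⟨W', hW'X, hW'n, by omega, fun h => hWP (hW'P.mp h)⟩

end fin

end Cfsg.Agent.Lib.Helper3.Orth
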