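import Mathlib
import Cfsg.Agent.Lib.Helper3.OrthType4
import Cfsg.Agent.Lib.Helper6.OrtS12

/-!
# Isometries of odd prime order of an odd-dimensional quadratic space: the per-element criterion

Bridge between `PlusOn` and the signs `SgnOn` of `Helper6.OrtS`, existence of subspaces of a given
sign inside an odd-dimensional nondegenerate subspace, and the analogue of `OrtS.fixes_iff` for an
ambient space of odd dimension.
-/

set_option autoImplicit false

namespace Cfsg.Agent.Lib.Helper3.Orth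

open Module Submodule QuadraticMap Cfsg.Agent.Lib.Helper15 Cfsg.Agent.Lib.Helper15.PSpI
  Cfsg.Agent.Lib.Helper15.PSpJ Cfsg.Agent.Lib.Helper15.PDec Cfsg.Agent.Lib.Helper15.PSub
  Cfsg.Agent.Lib.Helper6.OrtS

universe u

section bridge

variable {F : Type u} {V : Type*} [Field F] [Fintype F] [AddCommGroup V] [Module F V]
  [FiniteDimensional F V]
variable (Q : QuadraticForm F V)

theorem sgnOn_one_iff_plusOn (W : Submodule F V) (hW : NondegOn (polarBilin Q) W) (n : ℕ)
    (hn : finrank F W = 2 * n) : SgnOn Q W 1 ↔ PlusOn Q W := by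
  rw [sgnOn_one_iff_plus Q W hW n hn]
  constructor
  · rintro ⟨U, hUW, hU, hUf⟩
    exact ⟨U, hUW, hU, by omega⟩
  · rintro ⟨U, hUW, hU, hUf⟩
    exact ⟨U, hUW, hU, by omega⟩

theorem sgnOn_neg_one_iff (W : Submodule F V) (hW : NondegOn (polarBilin Q) W) (n : ℕ)
    (hn : finrank F W = 2 * n) : SgnOn Q W (-1) ↔ ¬ PlusOn Q W := by
  rw [← sgnOn_one_iff_plusOn Q W hW n hn]
  constructor
  · intro h h'
    have := SgnOn.unique Q h h'
    omega
  · intro h
    rcases sgnOn_cases Q hW n hn with h' | h'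
    · exact absurd h' h
    · exact h'

/-- nondegenerate subspaces of prescribed sign and even dimension `j < e` inside a nondegenerate
subspace of dimension `e` -/
theorem exists_sub_lt (h2 : (2 : F) ≠ 0) (C : Submodule F V) (hC : NondegOn (polarBilin Q) C)
    (j : ℕ) (hj : Even j) (hje : j < finrank F C) (θ : ℤ) (hθ : θ = 1 ∨ θ = -1)
    (h0 : j = 0 → θ = 1) :
    ∃ W : Submodule F V, W ≤ C ∧ NondegOn (polarBilin Q) W ∧ finrank F W = j ∧ SgnOn Q W θ := by
  obtain ⟨k, hk⟩ := hj
  have hk2 : j = 2 * k := by omega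
  rcases hθ with rfl | rfl
  · obtain ⟨W, hWC, hWn, hWf, hWP⟩ := exists_plus_sub (Q := Q) hC k (by omega)
    exact ⟨W, hWC, hWn, by omega, (sgnOn_one_iff_plusOn Q W hWn k hWf).mpr hWP⟩
  · have hk1 : 1 ≤ k := by
      by_contra h
      have : j = 0 := by omega
      have := h0 this
      omega
    obtain ⟨W, hWC, hWn, hWf, hWP⟩ := exists_minus_sub (Q := Q) h2 hC k hk1 (by omega)
    exact ⟨W, hWC, hWn, by omega, (sgnOn_neg_one_iff Q W hWn k hWf).mpr hWP⟩

end bridge

section crit

variable {F : Type u} {V : Type*} [Field F] [Fintype F] [AddCommGroup V] [Module F V]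
  [FiniteDimensional F V]
variable (Q : QuadraticForm F V)

/-- **Criterion, odd dimension**: an isometry of odd prime order `r ≠ p` with `s` blocks of an
odd-dimensional space fixes a nondegenerate `m`-space of sign `η` iff a numerical condition
holds. -/
theorem fixes_iff_odd (h2 : (2 : F) ≠ 0) (p : ℕ) [Fact p.Prime] [CharP F p] (r : ℕ)
    [hr : Fact r.Prime]
    (hrp : r ≠ p) (hr2 : r ≠ 2) (hQ : NondegOn (polarBilin Q) ⊤) (y : V →ₗ[F] V)
    (hQy : ∀ v, Q (y v) = Q v) (hy : y ^ r = 1) (n : ℕ) (hn : finrank F V = n) (hno : Odd n)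
    (s : ℕ)
    (hs : finrank F (movPart (polarBilin Q) y ⊤) =
      cOf (orderOf ((Fintype.card F : ℕ) : ZMod r)) * s)
    (m : ℕ) (hm : Even m) (η : ℤ) (hη : η = 1 ∨ η = -1) :
    (∃ W : Submodule F V, finrank F W = m ∧ NondegOn (polarBilin Q) W ∧ SgnOn Q W η ∧
      W.map y ≤ W) ↔
    ∃ t, t ≤ s ∧ cOf (orderOf ((Fintype.card F : ℕ) : ZMod r)) * t ≤ m ∧
      m - cOf (orderOf ((Fintype.card F : ℕ) : ZMod r)) * t <
        n - cOf (orderOf ((Fintype.card F : ℕ) : ZMod r)) * s ∧
      (m = cOf (orderOf ((Fintype.card F : ℕ) : ZMod r)) * t →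
        η = tau (orderOf ((Fintype.card F : ℕ) : ZMod r)) t) := by
  have hS := pB_symm Q
  have hiso := iso_of_Q Q y hQy
  have hr0 : (r : F) ≠ 0 := ne_zero_of_ne' p r hr.out hrp
  have hinj : Function.Injective y :=
    injective_of_pow_eq_smul y r 1 one_ne_zero (by rw [hy, one_smul]) hr.out.ne_zero
  have htop : (⊤ : Submodule F V).map y = ⊤ :=
    map_eq_of_invt y hinj ⊤ (by
      rw [Module.End.mem_invtSubmodule_iff_map_le]
      exact le_top)
  obtain ⟨hKx, hKn, hKE, hdim, hsup, hCK⟩ :=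
    movPart_props' hS y hiso r hr.out.ne_zero hr0 hy ⊤ htop hQ
  have hEn := nondegOn_fixed y hiso r hr0 hy ⊤ htop hQ
  rw [finrank_top, hn, hs] at hdim
  have hipos : 0 < orderOf ((Fintype.card F : ℕ) : ZMod r) := orderOf_pos_of_ne p r hrp
  obtain ⟨i, hi⟩ : ∃ i, i = orderOf ((Fintype.card F : ℕ) : ZMod r) := ⟨_, rfl⟩
  rw [← hi] at hs hdim hipos ⊢
  obtain ⟨c, hc⟩ : ∃ c, c = cOf i := ⟨_, rfl⟩
  rw [← hc] at hs hdim ⊢
  have hcpos : 0 < c := by rw [hc]; exact cOf_pos hipos
  have hce : Even c := by rw [hc]; exact cOf_even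
  obtain ⟨c', hc'⟩ := hce
  obtain ⟨m', hm'⟩ := hm
  obtain ⟨n', hn'⟩ := hno
  have hEf : finrank F ↥((⊤ : Submodule F V) ⊓ Module.End.eigenspace y 1) = n - c * s := by omega
  have hcsn : c * s ≤ n := by omega
  constructor
  · rintro ⟨W, hWf, hWn, hWs, hWy⟩
    have hWx : W.map y = W :=
      map_eq_of_invt y hinj W ((Module.End.mem_invtSubmodule_iff_map_le _).mpr hWy)
    obtain ⟨h1x, h1n, h1E, hWdim, hWsup, h01⟩ :=
      movPart_props' hS y hiso r hr.out.ne_zero hr0 hy W hWx hWn
    obtain ⟨t, ht⟩ := movPart_profile' p r hrp hr2 hS y hiso hy W hWx hWn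
    rw [← hi, ← hc] at ht
    have h0n := nondegOn_fixed y hiso r hr0 hy W hWx hWn
    have h1K : movPart (polarBilin Q) y W ≤ movPart (polarBilin Q) y ⊤ := by
      intro v hv
      refine mem_perpIn.mpr ⟨mem_top, fun u hu => ?_⟩
      exact orth_fixed_of_fpf y hiso r hr0 hy _ h1x h1E u hu.2 v hv
    have hts : t ≤ s := by
      have := Submodule.finrank_mono h1K
      rw [ht, hs] at this
      exact Nat.le_of_mul_le_mul_left this hcpos
    rw [hWf, ht] at hWdim
    have h0f : finrank F ↥(W ⊓ Module.End.eigenspace y 1) = m - c * t := by omega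
    have hle : W ⊓ Module.End.eigenspace y 1 ≤ ⊤ ⊓ Module.End.eigenspace y 1 :=
      inf_le_inf_right _ le_top
    have hle' := Submodule.finrank_mono hle
    rw [h0f, hEf] at hle'
    refine ⟨t, hts, by omega, ?_, ?_⟩
    · -- parity
      have h1 : c * t = 2 * (c' * t) := by rw [hc']; ring
      have h2 : c * s = 2 * (c' * s) := by rw [hc']; ring
      omega
    · intro hmt
      have hb : W ⊓ Module.End.eigenspace y 1 = ⊥ := by
        apply Submodule.finrank_eq_zero.mp
        rw [h0f, hmt]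
        omega
      rw [hb, bot_sup_eq] at hWsup
      rw [hWsup] at h1x h1E ht
      have := sign_of_fpf Q p r hrp hr2 y hQy hy W h1x h1E t (by rw [ht, hc, hi]) hη hWs
      rw [← hi] at this
      exact this
  · rintro ⟨t, hts, htm, hlt, hsign⟩
    obtain ⟨D, hDK, hDx, hDn, hDf⟩ := exists_moved_sub' p r hrp hr2 hS y hiso hy _ hKx hKn hKE s
      (by rw [hs, hc, hi]) t hts
    rw [← hi, ← hc] at hDf
    have hDE : D ⊓ Module.End.eigenspace y 1 = ⊥ := by
      rw [eq_bot_iff, ← hKE]
      exact inf_le_inf_right _ hDK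
    have hDf2 : finrank F D = 2 * (c' * t) := by
      rw [hDf, hc']; ring
    have hDs : SgnOn Q D (tau i t) := by
      rcases sgnOn_cases Q hDn _ hDf2 with h | h
      · have := sign_of_fpf Q p r hrp hr2 y hQy hy _ hDx hDE t (by rw [hDf, hc, hi]) (Or.inl rfl) h
        rw [← hi] at this
        rwa [← this]
      · have := sign_of_fpf Q p r hrp hr2 y hQy hy _ hDx hDE t (by rw [hDf, hc, hi]) (Or.inr rfl) h
        rw [← hi] at this
        rwa [← this]
    have hθ1 : η * tau i t = 1 ∨ η * tau i t = -1 := by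
      rcases hη with rfl | rfl <;> rcases tau_cases i t with h | h <;> rw [h] <;> simp
    have heven_j : Even (m - c * t) := by
      refine ⟨m' - c' * t, ?_⟩
      have : c * t = 2 * (c' * t) := by rw [hc']; ring
      omega
    obtain ⟨W₀, hW₀E, hW₀n, hW₀f, hW₀s⟩ := exists_sub_lt Q h2 _ hEn (m - c * t) heven_j
      (by rw [hEf]; exact hlt) (η * tau i t) hθ1 (by
        intro h0
        have : m = c * t := by omega
        rw [hsign this, tau_sq])
    have ho : Orth (polarBilin Q) W₀ D := hCK.mono hW₀E hDK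
    have hd := Cfsg.Agent.Lib.Helper6.OrtS.orth_disjoint hS ho hW₀n
    refine ⟨W₀ ⊔ D, ?_, nondegOn_sup' hS ho hW₀n hDn, ?_, ?_⟩
    · rw [finrank_sup_of_orth' hS ho hW₀n, hW₀f, hDf]
      omega
    · have h1 := sgnOn_sup Q ho hd (by rw [hW₀f]; exact heven_j) ⟨c' * t, by rw [hDf2]; ring⟩
        hW₀s hDs
      have h2 : η * tau i t * tau i t = η := by rw [mul_assoc, tau_sq, mul_one]
      rwa [h2] at h1
    · rw [Submodule.map_sup, hDx]
      apply sup_le_sup_right
      rintro _ ⟨u, hu, rfl⟩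
      rw [fix_of_mem_inf y (hW₀E hu)]
      exact hu

end crit

end Cfsg.Agent.Lib.Helper3.Orth
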