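import Mathlib
import Cfsg.Agent.Lib.Helper3.OrthOdd1

/-!
# The counting lemma without parity assumption

Variant of `Helper6.OrtS.not_dvd_card_NSet` (same proof) in which the ambient dimension is
arbitrary and the existence of a member inside the fixed space is a hypothesis.
-/

set_option autoImplicit false

namespace Cfsg.Agent.Lib.Helper3.Orth

open Module Submodule QuadraticMap Cfsg.Agent.Lib.Helper15 Cfsg.Agent.Lib.Helper15.PSpI
  Cfsg.Agent.Lib.Helper15.PSpJ Cfsg.Agent.Lib.Helper15.PDec Cfsg.Agent.Lib.Helper15.PSub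
  Cfsg.Agent.Lib.Helper6.OrtS

universe u

section count

variable {F : Type u} {V : Type*} [Field F] [Fintype F] [AddCommGroup V] [Module F V]
  [FiniteDimensional F V]
variable (Q : QuadraticForm F V)

/-- **Counting lemma**: if the block size exceeds `m` and the fixed space of `y` has dimension less
than the block size but contains a member, then `r` does not divide the number of nondegenerate
`m`-subspaces of sign `η`. -/
theorem not_dvd_card_NSet_of_mem (p : ℕ) [Fact p.Prime] [CharP F p] (r : ℕ) [hr : Fact r.Prime]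
    (hrp : r ≠ p) (hr2 : r ≠ 2) (hQ : NondegOn (polarBilin Q) ⊤) (y : V →ₗ[F] V)
    (hQy : ∀ v, Q (y v) = Q v) (hy : y ^ r = 1) (n : ℕ) (hn : finrank F V = n) (s : ℕ)
    (hs : finrank F (movPart (polarBilin Q) y ⊤) =
      cOf (orderOf ((Fintype.card F : ℕ) : ZMod r)) * s)
    (m : ℕ) (hm : Even m) (η : ℤ)
    (hcm : m < cOf (orderOf ((Fintype.card F : ℕ) : ZMod r)))
    (hk : n - cOf (orderOf ((Fintype.card F : ℕ) : ZMod r)) * s <
      cOf (orderOf ((Fintype.card F : ℕ) : ZMod r)))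
    (W₀ : Submodule F V) (hW₀ : W₀ ∈ NSet Q m η) (hW₀E : W₀ ≤ Module.End.eigenspace y 1) :
    ¬ r ∣ Nat.card (NSet Q m η) := by
  classical
  have hS := pB_symm Q
  have hiso := iso_of_Q Q y hQy
  have hr0 : (r : F) ≠ 0 := ne_zero_of_ne' p r hr.out hrp
  have hinj : Function.Injective y :=
    injective_of_pow_eq_smul y r 1 one_ne_zero (by rw [hy, one_smul]) hr.out.ne_zero
  have htop : (⊤ : Submodule F V).map y = ⊤ :=
    map_eq_of_invt y hinj ⊤ (by
      rw [Module.End.mem_invtSubmodule_iff_map_le]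
      exact le_top)
  obtain ⟨hKx, hKn, hKE, hdim, hsup, hCK⟩ :=
    movPart_props' hS y hiso r hr.out.ne_zero hr0 hy ⊤ htop hQ
  have hEn := nondegOn_fixed y hiso r hr0 hy ⊤ htop hQ
  rw [finrank_top, hn, hs] at hdim
  have hipos : 0 < orderOf ((Fintype.card F : ℕ) : ZMod r) := orderOf_pos_of_ne p r hrp
  obtain ⟨i, hi⟩ : ∃ i, i = orderOf ((Fintype.card F : ℕ) : ZMod r) := ⟨_, rfl⟩
  obtain ⟨c, hc⟩ : ∃ c, c = cOf i := ⟨_, rfl⟩
  have hcpos : 0 < c := by rw [hc, hi]; exact cOf_pos hipos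
  obtain ⟨K, hK⟩ : ∃ K, K = movPart (polarBilin Q) y ⊤ := ⟨_, rfl⟩
  have hfinV : Finite V := Module.finite_of_finite F
  have hfinS : Finite (Submodule F V) := Finite.of_injective (fun W => (W : Set V))
    SetLike.coe_injective
  -- `W ≤ E` iff `W ⊥ K`
  have hEK : perpIn (polarBilin Q) ⊤ K = ⊤ ⊓ Module.End.eigenspace y 1 := by
    rw [hK]
    exact perpIn_perpIn hS le_top hEn hQ
  have hle_iff : ∀ W : Submodule F V, W ≤ Module.End.eigenspace y 1 ↔
      Orth (polarBilin Q) W K := by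
    intro W
    constructor
    · intro h u hu v hv
      have : u ∈ perpIn (polarBilin Q) ⊤ K := by
        rw [hEK]
        exact ⟨mem_top, h hu⟩
      rw [hS]
      exact (mem_perpIn.mp this).2 v hv
    · intro h u hu
      have : u ∈ perpIn (polarBilin Q) ⊤ K :=
        mem_perpIn.mpr ⟨mem_top, fun v hv => by rw [hS]; exact h u hu v hv⟩
      rw [hEK] at this
      exact this.2
  -- step 1: the congruence
  let f : Function.End (NSet Q m η) := fun W => ⟨W.1.map y, map_mem_NSet Q y hQy hinj W.2⟩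
  have hfpow : ∀ (k : ℕ) (W : NSet Q m η), ((f ^ k) W).1 = W.1.map (y ^ k) := by
    intro k
    induction k with
    | zero =>
      intro W
      show W.1 = W.1.map (1 : V →ₗ[F] V)
      exact (Submodule.map_id W.1).symm
    | succ k ih =>
      intro W
      rw [pow_succ', pow_succ']
      show ((f ^ k) W).1.map y = _
      rw [ih, ← Submodule.map_comp]
      rfl
  have hfr : f ^ r ^ 1 = 1 := by
    rw [pow_one]
    funext W
    apply Subtype.ext
    rw [hfpow, hy]
    exact Submodule.map_id W.1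
  have hfinN : Finite (NSet Q m η) := Subtype.finite
  haveI : Fintype (NSet Q m η) := Fintype.ofFinite _
  have hmod := Equiv.Perm.card_fixedPoints_modEq (f := f) (p := r) (n := 1) hfr
  -- step 2: the fixed points
  let Fix : Set (Submodule F V) := {W | W ∈ NSet Q m η ∧ Orth (polarBilin Q) W K}
  have hfixeq : Fintype.card (Function.fixedPoints f) = Nat.card Fix := by
    rw [← Nat.card_eq_fintype_card]
    apply Nat.card_congr
    refine
      { toFun := fun W => ⟨W.1.1, W.1.2, ?_⟩
        invFun := fun W => ⟨⟨W.1, W.2.1⟩, ?_⟩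
        left_inv := fun W => rfl
        right_inv := fun W => rfl }
    · rw [← hle_iff]
      have h1 : f W.1 = W.1 := W.2
      have h2 : W.1.1.map y = W.1.1 := congrArg Subtype.val h1
      exact le_fixed_of_small Q p r hrp hr2 y hQy hy _ h2 W.1.2.2.1 (by
        rw [W.1.2.1, ← hi, ← hc]
        rw [← hi, ← hc] at hcm
        exact hcm)
    · show f ⟨W.1, W.2.1⟩ = ⟨W.1, W.2.1⟩
      apply Subtype.ext
      show W.1.map y = W.1
      have hle := (hle_iff W.1).mpr W.2.2
      apply le_antisymm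
      · rintro _ ⟨u, hu, rfl⟩
        have := hle hu
        rw [Module.End.mem_eigenspace_iff, one_smul] at this
        rw [this]
        exact hu
      · intro u hu
        have := hle hu
        rw [Module.End.mem_eigenspace_iff, one_smul] at this
        exact ⟨u, hu, this⟩
  -- step 3: a member
  rw [← hi, ← hc] at hk hcm hs hdim
  obtain ⟨hW₀f, hW₀n, hW₀s⟩ := hW₀
  have hW₀Fix : W₀ ∈ Fix :=
    ⟨⟨hW₀f, hW₀n, hW₀s⟩, (hle_iff W₀).mp hW₀E⟩
  -- step 4: the group
  letI := subAction (fixGroup Q K)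
  have hfinG : Finite (V ≃ₗ[F] V) :=
    Finite.of_injective (fun g => (g : V → V)) DFunLike.coe_injective
  have hfinG' : Finite (fixGroup Q K) := Subtype.finite
  have horb : MulAction.orbit (fixGroup Q K) W₀ = Fix := by
    ext W
    constructor
    · rintro ⟨g, rfl⟩
      obtain ⟨hg1, hg2⟩ := g.2
      have hginj : Function.Injective ((g : V ≃ₗ[F] V) : V →ₗ[F] V) := (g : V ≃ₗ[F] V).injective
      refine ⟨map_mem_NSet Q _ hg1 hginj hW₀Fix.1, ?_⟩
      rintro _ ⟨u, hu, rfl⟩ v hv
      show polarBilin Q ((g : V ≃ₗ[F] V) u) v = 0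
      rw [← hg2 v hv]
      have := iso_of_Q Q ((g : V ≃ₗ[F] V) : V →ₗ[F] V) hg1 u v
      rw [show ((g : V ≃ₗ[F] V) u) = ((g : V ≃ₗ[F] V) : V →ₗ[F] V) u from rfl,
        show ((g : V ≃ₗ[F] V) v) = ((g : V ≃ₗ[F] V) : V →ₗ[F] V) v from rfl, this]
      exact hW₀Fix.2 u hu v hv
    · rintro ⟨⟨hWf, hWn, hWs⟩, hWK⟩
      obtain ⟨g, hg1, hg2, hg3⟩ := exists_isometry_fixing Q hQ K W₀ W hW₀n hWn hW₀Fix.2 hWK m hm
        hW₀f hWf hW₀s hWs
      exact ⟨⟨g, hg1, hg2⟩, hg3⟩
  have hdvd : Nat.card Fix ∣ Nat.card (fixGroup Q K) := by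
    haveI : Fintype (fixGroup Q K) := Fintype.ofFinite _
    haveI : Fintype (MulAction.orbit (fixGroup Q K) W₀) := Fintype.ofFinite _
    haveI : Fintype (MulAction.stabilizer (fixGroup Q K) W₀) := Fintype.ofFinite _
    have h1 := MulAction.card_orbit_mul_card_stabilizer_eq_card_group (fixGroup Q K) W₀
    rw [← horb, Nat.card_eq_fintype_card, Nat.card_eq_fintype_card]
    exact ⟨_, h1.symm⟩
  -- step 5: the order of the group
  have hnot : ¬ r ∣ Nat.card (fixGroup Q K) := by
    intro hdiv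
    obtain ⟨g, hg⟩ := exists_prime_orderOf_dvd_card' r hdiv
    obtain ⟨hg1, hg2⟩ := g.2
    let y₂ : V →ₗ[F] V := ((g : V ≃ₗ[F] V) : V →ₗ[F] V)
    have hy₂r : y₂ ^ r = 1 := by
      have h1 : g ^ r = 1 := by rw [← hg]; exact pow_orderOf_eq_one g
      have h2 : ((g : V ≃ₗ[F] V)) ^ r = 1 := by
        have := congrArg Subtype.val h1
        simpa using this
      have h3 := congrArg LinearEquiv.automorphismGroup.toLinearMapMonoidHom h2
      rw [map_pow, map_one] at h3
      exact h3
    have hy₂1 : y₂ ≠ 1 := by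
      intro h
      have h1 : (g : V ≃ₗ[F] V) = 1 := by
        apply LinearEquiv.toLinearMap_injective
        exact h
      have h2 : g = 1 := Subtype.ext h1
      rw [h2, orderOf_one] at hg
      exact hr.out.one_lt.ne hg
    have hiso₂ := iso_of_Q Q y₂ hg1
    have hinj₂ : Function.Injective y₂ := (g : V ≃ₗ[F] V).injective
    have htop₂ : (⊤ : Submodule F V).map y₂ = ⊤ :=
      map_eq_of_invt y₂ hinj₂ ⊤ (by
        rw [Module.End.mem_invtSubmodule_iff_map_le]
        exact le_top)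
    obtain ⟨-, -, -, hdim₂, hsup₂, -⟩ :=
      movPart_props' hS y₂ hiso₂ r hr.out.ne_zero hr0 hy₂r ⊤ htop₂ hQ
    obtain ⟨s₂, hs₂⟩ := movPart_profile' p r hrp hr2 hS y₂ hiso₂ hy₂r ⊤ htop₂ hQ
    rw [← hi, ← hc] at hs₂
    have hs₂pos : 1 ≤ s₂ := by
      by_contra h
      have h0 : s₂ = 0 := by omega
      rw [h0, mul_zero] at hs₂
      have hb : movPart (polarBilin Q) y₂ ⊤ = ⊥ := Submodule.finrank_eq_zero.mp hs₂
      rw [hb, sup_bot_eq] at hsup₂
      apply hy₂1
      apply LinearMap.ext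
      intro v
      have h7 : v ∈ (⊤ : Submodule F V) ⊓ Module.End.eigenspace y₂ 1 := by rw [hsup₂]; exact mem_top
      have h8 := (Submodule.mem_inf.mp h7).2
      rw [Module.End.mem_eigenspace_iff, one_smul] at h8
      exact h8
    have hKle : K ≤ ⊤ ⊓ Module.End.eigenspace y₂ 1 := by
      intro v hv
      refine Submodule.mem_inf.mpr ⟨mem_top, ?_⟩
      rw [Module.End.mem_eigenspace_iff, one_smul]
      exact hg2 v hv
    have h5 := Submodule.finrank_mono hKle
    rw [finrank_top, hn, hs₂] at hdim₂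
    rw [hK, hs] at h5
    have h6 : c * 1 ≤ c * s₂ := Nat.mul_le_mul_left _ hs₂pos
    omega
  -- conclusion
  intro hN
  rw [Nat.card_eq_fintype_card] at hN
  have h1 : r ∣ Fintype.card (Function.fixedPoints f) :=
    (Nat.modEq_zero_iff_dvd.mp ((hmod.symm.trans (Nat.modEq_zero_iff_dvd.mpr hN))))
  rw [hfixeq] at h1
  exact hnot (h1.trans hdvd)

end count

end Cfsg.Agent.Lib.Helper3.Orth
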