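import Mathlib
import Cfsg.Agent.Lib.Helper3.OrthOdd2
import Cfsg.Agent.Lib.Helper14.OrthOrd2

/-!
# Elements of odd prime order of `O_{2d+1}(q)` with a prescribed number of blocks
-/

set_option autoImplicit false

namespace Cfsg.Agent.Lib.Helper3.Orth

open Module Submodule QuadraticMap Polynomial Cfsg.Agent.Lib.Helper15 Cfsg.Agent.Lib.Helper15.PSpI
  Cfsg.Agent.Lib.Helper15.PSpJ Cfsg.Agent.Lib.Helper15.PDec Cfsg.Agent.Lib.Helper15.PSub
  Cfsg.Agent.Lib.Helper6.OrtS Cfsg.Agent.Lib.Helper14.OrthOrd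

universe u

section elts

variable {F : Type u} [Field F] [Fintype F]

/-- matrices of order `r` preserving the standard odd-dimensional form with `s` blocks -/
theorem exists_elt_odd (h2 : (2 : F) ≠ 0) (p : ℕ) [Fact p.Prime] [CharP F p] (r : ℕ)
    [hr : Fact r.Prime] (hr2 : r ≠ 2) (hrp : r ≠ p) (d s : ℕ) (hs : 1 ≤ s)
    (hsd : cOf (orderOf ((Fintype.card F : ℕ) : ZMod r)) * s ≤ 2 * d) :
    ∃ M : Matrix (Unit ⊕ (Fin d ⊕ Fin d)) (Unit ⊕ (Fin d ⊕ Fin d)) F,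
      (∀ v, Cfsg.quadFormOdd d F (M.mulVec v) = Cfsg.quadFormOdd d F v) ∧ M ^ r = 1 ∧
      finrank F (Module.End.eigenspace (Matrix.toLin' M) 1) =
        2 * d + 1 - cOf (orderOf ((Fintype.card F : ℕ) : ZMod r)) * s := by
  have hodd : Odd r := hr.out.odd_of_ne_two hr2
  have hr0 : (r : F) ≠ 0 := ne_zero_of_ne' p r hr.out hrp
  obtain ⟨x, hx1, hx2, -⟩ := exists_elt (F := F) p r hr2 hrp d s hs hsd
  obtain ⟨S, hS⟩ : ∃ S : Matrix (Fin d ⊕ Fin d) (Fin d ⊕ Fin d) F, S = x.1 := ⟨_, rfl⟩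
  rw [← hS] at hx1 hx2
  have hSr : S ^ r = 1 := by
    apply Matrix.toLin'.injective
    rw [Matrix.toLin'_pow, hx1, Matrix.toLin'_one]
    rfl
  obtain ⟨A, hA1, hA2, hA3⟩ := exists_orth_of_sp h2 d r hodd hr0 S (by rw [hS]; exact x.2) hSr
  refine ⟨A, hA1, hA3, ?_⟩
  rw [finrank_fixed_eq_rootMultiplicity A r hr0 hA3, hA2]
  have hne : (X - 1 : F[X]) * S.charpoly ≠ 0 :=
    mul_ne_zero (X_sub_C_ne_zero (1 : F) |> fun h => by simpa using h) (Matrix.charpoly_monic S).ne_zero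
  rw [rootMultiplicity_mul hne, ← finrank_fixed_eq_rootMultiplicity S r hr0 hSr, hx2]
  have h1 : rootMultiplicity (1 : F) (X - 1 : F[X]) = 1 := by
    have := rootMultiplicity_X_sub_C_self (x := (1 : F))
    simpa using this
  rw [h1]
  omega

end elts

end Cfsg.Agent.Lib.Helper3.Orth
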