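import Mathlib
import Cfsg.Agent.Lib.Helper3.OrthOdd3

/-!
# Involutions of an odd-dimensional quadratic space fix nondegenerate subspaces of both signs
-/

set_option autoImplicit false

namespace Cfsg.Agent.Lib.Helper3.Orth

open Module Submodule QuadraticMap Cfsg.Agent.Lib.Helper15 Cfsg.Agent.Lib.Helper15.PSpI
  Cfsg.Agent.Lib.Helper15.PSpJ Cfsg.Agent.Lib.Helper15.PDec Cfsg.Agent.Lib.Helper15.PSub
  Cfsg.Agent.Lib.Helper6.OrtS

universe u

section planes

variable {F : Type u} {V : Type*} [Field F] [Fintype F] [AddCommGroup V] [Module F V]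
  [FiniteDimensional F V]
variable (Q : QuadraticForm F V)

/-- the span of two orthogonal nonsingular vectors, with prescribed sign -/
theorem pair_plane (h2 : (2 : F) ≠ 0) {u p : V} (hu : Q u ≠ 0) (hup : polar Q u p = 0)
    (σ : ℤ) (hσ : σ = 1 ∨ σ = -1)
    (hp : (σ = 1 → Q p = -(Q u)) ∧ (σ = -1 → ∃ ν : F, ¬ IsSquare ν ∧ Q p = -(Q u * ν))) :
    finrank F ↥(span F {u, p}) = 2 ∧ NondegOn (polarBilin Q) (span F {u, p}) ∧
      SgnOn Q (span F {u, p}) σ := by
  have hQp : Q p ≠ 0 := by
    rcases hσ with rfl | rfl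
    · rw [hp.1 rfl]; exact neg_ne_zero.mpr hu
    · obtain ⟨ν, hν, hpν⟩ := hp.2 rfl
      rw [hpν]
      apply neg_ne_zero.mpr
      apply mul_ne_zero hu
      rintro rfl
      exact hν IsSquare.zero
  have key : ∀ x y : F, Q (x • u + y • p) = x * x * Q u + y * y * Q p := fun x y => quad_pair hup x y
  have hli : LinearIndependent F ![u, p] := by
    rw [LinearIndependent.pair_iff]
    intro x y h
    have h9 := congrArg (polar Q u) h
    have h10 := congrArg (polar Q p) h
    have hpu : polar Q p u = 0 := by rw [polar_comm]; exact hup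
    rw [polar_add_right, polar_smul_right, polar_smul_right, hup, polar_self',
      polar_zero_right] at h9
    rw [polar_add_right, polar_smul_right, polar_smul_right, hpu, polar_self',
      polar_zero_right] at h10
    simp only [smul_eq_mul, mul_zero, add_zero, zero_add] at h9 h10
    constructor
    · rcases mul_eq_zero.mp h9 with h | h
      · exact h
      · exact absurd ((mul_eq_zero.mp h).resolve_left h2) hu
    · rcases mul_eq_zero.mp h10 with h | h
      · exact h
      · exact absurd ((mul_eq_zero.mp h).resolve_left h2) hQp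
  have hfr : finrank F ↥(span F {u, p}) = 2 := by
    have h := finrank_span_eq_card hli
    have hr : Set.range ![u, p] = {u, p} := by
      ext x
      simp only [Matrix.range_cons, Matrix.range_empty, Set.union_empty, Set.mem_union,
        Set.mem_singleton_iff, Set.mem_insert_iff]
    rw [hr] at h
    rw [h]
    simp
  have hnd : NondegOn (polarBilin Q) (span F {u, p}) := by
    intro w hw h0
    obtain ⟨x, y, rfl⟩ := mem_span_pair.mp hw
    have h9 := h0 u (subset_span (by simp))
    have h10 := h0 p (subset_span (by simp))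
    have hpu : polar Q p u = 0 := by rw [polar_comm]; exact hup
    rw [Cfsg.Agent.Lib.Helper6.OrtS.pB_apply, polar_add_left, polar_smul_left, polar_smul_left,
      polar_self', hpu] at h9
    rw [Cfsg.Agent.Lib.Helper6.OrtS.pB_apply, polar_add_left, polar_smul_left, polar_smul_left,
      polar_self', hup] at h10
    simp only [smul_eq_mul, mul_zero, add_zero, zero_add] at h9 h10
    have hx : x = 0 := by
      rcases mul_eq_zero.mp h9 with h | h
      · exact h
      · exact absurd ((mul_eq_zero.mp h).resolve_left h2) hu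
    have hy : y = 0 := by
      rcases mul_eq_zero.mp h10 with h | h
      · exact h
      · exact absurd ((mul_eq_zero.mp h).resolve_left h2) hQp
    rw [hx, hy]
    simp
  refine ⟨hfr, hnd, ?_⟩
  rcases hσ with rfl | rfl
  · rw [sgnOn_one_iff_plusOn Q _ hnd 1 (by rw [hfr])]
    have hne : u + p ≠ 0 := by
      intro h
      have := key 1 1
      rw [one_smul, one_smul, h, map_zero, hp.1 rfl] at this
      have h3 := LinearIndependent.pair_iff.mp hli 1 1 (by rw [one_smul, one_smul]; exact h)
      exact one_ne_zero h3.1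
    refine ⟨span F {u + p}, ?_, ?_, ?_⟩
    · rw [span_singleton_le_iff_mem]
      exact add_mem (subset_span (by simp)) (subset_span (by simp))
    · intro w hw
      obtain ⟨a, rfl⟩ := mem_span_singleton.mp hw
      have := key 1 1
      rw [one_smul, one_smul, hp.1 rfl] at this
      rw [QuadraticMap.map_smul, this]
      ring
    · rw [finrank_span_singleton hne, hfr]
  · rw [sgnOn_neg_one_iff Q _ hnd 1 (by rw [hfr])]
    obtain ⟨ν, hν, hpν⟩ := hp.2 rfl
    have han : AnisoOn Q (span F {u, p}) := by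
      intro w hw hQw
      obtain ⟨x, y, rfl⟩ := mem_span_pair.mp hw
      rw [key, hpν] at hQw
      have h1 : x * x = ν * (y * y) := by
        have : Q u * (x * x - ν * (y * y)) = 0 := by linear_combination hQw
        have := (mul_eq_zero.mp this).resolve_left hu
        linear_combination this
      have hy : y = 0 := by
        by_contra hy
        apply hν
        refine ⟨x / y, ?_⟩
        field_simp
        rw [pow_two, pow_two, h1]
      rw [hy] at h1
      simp only [mul_zero] at h1
      rw [mul_self_eq_zero.mp h1, hy]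
      simp
    apply han.not_plus
    intro h
    rw [h, finrank_bot] at hfr
    omega

/-- a vector of prescribed norm in a plus-type plane -/
theorem exists_norm_in_plus {P : Submodule F V} (hP : NondegOn (polarBilin Q) P)
    (hf : finrank F P = 2) (hPl : PlusOn Q P) (c : F) : ∃ p ∈ P, Q p = c := by
  obtain ⟨U, hUP, hUts, hUf⟩ := hPl
  have hU0 : U ≠ ⊥ := by
    intro h
    rw [h, finrank_bot] at hUf
    omega
  obtain ⟨e, heU, he0⟩ := Submodule.exists_mem_ne_zero_of_ne_bot hU0
  obtain ⟨f, hfP, hf0, hef⟩ := exists_partner_in (Q := Q) hP (hUP heU) he0 (hUts e heU)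
  refine ⟨e + c • f, P.add_mem (hUP heU) (P.smul_mem _ hfP), ?_⟩
  rw [quad_add', QuadraticMap.map_smul, polar_smul_right, hUts e heU, hf0, hef]
  simp

end planes

section invol

variable {F : Type u} {V : Type*} [Field F] [Fintype F] [AddCommGroup V] [Module F V]
  [FiniteDimensional F V]
variable (Q : QuadraticForm F V)

theorem int_sign_sq {θ : ℤ} (h : θ = 1 ∨ θ = -1) : θ * θ = 1 := by
  rcases h with rfl | rfl <;> simp

/-- **Geometry of an orthogonal splitting** `V = E ⊥ E'` with `dim E` odd, `dim E'` even: there are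
nondegenerate subspaces `W₁ ≤ E`, `W₂ ≤ E'` whose sum has prescribed even dimension and sign. -/
theorem exists_split_sub (h2 : (2 : F) ≠ 0) (E E' : Submodule F V)
    (hE : NondegOn (polarBilin Q) E) (hE' : NondegOn (polarBilin Q) E')
    (ho : Orth (polarBilin Q) E E') (hEo : Odd (finrank F E)) (hE'e : Even (finrank F E'))
    (h4 : 4 ≤ finrank F E + finrank F E')
    (m : ℕ) (hm : Even m) (hm2 : 2 ≤ m) (hmn : m + 1 ≤ finrank F E + finrank F E')
    (η : ℤ) (hη : η = 1 ∨ η = -1) :
    ∃ W₁ W₂ : Submodule F V, W₁ ≤ E ∧ W₂ ≤ E' ∧ NondegOn (polarBilin Q) (W₁ ⊔ W₂) ∧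
      finrank F ↥(W₁ ⊔ W₂) = m ∧ SgnOn Q (W₁ ⊔ W₂) η := by
  have hS := pB_symm Q
  obtain ⟨e₀, he₀⟩ := hEo
  obtain ⟨e₁, he₁⟩ := hE'e
  obtain ⟨m', hm'⟩ := hm
  by_cases h3 : 3 ≤ finrank F E
  · -- case A
    obtain ⟨a, ha⟩ : ∃ a, a = min (finrank F E - 1) m := ⟨_, rfl⟩
    have ha2 : 2 ≤ a := by rw [ha]; exact le_min (by omega) hm2
    have hae : Even a := by
      rw [ha]
      rcases le_total (finrank F E - 1) m with h | h
      · rw [min_eq_left h]; exact ⟨e₀, by omega⟩
      · rw [min_eq_right h]; exact ⟨m', hm'⟩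
    have halt : a < finrank F E := by
      rw [ha]
      exact lt_of_le_of_lt (min_le_left _ _) (by omega)
    have ham : a ≤ m := by rw [ha]; exact min_le_right _ _
    obtain ⟨b, hb⟩ : ∃ b, b = m - a := ⟨_, rfl⟩
    have hbe : Even b := by
      obtain ⟨a', ha'⟩ := hae
      exact ⟨m' - a', by omega⟩
    have hble : b ≤ finrank F E' := by
      rw [hb, ha]
      rcases le_total (finrank F E - 1) m with h | h
      · rw [min_eq_left h]; omega
      · rw [min_eq_right h]; omega
    -- the part in `E'`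
    obtain ⟨W₂, θ, hθ, hW₂E, hW₂n, hW₂f, hW₂s⟩ : ∃ (W₂ : Submodule F V) (θ : ℤ),
        (θ = 1 ∨ θ = -1) ∧ W₂ ≤ E' ∧ NondegOn (polarBilin Q) W₂ ∧ finrank F W₂ = b ∧
        SgnOn Q W₂ θ := by
      rcases lt_or_eq_of_le hble with hlt | heq
      · obtain ⟨W₂, h1, h2', h3', h4'⟩ := exists_sub_lt Q h2 E' hE' b hbe hlt 1 (Or.inl rfl)
          (fun _ => rfl)
        exact ⟨W₂, 1, Or.inl rfl, h1, h2', h3', h4'⟩
      · rcases sgnOn_cases Q hE' e₁ (by omega) with h | h
        · exact ⟨E', 1, Or.inl rfl, le_rfl, hE', heq.symm, h⟩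
        · exact ⟨E', -1, Or.inr rfl, le_rfl, hE', heq.symm, h⟩
    have hσ : η * θ = 1 ∨ η * θ = -1 := by
      rcases hη with rfl | rfl <;> rcases hθ with rfl | rfl <;> simp
    obtain ⟨W₁, hW₁E, hW₁n, hW₁f, hW₁s⟩ := exists_sub_lt Q h2 E hE a hae halt (η * θ) hσ
      (by intro h; omega)
    have ho' : Orth (polarBilin Q) W₁ W₂ := ho.mono hW₁E hW₂E
    have hd := Cfsg.Agent.Lib.Helper6.OrtS.orth_disjoint hS ho' hW₁n
    refine ⟨W₁, W₂, hW₁E, hW₂E, nondegOn_sup' hS ho' hW₁n hW₂n, ?_, ?_⟩
    · rw [finrank_sup_of_orth' hS ho' hW₁n, hW₁f, hW₂f]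
      omega
    · have h1 := sgnOn_sup Q ho' hd (by rw [hW₁f]; exact hae) (by rw [hW₂f]; exact hbe) hW₁s hW₂s
      rwa [mul_assoc, int_sign_sq hθ, mul_one] at h1
  · -- case B: `E` is a line
    have hE1 : finrank F E = 1 := by omega
    by_cases hlt : m < finrank F E'
    · obtain ⟨W₂, h1, h2', h3', h4'⟩ := exists_sub_lt Q h2 E' hE' m ⟨m', hm'⟩ hlt η hη
        (by intro h; omega)
      refine ⟨⊥, W₂, bot_le, h1, ?_, ?_, ?_⟩ <;> rw [bot_sup_eq] <;> assumption
    · have hmE' : m = finrank F E' := by omega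
      -- a plus-type plane in `E'`
      obtain ⟨P, hPE', hPn, hPf, hPP⟩ := exists_plus_sub (Q := Q) hE' 1 (by omega)
      have hE''n := nondegOn_perpIn' hS hPE' hPn hE'
      have hE''f := finrank_perpIn' hS hPE' hPn (V' := E')
      rw [hPf] at hE''f
      set E'' := perpIn (polarBilin Q) E' P with hE''
      obtain ⟨θ, hθ, hE''s⟩ : ∃ θ : ℤ, (θ = 1 ∨ θ = -1) ∧ SgnOn Q E'' θ := by
        rcases sgnOn_cases Q hE''n (e₁ - 1) (by omega) with h | h
        · exact ⟨1, Or.inl rfl, h⟩
        · exact ⟨-1, Or.inr rfl, h⟩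
      have hσ : η * θ = 1 ∨ η * θ = -1 := by
        rcases hη with rfl | rfl <;> rcases hθ with rfl | rfl <;> simp
      -- a generator of `E`
      have hE0 : E ≠ ⊥ := by
        intro h
        rw [h, finrank_bot] at hE1
        omega
      obtain ⟨u, huE, hu0⟩ := Submodule.exists_mem_ne_zero_of_ne_bot hE0
      have hQu : Q u ≠ 0 := by
        intro h
        apply hu0
        apply hE u huE
        intro v hv
        obtain ⟨c, rfl⟩ : ∃ c : F, c • u = v := by
          have hsp : E = span F {u} := by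
            symm
            apply Submodule.eq_of_le_of_finrank_eq
            · rwa [span_singleton_le_iff_mem]
            · rw [finrank_span_singleton hu0, hE1]
          rw [hsp] at hv
          exact mem_span_singleton.mp hv
        rw [Cfsg.Agent.Lib.Helper6.OrtS.pB_apply, polar_smul_right, polar_self', h]
        simp
      obtain ⟨ν, hν⟩ := FiniteField.exists_nonsquare (ringChar_ne_two (F := F) h2)
      obtain ⟨p, hpP, hQp⟩ : ∃ p ∈ P, (η * θ = 1 → Q p = -(Q u)) ∧
          (η * θ = -1 → ∃ ν : F, ¬ IsSquare ν ∧ Q p = -(Q u * ν)) := by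
        rcases hσ with h | h
        · obtain ⟨p, hpP, hp⟩ := exists_norm_in_plus Q hPn hPf hPP (-(Q u))
          exact ⟨p, hpP, fun _ => hp, fun h' => by omega⟩
        · obtain ⟨p, hpP, hp⟩ := exists_norm_in_plus Q hPn hPf hPP (-(Q u * ν))
          exact ⟨p, hpP, fun h' => by omega, fun _ => ⟨ν, hν, hp⟩⟩
      have hup : polar Q u p = 0 := ho u huE p (hPE' hpP)
      obtain ⟨hTf, hTn, hTs⟩ := pair_plane Q h2 hQu hup (η * θ) hσ hQp
      -- orthogonality of the plane and `E''`
      have hTo : Orth (polarBilin Q) (span F {u, p}) E'' := by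
        intro w hw x hx
        obtain ⟨a, b, rfl⟩ := mem_span_pair.mp hw
        have h1 : polar Q u x = 0 := ho u huE x (perpIn_le _ _ hx)
        have h2' : polar Q p x = 0 := (mem_perpIn.mp hx).2 p hpP
        rw [Cfsg.Agent.Lib.Helper6.OrtS.pB_apply, polar_add_left, polar_smul_left,
          polar_smul_left, h1, h2']
        simp
      have hd := Cfsg.Agent.Lib.Helper6.OrtS.orth_disjoint hS hTo hTn
      have hdecomp : span F {u} ⊔ (span F {p} ⊔ E'') = span F {u, p} ⊔ E'' := by
        rw [← sup_assoc, ← span_union]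
        congr 2
      refine ⟨span F {u}, span F {p} ⊔ E'', by rwa [span_singleton_le_iff_mem],
        sup_le (by rw [span_singleton_le_iff_mem]; exact hPE' hpP) (perpIn_le _ _), ?_, ?_, ?_⟩
      · rw [hdecomp]
        exact nondegOn_sup' hS hTo hTn hE''n
      · rw [hdecomp, finrank_sup_of_orth' hS hTo hTn, hTf]
        omega
      · rw [hdecomp]
        have h1 := sgnOn_sup Q hTo hd (by rw [hTf]; exact even_two) ⟨e₁ - 1, by omega⟩ hTs hE''s
        rwa [mul_assoc, int_sign_sq hθ, mul_one] at h1

end invol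

end Cfsg.Agent.Lib.Helper3.Orth
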