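import Mathlib
import Cfsg.Agent.Lib.Helper3.OrthOdd4

/-!
# Involutions of an odd-dimensional quadratic space fix nondegenerate subspaces of both signs
-/

set_option autoImplicit false

namespace Cfsg.Agent.Lib.Helper3.Orth

open Module Submodule QuadraticMap Cfsg.Agent.Lib.Helper15 Cfsg.Agent.Lib.Helper15.PSpI
  Cfsg.Agent.Lib.Helper15.PSpJ Cfsg.Agent.Lib.Helper15.PDec Cfsg.Agent.Lib.Helper15.PSub
  Cfsg.Agent.Lib.Helper6.OrtS

universe u

section invol

variable {F : Type u} {V : Type*} [Field F] [Fintype F] [AddCommGroup V] [Module F V]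
  [FiniteDimensional F V]
variable (Q : QuadraticForm F V)

/-- **Involutions**: an isometry `y` with `y ∘ y = 1` of an odd-dimensional nondegenerate space of
dimension at least `4` (odd characteristic) fixes a nondegenerate `m`-space of either sign, for
every even `2 ≤ m < dim V`. -/
theorem involution_fixes (h2 : (2 : F) ≠ 0) (hQ : NondegOn (polarBilin Q) ⊤) (y : V →ₗ[F] V)
    (hQy : ∀ v, Q (y v) = Q v) (hyy : ∀ v, y (y v) = v) (hno : Odd (finrank F V))
    (h4 : 4 ≤ finrank F V) (m : ℕ) (hm : Even m) (hm2 : 2 ≤ m) (hmn : m + 1 ≤ finrank F V)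
    (η : ℤ) (hη : η = 1 ∨ η = -1) :
    ∃ W : Submodule F V, finrank F W = m ∧ NondegOn (polarBilin Q) W ∧ SgnOn Q W η ∧
      W.map y ≤ W := by
  have hS := pB_symm Q
  have hrefl : ∀ x z, polarBilin Q x z = 0 → polarBilin Q z x = 0 := fun x z h => by
    rw [hS]; exact h
  have hiso := iso_of_Q Q y hQy
  obtain ⟨V₁, hV₁⟩ : ∃ V₁, V₁ = Module.End.eigenspace y 1 := ⟨_, rfl⟩
  obtain ⟨V₂, hV₂⟩ : ∃ V₂, V₂ = Module.End.eigenspace y (-1) := ⟨_, rfl⟩
  have hm1 : ∀ v, v ∈ V₁ ↔ y v = v := by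
    intro v
    rw [hV₁, Module.End.mem_eigenspace_iff, one_smul]
  have hm2' : ∀ v, v ∈ V₂ ↔ y v = -v := by
    intro v
    rw [hV₂, Module.End.mem_eigenspace_iff, neg_smul, one_smul]
  have ho : Orth (polarBilin Q) V₁ V₂ := by
    intro u hu v hv
    have h1 := hiso u v
    rw [(hm1 u).mp hu, (hm2' v).mp hv, map_neg] at h1
    have h3 : (2 : F) * polarBilin Q u v = 0 := by linear_combination -h1
    rcases mul_eq_zero.mp h3 with h | h
    · exact absurd h h2
    · exact h
  have hsup : V₁ ⊔ V₂ = ⊤ := by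
    rw [eq_top_iff]
    intro v _
    have hv : v = (2 : F)⁻¹ • (v + y v) + (2 : F)⁻¹ • (v - y v) := by
      rw [← smul_add]
      have : v + y v + (v - y v) = (2 : F) • v := by
        rw [two_smul]; abel
      rw [this, smul_smul, inv_mul_cancel₀ h2, one_smul]
    rw [hv]
    apply Submodule.add_mem
    · apply mem_sup_left
      apply V₁.smul_mem
      rw [hm1, map_add, hyy]
      abel
    · apply mem_sup_right
      apply V₂.smul_mem
      rw [hm2', map_sub, hyy]
      abel
  have hnd : ∀ (A B : Submodule F V), Orth (polarBilin Q) A B → A ⊔ B = ⊤ →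
      NondegOn (polarBilin Q) A := by
    intro A B hAB hABt u hu h0
    apply hQ u mem_top
    intro v _
    have hv : v ∈ A ⊔ B := by rw [hABt]; exact mem_top
    obtain ⟨a, ha, b, hb, rfl⟩ := mem_sup.mp hv
    rw [map_add, h0 a ha, hAB u hu b hb, add_zero]
  have hV₁n : NondegOn (polarBilin Q) V₁ := hnd V₁ V₂ ho hsup
  have ho' : Orth (polarBilin Q) V₂ V₁ := orth_symm hrefl ho
  have hV₂n : NondegOn (polarBilin Q) V₂ := hnd V₂ V₁ ho' (by rw [sup_comm]; exact hsup)
  have hdim : finrank F V₁ + finrank F V₂ = finrank F V := by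
    rw [← finrank_sup_of_orth hrefl ho hV₁n, hsup, finrank_top]
  have hinv1 : ∀ W : Submodule F V, W ≤ V₁ → W.map y ≤ W := by
    rintro W hW _ ⟨w, hw, rfl⟩
    rw [(hm1 w).mp (hW hw)]
    exact hw
  have hinv2 : ∀ W : Submodule F V, W ≤ V₂ → W.map y ≤ W := by
    rintro W hW _ ⟨w, hw, rfl⟩
    rw [(hm2' w).mp (hW hw)]
    exact W.neg_mem hw
  rcases Nat.even_or_odd (finrank F V₁) with he | hodd
  · have hodd2 : Odd (finrank F V₂) := by
      rcases Nat.even_or_odd (finrank F V₂) with h | h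
      · exfalso
        have : Even (finrank F V) := by rw [← hdim]; exact he.add h
        exact (Nat.not_even_iff_odd.mpr hno) this
      · exact h
    obtain ⟨W₁, W₂, hW₁, hW₂, hn, hf, hs⟩ := exists_split_sub Q h2 V₂ V₁ hV₂n hV₁n ho' hodd2 he
      (by omega) m hm hm2 (by omega) η hη
    refine ⟨W₁ ⊔ W₂, hf, hn, hs, ?_⟩
    rw [Submodule.map_sup]
    exact sup_le_sup (hinv2 W₁ hW₁) (hinv1 W₂ hW₂)
  · have he2 : Even (finrank F V₂) := by
      rcases Nat.even_or_odd (finrank F V₂) with h | h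
      · exact h
      · exfalso
        have : Even (finrank F V) := by rw [← hdim]; exact hodd.add_odd h
        exact (Nat.not_even_iff_odd.mpr hno) this
    obtain ⟨W₁, W₂, hW₁, hW₂, hn, hf, hs⟩ := exists_split_sub Q h2 V₁ V₂ hV₁n hV₂n ho hodd he2
      (by omega) m hm hm2 (by omega) η hη
    refine ⟨W₁ ⊔ W₂, hf, hn, hs, ?_⟩
    rw [Submodule.map_sup]
    exact sup_le_sup (hinv1 W₁ hW₁) (hinv2 W₂ hW₂)

end invol

end Cfsg.Agent.Lib.Helper3.Orth
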