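import Mathlib
import Cfsg.Agent.Lib.Helper3.OrthOdd5

/-!
# Elements of odd prime order of `Ω(Q)`, `Q` of odd dimension, fixing nondegenerate subspaces
-/

set_option autoImplicit false

namespace Cfsg.Agent.Lib.Helper3.Orth

open Module Submodule QuadraticMap Cfsg.Agent.Lib.Helper15 Cfsg.Agent.Lib.Helper15.PSpI
  Cfsg.Agent.Lib.Helper15.PSpJ Cfsg.Agent.Lib.Helper15.PDec Cfsg.Agent.Lib.Helper15.PSub
  Cfsg.Agent.Lib.Helper6.OrtS Cfsg.Agent.Lib.Helper6

universe u

/-- the numerical criterion in odd dimension -/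
def CritOdd (n m : ℕ) (η : ℤ) (i : ℕ) : Prop :=
  ∀ s, 1 ≤ s → cOf i * s ≤ n →
    ∃ t, t ≤ s ∧ cOf i * t ≤ m ∧ m - cOf i * t < n - cOf i * s ∧ (m = cOf i * t → η = tau i t)

section gt

variable {F : Type u} [Field F] [Fintype F] {ι : Type} [Fintype ι] [DecidableEq ι]
variable (Q : QuadraticForm F (ι → F))

/-- **Geometric theorem, odd dimension**: every element of order `r` of `Ω(Q)` fixes a
nondegenerate `m`-space of sign `η` iff the numerical criterion holds. -/
theorem odd_iff_critOdd (h2 : (2 : F) ≠ 0) (p : ℕ) [Fact p.Prime] [CharP F p] (r : ℕ)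
    [hr : Fact r.Prime]
    (hrp : r ≠ p) (hr2 : r ≠ 2) (hQ : (polarBilin Q).Nondegenerate) (n : ℕ)
    (hn : Fintype.card ι = n) (hno : Odd n) (hn2 : 2 ≤ n)
    (hExist : ∀ s, 1 ≤ s → cOf (orderOf ((Fintype.card F : ℕ) : ZMod r)) * s ≤ n →
      ∃ M : Matrix ι ι F, (∀ v, Q (M.mulVec v) = Q v) ∧ M ^ r = 1 ∧
        finrank F (Module.End.eigenspace (Matrix.toLin' M) 1) =
          n - cOf (orderOf ((Fintype.card F : ℕ) : ZMod r)) * s)
    (m : ℕ) (hm : Even m) (η : ℤ) (hη : η = 1 ∨ η = -1) :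
    (∀ x : GL ι F, x ∈ Cfsg.Geo.omegaGL ⇑Q → orderOf x = r →
      ∃ W : Submodule F (ι → F), W ∈ NSet Q m η ∧
        W.map (Matrix.toLin' (x : Matrix ι ι F)) ≤ W) ↔
    CritOdd n m η (orderOf ((Fintype.card F : ℕ) : ZMod r)) := by
  have hodd : Odd r := hr.out.odd_of_ne_two hr2
  have hr0 : (r : F) ≠ 0 := ne_zero_of_ne' p r hr.out hrp
  have hne' : Nonempty ι := by
    rw [← Fintype.card_pos_iff, hn]
    omega
  have hQt := nondegOn_top_of Q hQ
  have hS := pB_symm Q
  have hfr : finrank F (ι → F) = n := by rw [Module.finrank_fintype_fun_eq_card, hn]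
  have hipos : 0 < orderOf ((Fintype.card F : ℕ) : ZMod r) := orderOf_pos_of_ne p r hrp
  have hcpos := cOf_pos hipos
  have h24 : Fintype.card F ≠ 2 ∨ Fintype.card ι ≠ 4 := by
    right
    rw [hn]
    intro h4
    rw [h4] at hno
    exact absurd hno (by decide)
  -- from the fixed space to the moved part
  have hmov : ∀ (y : (ι → F) →ₗ[F] (ι → F)) (hQy : ∀ v, Q (y v) = Q v) (hy : y ^ r = 1),
      finrank F ↥((⊤ : Submodule F (ι → F)) ⊓ Module.End.eigenspace y 1) +
        finrank F (movPart (polarBilin Q) y ⊤) = n := by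
    intro y hQy hy
    have hinj : Function.Injective y :=
      injective_of_pow_eq_smul y r 1 one_ne_zero (by rw [hy, one_smul]) hr.out.ne_zero
    have htop : (⊤ : Submodule F (ι → F)).map y = ⊤ :=
      map_eq_of_invt y hinj ⊤ (by
        rw [Module.End.mem_invtSubmodule_iff_map_le]
        exact le_top)
    obtain ⟨-, -, -, hdim, -, -⟩ :=
      movPart_props' hS y (iso_of_Q Q y hQy) r hr.out.ne_zero hr0 hy ⊤ htop hQt
    rw [finrank_top, hfr] at hdim
    exact hdim
  constructor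
  · intro hall s hs1 hsn
    obtain ⟨M, hM1, hM2, hM3⟩ := hExist s hs1 hsn
    have hMM : M * M ^ (r - 1) = 1 := by
      rw [← pow_succ', Nat.sub_add_cancel hr.out.pos, hM2]
    have hMM' : M ^ (r - 1) * M = 1 := by
      rw [← pow_succ, Nat.sub_add_cancel hr.out.pos, hM2]
    let x : GL ι F := ⟨M, M ^ (r - 1), hMM, hMM'⟩
    have hxv : (x : Matrix ι ι F) = M := rfl
    have hxr : x ^ r = 1 := by
      apply Units.ext
      rw [Units.val_pow_eq_pow_val, hxv, hM2]
      rfl
    have hxI : x ∈ Cfsg.isometryGroup F ⇑Q := (OmegaAut.mem_isometryGroup_iff Q x).mpr hM1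
    have hgΩ : (⟨x, hxI⟩ : ↥(Cfsg.isometryGroup F ⇑Q)) ∈ Cfsg.Omega F ⇑Q :=
      mem_Omega_of_pow_odd' Q hQ (by rw [hn]; exact hn2) h24 ⟨x, hxI⟩ r hodd
        (Subtype.ext hxr)
    have hxΩ : x ∈ Cfsg.Geo.omegaGL ⇑Q := Subgroup.mem_map.mpr ⟨⟨x, hxI⟩, hgΩ, rfl⟩
    have hQy : ∀ v, Q (Matrix.toLin' M v) = Q v := fun v => by
      rw [Matrix.toLin'_apply]; exact hM1 v
    have hy : (Matrix.toLin' M) ^ r = 1 := by
      rw [← Matrix.toLin'_pow, hM2, Matrix.toLin'_one]
      rfl
    have hEtop : finrank F ↥((⊤ : Submodule F (ι → F)) ⊓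
        Module.End.eigenspace (Matrix.toLin' M) 1) =
        n - cOf (orderOf ((Fintype.card F : ℕ) : ZMod r)) * s := by
      rw [top_inf_eq, hM3]
    have hs : finrank F (movPart (polarBilin Q) (Matrix.toLin' M) ⊤) =
        cOf (orderOf ((Fintype.card F : ℕ) : ZMod r)) * s := by
      have := hmov _ hQy hy
      omega
    have hx1 : x ≠ 1 := by
      intro h1
      have hM1' : M = 1 := by
        rw [← hxv, h1]; rfl
      rw [hM1', Matrix.toLin'_one] at hM3
      have h3 : Module.End.eigenspace (LinearMap.id : (ι → F) →ₗ[F] (ι → F)) 1 = ⊤ := by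
        rw [eq_top_iff]
        intro v _
        rw [Module.End.mem_eigenspace_iff, one_smul]
        rfl
      rw [h3, finrank_top, hfr] at hM3
      have : cOf (orderOf ((Fintype.card F : ℕ) : ZMod r)) * 1 ≤
          cOf (orderOf ((Fintype.card F : ℕ) : ZMod r)) * s := Nat.mul_le_mul_left _ hs1
      omega
    have hord : orderOf x = r := orderOf_eq_prime hxr hx1
    obtain ⟨W, hWN, hWx⟩ := hall x hxΩ hord
    rw [hxv] at hWx
    exact (fixes_iff_odd Q h2 p r hrp hr2 hQt (Matrix.toLin' M) hQy hy n hfr hno s hs m hm η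
      hη).mp ⟨W, hWN.1, hWN.2.1, hWN.2.2, hWx⟩
  · intro hcrit x hxΩ hord
    obtain ⟨g, -, hgx⟩ := Subgroup.mem_map.mp hxΩ
    have hxI : ∀ v, Q ((x : Matrix ι ι F).mulVec v) = Q v := by
      rw [← hgx]
      exact (OmegaAut.mem_isometryGroup_iff Q g.1).mp g.2
    have hxr : x ^ r = 1 := by
      rw [← hord]; exact pow_orderOf_eq_one x
    have hMr : (x : Matrix ι ι F) ^ r = 1 := by
      rw [← Units.val_pow_eq_pow_val, hxr]; rfl
    obtain ⟨y, hydef⟩ : ∃ y : (ι → F) →ₗ[F] (ι → F), y = Matrix.toLin' (x : Matrix ι ι F) :=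
      ⟨_, rfl⟩
    have hQy : ∀ v, Q (y v) = Q v := fun v => by
      rw [hydef, Matrix.toLin'_apply]; exact hxI v
    have hy : y ^ r = 1 := by
      rw [hydef, ← Matrix.toLin'_pow, hMr, Matrix.toLin'_one]
      rfl
    have hinj : Function.Injective y :=
      injective_of_pow_eq_smul y r 1 one_ne_zero (by rw [hy, one_smul]) hr.out.ne_zero
    have htop : (⊤ : Submodule F (ι → F)).map y = ⊤ :=
      map_eq_of_invt y hinj ⊤ (by
        rw [Module.End.mem_invtSubmodule_iff_map_le]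
        exact le_top)
    obtain ⟨s, hs⟩ := movPart_profile' p r hrp hr2 hS y (iso_of_Q Q y hQy) hy ⊤ htop hQt
    obtain ⟨-, -, -, -, hsup, -⟩ :=
      movPart_props' hS y (iso_of_Q Q y hQy) r hr.out.ne_zero hr0 hy ⊤ htop hQt
    have hdim := hmov y hQy hy
    have hcsn : cOf (orderOf ((Fintype.card F : ℕ) : ZMod r)) * s ≤ n := by omega
    have hs1 : 1 ≤ s := by
      by_contra h
      have h0 : s = 0 := by omega
      rw [h0, mul_zero] at hs
      have hb : movPart (polarBilin Q) y ⊤ = ⊥ := Submodule.finrank_eq_zero.mp hs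
      rw [hb, sup_bot_eq] at hsup
      have hy1 : ∀ v, y v = v := by
        intro v
        have h7 : v ∈ (⊤ : Submodule F (ι → F)) ⊓ Module.End.eigenspace y 1 := by
          rw [hsup]; exact mem_top
        have h8 := (Submodule.mem_inf.mp h7).2
        rw [Module.End.mem_eigenspace_iff, one_smul] at h8
        exact h8
      have hx1 : x = 1 := by
        apply Units.ext
        apply Matrix.toLin'.injective
        apply LinearMap.ext
        intro v
        have h9 := hy1 v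
        rw [hydef] at h9
        rw [h9]
        simp
      rw [hx1, orderOf_one] at hord
      exact hr.out.one_lt.ne hord
    obtain ⟨t, hts, htm, hlt, hsgn⟩ := hcrit s hs1 hcsn
    obtain ⟨W, hWf, hWn, hWs, hWy⟩ := (fixes_iff_odd Q h2 p r hrp hr2 hQt y hQy hy n hfr hno s hs
      m hm η hη).mpr ⟨t, hts, htm, hlt, hsgn⟩
    rw [hydef] at hWy
    exact ⟨W, ⟨hWf, hWn, hWs⟩, hWy⟩

end gt

end Cfsg.Agent.Lib.Helper3.Orth
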