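import Mathlib
import Cfsg.Agent.Lib.Helper3.OrthOdd6
import Cfsg.Agent.Lib.Helper6.OrthForms

/-!
# `Ω_{2d+1}(q)` on nondegenerate `m`-spaces of given sign: odd primes `r ≠ p`
-/

set_option autoImplicit false

namespace Cfsg.Agent.Lib.Helper3.Orth

open Module Submodule QuadraticMap Cfsg.Agent.Lib.Helper15 Cfsg.Agent.Lib.Helper15.PSpI
  Cfsg.Agent.Lib.Helper15.PSpJ Cfsg.Agent.Lib.Helper15.PDec Cfsg.Agent.Lib.Helper15.PSub
  Cfsg.Agent.Lib.Helper6.OrtS Cfsg.Agent.Lib.Helper6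

universe u

/-- the criterion in closed form -/
theorem critOdd_iff (n m : ℕ) (η : ℤ) (i : ℕ) (hc : 0 < cOf i) (hcn : cOf i ≤ n) (hmn : m < n) :
    CritOdd n m η i ↔
      (m % cOf i < n % cOf i ∧ (m % cOf i = 0 → η = tau i (m / cOf i))) := by
  obtain ⟨c, hcdef⟩ : ∃ c, c = cOf i := ⟨_, rfl⟩
  rw [← hcdef] at hc hcn ⊢
  have hn := Nat.div_add_mod n c
  have hm := Nat.div_add_mod m c
  have hnlt := Nat.mod_lt n hc
  have hmlt := Nat.mod_lt m hc
  constructor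
  · intro hcrit
    have hs1 : 1 ≤ n / c := Nat.div_pos hcn hc
    obtain ⟨t, -, htm, hlt, hsg⟩ := hcrit (n / c) hs1 (by rw [← hcdef]; exact Nat.mul_div_le n c)
    rw [← hcdef] at htm hlt hsg
    have ht : m / c = t := by
      apply Nat.div_eq_of_lt_le
      · rw [mul_comm]; exact htm
      · rw [Nat.add_mul, one_mul, mul_comm]
        omega
    rw [ht] at hm ⊢
    refine ⟨by omega, fun h0 => hsg (by omega)⟩
  · rintro ⟨hlt, hsg⟩ s hs1 hsn
    rw [← hcdef] at hsn ⊢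
    have hsle : s ≤ n / c := (Nat.le_div_iff_mul_le hc).mpr (by rw [mul_comm]; exact hsn)
    have hsle' : c * s ≤ c * (n / c) := Nat.mul_le_mul_left c hsle
    rcases le_or_gt (m / c) s with h | h
    · refine ⟨m / c, h, Nat.mul_div_le m c, by omega, fun h0 => hsg (by omega)⟩
    · have h1 : c * (s + 1) ≤ c * (m / c) := Nat.mul_le_mul_left c h
      rw [Nat.mul_add, mul_one] at h1
      refine ⟨s, le_refl s, by omega, by omega, fun h0 => ?_⟩
      exfalso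
      omega

section count

variable {F : Type u} [Field F] [Fintype F]

/-- matrices of order dividing `r` preserving the standard odd-dimensional form with `s ≥ 0`
blocks -/
theorem exists_elt_odd0 (h2 : (2 : F) ≠ 0) (p : ℕ) [Fact p.Prime] [CharP F p] (r : ℕ)
    [hr : Fact r.Prime] (hr2 : r ≠ 2) (hrp : r ≠ p) (d s : ℕ)
    (hsd : cOf (orderOf ((Fintype.card F : ℕ) : ZMod r)) * s ≤ 2 * d) :
    ∃ M : Matrix (Unit ⊕ (Fin d ⊕ Fin d)) (Unit ⊕ (Fin d ⊕ Fin d)) F,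
      (∀ v, QOdd F d (M.mulVec v) = QOdd F d v) ∧ M ^ r = 1 ∧
      finrank F (Module.End.eigenspace (Matrix.toLin' M) 1) =
        2 * d + 1 - cOf (orderOf ((Fintype.card F : ℕ) : ZMod r)) * s := by
  rcases Nat.eq_zero_or_pos s with h0 | hpos
  · refine ⟨1, fun v => by rw [Matrix.one_mulVec], one_pow r, ?_⟩
    rw [h0, mul_zero, Nat.sub_zero, Matrix.toLin'_one]
    have h3 : Module.End.eigenspace
        (LinearMap.id : (Unit ⊕ (Fin d ⊕ Fin d) → F) →ₗ[F] (Unit ⊕ (Fin d ⊕ Fin d) → F)) 1 = ⊤ := by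
      rw [eq_top_iff]
      intro v _
      rw [Module.End.mem_eigenspace_iff, one_smul]
      rfl
    rw [h3, finrank_top, Module.finrank_fintype_fun_eq_card]
    simp
    omega
  · obtain ⟨M, hM1, hM2, hM3⟩ := exists_elt_odd h2 p r hr2 hrp d s hpos hsd
    refine ⟨M, fun v => ?_, hM2, hM3⟩
    rw [QOdd_apply, QOdd_apply]
    exact hM1 v

/-- **Use of the divisibility hypothesis**: if `m` is smaller than the block size `c` and than
`(2d+1) % c`, then `r` does not divide the number of nondegenerate `m`-spaces of sign `η`. -/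
theorem not_dvd_of_lt (h2 : (2 : F) ≠ 0) (p : ℕ) [Fact p.Prime] [CharP F p] (r : ℕ)
    [hr : Fact r.Prime] (hr2 : r ≠ 2) (hrp : r ≠ p) (d m : ℕ) (hm2 : 2 ≤ m) (hme : Even m)
    (η : ℤ) (hη : η = 1 ∨ η = -1)
    (hmc : m < cOf (orderOf ((Fintype.card F : ℕ) : ZMod r)))
    (hmk : m < (2 * d + 1) % cOf (orderOf ((Fintype.card F : ℕ) : ZMod r))) :
    ¬ r ∣ Nat.card (NSet (QOdd F d) m η) := by
  have hipos : 0 < orderOf ((Fintype.card F : ℕ) : ZMod r) := orderOf_pos_of_ne p r hrp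
  have hcpos := cOf_pos hipos
  have hr0 : (r : F) ≠ 0 := ne_zero_of_ne' p r hr.out hrp
  obtain ⟨c, hcdef⟩ : ∃ c, c = cOf (orderOf ((Fintype.card F : ℕ) : ZMod r)) := ⟨_, rfl⟩
  rw [← hcdef] at hmc hmk hcpos
  have hce : Even c := by rw [hcdef]; exact cOf_even
  have hn := Nat.div_add_mod (2 * d + 1) c
  have hnlt := Nat.mod_lt (2 * d + 1) hcpos
  obtain ⟨e, he⟩ : Even (c * ((2 * d + 1) / c)) := hce.mul_right _
  obtain ⟨M, hM1, hM2, hM3⟩ := exists_elt_odd0 h2 p r hr2 hrp d ((2 * d + 1) / c) (by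
    rw [← hcdef]; omega)
  rw [← hcdef] at hM3
  have hQ := nondegenerate_QOdd F h2 d
  have hQt := nondegOn_top_of (QOdd F d) hQ
  have hS := pB_symm (QOdd F d)
  have hfr : finrank F (Unit ⊕ (Fin d ⊕ Fin d) → F) = 2 * d + 1 := by
    rw [Module.finrank_fintype_fun_eq_card]
    simp
    omega
  obtain ⟨y, hydef⟩ : ∃ y, y = Matrix.toLin' M := ⟨_, rfl⟩
  rw [← hydef] at hM3
  have hQy : ∀ v, QOdd F d (y v) = QOdd F d v := fun v => by
    rw [hydef, Matrix.toLin'_apply]; exact hM1 v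
  have hy : y ^ r = 1 := by
    rw [hydef, ← Matrix.toLin'_pow, hM2, Matrix.toLin'_one]
    rfl
  have hinj : Function.Injective y :=
    injective_of_pow_eq_smul y r 1 one_ne_zero (by rw [hy, one_smul]) hr.out.ne_zero
  have htop : (⊤ : Submodule F (Unit ⊕ (Fin d ⊕ Fin d) → F)).map y = ⊤ :=
    map_eq_of_invt y hinj ⊤ (by
      rw [Module.End.mem_invtSubmodule_iff_map_le]
      exact le_top)
  obtain ⟨-, -, -, hdim, -, -⟩ :=
    movPart_props' hS y (iso_of_Q (QOdd F d) y hQy) r hr.out.ne_zero hr0 hy ⊤ htop hQt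
  rw [finrank_top, hfr, top_inf_eq, hM3] at hdim
  have hs : finrank F (movPart (polarBilin (QOdd F d)) y ⊤) =
      cOf (orderOf ((Fintype.card F : ℕ) : ZMod r)) * ((2 * d + 1) / c) := by
    rw [← hcdef]; omega
  have hEn := nondegOn_fixed y (iso_of_Q (QOdd F d) y hQy) r hr0 hy ⊤ htop hQt
  rw [top_inf_eq] at hEn
  obtain ⟨W₀, hW₀E, hW₀n, hW₀f, hW₀s⟩ := exists_sub_lt (QOdd F d) h2 _ hEn m hme (by
    rw [hM3]; omega) η hη (fun h0 => by omega)
  exact not_dvd_card_NSet_of_mem (QOdd F d) p r hrp hr2 hQt y hQy hy (2 * d + 1) hfr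
    ((2 * d + 1) / c) hs m hme η (by rw [← hcdef]; exact hmc) (by rw [← hcdef]; omega) W₀
    ⟨hW₀f, hW₀n, hW₀s⟩ hW₀E

/-- **Main theorem, `r` odd, `r ≠ p`**. -/
theorem odd_main (h2 : (2 : F) ≠ 0) (p : ℕ) [Fact p.Prime] [CharP F p] (r : ℕ)
    [hr : Fact r.Prime] (hr2 : r ≠ 2) (hrp : r ≠ p) (d m : ℕ) (hd : 1 ≤ d) (hm2 : 2 ≤ m)
    (hme : Even m) (hmn : m ≤ 2 * d) (η : ℤ) (hη : η = 1 ∨ η = -1)
    (hrΩ : r ∣ Nat.card (NSet (QOdd F d) m η)) :
    (∀ x : GL (Unit ⊕ (Fin d ⊕ Fin d)) F, x ∈ Cfsg.Geo.omegaGL ⇑(QOdd F d) → orderOf x = r →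
      ∃ W : Submodule F (Unit ⊕ (Fin d ⊕ Fin d) → F), W ∈ NSet (QOdd F d) m η ∧
        W.map (Matrix.toLin' (x : Matrix (Unit ⊕ (Fin d ⊕ Fin d)) (Unit ⊕ (Fin d ⊕ Fin d)) F))
          ≤ W) ↔
    (cOf (orderOf ((Fintype.card F : ℕ) : ZMod r)) ≤ m ∧
      m % cOf (orderOf ((Fintype.card F : ℕ) : ZMod r)) <
        (2 * d + 1) % cOf (orderOf ((Fintype.card F : ℕ) : ZMod r)) ∧
      (m % cOf (orderOf ((Fintype.card F : ℕ) : ZMod r)) = 0 →
        η = tau (orderOf ((Fintype.card F : ℕ) : ZMod r))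
          (m / cOf (orderOf ((Fintype.card F : ℕ) : ZMod r))))) := by
  have hipos : 0 < orderOf ((Fintype.card F : ℕ) : ZMod r) := orderOf_pos_of_ne p r hrp
  have hcpos := cOf_pos hipos
  have hcard : Fintype.card (Unit ⊕ (Fin d ⊕ Fin d)) = 2 * d + 1 := by
    simp
    omega
  have hce : Even (cOf (orderOf ((Fintype.card F : ℕ) : ZMod r))) := cOf_even
  rw [odd_iff_critOdd (QOdd F d) h2 p r hrp hr2 (nondegenerate_QOdd F h2 d) (2 * d + 1) hcard
    ⟨d, rfl⟩ (by omega) (fun s hs1 hsn => by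
      obtain ⟨e, he⟩ : Even (cOf (orderOf ((Fintype.card F : ℕ) : ZMod r)) * s) := hce.mul_right _
      exact exists_elt_odd0 h2 p r hr2 hrp d s (by omega)) m hme η hη]
  obtain ⟨c, hcdef⟩ : ∃ c, c = cOf (orderOf ((Fintype.card F : ℕ) : ZMod r)) := ⟨_, rfl⟩
  by_cases hcm : cOf (orderOf ((Fintype.card F : ℕ) : ZMod r)) ≤ m
  · rw [critOdd_iff (2 * d + 1) m η _ hcpos (by omega) (by omega)]
    exact ⟨fun h => ⟨hcm, h⟩, fun h => h.2⟩
  · constructor
    · intro hcrit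
      exfalso
      by_cases hcn : cOf (orderOf ((Fintype.card F : ℕ) : ZMod r)) ≤ 2 * d + 1
      · rw [critOdd_iff (2 * d + 1) m η _ hcpos hcn (by omega)] at hcrit
        rw [Nat.mod_eq_of_lt (by omega : m < cOf (orderOf ((Fintype.card F : ℕ) : ZMod r)))]
          at hcrit
        exact not_dvd_of_lt h2 p r hr2 hrp d m hm2 hme η hη (by omega) hcrit.1 hrΩ
      · refine not_dvd_of_lt h2 p r hr2 hrp d m hm2 hme η hη (by omega) ?_ hrΩ
        rw [Nat.mod_eq_of_lt (by omega)]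
        omega
    · intro h
      exact absurd h.1 hcm

end count

end Cfsg.Agent.Lib.Helper3.Orth
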