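import Mathlib
import Cfsg.Agent.Lib.Helper3.OrthOdd7

/-!
# Arithmetic: the closed criterion in the vocabulary of the Burness–Giudici tables
-/

set_option autoImplicit false

namespace Cfsg.Agent.Lib.Helper3.Orth

open Cfsg.Agent.Lib.Helper15.PSpJ Cfsg.Agent.Lib.Helper6.OrtS

theorem one_eq_tau_iff (i t : ℕ) : (1 : ℤ) = tau i t ↔ (Even i → Even t) := by
  unfold tau
  split_ifs with h
  · constructor
    · intro h1 _
      by_contra hne
      rw [Nat.not_even_iff_odd] at hne
      rw [hne.neg_one_pow] at h1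
      omega
    · intro h1
      rw [(h1 h).neg_one_pow]
  · exact ⟨fun _ h' => absurd h' h, fun _ => rfl⟩

theorem neg_one_eq_tau_iff (i t : ℕ) : (-1 : ℤ) = tau i t ↔ (Even i ∧ Odd t) := by
  unfold tau
  split_ifs with h
  · constructor
    · intro h1
      refine ⟨h, ?_⟩
      by_contra hne
      rw [Nat.not_odd_iff_even] at hne
      rw [hne.neg_one_pow] at h1
      omega
    · rintro ⟨-, h1⟩
      rw [h1.neg_one_pow]
  · constructor
    · intro h1; exact absurd h1 (by decide)
    · rintro ⟨h1, -⟩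
      exact absurd h1 h

theorem mod_pos_of_even (d c : ℕ) (hc : Even c) : 0 < (2 * d + 1) % c := by
  have h1 : (2 * d + 1) % c % 2 = (2 * d + 1) % 2 :=
    Nat.mod_mod_of_dvd (2 * d + 1) (even_iff_two_dvd.mp hc)
  omega

/-- the closed criterion for sign `+1` in the vocabulary of the statement -/
theorem rhs_plus_iff (r i c d m : ℕ) (hr2 : 2 < r) (hc : c = if Even i then i else 2 * i) :
    (cOf i ≤ m ∧ m % cOf i < (2 * d + 1) % cOf i ∧
      (m % cOf i = 0 → (1 : ℤ) = tau i (m / cOf i))) ↔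
    (r = 2 ∨
     (2 < r ∧ Odd i ∧ c ≤ m ∧ (m % c = 0 ∨ (0 < m % c ∧ m % c < (2 * d + 1) % c))) ∨
     (2 < r ∧ Even i ∧ i ≤ m ∧ m % c < (2 * d + 1) % c ∧ (0 < m % c ∨ Even (m / i)))) := by
  have hcc : c = cOf i := hc
  rw [← hcc]
  have hce : Even c := by rw [hcc]; exact cOf_even
  have hk := mod_pos_of_even d c hce
  rw [one_eq_tau_iff]
  rcases Nat.even_or_odd i with hev | hodd
  · have hci : c = i := by rw [hc, if_pos hev]
    have hno : ¬ Odd i := Nat.not_odd_iff_even.mpr hev
    rw [hci] at hk ⊢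
    constructor
    · rintro ⟨h1, h2, h3⟩
      right; right
      refine ⟨hr2, hev, h1, h2, ?_⟩
      rcases Nat.eq_zero_or_pos (m % i) with h0 | hpos
      · exact Or.inr (h3 h0 hev)
      · exact Or.inl hpos
    · rintro (h | h | h)
      · omega
      · exact absurd h.2.1 hno
      · obtain ⟨-, -, h1, h2, h3⟩ := h
        refine ⟨h1, h2, fun h0 _ => ?_⟩
        rcases h3 with h3 | h3
        · omega
        · exact h3
  · have hne : ¬ Even i := Nat.not_even_iff_odd.mpr hodd
    constructor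
    · rintro ⟨h1, h2, -⟩
      right; left
      refine ⟨hr2, hodd, h1, ?_⟩
      rcases Nat.eq_zero_or_pos (m % c) with h0 | hpos
      · exact Or.inl h0
      · exact Or.inr ⟨hpos, h2⟩
    · rintro (h | h | h)
      · omega
      · obtain ⟨-, -, h1, h2⟩ := h
        refine ⟨h1, ?_, fun _ h' => absurd h' hne⟩
        rcases h2 with h2 | h2
        · omega
        · exact h2.2
      · exact absurd h.2.1 hne

/-- the closed criterion for sign `-1` in the vocabulary of the statement -/
theorem rhs_minus_iff (r p i c d m : ℕ) (hr2 : 2 < r) (hrp : r ≠ p)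
    (hc : c = if Even i then i else 2 * i) :
    (cOf i ≤ m ∧ m % cOf i < (2 * d + 1) % cOf i ∧
      (m % cOf i = 0 → (-1 : ℤ) = tau i (m / cOf i))) ↔
    (r = 2 ∨
     (r ≠ p ∧ 2 < r ∧ Odd i ∧ c ≤ m ∧ 0 < m % c ∧ m % c < (2 * d + 1) % c) ∨
     (r ≠ p ∧ 2 < r ∧ Even i ∧ i ≤ m ∧ m % c < (2 * d + 1) % c ∧ (0 < m % c ∨ Odd (m / i)))) := by
  have hcc : c = cOf i := hc
  rw [← hcc]
  rw [neg_one_eq_tau_iff]
  rcases Nat.even_or_odd i with hev | hodd
  · have hci : c = i := by rw [hc, if_pos hev]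
    have hno : ¬ Odd i := Nat.not_odd_iff_even.mpr hev
    rw [hci]
    constructor
    · rintro ⟨h1, h2, h3⟩
      right; right
      refine ⟨hrp, hr2, hev, h1, h2, ?_⟩
      rcases Nat.eq_zero_or_pos (m % i) with h0 | hpos
      · exact Or.inr (h3 h0).2
      · exact Or.inl hpos
    · rintro (h | h | h)
      · omega
      · exact absurd h.2.2.1 hno
      · obtain ⟨-, -, -, h1, h2, h3⟩ := h
        refine ⟨h1, h2, fun h0 => ⟨hev, ?_⟩⟩
        rcases h3 with h3 | h3
        · omega
        · exact h3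
  · have hne : ¬ Even i := Nat.not_even_iff_odd.mpr hodd
    constructor
    · rintro ⟨h1, h2, h3⟩
      right; left
      refine ⟨hrp, hr2, hodd, h1, ?_, h2⟩
      rcases Nat.eq_zero_or_pos (m % c) with h0 | hpos
      · exact absurd (h3 h0).1 hne
      · exact hpos
    · rintro (h | h | h)
      · omega
      · obtain ⟨-, -, -, h1, h2, h3⟩ := h
        exact ⟨h1, h3, fun h0 => by omega⟩
      · exact absurd h.2.2.1 hne

end Cfsg.Agent.Lib.Helper3.Orth
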