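import Mathlib
import Cfsg.Agent.Lib.Helper3.OrthOdd8

/-!
# Unipotent isometries all of whose invariant nondegenerate even-dimensional subspaces are of plus type

For an isometry `x` of a quadratic space write `N = x - 1`.  Two abstract criteria (types
`(2^d, 1)` and `(3, 2^(d-1))`) ensuring that every `x`-invariant nondegenerate subspace of even
dimension contains a totally singular subspace of half its dimension.
-/

set_option autoImplicit false

namespace Cfsg.Agent.Lib.Helper3.Orth

open Module Submodule QuadraticMap Cfsg.Agent.Lib.Helper15 Cfsg.Agent.Lib.Helper15.PSpI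

section linalg

variable {F V V' : Type*} [Field F] [AddCommGroup V] [Module F V] [AddCommGroup V'] [Module F V']

/-- rank–nullity on a subspace -/
theorem finrank_map_add_inf_ker [FiniteDimensional F V] (f : V →ₗ[F] V') (S : Submodule F V) :
    finrank F (S.map f) + finrank F ↥(S ⊓ LinearMap.ker f) = finrank F S := by
  have h := LinearMap.finrank_range_add_finrank_ker (f.domRestrict S)
  rw [LinearMap.range_domRestrict, LinearMap.ker_domRestrict] at h
  have h2 : finrank F ↥((LinearMap.ker f).comap S.subtype) = finrank F ↥(S ⊓ LinearMap.ker f) := by
    rw [← Submodule.finrank_map_subtype_eq S, Submodule.map_comap_subtype]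
  omega

/-- a linear functional cuts the dimension by at most one -/
theorem finrank_le_inf_ker_add_one [FiniteDimensional F V] (φ : V →ₗ[F] F) (S : Submodule F V) :
    finrank F S ≤ finrank F ↥(S ⊓ LinearMap.ker φ) + 1 := by
  have h := finrank_map_add_inf_ker φ S
  have h1 : finrank F (S.map φ) ≤ 1 := by
    have := Submodule.finrank_le (S.map φ)
    rw [Module.finrank_self] at this
    exact this
  omega

variable {B : V →ₗ[F] V →ₗ[F] F}

/-- dimension of the orthogonal complement of an arbitrary subspace of a nondegenerate subspace -/
theorem finrank_perpIn_add [FiniteDimensional F V] (hrefl : ∀ x y, B x y = 0 → B y x = 0)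
    {X S : Submodule F V} (hX : NondegOn B X) (hSX : S ≤ X) :
    finrank F S + finrank F (perpIn B X S) = finrank F X := by
  set U' : Submodule F X := Submodule.comap X.subtype S with hU'
  let ψ : X →ₗ[F] Module.Dual F X :=
    { toFun := fun s => (B.flip s.1).domRestrict X
      map_add' := fun a b => by ext u; simp
      map_smul' := fun c a => by ext u; simp }
  have hinj : Function.Injective ψ := by
    rw [← LinearMap.ker_eq_bot, LinearMap.ker_eq_bot']
    intro s hs
    apply Subtype.ext
    apply hX s.1 s.2
    intro u hu
    have := LinearMap.congr_fun hs ⟨u, hu⟩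
    have h2 : B u s.1 = 0 := this
    exact hrefl _ _ h2
  have hsurjψ : Function.Surjective ψ :=
    (LinearMap.injective_iff_surjective_of_finrank_eq_finrank
      (Subspace.dual_finrank_eq (K := F) (V := X)).symm).mp hinj
  let φ : X →ₗ[F] Module.Dual F U' := (Submodule.dualRestrict U').comp ψ
  have hsurj : Function.Surjective φ :=
    (Subspace.dualRestrict_surjective (W := U')).comp hsurjψ
  have hker : LinearMap.ker φ = Submodule.comap X.subtype (perpIn B X S) := by
    ext x
    rw [LinearMap.mem_ker, Submodule.mem_comap, mem_perpIn]
    constructor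
    · intro hx
      refine ⟨x.2, fun u hu => ?_⟩
      have := LinearMap.congr_fun hx ⟨⟨u, hSX hu⟩, hu⟩
      exact this
    · rintro ⟨-, hx⟩
      ext u
      exact hx u.1.1 u.2
  have h1 := LinearMap.finrank_range_add_finrank_ker φ
  rw [LinearMap.range_eq_top.mpr hsurj, finrank_top, Subspace.dual_finrank_eq, hker] at h1
  have h3 : finrank F ↥U' = finrank F S := by
    have := Submodule.finrank_map_subtype_eq X U'
    rw [← this, hU', Submodule.map_comap_subtype, inf_eq_right.mpr hSX]
  have h4 : finrank F ↥(Submodule.comap X.subtype (perpIn B X S)) =
      finrank F (perpIn B X S) := by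
    have := Submodule.finrank_map_subtype_eq X (Submodule.comap X.subtype (perpIn B X S))
    rw [← this, Submodule.map_comap_subtype, inf_eq_right.mpr (perpIn_le X S)]
  omega

end linalg

end Cfsg.Agent.Lib.Helper3.Orth
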