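import Mathlib
import Cfsg.Agent.Lib.Helper3.OrthUni1

/-!
# Unipotent isometries: invariant nondegenerate even-dimensional subspaces of plus type
-/

set_option autoImplicit false

namespace Cfsg.Agent.Lib.Helper3.Orth

open Module Submodule QuadraticMap Cfsg.Agent.Lib.Helper15 Cfsg.Agent.Lib.Helper15.PSpI
  Cfsg.Agent.Lib.Helper15.PDec Cfsg.Agent.Lib.Helper6.OrtS

section uni

variable {F : Type*} {V : Type*} [Field F] [AddCommGroup V] [Module F V]
variable (Q : QuadraticForm F V)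
variable (x N : V →ₗ[F] V)

theorem skew_id (hQx : ∀ v, Q (x v) = Q v) (hN : ∀ v, x v = v + N v) (u v : V) :
    polarBilin Q (N u) v + polarBilin Q u (N v) + polarBilin Q (N u) (N v) = 0 := by
  have h := iso_of_Q Q x hQx u v
  rw [hN u, hN v] at h
  simp only [map_add, LinearMap.add_apply] at h
  linear_combination h

theorem skew_x (hQx : ∀ v, Q (x v) = Q v) (hN : ∀ v, x v = v + N v) (u v : V) :
    polarBilin Q (N u) (x v) = - polarBilin Q u (N v) := by
  have h := skew_id Q x N hQx hN u v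
  rw [hN v, map_add]
  linear_combination h

theorem range_orth_ker (hQx : ∀ v, Q (x v) = Q v) (hN : ∀ v, x v = v + N v) (u k : V)
    (hk : N k = 0) : polarBilin Q (N u) k = 0 := by
  have h := skew_id Q x N hQx hN u k
  rw [hk] at h
  simpa using h

theorem injective_of_iso (hQx : ∀ v, Q (x v) = Q v) (hV : NondegOn (polarBilin Q) ⊤) :
    Function.Injective x := by
  rw [← LinearMap.ker_eq_bot, LinearMap.ker_eq_bot']
  intro v hv
  apply hV v mem_top
  intro u _
  rw [← iso_of_Q Q x hQx v u, hv]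
  simp

variable [FiniteDimensional F V]

omit [FiniteDimensional F V] in
theorem map_N_le (hN : ∀ v, x v = v + N v) (W : Submodule F V) (hWx : W.map x ≤ W) :
    W.map N ≤ W := by
  rintro _ ⟨w, hw, rfl⟩
  have h1 : x w ∈ W := hWx ⟨w, hw, rfl⟩
  have h2 : N w = x w - w := by rw [hN w]; abel
  rw [h2]
  exact W.sub_mem h1 hw

/-- inside an invariant nondegenerate subspace `W`, the orthogonal complement of `N W` is
`W ∩ ker N` -/
theorem perp_map_N (hQx : ∀ v, Q (x v) = Q v) (hN : ∀ v, x v = v + N v)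
    (hV : NondegOn (polarBilin Q) ⊤) (W : Submodule F V) (hWx : W.map x ≤ W)
    (hWn : NondegOn (polarBilin Q) W) :
    perpIn (polarBilin Q) W (W.map N) = W ⊓ LinearMap.ker N := by
  have hinj := injective_of_iso Q x hQx hV
  have hWeq : W.map x = W := map_eq_of_invt x hinj W (by
    rw [Module.End.mem_invtSubmodule_iff_map_le]; exact hWx)
  ext v
  rw [mem_perpIn, Submodule.mem_inf, LinearMap.mem_ker]
  constructor
  · rintro ⟨hvW, hv⟩
    refine ⟨hvW, ?_⟩
    have hNv : N v ∈ W := map_N_le x N hN W hWx ⟨v, hvW, rfl⟩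
    apply hWn (N v) hNv
    intro w' hw'
    rw [← hWeq] at hw'
    obtain ⟨w, hw, rfl⟩ := hw'
    rw [skew_x Q x N hQx hN v w, pB_symm, hv (N w) ⟨w, hw, rfl⟩, neg_zero]
  · rintro ⟨hvW, hv⟩
    refine ⟨hvW, ?_⟩
    rintro _ ⟨w, -, rfl⟩
    exact range_orth_ker Q x N hQx hN w v hv

/-- a subspace of `W` orthogonal to `W ∩ ker N` lies in `N W` -/
theorem le_map_of_orth (hQx : ∀ v, Q (x v) = Q v) (hN : ∀ v, x v = v + N v)
    (W : Submodule F V) (hWx : W.map x ≤ W)
    (hWn : NondegOn (polarBilin Q) W) (S : Submodule F V) (hSW : S ≤ W)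
    (hS : ∀ s ∈ S, ∀ k ∈ W, N k = 0 → polarBilin Q s k = 0) : S ≤ W.map N := by
  have hrefl : ∀ a b, polarBilin Q a b = 0 → polarBilin Q b a = 0 := fun a b h => by
    rw [pB_symm]; exact h
  have hle : W.map N ≤ perpIn (polarBilin Q) W (W ⊓ LinearMap.ker N) := by
    rintro _ ⟨w, hw, rfl⟩
    rw [mem_perpIn]
    refine ⟨map_N_le x N hN W hWx ⟨w, hw, rfl⟩, ?_⟩
    intro k hk
    rw [pB_symm]
    exact range_orth_ker Q x N hQx hN w k (LinearMap.mem_ker.mp hk.2)
  have h1 := finrank_perpIn_add hrefl hWn (inf_le_left : W ⊓ LinearMap.ker N ≤ W)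
  have h2 := finrank_map_add_inf_ker N W
  have heq : W.map N = perpIn (polarBilin Q) W (W ⊓ LinearMap.ker N) :=
    Submodule.eq_of_le_of_finrank_eq hle (by omega)
  rw [heq]
  intro s hs
  rw [mem_perpIn]
  refine ⟨hSW hs, fun k hk => ?_⟩
  rw [pB_symm]
  exact hS s hs k hk.1 (LinearMap.mem_ker.mp hk.2)

theorem range_inf_le (hQx : ∀ v, Q (x v) = Q v) (hN : ∀ v, x v = v + N v)
    (W : Submodule F V) (hWx : W.map x ≤ W)
    (hWn : NondegOn (polarBilin Q) W) : LinearMap.range N ⊓ W ≤ W.map N := by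
  apply le_map_of_orth Q x N hQx hN W hWx hWn _ inf_le_right
  rintro s ⟨⟨u, rfl⟩, -⟩ k _ hk
  exact range_orth_ker Q x N hQx hN u k hk

omit [FiniteDimensional F V] in
theorem tsOn_map_N (h2 : (2 : F) ≠ 0) (hQx : ∀ v, Q (x v) = Q v) (hN : ∀ v, x v = v + N v)
    (W : Submodule F V) (hNN : ∀ w ∈ W, N (N w) = 0) : TSOn Q (W.map N) := by
  rintro _ ⟨w, hw, rfl⟩
  have h := skew_id Q x N hQx hN w (N w)
  rw [hNN w hw] at h
  simp only [map_zero, add_zero] at h
  have h3 : polar Q (N w) (N w) = 0 := h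
  rw [polar_self'] at h3
  rcases mul_eq_zero.mp h3 with h4 | h4
  · exact absurd h4 h2
  · exact h4

/-- **Type `(2^d, 1)`**: if `N² = 0` and `ker N` is spanned by `range N` and one more vector, every
invariant nondegenerate subspace of even dimension is of plus type. -/
theorem plusOn_of_typeA (h2 : (2 : F) ≠ 0) (hQx : ∀ v, Q (x v) = Q v) (hN : ∀ v, x v = v + N v)
    (hNN : ∀ v, N (N v) = 0) (φ : V →ₗ[F] F)
    (hφ : ∀ v, N v = 0 → φ v = 0 → v ∈ LinearMap.range N)
    (W : Submodule F V) (hWx : W.map x ≤ W) (hWn : NondegOn (polarBilin Q) W)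
    (hWe : Even (finrank F W)) : PlusOn Q W := by
  refine ⟨W.map N, map_N_le x N hN W hWx, tsOn_map_N Q x N h2 hQx hN W (fun w _ => hNN w), ?_⟩
  have h1 := finrank_map_add_inf_ker N W
  have hUK : W.map N ≤ W ⊓ LinearMap.ker N := by
    refine le_inf (map_N_le x N hN W hWx) ?_
    rintro _ ⟨w, -, rfl⟩
    exact LinearMap.mem_ker.mpr (hNN w)
  have h3 := Submodule.finrank_mono hUK
  have h4 := finrank_le_inf_ker_add_one φ (W ⊓ LinearMap.ker N)
  have h5 : (W ⊓ LinearMap.ker N) ⊓ LinearMap.ker φ ≤ W.map N := by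
    refine le_trans ?_ (range_inf_le Q x N hQx hN W hWx hWn)
    rintro v ⟨⟨hvW, hvN⟩, hvφ⟩
    exact ⟨hφ v (LinearMap.mem_ker.mp hvN) (LinearMap.mem_ker.mp hvφ), hvW⟩
  have h6 := Submodule.finrank_mono h5
  obtain ⟨e, he⟩ := hWe
  omega

/-- **Type `(3, 2^(d-1))`**: if `ker N ≤ range N` and `N²` has rank at most one, every
invariant nondegenerate subspace of even dimension is of plus type. -/
theorem plusOn_of_typeB (h2 : (2 : F) ≠ 0) (hQx : ∀ v, Q (x v) = Q v) (hN : ∀ v, x v = v + N v)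
    (hker : ∀ v, N v = 0 → v ∈ LinearMap.range N)
    (hrk : finrank F (LinearMap.range (N ∘ₗ N)) ≤ 1)
    (W : Submodule F V) (hWx : W.map x ≤ W) (hWn : NondegOn (polarBilin Q) W)
    (hWe : Even (finrank F W)) : PlusOn Q W := by
  have h1 := finrank_map_add_inf_ker N W
  have hUW := map_N_le x N hN W hWx
  have hKU : W ⊓ LinearMap.ker N ≤ W.map N := by
    refine le_trans ?_ (range_inf_le Q x N hQx hN W hWx hWn)
    rintro v ⟨hvW, hvN⟩
    exact ⟨hker v (LinearMap.mem_ker.mp hvN), hvW⟩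
  have h3 := Submodule.finrank_mono hKU
  obtain ⟨e, he⟩ := hWe
  by_cases hNN : ∀ w ∈ W, N (N w) = 0
  · refine ⟨W.map N, hUW, tsOn_map_N Q x N h2 hQx hN W hNN, ?_⟩
    have hUK : W.map N ≤ W ⊓ LinearMap.ker N := by
      refine le_inf hUW ?_
      rintro _ ⟨w, hw, rfl⟩
      exact LinearMap.mem_ker.mpr (hNN w hw)
    have h4 := Submodule.finrank_mono hUK
    omega
  · exfalso
    push Not at hNN
    obtain ⟨w, hw, hne⟩ := hNN
    have h5 := finrank_map_add_inf_ker N (W.map N)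
    have h6 : W.map N ⊓ LinearMap.ker N = W ⊓ LinearMap.ker N := by
      apply le_antisymm
      · exact inf_le_inf_right _ hUW
      · exact le_inf hKU inf_le_right
    rw [h6] at h5
    have h7 : (W.map N).map N ≤ LinearMap.range (N ∘ₗ N) := by
      rintro _ ⟨_, ⟨u, -, rfl⟩, rfl⟩
      exact ⟨u, rfl⟩
    have h8 := Submodule.finrank_mono h7
    have h9 : 0 < finrank F ((W.map N).map N) := by
      rw [Module.finrank_pos_iff_exists_ne_zero]
      exact ⟨⟨N (N w), ⟨N w, ⟨w, hw, rfl⟩, rfl⟩⟩, fun h => hne (congrArg Subtype.val h)⟩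
    omega

end uni

end Cfsg.Agent.Lib.Helper3.Orth
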