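import Mathlib

/-!
# Transitive groups of degree `p + 1` and order `(p+1) p d`, `d < p` (helper3)

Part A: basic structure.  A Sylow `p`-subgroup has order `p`, is generated by a `p`-cycle, and is
normal in a point stabiliser; the group is doubly transitive and only the identity fixes three
points.
-/

set_option autoImplicit false
set_option linter.unusedVariables false
set_option linter.unusedSectionVars false
set_option linter.style.longLine false

namespace Cfsg.Agent.Lib.Helper3.PP1

open MulAction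

variable {G Ω : Type*} [Group G] [MulAction G Ω]

/-- hypotheses: a finite group acting faithfully and transitively on `p + 1` points with order
`(p+1) p d`, `d < p`. -/
structure Hyp (G Ω : Type*) [Group G] [MulAction G Ω] (p d : ℕ) : Prop where
  faith : ∀ g : G, (∀ x : Ω, g • x = x) → g = 1
  trans : ∀ x y : Ω, ∃ g : G, g • x = y
  prime : p.Prime
  cardΩ : Nat.card Ω = p + 1
  cardG : Nat.card G = (p + 1) * p * d
  lt : d < p

/-- the kernel at a point: a subgroup of order `p` fixing `a`, regular on the other points,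
normalised by the stabiliser of `a`. -/
structure Ker (p : ℕ) (a : Ω) (P : Subgroup G) : Prop where
  card : Nat.card P = p
  fix : ∀ u ∈ P, u • a = a
  reg : ∀ y z : Ω, y ≠ a → z ≠ a → ∃! u : P, (u : G) • y = z
  norm : ∀ g : G, g • a = a → ∀ u ∈ P, g * u * g⁻¹ ∈ P
  comm : ∀ u ∈ P, ∀ v ∈ P, u * v = v * u

variable {p d : ℕ}

theorem Hyp.finiteΩ (H : Hyp G Ω p d) : Finite Ω := by
  apply Nat.finite_of_card_ne_zero
  rw [H.cardΩ]
  omega

theorem Hyp.dpos (H : Hyp G Ω p d) : 0 < d := by
  rcases Nat.eq_zero_or_pos d with h | h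
  · exfalso
    have h1 := H.cardG
    rw [h, mul_zero] at h1
    have h2 : 0 < Nat.card G := by
      by_contra hc
      have h3 : Nat.card G = 0 := by omega
      -- an infinite group or empty type; impossible since `1 : G` exists and ... use faithful
      rcases Nat.card_eq_zero.1 h3 with h4 | h4
      · exact h4.false 1
      · -- infinite group acting faithfully on a finite set: impossible
        haveI := H.finiteΩ
        have hinj : Function.Injective (fun g : G => (fun x : Ω => g • x)) := by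
          intro g g' hgg
          have h5 : ∀ x : Ω, (g'⁻¹ * g) • x = x := by
            intro x
            rw [mul_smul]
            have : g • x = g' • x := congrFun hgg x
            rw [this, inv_smul_smul]
          have h6 := H.faith _ h5
          calc g = g' * (g'⁻¹ * g) := by group
            _ = g' := by rw [h6, mul_one]
        haveI : Finite G := Finite.of_injective _ hinj
        exact not_finite G
    omega
  · exact h

theorem Hyp.finiteG (H : Hyp G Ω p d) : Finite G := by
  apply Nat.finite_of_card_ne_zero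
  rw [H.cardG]
  have h1 := H.dpos
  have h2 := H.prime.pos
  positivity

theorem Hyp.two_le (H : Hyp G Ω p d) : 2 ≤ p := H.prime.two_le

/-- every element of order `p` has exactly one fixed point. -/
theorem Hyp.exists_unique_fixed (H : Hyp G Ω p d) (t : G) (ht : orderOf t = p) :
    ∃ a : Ω, t • a = a ∧ ∀ y : Ω, t • y = y → y = a := by
  haveI := H.finiteΩ
  haveI := H.finiteG
  haveI : Fact p.Prime := ⟨H.prime⟩
  have hp2 := H.two_le
  have hcQ : Nat.card (Subgroup.zpowers t) = p := by rw [Nat.card_zpowers, ht]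
  have hQ : IsPGroup p (Subgroup.zpowers t) := IsPGroup.of_card (n := 1) (by rw [hcQ, pow_one])
  have hmod := hQ.card_modEq_card_fixedPoints Ω
  have hmemfix : ∀ y : Ω, y ∈ fixedPoints (Subgroup.zpowers t) Ω ↔ t • y = y := by
    intro y
    constructor
    · intro hy
      exact hy ⟨t, Subgroup.mem_zpowers t⟩
    · intro hy u
      obtain ⟨u, hu⟩ := u
      obtain ⟨k, rfl⟩ := Subgroup.mem_zpowers_iff.1 hu
      have h1 : t ∈ stabilizer G y := mem_stabilizer_iff.2 hy
      exact mem_stabilizer_iff.1 (zpow_mem h1 k)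
  obtain ⟨n, hn⟩ : ∃ n, Nat.card (fixedPoints (Subgroup.zpowers t) Ω) = n := ⟨_, rfl⟩
  rw [hn, H.cardΩ] at hmod
  have hle : n ≤ p + 1 := by
    rw [← hn, ← H.cardΩ]
    exact Nat.card_le_card_of_injective _ Subtype.val_injective
  have hn1 : n % p = 1 := by
    have h1 : (p + 1) % p = n % p := hmod
    rw [← h1, Nat.add_mod_left, Nat.mod_eq_of_lt (by omega)]
  have hcases : n = 1 ∨ n = p + 1 := by
    have h2 := Nat.div_add_mod n p
    rw [hn1] at h2
    have h3 : n / p ≤ 1 := by
      by_contra hc
      have h4 : 2 ≤ n / p := by omega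
      have h5 : p * 2 ≤ p * (n / p) := Nat.mul_le_mul_left p h4
      omega
    interval_cases h6 : n / p
    · left; omega
    · right; omega
  rcases hcases with h1 | h1
  · rw [h1] at hn
    obtain ⟨⟨a, ha⟩, hu⟩ := Nat.card_eq_one_iff_exists.1 hn
    refine ⟨a, (hmemfix a).1 ha, fun y hy => ?_⟩
    have := hu ⟨y, (hmemfix y).2 hy⟩
    exact congrArg Subtype.val this
  · exfalso
    rw [h1, ← H.cardΩ] at hn
    have hall : ∀ y : Ω, t • y = y := by
      intro y
      rw [← hmemfix]
      have hs : (fixedPoints (Subgroup.zpowers t) Ω) = Set.univ := by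
        rw [Set.eq_univ_iff_ncard, ← Nat.card_coe_set_eq]
        exact hn
      rw [hs]
      exact Set.mem_univ y
    have := H.faith t hall
    rw [this, orderOf_one] at ht
    omega

/-- for every point there is an element of order `p` fixing it. -/
theorem Hyp.exists_order_p (H : Hyp G Ω p d) (a : Ω) : ∃ t : G, orderOf t = p ∧ t • a = a := by
  haveI := H.finiteG
  haveI : Fact p.Prime := ⟨H.prime⟩
  have hdvd : p ∣ Nat.card G := by
    rw [H.cardG]
    exact Dvd.dvd.mul_right (Dvd.intro_left _ rfl) _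
  obtain ⟨t₀, ht₀⟩ := exists_prime_orderOf_dvd_card' p hdvd
  obtain ⟨a₀, ha₀, -⟩ := H.exists_unique_fixed t₀ ht₀
  obtain ⟨g, hg⟩ := H.trans a₀ a
  refine ⟨g * t₀ * g⁻¹, ?_, ?_⟩
  · have := (MulAut.conj g).orderOf_eq t₀
    rw [MulAut.conj_apply] at this
    rw [this, ht₀]
  · rw [mul_smul, mul_smul, ← hg, inv_smul_smul, ha₀]

/-- regularity of the group generated by an element of order `p` on the non-fixed points. -/
theorem Hyp.reg_zpowers (H : Hyp G Ω p d) {t : G} (ht : orderOf t = p) {a : Ω} (hta : t • a = a)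
    (y z : Ω) (hy : y ≠ a) (hz : z ≠ a) : ∃! u : Subgroup.zpowers t, (u : G) • y = z := by
  haveI := H.finiteΩ
  haveI := H.finiteG
  have hp2 := H.two_le
  have hcQ : Nat.card (Subgroup.zpowers t) = p := by rw [Nat.card_zpowers, ht]
  haveI : Fact (Nat.card (Subgroup.zpowers t)).Prime := ⟨by rw [hcQ]; exact H.prime⟩
  obtain ⟨a', ha', huniq⟩ := H.exists_unique_fixed t ht
  have haa' : a = a' := huniq a hta
  have hfixQ : ∀ u : Subgroup.zpowers t, (u : G) • a = a := by
    intro u
    obtain ⟨u, hu⟩ := u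
    obtain ⟨k, rfl⟩ := Subgroup.mem_zpowers_iff.1 hu
    have h1 : t ∈ stabilizer G a := mem_stabilizer_iff.2 hta
    exact mem_stabilizer_iff.1 (zpow_mem h1 k)
  have hne : ∀ u : Subgroup.zpowers t, (u : G) • y ≠ a := by
    intro u h
    apply hy
    have := hfixQ u
    rw [← this] at h
    exact MulAction.injective (u : G) h
  -- the stabiliser of `y` in `⟨t⟩` is trivial
  have hstab : stabilizer (Subgroup.zpowers t) y = ⊥ := by
    rcases (stabilizer (Subgroup.zpowers t) y).eq_bot_or_eq_top_of_prime_card with h | h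
    · exact h
    · exfalso
      have h1 : (⟨t, Subgroup.mem_zpowers t⟩ : Subgroup.zpowers t) ∈
          stabilizer (Subgroup.zpowers t) y := by
        rw [h]
        exact Subgroup.mem_top _
      rw [mem_stabilizer_iff] at h1
      have h2 : t • y = y := h1
      exact hy ((huniq y h2).trans haa'.symm)
  have hinj : Function.Injective
      (fun u : Subgroup.zpowers t => (⟨(u : G) • y, hne u⟩ : {z : Ω // z ≠ a})) := by
    intro u v huv
    have h1 : (u : G) • y = (v : G) • y := congrArg Subtype.val huv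
    have h2 : (v⁻¹ * u) ∈ stabilizer (Subgroup.zpowers t) y := by
      rw [mem_stabilizer_iff]
      show ((v⁻¹ * u : Subgroup.zpowers t) : G) • y = y
      rw [Subgroup.coe_mul, mul_smul, h1, Subgroup.coe_inv, inv_smul_smul]
    rw [hstab, Subgroup.mem_bot] at h2
    calc u = v * (v⁻¹ * u) := by group
      _ = v := by rw [h2, mul_one]
  have hcard : Nat.card {z : Ω // z ≠ a} = p := by
    have h1 : Nat.card {z : Ω // z ≠ a} = Nat.card ↥(({a} : Set Ω)ᶜ) := by
      apply Nat.card_congr
      exact Equiv.subtypeEquivRight (fun z => by simp)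
    rw [h1, Nat.card_coe_set_eq, Set.ncard_compl, Set.ncard_singleton, H.cardΩ]
    omega
  have hbij := hinj.bijective_of_nat_card_le (by rw [hcard, hcQ])
  obtain ⟨u, hu⟩ := hbij.2 ⟨z, hz⟩
  refine ⟨u, congrArg Subtype.val hu, fun v hv => ?_⟩
  apply hinj
  rw [hu]
  exact Subtype.ext hv

/-- two subgroups of order `p` in a point stabiliser coincide. -/
theorem Hyp.order_p_mem (H : Hyp G Ω p d) {t s : G} (ht : orderOf t = p) (hs : orderOf s = p)
    {a : Ω} (hta : t • a = a) (hsa : s • a = a) : s ∈ Subgroup.zpowers t := by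
  haveI := H.finiteΩ
  haveI := H.finiteG
  have hp2 := H.two_le
  have hcQ : Nat.card (Subgroup.zpowers t) = p := by rw [Nat.card_zpowers, ht]
  have hcQ' : Nat.card (Subgroup.zpowers s) = p := by rw [Nat.card_zpowers, hs]
  haveI : Fact (Nat.card (Subgroup.zpowers s)).Prime := ⟨by rw [hcQ']; exact H.prime⟩
  by_contra hmem
  -- the intersection is trivial
  have hint : ∀ x : G, x ∈ Subgroup.zpowers t → x ∈ Subgroup.zpowers s → x = 1 := by
    intro x hxt hxs
    rcases ((Subgroup.zpowers t).subgroupOf (Subgroup.zpowers s)).eq_bot_or_eq_top_of_prime_card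
      with h | h
    · have h1 : (⟨x, hxs⟩ : Subgroup.zpowers s) ∈
          (Subgroup.zpowers t).subgroupOf (Subgroup.zpowers s) := Subgroup.mem_subgroupOf.2 hxt
      rw [h, Subgroup.mem_bot] at h1
      exact congrArg Subtype.val h1
    · exfalso
      apply hmem
      have h1 : (⟨s, Subgroup.mem_zpowers s⟩ : Subgroup.zpowers s) ∈
          (Subgroup.zpowers t).subgroupOf (Subgroup.zpowers s) := by
        rw [h]
        exact Subgroup.mem_top _
      exact Subgroup.mem_subgroupOf.1 h1
  have hstab : ∀ x : G, x ∈ Subgroup.zpowers t → x • a = a := by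
    intro x hx
    obtain ⟨k, rfl⟩ := Subgroup.mem_zpowers_iff.1 hx
    have h1 : t ∈ stabilizer G a := mem_stabilizer_iff.2 hta
    exact mem_stabilizer_iff.1 (zpow_mem h1 k)
  have hstab' : ∀ x : G, x ∈ Subgroup.zpowers s → x • a = a := by
    intro x hx
    obtain ⟨k, rfl⟩ := Subgroup.mem_zpowers_iff.1 hx
    have h1 : s ∈ stabilizer G a := mem_stabilizer_iff.2 hsa
    exact mem_stabilizer_iff.1 (zpow_mem h1 k)
  have hinj : Function.Injective
      (fun x : Subgroup.zpowers t × Subgroup.zpowers s =>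
        (⟨(x.1 : G) * (x.2 : G), by
          rw [mem_stabilizer_iff, mul_smul, hstab' _ x.2.2, hstab _ x.1.2]⟩ : stabilizer G a)) := by
    rintro ⟨u, v⟩ ⟨u', v'⟩ h
    have h1 : (u : G) * (v : G) = (u' : G) * (v' : G) := congrArg Subtype.val h
    have h2 : (u' : G)⁻¹ * (u : G) = (v' : G) * (v : G)⁻¹ := by
      calc (u' : G)⁻¹ * (u : G) = (u' : G)⁻¹ * ((u : G) * (v : G)) * (v : G)⁻¹ := by group
        _ = (v' : G) * (v : G)⁻¹ := by rw [h1]; group
    have h3 : (u' : G)⁻¹ * (u : G) = 1 := by
      apply hint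
      · exact mul_mem (inv_mem u'.2) u.2
      · rw [h2]
        exact mul_mem v'.2 (inv_mem v.2)
    have h4 : (v' : G) * (v : G)⁻¹ = 1 := by rw [← h2, h3]
    have e1 : u = u' := by
      apply Subtype.ext
      calc (u : G) = (u' : G) * ((u' : G)⁻¹ * (u : G)) := by group
        _ = u' := by rw [h3, mul_one]
    have e2 : v = v' := by
      apply Subtype.ext
      calc (v : G) = ((v' : G) * (v : G)⁻¹)⁻¹ * (v' : G) := by group
        _ = v' := by rw [h4, inv_one, one_mul]
    rw [e1, e2]
  have hle := Nat.card_le_card_of_injective _ hinj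
  rw [Nat.card_prod, hcQ, hcQ'] at hle
  -- `|G_a| = p d`
  have hcs : (p + 1) * Nat.card (stabilizer G a) = Nat.card G := by
    haveI : IsPretransitive G Ω := ⟨H.trans⟩
    have h1 := Subgroup.card_mul_index (stabilizer G a)
    rw [MulAction.index_stabilizer_of_transitive, H.cardΩ] at h1
    rw [← h1, mul_comm]
  rw [H.cardG, mul_assoc] at hcs
  have hcs' : Nat.card (stabilizer G a) = p * d := Nat.eq_of_mul_eq_mul_left (by omega) hcs
  rw [hcs'] at hle
  have hlt := H.lt
  have : p * d < p * p := Nat.mul_lt_mul_of_pos_left hlt (by omega)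
  omega

/-- the kernel at a point. -/
theorem Hyp.exists_ker (H : Hyp G Ω p d) (a : Ω) : ∃ P : Subgroup G, Ker p a P := by
  obtain ⟨t, ht, hta⟩ := H.exists_order_p a
  have hstab : ∀ x : G, x ∈ Subgroup.zpowers t → x • a = a := by
    intro x hx
    obtain ⟨k, rfl⟩ := Subgroup.mem_zpowers_iff.1 hx
    have h1 : t ∈ stabilizer G a := mem_stabilizer_iff.2 hta
    exact mem_stabilizer_iff.1 (zpow_mem h1 k)
  refine ⟨Subgroup.zpowers t, ?_, hstab, H.reg_zpowers ht hta, ?_, ?_⟩
  · rw [Nat.card_zpowers, ht]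
  · intro g hg u hu
    obtain ⟨k, rfl⟩ := Subgroup.mem_zpowers_iff.1 hu
    have h1 : g * t * g⁻¹ ∈ Subgroup.zpowers t := by
      apply H.order_p_mem ht _ hta
      · rw [mul_smul, mul_smul, inv_smul_eq_iff.2 hg.symm, hta, hg]
      · have := (MulAut.conj g).orderOf_eq t
        rw [MulAut.conj_apply] at this
        rw [this, ht]
    have h2 : g * t ^ k * g⁻¹ = (g * t * g⁻¹) ^ k := by
      rw [conj_zpow]
    rw [h2]
    exact zpow_mem h1 k
  · intro u hu v hv
    obtain ⟨k, rfl⟩ := Subgroup.mem_zpowers_iff.1 hu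
    obtain ⟨l, rfl⟩ := Subgroup.mem_zpowers_iff.1 hv
    rw [← zpow_add, ← zpow_add, add_comm]

theorem Ker.eq_one_of_fix {a : Ω} {P : Subgroup G} (K : Ker p a P) {u : G} (hu : u ∈ P) {y : Ω}
    (hy : y ≠ a) (h : u • y = y) : u = 1 := by
  obtain ⟨w, -, hw⟩ := K.reg y y hy hy
  have e1 := hw ⟨u, hu⟩ h
  have e2 := hw 1 (by
    show ((1 : P) : G) • y = y
    rw [Subgroup.coe_one, one_smul])
  exact congrArg Subtype.val (e1.trans e2.symm)

theorem Ker.ext {a : Ω} {P : Subgroup G} (K : Ker p a P) {u v : G} (hu : u ∈ P) (hv : v ∈ P)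
    {y : Ω} (hy : y ≠ a) (h : u • y = v • y) : u = v := by
  have h1 : (v⁻¹ * u) • y = y := by rw [mul_smul, h, inv_smul_smul]
  have h2 := K.eq_one_of_fix (mul_mem (inv_mem hv) hu) hy h1
  calc u = v * (v⁻¹ * u) := by group
    _ = v := by rw [h2, mul_one]

theorem Ker.smul_ne {a : Ω} {P : Subgroup G} (K : Ker p a P) {u : G} (hu : u ∈ P) {y : Ω}
    (hy : y ≠ a) : u • y ≠ a := by
  intro h
  apply hy
  have := K.fix u hu
  rw [← this] at h
  exact MulAction.injective u h

/-- double transitivity. -/
theorem Hyp.twoTrans (H : Hyp G Ω p d) (a b c e : Ω) (hab : a ≠ b) (hce : c ≠ e) :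
    ∃ g : G, g • a = c ∧ g • b = e := by
  obtain ⟨g, hg⟩ := H.trans a c
  obtain ⟨P, K⟩ := H.exists_ker c
  have h1 : g • b ≠ c := by
    intro h
    rw [← hg] at h
    exact hab (MulAction.injective g h).symm
  obtain ⟨u, hu, -⟩ := K.reg (g • b) e h1 hce.symm
  refine ⟨u * g, ?_, ?_⟩
  · rw [mul_smul, hg, K.fix _ u.2]
  · rw [mul_smul, hu]

/-- only the identity fixes three points. -/
theorem Hyp.three_fix (H : Hyp G Ω p d) (g : G) (a b c : Ω) (hab : a ≠ b) (hbc : b ≠ c)
    (hac : a ≠ c) (ha : g • a = a) (hb : g • b = b) (hc : g • c = c) : g = 1 := by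
  haveI := H.finiteG
  obtain ⟨P, K⟩ := H.exists_ker a
  haveI : Fact (Nat.card P).Prime := ⟨by rw [K.card]; exact H.prime⟩
  -- the centraliser of `g` in `P`
  let C : Subgroup P :=
    { carrier := {u | g * (u : G) * g⁻¹ = u}
      one_mem' := by
        show g * ((1 : P) : G) * g⁻¹ = ((1 : P) : G)
        rw [Subgroup.coe_one]
        group
      mul_mem' := by
        intro u v hu hv
        show g * ((u * v : P) : G) * g⁻¹ = ((u * v : P) : G)
        have hu' : g * (u : G) * g⁻¹ = u := hu
        have hv' : g * (v : G) * g⁻¹ = v := hv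
        rw [Subgroup.coe_mul]
        calc g * ((u : G) * (v : G)) * g⁻¹ = (g * (u : G) * g⁻¹) * (g * (v : G) * g⁻¹) := by group
          _ = (u : G) * (v : G) := by rw [hu', hv']
      inv_mem' := by
        intro u hu
        show g * ((u⁻¹ : P) : G) * g⁻¹ = ((u⁻¹ : P) : G)
        have hu' : g * (u : G) * g⁻¹ = u := hu
        rw [Subgroup.coe_inv]
        calc g * (u : G)⁻¹ * g⁻¹ = (g * (u : G) * g⁻¹)⁻¹ := by group
          _ = (u : G)⁻¹ := by rw [hu'] }
  have hginv : g⁻¹ • b = b := inv_smul_eq_iff.2 hb.symm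
  obtain ⟨u, hu, -⟩ := K.reg b c hab.symm hac.symm
  have hu1 : u ≠ 1 := by
    intro h
    rw [h, Subgroup.coe_one, one_smul] at hu
    exact hbc hu
  have huC : u ∈ C := by
    show g * (u : G) * g⁻¹ = u
    apply K.ext (K.norm g ha _ u.2) u.2 hab.symm
    rw [mul_smul, mul_smul, hginv, hu, hc]
  have hCtop : C = ⊤ := by
    rcases C.eq_bot_or_eq_top_of_prime_card with h | h
    · exfalso
      rw [h, Subgroup.mem_bot] at huC
      exact hu1 huC
    · exact h
  apply H.faith
  intro y
  by_cases hy : y = a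
  · rw [hy, ha]
  · obtain ⟨v, hv, -⟩ := K.reg b y hab.symm hy
    have hvC : v ∈ C := by
      rw [hCtop]
      exact Subgroup.mem_top _
    have hvC' : g * (v : G) * g⁻¹ = v := hvC
    rw [← hv]
    calc g • (v : G) • b = (g * (v : G) * g⁻¹) • g • b := by
          rw [mul_smul, mul_smul, inv_smul_smul]
      _ = (v : G) • b := by rw [hvC', hb]

/-- order of a point stabiliser. -/
theorem Hyp.card_stab (H : Hyp G Ω p d) (a : Ω) : Nat.card (stabilizer G a) = p * d := by
  haveI := H.finiteΩ
  haveI := H.finiteG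
  have hp2 := H.two_le
  have hcs : (p + 1) * Nat.card (stabilizer G a) = Nat.card G := by
    haveI : IsPretransitive G Ω := ⟨H.trans⟩
    have h1 := Subgroup.card_mul_index (stabilizer G a)
    rw [MulAction.index_stabilizer_of_transitive, H.cardΩ] at h1
    rw [← h1, mul_comm]
  rw [H.cardG, mul_assoc] at hcs
  exact Nat.eq_of_mul_eq_mul_left (by omega) hcs

/-- order of a two-point stabiliser. -/
theorem Hyp.card_stab2 (H : Hyp G Ω p d) {a b : Ω} (hab : a ≠ b) :
    Nat.card ↥(stabilizer G a ⊓ stabilizer G b : Subgroup G) = d := by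
  haveI := H.finiteΩ
  haveI := H.finiteG
  have hp2 := H.two_le
  have h1 := Subgroup.card_mul_index (stabilizer (stabilizer G a) b)
  rw [MulAction.index_stabilizer, H.card_stab a] at h1
  have h2 : orbit (stabilizer G a) b = ({a} : Set Ω)ᶜ := by
    ext c
    rw [mem_orbit_iff, Set.mem_compl_iff, Set.mem_singleton_iff]
    constructor
    · rintro ⟨x, rfl⟩ h
      have hx : (x : G) • a = a := x.2
      have h3 : (x : G) • b = (x : G) • a := by
        rw [hx]
        exact h
      exact hab (MulAction.injective (x : G) h3).symm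
    · intro hca
      obtain ⟨g, hga, hgb⟩ := H.twoTrans a b a c hab (Ne.symm hca)
      exact ⟨⟨g, hga⟩, hgb⟩
  rw [h2, Set.ncard_compl, Set.ncard_singleton, H.cardΩ, Nat.add_sub_cancel] at h1
  have h3 : Nat.card (stabilizer (stabilizer G a) b) = d := by
    have : Nat.card (stabilizer (stabilizer G a) b) * p = d * p := by rw [h1, mul_comm]
    exact Nat.eq_of_mul_eq_mul_right (by omega) this
  rw [← h3]
  apply Nat.card_congr
  exact
    { toFun := fun y => ⟨⟨y.1, (Subgroup.mem_inf.mp y.2).1⟩, (Subgroup.mem_inf.mp y.2).2⟩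
      invFun := fun x => ⟨x.1.1, Subgroup.mem_inf.mpr ⟨x.1.2, x.2⟩⟩
      left_inv := fun x => rfl
      right_inv := fun y => rfl }

end Cfsg.Agent.Lib.Helper3.PP1
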