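import Mathlib

/-!
# Normaliser of the affine group of a field consists of semi-affine maps (helper3)
-/

set_option autoImplicit false
set_option linter.unusedVariables false
set_option linter.unusedSectionVars false
set_option linter.style.longLine false

namespace Cfsg.Agent.Lib.Helper3.PP1

open MulAction

section Field

variable {G K : Type*} [Group G] [Field K] [MulAction G K]

/-- an element normalising the affine group and fixing `0` and `1` acts as a field automorphism. -/
theorem ringAut_of_fix (G₀ : Subgroup G) (hn : G₀.Normal)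
    (hN1 : ∀ g ∈ G₀, ∃ a b : K, a ≠ 0 ∧ ∀ x : K, g • x = x * a + b)
    (hN2 : ∀ a b : K, a ≠ 0 → ∃ g ∈ G₀, ∀ x : K, g • x = x * a + b)
    (g : G) (h0 : g • (0 : K) = 0) (h1 : g • (1 : K) = 1) :
    ∃ φ : K ≃+* K, ∀ x : K, g • x = φ x := by
  have hadd : ∀ x c : K, g • (x + c) = g • x + g • c := by
    intro x c
    obtain ⟨τ, hτ, hτx⟩ := hN2 1 c one_ne_zero
    have hτx' : ∀ x : K, τ • x = x + c := fun x => by rw [hτx, mul_one]
    obtain ⟨a', b', ha', hconj⟩ := hN1 _ (hn.conj_mem τ hτ g)
    have key : ∀ x : K, g • (x + c) = g • x * a' + b' := by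
      intro x
      have := hconj (g • x)
      rw [mul_smul, mul_smul, inv_smul_smul, hτx'] at this
      exact this
    have hb' : g • c = b' := by
      have := key 0
      rw [zero_add, h0, zero_mul, zero_add] at this
      exact this
    have ha1 : a' = 1 := by
      by_contra hne
      have hne' : 1 - a' ≠ 0 := sub_ne_zero.2 (Ne.symm hne)
      -- a fixed point
      obtain ⟨x₀, hx₀⟩ : ∃ x₀ : K, g • x₀ = b' / (1 - a') := ⟨g⁻¹ • (b' / (1 - a')), smul_inv_smul _ _⟩
      have h2 := key x₀
      have h3 : g • x₀ * a' + b' = g • x₀ := by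
        rw [hx₀]
        field_simp
        ring
      rw [h3] at h2
      have h4 : x₀ + c = x₀ := MulAction.injective g h2
      have hc0 : c = 0 := by
        have : x₀ + c = x₀ + 0 := by rw [h4, add_zero]
        exact add_left_cancel this
      have h5 := key 1
      rw [hc0, add_zero, h1, one_mul] at h5
      have h6 := key 0
      rw [hc0, add_zero, h0, zero_mul, zero_add] at h6
      rw [← h6, add_zero] at h5
      exact hne h5.symm
    rw [key, ha1, mul_one, hb']
  have hmul : ∀ x c : K, g • (x * c) = g • x * g • c := by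
    intro x c
    by_cases hc : c = 0
    · rw [hc, mul_zero, h0, mul_zero]
    · obtain ⟨μ, hμ, hμx⟩ := hN2 c 0 hc
      have hμx' : ∀ x : K, μ • x = x * c := fun x => by rw [hμx, add_zero]
      obtain ⟨a', b', ha', hconj⟩ := hN1 _ (hn.conj_mem μ hμ g)
      have key : ∀ x : K, g • (x * c) = g • x * a' + b' := by
        intro x
        have := hconj (g • x)
        rw [mul_smul, mul_smul, inv_smul_smul, hμx'] at this
        exact this
      have hb' : b' = 0 := by
        have := key 0
        rw [zero_mul, h0, zero_mul, zero_add] at this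
        exact this.symm
      have ha'' : g • c = a' := by
        have := key 1
        rw [one_mul, h1, one_mul, hb', add_zero] at this
        exact this
      rw [key, hb', add_zero, ha'']
  refine ⟨{ toFun := fun x => g • x
            invFun := fun x => g⁻¹ • x
            left_inv := fun x => inv_smul_smul g x
            right_inv := fun x => smul_inv_smul g x
            map_mul' := fun x y => hmul x y
            map_add' := fun x y => hadd x y }, fun x => rfl⟩

/-- an element normalising the affine group is semi-affine. -/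
theorem semiaffine_of_normal (G₀ : Subgroup G) (hn : G₀.Normal)
    (hN1 : ∀ g ∈ G₀, ∃ a b : K, a ≠ 0 ∧ ∀ x : K, g • x = x * a + b)
    (hN2 : ∀ a b : K, a ≠ 0 → ∃ g ∈ G₀, ∀ x : K, g • x = x * a + b)
    (g : G) : ∃ (a : Kˣ) (b : K) (φ : K ≃+* K), ∀ x : K, g • x = (a : K) * φ x + b := by
  have huv : g • (1 : K) - g • (0 : K) ≠ 0 := by
    intro h
    have : g • (1 : K) = g • (0 : K) := sub_eq_zero.1 h
    exact one_ne_zero (MulAction.injective g this)
  obtain ⟨m, hm, hmx⟩ := hN2 (g • (1 : K) - g • (0 : K))⁻¹
    (-(g • (0 : K)) * (g • (1 : K) - g • (0 : K))⁻¹) (inv_ne_zero huv)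
  have h0 : (m * g) • (0 : K) = 0 := by
    rw [mul_smul, hmx]
    ring
  have h1 : (m * g) • (1 : K) = 1 := by
    rw [mul_smul, hmx]
    field_simp
    ring
  obtain ⟨φ, hφ⟩ := ringAut_of_fix G₀ hn hN1 hN2 (m * g) h0 h1
  obtain ⟨a, b, ha, hab⟩ := hN1 _ (inv_mem hm)
  refine ⟨Units.mk0 a ha, b, φ, fun x => ?_⟩
  have e1 : g • x = m⁻¹ • (m * g) • x := by rw [mul_smul, inv_smul_smul]
  rw [e1, hφ, hab, Units.val_mk0, mul_comm]

/-- the pointwise stabiliser of `0` and `1` has order dividing the order of the automorphism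
group of the field. -/
theorem card_fix_dvd [Finite K] (hfaith : ∀ g : G, (∀ x : K, g • x = x) → g = 1)
    (G₀ : Subgroup G) (hn : G₀.Normal)
    (hN1 : ∀ g ∈ G₀, ∃ a b : K, a ≠ 0 ∧ ∀ x : K, g • x = x * a + b)
    (hN2 : ∀ a b : K, a ≠ 0 → ∃ g ∈ G₀, ∀ x : K, g • x = x * a + b) :
    Nat.card ↥(stabilizer G (0 : K) ⊓ stabilizer G (1 : K) : Subgroup G) ∣ Nat.card (RingAut K) := by
  have hex : ∀ g : ↥(stabilizer G (0 : K) ⊓ stabilizer G (1 : K) : Subgroup G),
      ∃ φ : K ≃+* K, ∀ x : K, (g : G) • x = φ x := by
    intro g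
    have hg := g.2
    rw [Subgroup.mem_inf, mem_stabilizer_iff, mem_stabilizer_iff] at hg
    exact ringAut_of_fix G₀ hn hN1 hN2 g hg.1 hg.2
  choose f hf using hex
  let F : ↥(stabilizer G (0 : K) ⊓ stabilizer G (1 : K) : Subgroup G) →* RingAut K :=
    { toFun := f
      map_one' := by
        apply RingEquiv.ext
        intro x
        rw [← hf, Subgroup.coe_one, one_smul]
        rfl
      map_mul' := by
        intro g g'
        apply RingEquiv.ext
        intro x
        rw [← hf, Subgroup.coe_mul, mul_smul, hf g', hf g]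
        rfl }
  have hinj : Function.Injective F := by
    intro g g' h
    have h' : f g = f g' := h
    apply Subtype.ext
    have h2 : ∀ x : K, ((g' : G)⁻¹ * (g : G)) • x = x := by
      intro x
      rw [mul_smul, hf g, h', ← hf g', inv_smul_smul]
    have h3 := hfaith _ h2
    calc (g : G) = (g' : G) * ((g' : G)⁻¹ * (g : G)) := by group
      _ = g' := by rw [h3, mul_one]
  exact Subgroup.card_dvd_of_injective F hinj

end Field

end Cfsg.Agent.Lib.Helper3.PP1
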