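import Mathlib
import Cfsg.Agent.Lib.Helper3.PP1A
import Cfsg.Agent.Lib.Helper3.PP1B
import Cfsg.Agent.Lib.Helper29.SharpThree
import Cfsg.Agent.Lib.Helper6.AutPSL9

/-!
# Degree `p + 1`, order `(p+1) p d`: the case of a regular normal subgroup (helper3)
-/

set_option autoImplicit false
set_option linter.unusedVariables false
set_option linter.unusedSectionVars false
set_option linter.style.longLine false

namespace Cfsg.Agent.Lib.Helper3.PP1

open MulAction Cfsg.H5.SharpTwo Cfsg.Agent.Helper29.SharpThree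

section NF

variable {Γ α : Type*} [Group Γ] [MulAction Γ α] [Finite Γ] [Finite α] [NF : Cfsg.NearField α]

theorem nf_add_comm' (hS : Sharp Γ α) (hT : TwoTrans Γ α)
    (hN2 : ∀ a b : α, a ≠ 0 → ∃ g : Γ, ∀ x : α, g • x = x * a + b)
    (a b : α) : a + b = b + a := by
  have hn : ∃ x y : α, x ≠ y := ⟨0, 1, Cfsg.NearField.zero_ne_one⟩
  have h10 : (1 : α) ≠ 0 := fun h => Cfsg.NearField.zero_ne_one h.symm
  have htr : ∀ c : α, ∃ τ : Γ, τ ∈ kernel hS hT hn ∧ ∀ x : α, τ • x = x + c := by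
    intro c
    obtain ⟨τ, hτ⟩ := hN2 1 c h10
    have hτ' : ∀ x : α, τ • x = x + c := fun x => by rw [hτ x, mul_one]
    refine ⟨τ, ?_, hτ'⟩
    rw [mem_kernel]
    by_cases hc : c = 0
    · left
      apply hS τ 0 1 Cfsg.NearField.zero_ne_one
      · rw [hτ', hc, add_zero]
      · rw [hτ', hc, add_zero]
    · right
      intro x hx
      rw [hτ'] at hx
      apply hc
      have hx' : x + c = x + 0 := by rw [hx, add_zero]
      exact add_left_cancel hx'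
  obtain ⟨τa, hka, hτa⟩ := htr a
  obtain ⟨τb, hkb, hτb⟩ := htr b
  have hc := kernel_comm hS hT hn τa hka τb hkb
  have e1 : (τa * τb) • (0 : α) = b + a := by rw [mul_smul, hτb, zero_add, hτa]
  have e2 : (τb * τa) • (0 : α) = a + b := by rw [mul_smul, hτa, zero_add, hτb]
  rw [← e2, ← e1, hc]

omit [Finite Γ] [Finite α] in
theorem nf_mul_comm'
    (hN2 : ∀ a b : α, a ≠ 0 → ∃ g : Γ, ∀ x : α, g • x = x * a + b)
    (hcomm : ∀ h h' : Γ, h • (0 : α) = 0 → h' • (0 : α) = 0 → h * h' = h' * h)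
    (a b : α) : a * b = b * a := by
  by_cases ha : a = 0
  · rw [ha, nf_zero_mul, Cfsg.NearField.mul_zero]
  by_cases hb : b = 0
  · rw [hb, nf_zero_mul, Cfsg.NearField.mul_zero]
  obtain ⟨ma, hma⟩ := hN2 a 0 ha
  obtain ⟨mb, hmb⟩ := hN2 b 0 hb
  have hma' : ∀ x : α, ma • x = x * a := fun x => by rw [hma, add_zero]
  have hmb' : ∀ x : α, mb • x = x * b := fun x => by rw [hmb, add_zero]
  have h0a : ma • (0 : α) = 0 := by rw [hma', nf_zero_mul]
  have h0b : mb • (0 : α) = 0 := by rw [hmb', nf_zero_mul]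
  have hc := hcomm ma mb h0a h0b
  have e1 : (ma * mb) • (1 : α) = b * a := by rw [mul_smul, hmb', one_mul, hma']
  have e2 : (mb * ma) • (1 : α) = a * b := by rw [mul_smul, hma', one_mul, hmb']
  rw [← e2, ← e1, hc]

end NF

section Regular

variable {G Ω : Type*} [Group G] [MulAction G Ω] {p d : ℕ}

/-- **Regular normal subgroup case.** -/
theorem regular_case (H : Hyp G Ω p d) (hp2 : p ≠ 2) (R : Subgroup G) (hRn : R.Normal)
    (hRt : ∀ x y : Ω, ∃ r ∈ R, r • x = y) (hRs : ∀ r ∈ R, ∀ x : Ω, r • x = x → r = 1) :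
    ∃ q : ℕ, q.Prime ∧ p + 1 = 2 ^ q ∧ (d = 1 ∨ d = q) ∧ ∃ e : Ω ≃ GaloisField 2 q, ∀ g : G,
      ∃ (a : (GaloisField 2 q)ˣ) (b : GaloisField 2 q)
        (φ : GaloisField 2 q ≃+* GaloisField 2 q),
        ∀ x : GaloisField 2 q, e (g • e.symm x) = (a : GaloisField 2 q) * φ x + b := by
  classical
  haveI := H.finiteΩ
  haveI := H.finiteG
  have hp := H.prime
  have hp2' := H.two_le
  obtain ⟨a⟩ : Nonempty Ω := by
    have : 0 < Nat.card Ω := by rw [H.cardΩ]; omega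
    exact (Nat.card_pos_iff.1 this).1
  obtain ⟨P, K⟩ := H.exists_ker a
  -- the sharply doubly transitive subgroup
  obtain ⟨G₀, hG₀def⟩ : ∃ G₀ : Subgroup G, G₀ = R ⊔ P := ⟨_, rfl⟩
  have hmemG₀ : ∀ g : G, g ∈ G₀ ↔ ∃ r ∈ R, ∃ u ∈ P, g = r * u := by
    intro g
    rw [hG₀def, ← SetLike.mem_coe, Subgroup.normal_mul, Set.mem_mul]
    constructor
    · rintro ⟨r, hr, u, hu, rfl⟩
      exact ⟨r, hr, u, hu, rfl⟩
    · rintro ⟨r, hr, u, hu, rfl⟩
      exact ⟨r, hr, u, hu, rfl⟩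
  have hRle : R ≤ G₀ := by rw [hG₀def]; exact le_sup_left
  have hPle : P ≤ G₀ := by rw [hG₀def]; exact le_sup_right
  have hstabG₀ : ∀ g ∈ G₀, g • a = a → g ∈ P := by
    intro g hg hga
    obtain ⟨r, hr, u, hu, rfl⟩ := (hmemG₀ g).1 hg
    rw [mul_smul, K.fix u hu] at hga
    rw [hRs r hr a hga, one_mul]
    exact hu
  have hG₀n : G₀.Normal := by
    constructor
    intro x hx g
    obtain ⟨r, hr, u, hu, rfl⟩ := (hmemG₀ x).1 hx
    obtain ⟨r₁, hr₁, hr₁a⟩ := hRt a (g • a)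
    have hh : (r₁⁻¹ * g) • a = a := by rw [mul_smul, ← hr₁a, inv_smul_smul]
    have e : g * (r * u) * g⁻¹ =
        (g * r * g⁻¹) * (r₁ * ((r₁⁻¹ * g) * u * (r₁⁻¹ * g)⁻¹) * r₁⁻¹) := by group
    rw [e]
    apply mul_mem (hRle (hRn.conj_mem r hr g))
    apply mul_mem (mul_mem (hRle hr₁) (hPle (K.norm _ hh u hu))) (inv_mem (hRle hr₁))
  have hS : Sharp ↥G₀ Ω := by
    intro g x y hxy hx hy
    obtain ⟨r₁, hr₁, hr₁x⟩ := hRt x a
    have hx' : (g : G) • x = x := hx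
    have hy' : (g : G) • y = y := hy
    have h1 : r₁ * (g : G) * r₁⁻¹ ∈ G₀ := mul_mem (mul_mem (hRle hr₁) g.2) (inv_mem (hRle hr₁))
    have h2 : (r₁ * (g : G) * r₁⁻¹) • a = a := by
      rw [mul_smul, mul_smul, ← hr₁x, inv_smul_smul, hx']
    have h3 := hstabG₀ _ h1 h2
    have h4 : r₁ • y ≠ a := by
      intro h
      rw [← hr₁x] at h
      exact hxy (MulAction.injective r₁ h).symm
    have h5 : (r₁ * (g : G) * r₁⁻¹) • (r₁ • y) = r₁ • y := by
      rw [mul_smul, mul_smul, inv_smul_smul, hy']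
    have h6 := K.eq_one_of_fix h3 h4 h5
    apply Subtype.ext
    rw [Subgroup.coe_one]
    calc (g : G) = r₁⁻¹ * (r₁ * (g : G) * r₁⁻¹) * r₁ := by group
      _ = 1 := by rw [h6]; group
  have hT : TwoTrans ↥G₀ Ω := by
    intro x y c e hxy hce
    obtain ⟨r₁, hr₁, hr₁x⟩ := hRt x c
    obtain ⟨r₂, hr₂, hr₂c⟩ := hRt c a
    have h1 : r₂ • r₁ • y ≠ a := by
      intro h
      rw [← hr₂c, ← hr₁x] at h
      exact hxy (MulAction.injective r₁ (MulAction.injective r₂ h)).symm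
    have h2 : r₂ • e ≠ a := by
      intro h
      rw [← hr₂c] at h
      exact hce (MulAction.injective r₂ h).symm
    obtain ⟨u, hu, -⟩ := K.reg _ _ h1 h2
    refine ⟨⟨r₂⁻¹ * u * r₂ * r₁, mul_mem (mul_mem (mul_mem (inv_mem (hRle hr₂)) (hPle u.2))
      (hRle hr₂)) (hRle hr₁)⟩, ?_, ?_⟩
    · show (r₂⁻¹ * (u : G) * r₂ * r₁) • x = c
      rw [mul_smul, mul_smul, mul_smul, hr₁x, hr₂c, K.fix _ u.2, ← hr₂c, inv_smul_smul]
    · show (r₂⁻¹ * (u : G) * r₂ * r₁) • y = e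
      rw [mul_smul, mul_smul, mul_smul, hu, inv_smul_smul]
  have hcardΩ2 : 2 ≤ Nat.card Ω := by rw [H.cardΩ]; omega
  have hn : ∃ x y : Ω, x ≠ y := by
    haveI : Nontrivial Ω := Finite.one_lt_card_iff_nontrivial.1 (by omega)
    exact exists_pair_ne Ω
  obtain ⟨NF, hN1, hN2⟩ := exists_nearField hS hT hn
  -- commutativity
  have hcomm : ∀ h h' : ↥G₀, h • (0 : Ω) = 0 → h' • (0 : Ω) = 0 → h * h' = h' * h := by
    intro h h' hh hh'
    obtain ⟨r₁, hr₁, hr₁x⟩ := hRt (0 : Ω) a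
    have hh0 : (h : G) • (0 : Ω) = 0 := hh
    have hh'0 : (h' : G) • (0 : Ω) = 0 := hh'
    have h1 : r₁ * (h : G) * r₁⁻¹ ∈ P := by
      apply hstabG₀ _ (mul_mem (mul_mem (hRle hr₁) h.2) (inv_mem (hRle hr₁)))
      rw [mul_smul, mul_smul, ← hr₁x, inv_smul_smul, hh0]
    have h2 : r₁ * (h' : G) * r₁⁻¹ ∈ P := by
      apply hstabG₀ _ (mul_mem (mul_mem (hRle hr₁) h'.2) (inv_mem (hRle hr₁)))
      rw [mul_smul, mul_smul, ← hr₁x, inv_smul_smul, hh'0]
    have h3 := K.comm _ h1 _ h2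
    apply Subtype.ext
    rw [Subgroup.coe_mul, Subgroup.coe_mul]
    calc (h : G) * (h' : G) = r₁⁻¹ * ((r₁ * (h : G) * r₁⁻¹) * (r₁ * (h' : G) * r₁⁻¹)) * r₁ := by
          group
      _ = r₁⁻¹ * ((r₁ * (h' : G) * r₁⁻¹) * (r₁ * (h : G) * r₁⁻¹)) * r₁ := by rw [h3]
      _ = (h' : G) * (h : G) := by group
  have F1 : ∀ x y : Ω, x * y = y * x := nf_mul_comm' hN2 hcomm
  have F2 : ∀ x y : Ω, x + y = y + x := nf_add_comm' hS hT hN2
  letI FK : Field Ω := fieldOfNF F1 F2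
  letI FT : Fintype Ω := Fintype.ofFinite _
  have hcF : Fintype.card Ω = p + 1 := by
    rw [← Nat.card_eq_fintype_card]
    exact H.cardΩ
  -- the characteristic
  obtain ⟨r, hrchar⟩ := CharP.exists Ω
  haveI := hrchar
  obtain ⟨k, hr, hrk⟩ := FiniteField.card Ω r
  have hpodd : Odd p := hp.odd_of_ne_two hp2
  have hr2 : r = 2 := by
    have h1 : 2 ∣ r ^ (k : ℕ) := by
      rw [← hrk, hcF]
      obtain ⟨j, hj⟩ := hpodd
      exact ⟨j + 1, by omega⟩
    have h2 := Nat.Prime.dvd_of_dvd_pow Nat.prime_two h1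
    exact ((Nat.prime_dvd_prime_iff_eq Nat.prime_two hr).1 h2).symm
  rw [hr2] at hrk
  have hpk : p + 1 = 2 ^ (k : ℕ) := by rw [← hcF, hrk]
  have hkprime : (k : ℕ).Prime := by
    have hk1 : (k : ℕ) ≠ 1 := by
      intro h
      rw [h, pow_one] at hpk
      omega
    have hP : (2 ^ (k : ℕ) - 1).Prime := by
      rw [← hpk, Nat.add_sub_cancel]
      exact hp
    exact (Nat.prime_of_pow_sub_one_prime hk1 hP).2
  haveI : Fact (Nat.Prime 2) := ⟨Nat.prime_two⟩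
  -- the affine group in `G`
  have hN1' : ∀ g ∈ G₀, ∃ a b : Ω, a ≠ 0 ∧ ∀ x : Ω, g • x = x * a + b := by
    intro g hg
    exact hN1 ⟨g, hg⟩
  have hN2' : ∀ a b : Ω, a ≠ 0 → ∃ g ∈ G₀, ∀ x : Ω, g • x = x * a + b := by
    intro a b ha
    obtain ⟨g, hg⟩ := hN2 a b ha
    exact ⟨g.1, g.2, hg⟩
  have hsemi := semiaffine_of_normal G₀ hG₀n hN1' hN2'
  have hdvd := card_fix_dvd H.faith G₀ hG₀n hN1' hN2'
  have h01 : (0 : Ω) ≠ 1 := zero_ne_one
  rw [H.card_stab2 h01, Cfsg.Agent.Lib.Helper6.AutPSL.card_ringAut hrk k.pos] at hdvd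
  letI : Fintype (GaloisField 2 (k : ℕ)) := Fintype.ofFinite _
  have hF : Fintype.card (GaloisField 2 (k : ℕ)) = 2 ^ (k : ℕ) := by
    rw [← Nat.card_eq_fintype_card]
    exact GaloisField.card 2 k k.ne_zero
  have hcc : Fintype.card Ω = Fintype.card (GaloisField 2 (k : ℕ)) := by rw [hrk, hF]
  let re : Ω ≃+* GaloisField 2 (k : ℕ) := FiniteField.ringEquivOfCardEq hcc
  refine ⟨k, hkprime, hpk, ?_, re.toEquiv, ?_⟩
  · rcases (Nat.dvd_prime hkprime).1 hdvd with h | h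
    · exact Or.inl h
    · exact Or.inr h
  · intro g
    obtain ⟨c, b, φ, hφ⟩ := hsemi g
    refine ⟨Units.map (re : Ω →* GaloisField 2 (k : ℕ)) c, re b,
      (re.symm.trans φ).trans re, fun x => ?_⟩
    show re (g • re.symm x) = _
    rw [hφ, map_add, map_mul]
    rfl

end Regular

end Cfsg.Agent.Lib.Helper3.PP1
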