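import Mathlib
import Cfsg.Agent.Lib.Helper18.FrobeniusThm
import Cfsg.Agent.Lib.Helper1.Basic
import Cfsg.Agent.Lib.Helper1.FrobConj

set_option autoImplicit false

namespace Cfsg.Agent.Lib.Helper3.Zass

open scoped Pointwise

/-- Frobenius' theorem for a group action: if the stabiliser of `b` is non-trivial, proper, and
no non-identity element fixes `b` and another point of the orbit of `b`, then the elements without
fixed points on the orbit, together with `1`, form a normal complement of the stabiliser. -/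
theorem exists_kernel {X Ω : Type*} [Group X] [Finite X] [MulAction X Ω] (b : Ω)
    (h1 : MulAction.stabilizer X b ≠ ⊥) (h2 : ∃ x : X, x • b ≠ b)
    (h3 : ∀ x y : X, y • b ≠ b → x • b = b → x • (y • b) = y • b → x = 1) :
    ∃ K : Subgroup X, Cfsg.Agent.Lib.Helper1.FrobData (MulAction.stabilizer X b) K ∧
      (∀ x, x ∈ K ↔ x = 1 ∨ ∀ y : X, x • (y • b) ≠ y • b) ∧
      Nat.card K = Nat.card (MulAction.orbit X b) := by
  have hconj : ∀ g x : X, x ∈ MulAut.conj g • MulAction.stabilizer X b ↔ x • (g • b) = g • b := by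
    intro g x
    rw [Cfsg.Agent.Lib.Helper1.mem_conj_smul, MulAction.mem_stabilizer_iff, mul_smul, mul_smul,
      inv_smul_eq_iff]
  have hF : Cfsg.IsFrobeniusComplement (MulAction.stabilizer X b) := by
    refine ⟨h1, ?_, ?_⟩
    · intro htop
      obtain ⟨x, hx⟩ := h2
      apply hx
      have : x ∈ MulAction.stabilizer X b := by rw [htop]; exact Subgroup.mem_top x
      exact this
    · intro g hg
      rw [eq_bot_iff]
      intro x hx
      obtain ⟨hx1, hx2⟩ := Subgroup.mem_inf.1 hx
      rw [hconj] at hx2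
      exact Subgroup.mem_bot.2 (h3 x g hg hx1 hx2)
  obtain ⟨K, hK, hKn, hc⟩ := Cfsg.Agent.Lib.Helper18.frobenius_kernel_subgroup _ hF
  refine ⟨K, ⟨hF, hK, hKn, hc⟩, ?_, ?_⟩
  · intro x
    rw [← SetLike.mem_coe, hK]
    unfold Cfsg.frobeniusKernel
    simp only [Set.mem_ofPred_eq, hconj]
  · have e1 := hc.card_mul_card
    have e2 := MulAction.orbitProdStabilizerEquivGroup X b
    have e3 : Nat.card (MulAction.orbit X b) * Nat.card (MulAction.stabilizer X b) = Nat.card X := by
      rw [← Nat.card_prod, Nat.card_congr e2]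
    have hpos : 0 < Nat.card (MulAction.stabilizer X b) := Nat.card_pos
    exact Nat.eq_of_mul_eq_mul_right hpos (e1.trans e3.symm)

end Cfsg.Agent.Lib.Helper3.Zass
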