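import Mathlib
import Cfsg.Prelude.Def_LieExceptional
import Cfsg.Agent.Lib.Helper3.Zass2

set_option autoImplicit false

namespace Cfsg.Agent.Lib.Helper3.Zass

open Cfsg
open scoped Pointwise

variable {G Ω : Type*} [Group G] [MulAction G Ω]

lemma finite_of_zass [Finite Ω] (hZ : IsZassenhausGroup G Ω) : Finite G := by
  have := hZ.1
  exact Finite.of_injective _ (MulAction.toPerm_injective (α := G) (β := Ω))

lemma two_trans (hZ : IsZassenhausGroup G Ω) {a b c d : Ω} (hab : a ≠ b) (hcd : c ≠ d) :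
    ∃ g : G, g • a = c ∧ g • b = d :=
  (MulAction.is_two_pretransitive_iff.1 hZ.2.1) hab hcd

lemma fix3 (hZ : IsZassenhausGroup G Ω) (g : G) {a b c : Ω} (hab : a ≠ b) (hbc : b ≠ c)
    (hac : a ≠ c) (ha : g • a = a) (hb : g • b = b) (hc : g • c = c) : g = 1 :=
  hZ.2.2.1 g a b c hab hbc hac ha hb hc

lemma exists_fix2 (hZ : IsZassenhausGroup G Ω) {a b : Ω} (hab : a ≠ b) :
    ∃ g : G, g ≠ 1 ∧ g • a = a ∧ g • b = b := by
  obtain ⟨g, hg, a0, b0, h0, ha0, hb0⟩ := hZ.2.2.2.1
  obtain ⟨x, hxa, hxb⟩ := two_trans hZ h0 hab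
  refine ⟨x * g * x⁻¹, ?_, ?_, ?_⟩
  · intro h
    apply hg
    have : g = x⁻¹ * (x * g * x⁻¹) * x := by group
    rw [this, h]; group
  · rw [← hxa, mul_smul, mul_smul, inv_smul_smul, ha0]
  · rw [← hxb, mul_smul, mul_smul, inv_smul_smul, hb0]

lemma exists_third (hZ : IsZassenhausGroup G Ω) {a b : Ω} (hab : a ≠ b) :
    ∃ c : Ω, c ≠ a ∧ c ≠ b := by
  by_contra hcon
  push Not at hcon
  obtain ⟨g, hg, hga, hgb⟩ := exists_fix2 hZ hab
  apply hg
  have := hZ.1
  apply this.eq_of_smul_eq_smul (α := Ω)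
  intro c
  rw [one_smul]
  by_cases hc : c = a
  · rw [hc, hga]
  · rw [hcon c hc, hgb]

/-- an involution has exactly one fixed point when the degree is odd -/
lemma invol_fix [Fintype Ω] (hZ : IsZassenhausGroup G Ω) (hodd : Odd (Fintype.card Ω)) (t : G)
    (ht : t ≠ 1) (ht2 : t * t = 1) : ∃ c : Ω, t • c = c ∧ ∀ d, t • d = d → d = c := by
  classical
  have : Fact (Nat.Prime 2) := ⟨Nat.prime_two⟩
  set σ : Equiv.Perm Ω := MulAction.toPerm t with hσ
  have hσ2 : σ ^ 2 ^ 1 = 1 := by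
    rw [pow_one, pow_two]
    ext c
    simp only [hσ, Equiv.Perm.coe_mul, Function.comp_apply, MulAction.toPerm_apply,
      Equiv.Perm.coe_one, id_eq]
    rw [← mul_smul, ht2, one_smul]
  have hmod := Equiv.Perm.card_compl_support_modEq hσ2
  have hmem : ∀ c, c ∈ σ.supportᶜ ↔ t • c = c := by
    intro c
    simp [hσ, Equiv.Perm.mem_support]
  have hle : σ.supportᶜ.card ≤ 2 := by
    by_contra hgt
    push Not at hgt
    obtain ⟨a, b, c, ha, hb, hc, hab, hac, hbc⟩ := Finset.two_lt_card_iff.1 hgt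
    rw [hmem] at ha hb hc
    exact ht (fix3 hZ t hab hbc hac ha hb hc)
  have hoddc : Odd σ.supportᶜ.card := by
    rw [Nat.odd_iff] at hodd ⊢
    rw [← hodd]
    exact hmod
  have h1 : σ.supportᶜ.card = 1 := by
    rcases hoddc with ⟨k, hk⟩
    omega
  obtain ⟨c, hc⟩ := Finset.card_eq_one.1 h1
  refine ⟨c, ?_, ?_⟩
  · rw [← hmem, hc]; exact Finset.mem_singleton_self c
  · intro d hd
    rw [← hmem, hc] at hd
    exact Finset.mem_singleton.1 hd

lemma pow_smul_of_fix {g : G} {b : Ω} (h : g • b = b) (j : ℕ) : g ^ j • b = b := by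
  induction j with
  | zero => simp
  | succ n ih => rw [pow_succ, mul_smul, h, ih]

/-- an involution interchanging two given points, in odd degree -/
lemma exists_invol_swap [Fintype Ω] (hZ : IsZassenhausGroup G Ω) (hodd : Odd (Fintype.card Ω))
    {a b : Ω} (hab : a ≠ b) : ∃ t : G, t * t = 1 ∧ t • a = b ∧ t • b = a := by
  have hfin : Finite G := finite_of_zass hZ
  obtain ⟨g, hga, hgb⟩ := two_trans hZ hab hab.symm
  set H : Subgroup G := MulAction.stabilizer G a ⊓ MulAction.stabilizer G b with hH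
  have hoddH : Odd (Nat.card H) := by
    by_contra hne
    rw [Nat.not_odd_iff_even, even_iff_two_dvd] at hne
    have : Fact (Nat.Prime 2) := ⟨Nat.prime_two⟩
    obtain ⟨x, hx⟩ := exists_prime_orderOf_dvd_card' 2 hne
    have hx1 : x.1 ≠ 1 := by
      intro h
      have : x = 1 := Subtype.ext h
      rw [this, orderOf_one] at hx
      exact absurd hx (by norm_num)
    have hx2 : x.1 * x.1 = 1 := by
      have := pow_orderOf_eq_one x
      rw [hx, pow_two] at this
      exact congrArg Subtype.val this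
    obtain ⟨c, hc, hcu⟩ := invol_fix hZ hodd x.1 hx1 hx2
    have h1 : x.1 • a = a := (Subgroup.mem_inf.1 x.2).1
    have h2 : x.1 • b = b := (Subgroup.mem_inf.1 x.2).2
    exact hab ((hcu a h1).trans (hcu b h2).symm)
  obtain ⟨j, hj⟩ := hoddH
  have hgg : g * g ∈ H := by
    refine Subgroup.mem_inf.2 ⟨?_, ?_⟩
    · rw [MulAction.mem_stabilizer_iff, mul_smul, hga, hgb]
    · rw [MulAction.mem_stabilizer_iff, mul_smul, hgb, hga]
  have hpow : (g * g) ^ (Nat.card H) = 1 := by
    have := pow_card_eq_one' (G := H) (x := ⟨g * g, hgg⟩)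
    exact congrArg Subtype.val this
  refine ⟨g ^ (Nat.card H), ?_, ?_, ?_⟩
  · rw [← hpow, ← pow_two, ← pow_two, ← pow_mul, ← pow_mul, mul_comm]
  · rw [hj, pow_succ, mul_smul, hga, pow_mul, pow_two]
    exact pow_smul_of_fix (by rw [mul_smul, hgb, hga]) j
  · rw [hj, pow_succ, mul_smul, hgb, pow_mul, pow_two]
    exact pow_smul_of_fix (by rw [mul_smul, hga, hgb]) j

lemma smul_ne_of_stab {a b : Ω} (hab : a ≠ b) (y : G) (hy : y • a = a) : y • b ≠ a := by
  intro h
  apply hab
  have : y • b = y • a := by rw [h, hy]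
  exact (smul_left_cancel y this).symm

/-- the Frobenius kernel of a point stabiliser in a Zassenhaus group -/
theorem exists_point_kernel [Finite Ω] (hZ : IsZassenhausGroup G Ω) {a b : Ω} (hab : a ≠ b) :
    ∃ K : Subgroup (MulAction.stabilizer G a),
      Cfsg.Agent.Lib.Helper1.FrobData (MulAction.stabilizer (MulAction.stabilizer G a) b) K ∧
      (∀ x : MulAction.stabilizer G a, x ∈ K ↔ x = 1 ∨ ∀ c : Ω, c ≠ a → (x : G) • c ≠ c) ∧
      Nat.card K = Nat.card (MulAction.orbit (MulAction.stabilizer G a) b) := by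
  have hfin : Finite G := finite_of_zass hZ
  have h1 : MulAction.stabilizer (MulAction.stabilizer G a) b ≠ ⊥ := by
    obtain ⟨g, hg, hga, hgb⟩ := exists_fix2 hZ hab
    intro h
    have hmem : (⟨g, hga⟩ : MulAction.stabilizer G a) ∈
        MulAction.stabilizer (MulAction.stabilizer G a) b := hgb
    rw [h, Subgroup.mem_bot] at hmem
    exact hg (congrArg Subtype.val hmem)
  have h2 : ∃ x : MulAction.stabilizer G a, x • b ≠ b := by
    obtain ⟨c, hca, hcb⟩ := exists_third hZ hab
    obtain ⟨g, hga, hgb⟩ := two_trans hZ hab (Ne.symm hca)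
    refine ⟨⟨g, hga⟩, ?_⟩
    show g • b ≠ b
    rw [hgb]; exact hcb
  have h3 : ∀ x y : MulAction.stabilizer G a, y • b ≠ b → x • b = b → x • (y • b) = y • b → x = 1 := by
    intro x y hy hxb hxy
    apply Subtype.ext
    have hya : (y : G) • b ≠ a := smul_ne_of_stab hab y.1 y.2
    exact fix3 hZ x.1 hab (Ne.symm hy) (Ne.symm hya) x.2 hxb hxy
  obtain ⟨K, hFD, hK, hcard⟩ := exists_kernel (X := MulAction.stabilizer G a) b h1 h2 h3
  refine ⟨K, hFD, ?_, hcard⟩
  intro x
  rw [hK]
  constructor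
  · rintro (h | h)
    · left; exact h
    · right
      intro c hca
      obtain ⟨g, hga, hgb⟩ := two_trans hZ hab (Ne.symm hca)
      have := h ⟨g, hga⟩
      rw [← hgb]
      exact this
  · rintro (h | h)
    · left; exact h
    · right
      intro y
      apply h
      exact smul_ne_of_stab hab y.1 y.2

end Cfsg.Agent.Lib.Helper3.Zass
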