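import Mathlib
import Cfsg.Agent.Lib.Helper3.Zass3

set_option autoImplicit false

namespace Cfsg.Agent.Lib.Helper3.Zass

open Cfsg
open scoped Pointwise

variable {G Ω : Type*} [Group G] [MulAction G Ω]

/-- a non-trivial normal subgroup of a Zassenhaus group is transitive -/
lemma normal_transitive (hZ : IsZassenhausGroup G Ω) (N : Subgroup G) [hN : N.Normal]
    (hNbot : N ≠ ⊥) : MulAction.IsPretransitive N Ω := by
  have hprim : MulAction.IsPreprimitive G Ω :=
    MulAction.isPreprimitive_of_is_two_pretransitive hZ.2.1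
  apply MulAction.IsQuasiPreprimitive.isPretransitive_of_normal (N := N)
  intro hfix
  apply hNbot
  rw [Subgroup.eq_bot_iff_forall]
  intro n hn
  have := hZ.1
  apply this.eq_of_smul_eq_smul (α := Ω)
  intro c
  rw [one_smul]
  have hc : c ∈ MulAction.fixedPoints N Ω := by rw [hfix]; exact Set.mem_univ c
  exact hc ⟨n, hn⟩

/-- Case B: a normal subgroup meeting all two-point stabilisers trivially, but with a non-trivial
point stabiliser, gives a regular normal subgroup: contradiction -/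
lemma caseB [Finite Ω] (hZ : IsZassenhausGroup G Ω) (N : Subgroup G) [hN : N.Normal]
    (hNtr : MulAction.IsPretransitive N Ω) (a : Ω) (ha : MulAction.stabilizer N a ≠ ⊥)
    (hB2 : ∀ x ∈ N, ∀ c d : Ω, c ≠ d → x • c = c → x • d = d → x = 1) : False := by
  have hfin : Finite G := finite_of_zass hZ
  obtain ⟨g0, hg0, a0, b0, hab0, -, -⟩ := hZ.2.2.2.1
  obtain ⟨b, hab⟩ : ∃ b, a ≠ b := by
    by_cases h : a = a0
    · exact ⟨b0, by rw [h]; exact hab0⟩
    · exact ⟨a0, h⟩
  have h2 : ∃ x : N, x • a ≠ a := by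
    obtain ⟨n, hn⟩ := hNtr.exists_smul_eq a b
    exact ⟨n, by rw [hn]; exact hab.symm⟩
  have h3 : ∀ x y : N, y • a ≠ a → x • a = a → x • (y • a) = y • a → x = 1 := by
    intro x y hy hxa hxy
    apply Subtype.ext
    exact hB2 x.1 x.2 a (y • a) (Ne.symm hy) hxa hxy
  obtain ⟨R, hFD, hR, hcard⟩ := exists_kernel (X := N) a ha h2 h3
  have hR' : ∀ x : N, x ∈ R ↔ x = 1 ∨ ∀ c : Ω, (x : G) • c ≠ c := by
    intro x
    rw [hR]
    constructor
    · rintro (h | h)
      · left; exact h
      · right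
        intro c
        obtain ⟨n, hn⟩ := hNtr.exists_smul_eq a c
        rw [← hn]
        exact h n
    · rintro (h | h)
      · left; exact h
      · right
        intro y
        exact h _
  have hcardR : Nat.card R = Nat.card Ω := by
    rw [hcard, MulAction.orbit_eq_univ]
    exact Nat.card_congr (Equiv.Set.univ Ω)
  -- the image of R in G
  have hRn : (R.map N.subtype).Normal := by
    constructor
    intro x hx g
    obtain ⟨r, hr, rfl⟩ := hx
    refine ⟨⟨g * r.1 * g⁻¹, hN.conj_mem r.1 r.2 g⟩, ?_, rfl⟩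
    rw [SetLike.mem_coe, hR'] at hr ⊢
    rcases hr with h | h
    · left
      apply Subtype.ext
      show g * r.1 * g⁻¹ = 1
      rw [h]; simp
    · right
      intro c hc
      apply h (g⁻¹ • c)
      have hc' : g • (r.1 : G) • g⁻¹ • c = c := by
        rw [← mul_smul, ← mul_smul]; exact hc
      calc (r.1 : G) • g⁻¹ • c = g⁻¹ • (g • (r.1 : G) • g⁻¹ • c) := by rw [inv_smul_smul]
        _ = g⁻¹ • c := by rw [hc']
  -- semiregularity
  have hsemi : ∀ r : N, r ∈ R → ∀ c : Ω, (r : G) • c = c → r = 1 := by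
    intro r hr c hc
    rw [hR'] at hr
    rcases hr with h | h
    · exact h
    · exact absurd hc (h c)
  -- transitivity of R
  have hbij : Function.Bijective (fun r : R => (r.1 : G) • a) := by
    apply Function.Injective.bijective_of_nat_card_le
    · intro r r' h
      have h' : (r.1 : G) • a = (r'.1 : G) • a := h
      have h1 : ((r'⁻¹ * r : R) : N) ∈ R := (r'⁻¹ * r).2
      have h2 : (((r'⁻¹ * r : R) : N) : G) • a = a := by
        show ((r'.1 : G)⁻¹ * (r.1 : G)) • a = a
        rw [mul_smul, h', inv_smul_smul]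
      have h3 := hsemi _ h1 a h2
      have h4 : r'⁻¹ * r = 1 := Subtype.ext h3
      calc r = r' * (r'⁻¹ * r) := by group
        _ = r' := by rw [h4, mul_one]
    · rw [hcardR]
  have hRtr : MulAction.IsPretransitive (R.map N.subtype) Ω := by
    have key : ∀ d : Ω, ∃ x ∈ R.map N.subtype, x • a = d := by
      intro d
      obtain ⟨r, hr⟩ := hbij.2 d
      exact ⟨(r.1 : G), ⟨r.1, r.2, rfl⟩, hr⟩
    constructor
    intro c d
    obtain ⟨x, hx, hxc⟩ := key c
    obtain ⟨y, hy, hyd⟩ := key d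
    refine ⟨⟨y * x⁻¹, Subgroup.mul_mem _ hy (Subgroup.inv_mem _ hx)⟩, ?_⟩
    show (y * x⁻¹) • c = d
    rw [mul_smul, ← hxc, inv_smul_smul, hyd]
  obtain ⟨c, hc⟩ := hZ.2.2.2.2 (R.map N.subtype) hRn hRtr
  apply hc
  rw [Subgroup.eq_bot_iff_forall]
  intro x hx
  apply Subtype.ext
  obtain ⟨r, hr, hrx⟩ := x.2
  have hx' : (x : G) • c = c := hx
  rw [← hrx] at hx'
  have := hsemi r hr c hx'
  rw [← hrx, this]
  rfl


/-- a normal subgroup with a non-trivial point stabiliser `N_a` contains the Frobenius kernel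
of `G_a` -/
lemma kernel_le [Finite Ω] (hZ : IsZassenhausGroup G Ω) (N : Subgroup G) [hN : N.Normal]
    (hNtr : MulAction.IsPretransitive N Ω) {a b : Ω} (hab : a ≠ b)
    (ha : MulAction.stabilizer N a ≠ ⊥) (K : Subgroup (MulAction.stabilizer G a))
    (hFD : Cfsg.Agent.Lib.Helper1.FrobData (MulAction.stabilizer (MulAction.stabilizer G a) b) K)
    (hK : ∀ x : MulAction.stabilizer G a, x ∈ K ↔ x = 1 ∨ ∀ c : Ω, c ≠ a → (x : G) • c ≠ c) :
    ∀ x ∈ K, (x : G) ∈ N := by
  have hfin : Finite G := finite_of_zass hZ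
  have hL : (N.subgroupOf (MulAction.stabilizer G a)).Normal := inferInstance
  rcases hFD.le_or_le_of_normal (N.subgroupOf (MulAction.stabilizer G a)) with hle | hle
  · exfalso
    have hB1 : ∀ x ∈ N, x • a = a → x • b = b → x = 1 := by
      intro x hxN hxa hxb
      have hmem : (⟨x, hxa⟩ : MulAction.stabilizer G a) ∈ K := hle (by
        rw [Subgroup.mem_subgroupOf]; exact hxN)
      rw [hK] at hmem
      rcases hmem with h | h
      · exact congrArg Subtype.val h
      · exact absurd hxb (h b hab.symm)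
    have hB2 : ∀ x ∈ N, ∀ c d : Ω, c ≠ d → x • c = c → x • d = d → x = 1 := by
      intro x hxN c d hcd hxc hxd
      obtain ⟨g, hga, hgb⟩ := two_trans hZ hab hcd
      have h1 : g⁻¹ * x * g ∈ N := by
        have := hN.conj_mem x hxN g⁻¹
        rwa [inv_inv] at this
      have h2 : (g⁻¹ * x * g) • a = a := by
        rw [mul_smul, mul_smul, hga, hxc, ← hga, inv_smul_smul]
      have h3 : (g⁻¹ * x * g) • b = b := by
        rw [mul_smul, mul_smul, hgb, hxd, ← hgb, inv_smul_smul]
      have h4 := hB1 _ h1 h2 h3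
      have : x = g * (g⁻¹ * x * g) * g⁻¹ := by group
      rw [this, h4]; group
    exact caseB hZ N hNtr a ha hB2
  · intro x hx
    have := hle hx
    rwa [Subgroup.mem_subgroupOf] at this

/-- A Zassenhaus group of odd degree is simple. -/
theorem simple_of_odd [Fintype Ω] (hZ : IsZassenhausGroup G Ω) (hodd : Odd (Fintype.card Ω)) :
    IsSimpleGroup G := by
  have hfin : Finite G := finite_of_zass hZ
  obtain ⟨g0, hg0, a0, b0, hab0, -, -⟩ := hZ.2.2.2.1
  refine { exists_pair_ne := ⟨g0, 1, hg0⟩, eq_bot_or_eq_top_of_normal := fun N hN => ?_ }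
  by_cases hNbot : N = ⊥
  · left; exact hNbot
  right
  have hNtr := normal_transitive hZ N hNbot
  obtain ⟨a, ha⟩ := hZ.2.2.2.2 N hN hNtr
  obtain ⟨b, hab⟩ : ∃ b, a ≠ b := by
    by_cases h : a = a0
    · exact ⟨b0, by rw [h]; exact hab0⟩
    · exact ⟨a0, h⟩
  obtain ⟨K, hFD, hK, -⟩ := exists_point_kernel hZ hab
  have hKN := kernel_le hZ N hNtr hab ha K hFD hK
  have hGtr : MulAction.IsPretransitive G Ω := by
    have := hZ.2.1
    exact MulAction.isPretransitive_of_is_two_pretransitive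
  -- every involution lies in N
  have hinvN : ∀ t : G, t ≠ 1 → t * t = 1 → t ∈ N := by
    intro t ht ht2
    obtain ⟨c, hc, hcu⟩ := invol_fix hZ hodd t ht ht2
    obtain ⟨g, hg⟩ := hGtr.exists_smul_eq a c
    have ht'a : (g⁻¹ * t * g) • a = a := by
      rw [mul_smul, mul_smul, hg, hc, ← hg, inv_smul_smul]
    have ht'K : (⟨g⁻¹ * t * g, ht'a⟩ : MulAction.stabilizer G a) ∈ K := by
      rw [hK]
      right
      intro d hda hd
      apply hda
      have hd' : g⁻¹ • t • g • d = d := by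
        rw [← mul_smul, ← mul_smul]; exact hd
      have h1 : t • g • d = g • d := by
        calc t • g • d = g • (g⁻¹ • t • g • d) := by rw [smul_inv_smul]
          _ = g • d := by rw [hd']
      have h2 := hcu _ h1
      rw [← hg] at h2
      exact smul_left_cancel g h2
    have h1 := hKN _ ht'K
    have h2 := hN.conj_mem _ h1 g
    have : g * (g⁻¹ * t * g) * g⁻¹ = t := by group
    rwa [this] at h2
  obtain ⟨t, ht2, hta, htb⟩ := exists_invol_swap hZ hodd hab
  have ht1 : t ≠ 1 := by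
    intro h
    rw [h, one_smul] at hta
    exact hab hta
  have htN := hinvN t ht1 ht2
  obtain ⟨c, hc, hcu⟩ := invol_fix hZ hodd t ht1 ht2
  have htinv : t⁻¹ = t := inv_eq_of_mul_eq_one_right ht2
  have hca : a ≠ c := by
    intro h
    rw [← h, hta] at hc
    exact hab hc.symm
  have hcb : b ≠ c := by
    intro h
    rw [← h, htb] at hc
    exact hab hc
  -- the two point stabiliser lies in N
  have hH0 : ∀ h : G, h • a = a → h • b = b → h ∈ N := by
    have hwd : ∀ h : G, h • a = a → h • b = b →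
        (t * h * t⁻¹ * h⁻¹) • a = a ∧ (t * h * t⁻¹ * h⁻¹) • b = b := by
      intro h hha hhb
      have hia : h⁻¹ • a = a := by rw [inv_smul_eq_iff, hha]
      have hib : h⁻¹ • b = b := by rw [inv_smul_eq_iff, hhb]
      constructor
      · rw [mul_smul, mul_smul, mul_smul, hia, htinv, hta, hhb, htb]
      · rw [mul_smul, mul_smul, mul_smul, hib, htinv, htb, hha, hta]
    let ψ : ↥(MulAction.stabilizer G a ⊓ MulAction.stabilizer G b) →
        ↥(MulAction.stabilizer G a ⊓ MulAction.stabilizer G b) := fun h =>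
      ⟨t * h.1 * t⁻¹ * h.1⁻¹, Subgroup.mem_inf.2
        ⟨(hwd h.1 (Subgroup.mem_inf.1 h.2).1 (Subgroup.mem_inf.1 h.2).2).1,
         (hwd h.1 (Subgroup.mem_inf.1 h.2).1 (Subgroup.mem_inf.1 h.2).2).2⟩⟩
    have hψinj : Function.Injective ψ := by
      intro h h' heq
      have heq' : t * h.1 * t⁻¹ * h.1⁻¹ = t * h'.1 * t⁻¹ * h'.1⁻¹ := congrArg Subtype.val heq
      have hz : (h'.1⁻¹ * h.1) * t = t * (h'.1⁻¹ * h.1) := by
        have e1 : h.1 * t⁻¹ * h.1⁻¹ = h'.1 * t⁻¹ * h'.1⁻¹ := by
          have := congrArg (fun z => t⁻¹ * z) heq'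
          simpa [mul_assoc] using this
        rw [htinv] at e1
        calc h'.1⁻¹ * h.1 * t = h'.1⁻¹ * (h.1 * t * h.1⁻¹) * h.1 := by group
          _ = h'.1⁻¹ * (h'.1 * t * h'.1⁻¹) * h.1 := by rw [e1]
          _ = t * (h'.1⁻¹ * h.1) := by group
      have hzc : (h'.1⁻¹ * h.1) • c = c := by
        apply hcu
        rw [← mul_smul, ← hz, mul_smul, hc]
      have hza : (h'.1⁻¹ * h.1) • a = a := by
        have h1 : h.1 • a = a := (Subgroup.mem_inf.1 h.2).1
        have h2 : h'.1 • a = a := (Subgroup.mem_inf.1 h'.2).1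
        rw [mul_smul, h1, inv_smul_eq_iff, h2]
      have hzb : (h'.1⁻¹ * h.1) • b = b := by
        have h1 : h.1 • b = b := (Subgroup.mem_inf.1 h.2).2
        have h2 : h'.1 • b = b := (Subgroup.mem_inf.1 h'.2).2
        rw [mul_smul, h1, inv_smul_eq_iff, h2]
      have hz1 := fix3 hZ _ hab hcb hca hza hzb hzc
      apply Subtype.ext
      calc h.1 = h'.1 * (h'.1⁻¹ * h.1) := by group
        _ = h'.1 := by rw [hz1, mul_one]
    have hψsurj := Finite.injective_iff_surjective.1 hψinj
    intro h hha hhb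
    obtain ⟨h', hh'⟩ := hψsurj ⟨h, Subgroup.mem_inf.2 ⟨hha, hhb⟩⟩
    have e : h = t * h'.1 * t⁻¹ * h'.1⁻¹ := (congrArg Subtype.val hh').symm
    have h1 := N.mul_mem htN (hN.conj_mem t⁻¹ (N.inv_mem htN) h'.1)
    have e2 : t * (h'.1 * t⁻¹ * h'.1⁻¹) = t * h'.1 * t⁻¹ * h'.1⁻¹ := by group
    rw [e, ← e2]
    exact h1
  -- the point stabiliser lies in N
  have hAN : ∀ x : G, x • a = a → x ∈ N := by
    intro x hxa
    obtain ⟨k, hk, h, hh, hkh⟩ := Cfsg.Agent.Lib.Helper1.IsComplement'.exists_mul_eq hFD.compl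
      (⟨x, hxa⟩ : MulAction.stabilizer G a)
    have hkN : (k : G) ∈ N := hKN k hk
    have hhN : (h : G) ∈ N := hH0 h.1 h.2 hh
    have e : x = k.1 * h.1 := (congrArg Subtype.val hkh).symm
    rw [e]
    exact N.mul_mem hkN hhN
  rw [eq_top_iff]
  intro g _
  obtain ⟨n, hn⟩ := hNtr.exists_smul_eq a (g • a)
  have hn' : (n : G) • a = g • a := hn
  have h1 : ((n : G)⁻¹ * g) • a = a := by
    rw [mul_smul, ← hn', inv_smul_smul]
  have h2 := N.mul_mem n.2 (hAN _ h1)
  rwa [mul_inv_cancel_left] at h2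

end Cfsg.Agent.Lib.Helper3.Zass
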