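import Mathlib
import Cfsg.Agent.Lib.Helper3.Zass4

set_option autoImplicit false

namespace Cfsg.Agent.Lib.Helper3.Zass

open Cfsg
open scoped Pointwise

variable {G Ω : Type*} [Group G] [MulAction G Ω]

/-- the Frobenius kernel of `G_a` is transitive on the remaining points -/
lemma kernel_transitive [Finite Ω] (hZ : IsZassenhausGroup G Ω) {a b : Ω} (hab : a ≠ b)
    (K : Subgroup (MulAction.stabilizer G a))
    (hK : ∀ x : MulAction.stabilizer G a, x ∈ K ↔ x = 1 ∨ ∀ c : Ω, c ≠ a → (x : G) • c ≠ c)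
    (hcard : Nat.card K = Nat.card (MulAction.orbit (MulAction.stabilizer G a) b)) :
    ∀ c : Ω, c ≠ a → ∃ k ∈ K, (k : G) • b = c := by
  have hfin : Finite G := finite_of_zass hZ
  let f : K → MulAction.orbit (MulAction.stabilizer G a) b := fun k => ⟨k.1 • b, ⟨k.1, rfl⟩⟩
  have hinj : Function.Injective f := by
    intro k k' h
    have h' : (k.1 : G) • b = (k'.1 : G) • b := congrArg Subtype.val h
    have h1 : ((k'⁻¹ * k : K) : MulAction.stabilizer G a) ∈ K := (k'⁻¹ * k).2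
    have h2 : (((k'⁻¹ * k : K) : MulAction.stabilizer G a) : G) • b = b := by
      show ((k'.1 : G)⁻¹ * (k.1 : G)) • b = b
      rw [mul_smul, h', inv_smul_smul]
    rw [hK] at h1
    rcases h1 with h3 | h3
    · have h4 : k'⁻¹ * k = 1 := Subtype.ext h3
      calc k = k' * (k'⁻¹ * k) := by group
        _ = k' := by rw [h4, mul_one]
    · exact absurd h2 (h3 b hab.symm)
  have hbij : Function.Bijective f :=
    hinj.bijective_of_nat_card_le (by rw [hcard])
  intro c hca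
  obtain ⟨g, hga, hgb⟩ := two_trans hZ hab (Ne.symm hca)
  obtain ⟨k, hk⟩ := hbij.2 ⟨c, ⟨⟨g, hga⟩, hgb⟩⟩
  exact ⟨k.1, k.2, congrArg Subtype.val hk⟩

/-- a non-trivial normal subgroup of a Zassenhaus group is doubly transitive, and contains a
non-identity element fixing two points -/
theorem normal_two_trans [Finite Ω] (hZ : IsZassenhausGroup G Ω) (N : Subgroup G) [hN : N.Normal]
    (hNbot : N ≠ ⊥) :
    (∀ {a b c d : Ω}, a ≠ b → c ≠ d → ∃ n ∈ N, n • a = c ∧ n • b = d) ∧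
    (∀ {a b : Ω}, a ≠ b → ∃ n ∈ N, n ≠ 1 ∧ n • a = a ∧ n • b = b) := by
  have hfin : Finite G := finite_of_zass hZ
  have hNtr := normal_transitive hZ N hNbot
  obtain ⟨a, ha⟩ := hZ.2.2.2.2 N hN hNtr
  obtain ⟨g0, hg0, a0, b0, hab0, -, -⟩ := hZ.2.2.2.1
  obtain ⟨b, hab⟩ : ∃ b, a ≠ b := by
    by_cases h : a = a0
    · exact ⟨b0, by rw [h]; exact hab0⟩
    · exact ⟨a0, h⟩
  obtain ⟨K, hFD, hK, hcard⟩ := exists_point_kernel hZ hab
  have hKN := kernel_le hZ N hNtr hab ha K hFD hK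
  have hKtr := kernel_transitive hZ hab K hK hcard
  -- move any pair to (a, b)
  have key : ∀ {c d : Ω}, c ≠ d → ∃ n ∈ N, n • c = a ∧ n • d = b := by
    intro c d hcd
    obtain ⟨n1, hn1⟩ := hNtr.exists_smul_eq c a
    have hn1' : (n1 : G) • c = a := hn1
    have hd : (n1 : G) • d ≠ a := by
      intro h
      apply hcd
      rw [← hn1'] at h
      exact (smul_left_cancel _ h).symm
    obtain ⟨k, hk, hkb⟩ := hKtr _ hd
    refine ⟨(k : G)⁻¹ * n1, N.mul_mem (N.inv_mem (hKN k hk)) n1.2, ?_, ?_⟩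
    · rw [mul_smul, hn1', inv_smul_eq_iff]
      exact k.2.symm
    · rw [mul_smul, ← hkb, inv_smul_smul]
  have h2t : ∀ {a' b' c d : Ω}, a' ≠ b' → c ≠ d → ∃ n ∈ N, n • a' = c ∧ n • b' = d := by
    intro a' b' c d hab' hcd
    obtain ⟨n1, hn1, e1, e2⟩ := key hab'
    obtain ⟨n2, hn2, e3, e4⟩ := key hcd
    refine ⟨n2⁻¹ * n1, N.mul_mem (N.inv_mem hn2) hn1, ?_, ?_⟩
    · rw [mul_smul, e1, ← e3, inv_smul_smul]
    · rw [mul_smul, e2, ← e4, inv_smul_smul]
  refine ⟨h2t, ?_⟩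
  -- a non-identity element of N fixing a and b
  have hfixab : ∃ n ∈ N, n ≠ 1 ∧ n • a = a ∧ n • b = b := by
    by_contra hcon
    push Not at hcon
    have hB1 : ∀ x ∈ N, x • a = a → x • b = b → x = 1 := by
      intro x hx hxa hxb
      by_contra hne
      exact hcon x hx hne hxa hxb
    have hB2 : ∀ x ∈ N, ∀ c d : Ω, c ≠ d → x • c = c → x • d = d → x = 1 := by
      intro x hxN c d hcd hxc hxd
      obtain ⟨g, hga, hgb⟩ := two_trans hZ hab hcd
      have h1 : g⁻¹ * x * g ∈ N := by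
        have := hN.conj_mem x hxN g⁻¹
        rwa [inv_inv] at this
      have h2 : (g⁻¹ * x * g) • a = a := by
        rw [mul_smul, mul_smul, hga, hxc, ← hga, inv_smul_smul]
      have h3 : (g⁻¹ * x * g) • b = b := by
        rw [mul_smul, mul_smul, hgb, hxd, ← hgb, inv_smul_smul]
      have h4 := hB1 _ h1 h2 h3
      have : x = g * (g⁻¹ * x * g) * g⁻¹ := by group
      rw [this, h4]; group
    exact caseB hZ N hNtr a ha hB2
  intro a' b' hab'
  obtain ⟨n, hn, hn1, hna, hnb⟩ := hfixab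
  obtain ⟨x, hx, hxa, hxb⟩ := h2t hab hab'
  refine ⟨x * n * x⁻¹, N.mul_mem (N.mul_mem hx hn) (N.inv_mem hx), ?_, ?_, ?_⟩
  · intro h
    apply hn1
    have : n = x⁻¹ * (x * n * x⁻¹) * x := by group
    rw [this, h]; group
  · rw [← hxa, mul_smul, mul_smul, inv_smul_smul, hna]
  · rw [← hxb, mul_smul, mul_smul, inv_smul_smul, hnb]

end Cfsg.Agent.Lib.Helper3.Zass
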