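import Mathlib
import Cfsg.Agent.Lib.Helper3.Zass5

set_option autoImplicit false

namespace Cfsg.Agent.Lib.Helper3.Zass

open Cfsg
open scoped Pointwise

variable {G Ω : Type*} [Group G] [MulAction G Ω]

/-- a regular subgroup `M` normalised by a doubly transitive normal subgroup `N ≥ M` of a Zassenhaus
group is normal in the whole group -/
theorem regular_normal_of_normal [Finite Ω] (hZ : IsZassenhausGroup G Ω) (N : Subgroup G)
    [hN : N.Normal]
    (h2t : ∀ {a b c d : Ω}, a ≠ b → c ≠ d → ∃ n ∈ N, n • a = c ∧ n • b = d)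
    (M : Subgroup G) (hMN : M ≤ N) (hnorm : ∀ n ∈ N, ∀ m ∈ M, n * m * n⁻¹ ∈ M)
    (htr : ∀ c d : Ω, ∃ m ∈ M, m • c = d) (hsemi : ∀ m ∈ M, ∀ c : Ω, m • c = c → m = 1) :
    M.Normal := by
  have hfin : Finite G := finite_of_zass hZ
  obtain ⟨g0, hg0, a, b0, hab0, -, -⟩ := hZ.2.2.2.1
  -- Step 1: N acts transitively by conjugation on the non-identity elements of M
  have step1 : ∀ m ∈ M, ∀ m' ∈ M, m ≠ 1 → m' ≠ 1 → ∃ x ∈ N, x * m * x⁻¹ = m' := by
    intro m hm m' hm' hm1 hm'1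
    have h1 : a ≠ m • a := fun h => hm1 (hsemi m hm a h.symm)
    have h2 : a ≠ m' • a := fun h => hm'1 (hsemi m' hm' a h.symm)
    obtain ⟨x, hx, hxa, hxm⟩ := h2t h1 h2
    refine ⟨x, hx, ?_⟩
    have hxia : x⁻¹ • a = a := by rw [inv_smul_eq_iff, hxa]
    have h3 : (m'⁻¹ * (x * m * x⁻¹)) • a = a := by
      rw [mul_smul, mul_smul, mul_smul, hxia, hxm, inv_smul_smul]
    have h4 := hsemi _ (M.mul_mem (M.inv_mem hm') (hnorm x hx m hm)) a h3
    calc x * m * x⁻¹ = m' * (m'⁻¹ * (x * m * x⁻¹)) := by group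
      _ = m' := by rw [h4, mul_one]
  -- Step 2: M is abelian
  have step2 : ∀ m ∈ M, ∀ m' ∈ M, m * m' = m' * m := by
    by_cases hMbot : M = ⊥
    · intro m hm m' hm'
      rw [hMbot, Subgroup.mem_bot] at hm hm'
      rw [hm, hm']
    have hnt : Nontrivial M := (Subgroup.nontrivial_iff_ne_bot M).2 hMbot
    obtain ⟨p, hp, hpdvd⟩ := Nat.exists_prime_and_dvd (n := Nat.card M) (by
      have : 1 < Nat.card M := Finite.one_lt_card
      omega)
    have : Fact p.Prime := ⟨hp⟩
    obtain ⟨z0, hz0⟩ := exists_prime_orderOf_dvd_card' p hpdvd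
    have hz01 : z0.1 ≠ 1 := by
      intro h
      have : z0 = 1 := Subtype.ext h
      rw [this, orderOf_one] at hz0
      exact hp.one_lt.ne hz0
    have hz0p : z0.1 ^ p = 1 := by
      have := pow_orderOf_eq_one z0
      rw [hz0] at this
      exact congrArg Subtype.val this
    have hpow : ∀ m ∈ M, m ^ p = 1 := by
      intro m hm
      by_cases hm1 : m = 1
      · rw [hm1, one_pow]
      obtain ⟨x, hx, hxm⟩ := step1 z0.1 z0.2 m hm hz01 hm1
      rw [← hxm, conj_pow, hz0p]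
      group
    have hpg : IsPGroup p M := by
      intro m
      refine ⟨1, ?_⟩
      apply Subtype.ext
      rw [pow_one]
      exact hpow m.1 m.2
    have hcnt := hpg.center_nontrivial
    obtain ⟨z, hz1⟩ := exists_ne (1 : Subgroup.center M)
    have hzc : ∀ m' ∈ M, m' * z.1.1 = z.1.1 * m' := by
      intro m' hm'
      have := Subgroup.mem_center_iff.1 z.2 ⟨m', hm'⟩
      exact congrArg Subtype.val this
    have hzne : z.1.1 ≠ 1 := by
      intro h
      apply hz1
      apply Subtype.ext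
      apply Subtype.ext
      exact h
    intro m hm m' hm'
    by_cases hm1 : m = 1
    · rw [hm1, one_mul, mul_one]
    obtain ⟨x, hx, hxm⟩ := step1 z.1.1 z.1.2 m hm hzne hm1
    have h1 : x⁻¹ * m' * x ∈ M := by
      have := hnorm x⁻¹ (N.inv_mem hx) m' hm'
      rwa [inv_inv] at this
    have h2 := hzc _ h1
    rw [← hxm]
    calc x * z.1.1 * x⁻¹ * m' = x * (z.1.1 * (x⁻¹ * m' * x)) * x⁻¹ := by group
      _ = x * ((x⁻¹ * m' * x) * z.1.1) * x⁻¹ := by rw [h2]
      _ = m' * (x * z.1.1 * x⁻¹) := by group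
  -- Step 3
  have step3 : ∀ g : G, ∀ m ∈ M, g⁻¹ * m * g ∈ M := by
    intro g
    by_cases hI : ∃ z ∈ M, z ≠ 1 ∧ g⁻¹ * z * g ∈ M
    · obtain ⟨z, hz, hz1, hzg⟩ := hI
      intro m hm
      by_cases hm1 : m = 1
      · rw [hm1]; simp
      obtain ⟨x, hx, hxm⟩ := step1 z hz m hm hz1 hm1
      have hx' : g⁻¹ * x * g ∈ N := by
        have := hN.conj_mem x hx g⁻¹
        rwa [inv_inv] at this
      have := hnorm _ hx' _ hzg
      have e : g⁻¹ * m * g = g⁻¹ * x * g * (g⁻¹ * z * g) * (g⁻¹ * x * g)⁻¹ := by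
        rw [← hxm]; group
      rw [e]
      exact this
    · push Not at hI
      intro m hm
      by_cases hm1 : m = 1
      · rw [hm1]; simp
      exfalso
      -- m₂ = g m g⁻¹
      have hm2N : g * m * g⁻¹ ∈ N := hN.conj_mem m (hMN hm) g
      have hcomm : ∀ m' ∈ M, m' * (g * m * g⁻¹) = (g * m * g⁻¹) * m' := by
        intro m' hm'
        have h1 : m' * (g * m * g⁻¹) * m'⁻¹ * (g * m * g⁻¹)⁻¹ ∈ M := by
          have := M.mul_mem hm' (hnorm _ hm2N _ (M.inv_mem hm'))
          have e : m' * (g * m * g⁻¹) * m'⁻¹ * (g * m * g⁻¹)⁻¹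
              = m' * (g * m * g⁻¹ * m'⁻¹ * (g * m * g⁻¹)⁻¹) := by group
          rw [e]; exact this
        have hm'N : g⁻¹ * m' * g ∈ N := by
          have := hN.conj_mem m' (hMN hm') g⁻¹
          rwa [inv_inv] at this
        have h2 : g⁻¹ * (m' * (g * m * g⁻¹) * m'⁻¹ * (g * m * g⁻¹)⁻¹) * g ∈ M := by
          have := M.mul_mem (hnorm _ hm'N _ hm) (M.inv_mem hm)
          have e : g⁻¹ * (m' * (g * m * g⁻¹) * m'⁻¹ * (g * m * g⁻¹)⁻¹) * g
              = g⁻¹ * m' * g * m * (g⁻¹ * m' * g)⁻¹ * m⁻¹ := by group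
          rw [e]; exact this
        have h3 := hI _ h1
        have h4 : m' * (g * m * g⁻¹) * m'⁻¹ * (g * m * g⁻¹)⁻¹ = 1 := by
          by_contra hne
          exact h3 hne h2
        calc m' * (g * m * g⁻¹)
            = (m' * (g * m * g⁻¹) * m'⁻¹ * (g * m * g⁻¹)⁻¹) * ((g * m * g⁻¹) * m') := by group
          _ = (g * m * g⁻¹) * m' := by rw [h4, one_mul]
      obtain ⟨m3, hm3, hm3a⟩ := htr a ((g * m * g⁻¹) • a)
      have hy : ∀ c : Ω, (m3⁻¹ * (g * m * g⁻¹)) • c = c := by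
        intro c
        obtain ⟨m', hm', hm'c⟩ := htr a c
        have e : m3⁻¹ * m' * m3 = m' := by
          rw [step2 _ (M.inv_mem hm3) _ hm']; group
        calc (m3⁻¹ * (g * m * g⁻¹)) • c = (m3⁻¹ * ((g * m * g⁻¹) * m')) • a := by
              rw [← hm'c, ← mul_smul, mul_assoc]
          _ = (m3⁻¹ * (m' * (g * m * g⁻¹))) • a := by rw [hcomm m' hm']
          _ = (m3⁻¹ * m') • ((g * m * g⁻¹) • a) := by rw [← mul_assoc, mul_smul]
          _ = (m3⁻¹ * m') • (m3 • a) := by rw [hm3a]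
          _ = (m3⁻¹ * m' * m3) • a := by rw [← mul_smul]
          _ = c := by rw [e, hm'c]
      have hy1 : m3⁻¹ * (g * m * g⁻¹) = 1 := by
        have := hZ.1
        apply this.eq_of_smul_eq_smul (α := Ω)
        intro c
        rw [one_smul]
        exact hy c
      have hm2 : g * m * g⁻¹ = m3 := by
        calc g * m * g⁻¹ = m3 * (m3⁻¹ * (g * m * g⁻¹)) := by group
          _ = m3 := by rw [hy1, mul_one]
      have hm2M : g * m * g⁻¹ ∈ M := by rw [hm2]; exact hm3
      have hm2ne : g * m * g⁻¹ ≠ 1 := by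
        intro h
        apply hm1
        have : m = g⁻¹ * (g * m * g⁻¹) * g := by group
        rw [this, h]; group
      apply hI _ hm2M hm2ne
      have : g⁻¹ * (g * m * g⁻¹) * g = m := by group
      rw [this]; exact hm
  constructor
  intro m hm g
  have := step3 g⁻¹ m hm
  rwa [inv_inv] at this

end Cfsg.Agent.Lib.Helper3.Zass
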