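import Mathlib
import Cfsg.Agent.Lib.Helper3.Zass6

set_option autoImplicit false

namespace Cfsg.Agent.Lib.Helper3.Zass

open Cfsg
open scoped Pointwise

variable {G Ω : Type*} [Group G] [MulAction G Ω]

/-- A non-trivial normal subgroup of a Zassenhaus group is a Zassenhaus group. -/
theorem zass_of_normal [Finite Ω] (hZ : IsZassenhausGroup G Ω) (N : Subgroup G) [hN : N.Normal]
    (hNbot : N ≠ ⊥) : IsZassenhausGroup N Ω := by
  have hfin : Finite G := finite_of_zass hZ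
  obtain ⟨h2t, hfix⟩ := normal_two_trans hZ N hNbot
  obtain ⟨g0, hg0, a0, b0, hab0, -, -⟩ := hZ.2.2.2.1
  refine ⟨?_, ?_, ?_, ?_, ?_⟩
  · constructor
    intro n n' h
    apply Subtype.ext
    have := hZ.1
    apply this.eq_of_smul_eq_smul (α := Ω)
    intro c
    exact h c
  · rw [MulAction.is_two_pretransitive_iff]
    intro a b c d hab hcd
    obtain ⟨n, hn, h1, h2⟩ := h2t hab hcd
    exact ⟨⟨n, hn⟩, h1, h2⟩
  · intro n a b c hab hbc hac ha hb hc
    apply Subtype.ext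
    exact fix3 hZ n.1 hab hbc hac ha hb hc
  · obtain ⟨n, hn, hn1, hna, hnb⟩ := hfix hab0
    exact ⟨⟨n, hn⟩, fun h => hn1 (congrArg Subtype.val h), a0, b0, hab0, hna, hnb⟩
  · intro M hM hMtr
    by_contra hcon
    push Not at hcon
    have hsemi : ∀ m ∈ M.map N.subtype, ∀ c : Ω, m • c = c → m = 1 := by
      rintro _ ⟨m, hm, rfl⟩ c hc
      have h1 : (⟨m, hm⟩ : M) ∈ MulAction.stabilizer M c := hc
      rw [hcon c, Subgroup.mem_bot] at h1
      have h2 : m = 1 := congrArg Subtype.val h1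
      rw [h2]; rfl
    have htr : ∀ c d : Ω, ∃ m ∈ M.map N.subtype, m • c = d := by
      intro c d
      obtain ⟨m, hm⟩ := hMtr.exists_smul_eq c d
      exact ⟨(m.1 : G), ⟨m.1, m.2, rfl⟩, hm⟩
    have hMN : M.map N.subtype ≤ N := by
      rintro _ ⟨m, -, rfl⟩
      exact m.2
    have hnorm : ∀ n ∈ N, ∀ m ∈ M.map N.subtype, n * m * n⁻¹ ∈ M.map N.subtype := by
      rintro n hn _ ⟨m, hm, rfl⟩
      exact ⟨⟨n, hn⟩ * m * ⟨n, hn⟩⁻¹, hM.conj_mem m hm ⟨n, hn⟩, rfl⟩
    have hMn := regular_normal_of_normal hZ N h2t (M.map N.subtype) hMN hnorm htr hsemi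
    have hMtr' : MulAction.IsPretransitive (M.map N.subtype) Ω := by
      constructor
      intro c d
      obtain ⟨m, hm, hmc⟩ := htr c d
      exact ⟨⟨m, hm⟩, hmc⟩
    obtain ⟨c, hc⟩ := hZ.2.2.2.2 _ hMn hMtr'
    apply hc
    rw [Subgroup.eq_bot_iff_forall]
    intro x hx
    apply Subtype.ext
    exact hsemi x.1 x.2 c hx

end Cfsg.Agent.Lib.Helper3.Zass
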