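import Mathlib
import Cfsg.Prelude.Def_LieExceptional
import Cfsg.Agent.Lib.Helper29.ZassHalfC
import Cfsg.Agent.Lib.Helper29.ZInvert
import Cfsg.Agent.Lib.Helper11.ZassFeitC

/-!
# Zassenhaus groups with abelian kernel (helper3)

* `sharp3_of_card`: if the two-point stabiliser has order `n - 1` the group is sharply
  3-transitive.
-/

set_option autoImplicit false

namespace Cfsg.Agent.Lib.Helper3.ZassAb

open Cfsg MulAction

section Sharp

variable {G Ω : Type*} [Group G] [Finite G] [MulAction G Ω] [Fintype Ω]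

theorem sharp3_of_card (hZ : IsZassenhausGroup G Ω) {a b : Ω} (hab : a ≠ b)
    (hd : Nat.card ↥(stabilizer G a ⊓ stabilizer G b : Subgroup G) + 2 = Fintype.card Ω) :
    IsMultiplyPretransitive G Ω 3 ∧ ∀ t : Fin 3 ↪ Ω, stabilizer G t = ⊥ := by
  classical
  obtain ⟨hfaith, h2t, h3, -, -⟩ := hZ
  rw [MulAction.is_two_pretransitive_iff] at h2t
  let H : Subgroup G := stabilizer G a ⊓ stabilizer G b
  have hmem : ∀ g : G, g ∈ H ↔ g • a = a ∧ g • b = b := by
    intro g
    show g ∈ stabilizer G a ⊓ stabilizer G b ↔ _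
    rw [Subgroup.mem_inf, mem_stabilizer_iff, mem_stabilizer_iff]
  have sinj : ∀ (g : G) {r s : Ω}, g • r = g • s → r = s :=
    fun g r s e => MulAction.injective g e
  -- `H` is transitive on the remaining points
  have htrans : ∀ c e : Ω, c ≠ a → c ≠ b → e ≠ a → e ≠ b → ∃ h ∈ H, h • c = e := by
    intro c e hca hcb hea heb
    let S := {y : Ω // y ≠ a ∧ y ≠ b}
    have hcardS : Fintype.card S = Fintype.card Ω - 2 := by
      show Fintype.card {y : Ω // y ≠ a ∧ y ≠ b} = _
      rw [Fintype.card_subtype]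
      have : (Finset.univ.filter fun y : Ω => y ≠ a ∧ y ≠ b) = Finset.univ \ {a, b} := by
        ext y
        simp only [Finset.mem_filter, Finset.mem_univ, true_and, Finset.mem_sdiff,
          Finset.mem_insert, Finset.mem_singleton]
        tauto
      rw [this, Finset.card_sdiff_of_subset (Finset.subset_univ _), Finset.card_univ,
        Finset.card_pair hab]
    let φ : ↥H → S := fun h => ⟨(h : G) • c, by
      obtain ⟨hha, hhb⟩ := (hmem _).1 h.2
      constructor
      · intro h1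
        apply hca
        apply sinj (h : G)
        rw [h1, hha]
      · intro h1
        apply hcb
        apply sinj (h : G)
        rw [h1, hhb]⟩
    have hφinj : Function.Injective φ := by
      intro h k hhk
      have h1 : (h : G) • c = (k : G) • c := congrArg Subtype.val hhk
      obtain ⟨hha, hhb⟩ := (hmem _).1 h.2
      obtain ⟨hka, hkb⟩ := (hmem _).1 k.2
      have h2 : ((k : G)⁻¹ * h) = 1 := by
        apply h3 _ a b c hab (Ne.symm hcb) (Ne.symm hca)
        · rw [mul_smul, hha, inv_smul_eq_iff, hka]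
        · rw [mul_smul, hhb, inv_smul_eq_iff, hkb]
        · rw [mul_smul, h1, inv_smul_smul]
      apply Subtype.ext
      exact (inv_mul_eq_one.1 h2).symm
    haveI : Fintype ↥H := Fintype.ofFinite _
    have hcard : Fintype.card ↥H = Fintype.card S := by
      rw [hcardS, ← Nat.card_eq_fintype_card]
      show Nat.card ↥(stabilizer G a ⊓ stabilizer G b : Subgroup G) = _
      omega
    have hφbij : Function.Bijective φ :=
      (Fintype.bijective_iff_injective_and_card φ).2 ⟨hφinj, hcard⟩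
    obtain ⟨h, hh⟩ := hφbij.2 ⟨e, hea, heb⟩
    exact ⟨h, h.2, congrArg Subtype.val hh⟩
  have inj : ∀ (g : G) {r s : Ω}, r ≠ s → g • r ≠ g • s :=
    fun g r s h e => h (MulAction.injective g e)
  constructor
  · constructor
    intro x y
    have hx01 : x 0 ≠ x 1 := x.injective.ne (by decide)
    have hx02 : x 0 ≠ x 2 := x.injective.ne (by decide)
    have hx12 : x 1 ≠ x 2 := x.injective.ne (by decide)
    have hy01 : y 0 ≠ y 1 := y.injective.ne (by decide)
    have hy02 : y 0 ≠ y 2 := y.injective.ne (by decide)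
    have hy12 : y 1 ≠ y 2 := y.injective.ne (by decide)
    obtain ⟨g₁, hg₁a, hg₁b⟩ := h2t hx01 hab
    obtain ⟨g₂, hg₂a, hg₂b⟩ := h2t hy01 hab
    obtain ⟨h, hh, hhc⟩ := htrans (g₁ • x 2) (g₂ • y 2)
      (by rw [← hg₁a]; exact inj g₁ hx02.symm) (by rw [← hg₁b]; exact inj g₁ hx12.symm)
      (by rw [← hg₂a]; exact inj g₂ hy02.symm) (by rw [← hg₂b]; exact inj g₂ hy12.symm)
    obtain ⟨hha, hhb⟩ := (hmem _).1 hh
    refine ⟨g₂⁻¹ * h * g₁, ?_⟩
    ext i
    rw [Function.Embedding.smul_apply]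
    fin_cases i
    · show (g₂⁻¹ * h * g₁) • x 0 = y 0
      rw [mul_smul, mul_smul, hg₁a, hha, inv_smul_eq_iff, hg₂a]
    · show (g₂⁻¹ * h * g₁) • x 1 = y 1
      rw [mul_smul, mul_smul, hg₁b, hhb, inv_smul_eq_iff, hg₂b]
    · show (g₂⁻¹ * h * g₁) • x 2 = y 2
      rw [mul_smul, mul_smul, hhc, inv_smul_smul]
  · intro t
    rw [eq_bot_iff]
    intro g hg
    rw [mem_stabilizer_iff] at hg
    have hgi : ∀ i, g • t i = t i := by
      intro i
      have := DFunLike.congr_fun hg i
      rwa [Function.Embedding.smul_apply] at this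
    rw [Subgroup.mem_bot]
    exact h3 g (t 0) (t 1) (t 2) (t.injective.ne (by decide)) (t.injective.ne (by decide))
      (t.injective.ne (by decide)) (hgi 0) (hgi 1) (hgi 2)

end Sharp

section Kernel

variable {G Ω : Type*} [Group G] [MulAction G Ω] [Fintype Ω]

theorem kernel_fix {a : Ω} (F : Subgroup G)
    (hreg : ∀ y z : Ω, y ≠ a → z ≠ a → ∃! u : F, (u : G) • y = z) :
    ∀ u ∈ F, u ≠ 1 → ∀ c : Ω, u • c = c → c = a := by
  intro u hu hu1 c hc
  by_contra hca
  obtain ⟨w', _, hw'⟩ := hreg c c hca hca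
  have e1 := hw' ⟨u, hu⟩ hc
  have e2 := hw' 1 (by
    show ((1 : ↥F) : G) • c = c
    rw [Subgroup.coe_one, one_smul])
  exact hu1 (congrArg Subtype.val (e1.trans e2.symm))

theorem kernel_card {a b : Ω} (hab : a ≠ b) (F : Subgroup G) (hFle : F ≤ stabilizer G a)
    (hreg : ∀ y z : Ω, y ≠ a → z ≠ a → ∃! u : F, (u : G) • y = z) :
    Nat.card ↥F = Fintype.card Ω - 1 := by
  classical
  have hua : ∀ u ∈ F, u • a = a := fun u hu => hFle hu
  have hFb_ne : ∀ u : ↥F, (u : G) • b ≠ a := by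
    intro u h'
    apply hab
    apply MulAction.injective (u : G)
    show (u : G) • a = (u : G) • b
    rw [hua u.1 u.2, h']
  have hbij : Function.Bijective
      (fun u : ↥F => (⟨(u : G) • b, hFb_ne u⟩ : {y : Ω // y ≠ a})) := by
    constructor
    · intro u v huv
      have huv' : (u : G) • b = (v : G) • b := congrArg Subtype.val huv
      obtain ⟨w', _, hw'⟩ := hreg b ((v : G) • b) hab.symm (hFb_ne v)
      exact (hw' u huv').trans (hw' v rfl).symm
    · rintro ⟨y, hy⟩
      obtain ⟨w', hw', _⟩ := hreg b y hab.symm hy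
      exact ⟨w', Subtype.ext hw'⟩
  rw [Nat.card_congr (Equiv.ofBijective _ hbij), Nat.card_eq_fintype_card]
  exact Set.card_ne_eq a

end Kernel

section OddHalf

open Cfsg.Agent.Helper29.ZassHalf

variable {G Ω : Type*} [Group G] [Finite G] [MulAction G Ω] [Fintype Ω]

/-- No normal `q`-complement (for `q ∣ e`) in a Zassenhaus group with abelian kernel, `e` odd
and `2 e ≤ n - 1`. -/
theorem no_normal_compl (hZ : IsZassenhausGroup G Ω) {a b : Ω} (hab : a ≠ b)
    (hodd : Odd (Nat.card ↥(stabilizer G a ⊓ stabilizer G b : Subgroup G)))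
    (hd : 2 * Nat.card ↥(stabilizer G a ⊓ stabilizer G b : Subgroup G) + 2 ≤ Fintype.card Ω)
    (F : Subgroup G) (hFle : F ≤ stabilizer G a)
    (hFab : ∀ u ∈ F, ∀ v ∈ F, u * v = v * u)
    (hFcard : Nat.card F + 1 = Fintype.card Ω)
    (hFfix : ∀ u ∈ F, u ≠ 1 → ∀ c : Ω, u • c = c → c = a) :
    ∀ q : ℕ, q.Prime → q ∣ Nat.card ↥(stabilizer G a ⊓ stabilizer G b : Subgroup G) →
      ¬ ∃ N : Subgroup G, N.Normal ∧ N.index = q ^ (Nat.card G).factorization q := by
  intro q hq hqe
  rintro ⟨M, hM, hidx⟩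
  haveI := hM
  obtain ⟨e, he⟩ : ∃ e, Nat.card ↥(stabilizer G a ⊓ stabilizer G b : Subgroup G) = e := ⟨_, rfl⟩
  rw [he] at hodd hd hqe
  have hn3 := Cfsg.Agent.Lib.Helper11.zc_three_le_card hZ hab
  have hG := Cfsg.Agent.Lib.Helper11.zc_card_group hZ hab
  have hedvd := Cfsg.Agent.Lib.Helper11.zc_e_dvd hZ hab
  rw [he] at hG hedvd
  have hqG : q ∣ Nat.card G :=
    hqe.trans (by rw [hG]; exact Dvd.dvd.mul_left (Dvd.intro_left _ rfl) _)
  have hk : 0 < (Nat.card G).factorization q :=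
    hq.factorization_pos_of_dvd Nat.card_pos.ne' hqG
  have hMbot : M ≠ ⊥ := by
    intro h0
    rw [h0, Subgroup.index_bot] at hidx
    rw [hidx] at hG
    have h1 : q ∣ Fintype.card Ω :=
      Cfsg.Agent.Lib.Helper11.prime_dvd_of_dvd_prime_pow hq ⟨_, hG⟩ (by omega)
    have h2 : q ∣ Fintype.card Ω - 1 := by
      apply Cfsg.Agent.Lib.Helper11.prime_dvd_of_dvd_prime_pow hq
        (k := (Nat.card G).factorization q) _ (by omega)
      rw [hG]
      exact Dvd.dvd.mul_left (Dvd.intro _ rfl) _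
    have h3 : q ∣ 1 := by
      have := Nat.dvd_sub h1 h2
      have h4 : Fintype.card Ω - (Fintype.card Ω - 1) = 1 := by omega
      rwa [h4] at this
    exact hq.one_lt.ne' (Nat.dvd_one.mp h3)
  have hZM : IsZassenhausGroup M Ω := Cfsg.Agent.Lib.Helper3.Zass.zass_of_normal hZ M hMbot
  have hdvdM : Nat.card ↥(stabilizer M a ⊓ stabilizer M b : Subgroup M) ∣ e := by
    have hle : (stabilizer M a ⊓ stabilizer M b : Subgroup M).map M.subtype ≤
        (stabilizer G a ⊓ stabilizer G b : Subgroup G) := by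
      rintro _ ⟨y, hy, rfl⟩
      obtain ⟨hya, hyb⟩ := Subgroup.mem_inf.mp hy
      exact Subgroup.mem_inf.mpr ⟨hya, hyb⟩
    have h1 := Subgroup.card_dvd_of_le hle
    rw [he] at h1
    rw [Nat.card_congr ((stabilizer M a ⊓ stabilizer M b : Subgroup M).equivMapOfInjective
      M.subtype (Subgroup.subtype_injective M)).toEquiv]
    exact h1
  have hoddM : Odd (Nat.card ↥(stabilizer M a ⊓ stabilizer M b : Subgroup M)) :=
    Odd.of_dvd_nat hodd hdvdM
  have hGM := Cfsg.Agent.Lib.Helper11.zc_card_group hZM hab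
  -- `|M| < |G|`
  have hMlt : Nat.card M < Nat.card G := by
    rw [← Subgroup.card_mul_index M, hidx]
    have h1 : 2 ≤ q ^ (Nat.card G).factorization q := by
      calc 2 ≤ q := hq.two_le
        _ = q ^ 1 := (pow_one q).symm
        _ ≤ q ^ (Nat.card G).factorization q := Nat.pow_le_pow_right hq.pos hk
    have h2 : 0 < Nat.card M := Nat.card_pos
    nlinarith
  have heM : Nat.card ↥(stabilizer M a ⊓ stabilizer M b : Subgroup M) < e := by
    rw [hGM, hG] at hMlt
    have h1 : 0 < Fintype.card Ω * (Fintype.card Ω - 1) := by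
      apply Nat.mul_pos <;> omega
    rw [← mul_assoc, ← mul_assoc] at hMlt
    exact lt_of_mul_lt_mul_left hMlt (Nat.zero_le _)
  -- `F ≤ M`
  have hqF : ¬ q ∣ Nat.card F := by
    intro h1
    have h2 : q ∣ Fintype.card Ω - 2 := hqe.trans hedvd
    have h3 : Nat.card F = (Fintype.card Ω - 2) + 1 := by omega
    rw [h3] at h1
    have h4 : q ∣ 1 := (Nat.dvd_add_right h2).mp h1
    exact hq.one_lt.ne' (Nat.dvd_one.mp h4)
  have hFM : F ≤ M := by
    intro u hu
    have h1 : orderOf (QuotientGroup.mk' M u) ∣ orderOf u := orderOf_map_dvd _ u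
    have h2 : orderOf u ∣ Nat.card F := by
      have := orderOf_dvd_natCard (⟨u, hu⟩ : F)
      rwa [Subgroup.orderOf_mk] at this
    have h3 : orderOf (QuotientGroup.mk' M u) ∣ Nat.card (G ⧸ M) := orderOf_dvd_natCard _
    rw [← Subgroup.index_eq_card, hidx] at h3
    have hcop : Nat.Coprime (Nat.card F) (q ^ (Nat.card G).factorization q) :=
      Nat.Coprime.pow_right _ ((Nat.Prime.coprime_iff_not_dvd hq).mpr hqF).symm
    have h4 : orderOf (QuotientGroup.mk' M u) ∣ 1 := by
      have := Nat.dvd_gcd (h1.trans h2) h3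
      rwa [hcop] at this
    have h5 : QuotientGroup.mk' M u = 1 := orderOf_eq_one_iff.mp (Nat.dvd_one.mp h4)
    exact (QuotientGroup.eq_one_iff u).mp h5
  have hFaM : F.subgroupOf M ≤ stabilizer M a := by
    intro x hx
    rw [Subgroup.mem_subgroupOf] at hx
    exact mem_stabilizer_iff.mpr (mem_stabilizer_iff.mp (hFle hx))
  have hcardFM : Nat.card (F.subgroupOf M) = Nat.card F :=
    Nat.card_congr (Subgroup.subgroupOfEquivOfLe hFM).toEquiv
  have hFfixM : ∀ u ∈ F.subgroupOf M, u ≠ 1 → ∀ c : Ω, u • c = c → c = a := by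
    intro u hu hu1 c hc
    exact hFfix u.1 (Subgroup.mem_subgroupOf.mp hu) (fun h0 => hu1 (Subtype.ext h0)) c hc
  rcases Cfsg.Agent.Lib.Helper11.zf_main Ω (Nat.card M) M hZM a b hab (Fintype.card Ω - 1) _
    (by omega) rfl hoddM (F.subgroupOf M) hFaM (by rw [hcardFM]; exact hFcard) hFfixM rfl
    with h1 | ⟨-, ⟨u, v, huv⟩, -⟩
  · omega
  · apply huv
    apply Subtype.ext
    have hu := Subgroup.mem_subgroupOf.mp u.2
    have hv := Subgroup.mem_subgroupOf.mp v.2
    have := hFab _ hu _ hv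
    apply Subtype.ext
    exact this

/-- **Odd half case**: a Zassenhaus group of degree `n + 1` with abelian kernel and two-point
stabiliser of odd order `(n - 1) / 2` is `PSL₂(K)`, `K` a finite field of odd characteristic. -/
theorem odd_half (hZ : IsZassenhausGroup G Ω) {a b : Ω} (hab : a ≠ b)
    (hodd : Odd (Nat.card ↥(stabilizer G a ⊓ stabilizer G b : Subgroup G)))
    (hd : 2 * Nat.card ↥(stabilizer G a ⊓ stabilizer G b : Subgroup G) + 2 = Fintype.card Ω)
    (F : Subgroup G) (hFle : F ≤ stabilizer G a)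
    (hFn : (F.subgroupOf (stabilizer G a)).Normal)
    (hFab : ∀ u ∈ F, ∀ v ∈ F, u * v = v * u)
    (hreg : ∀ y z : Ω, y ≠ a → z ≠ a → ∃! u : F, (u : G) • y = z) :
    ∃ (K : Type) (_ : Field K) (_ : Fintype K), ringChar K ≠ 2 ∧
      Nonempty (G ≃* Matrix.ProjectiveSpecialLinearGroup (Fin 2) K) := by
  classical
  have hZ' := hZ
  obtain ⟨hfaith, h2t, h3, -, -⟩ := hZ'
  rw [MulAction.is_two_pretransitive_iff] at h2t
  have hcardG0 := Cfsg.Agent.Lib.Helper11.zc_card_group hZ hab
  obtain ⟨H, hHdef⟩ : ∃ H : Subgroup G, H = stabilizer G a ⊓ stabilizer G b := ⟨_, rfl⟩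
  have hmem : ∀ g : G, g ∈ H ↔ g • a = a ∧ g • b = b := by
    intro g
    rw [hHdef, Subgroup.mem_inf, mem_stabilizer_iff, mem_stabilizer_iff]
  have hfaith' : ∀ g : G, (∀ x : Ω, g • x = x) → g = 1 := by
    intro g hg
    apply hfaith.eq_of_smul_eq_smul
    intro x
    rw [hg x, one_smul]
  have hua : ∀ u ∈ F, u • a = a := fun u hu => hFle hu
  have hFb_ne : ∀ u : ↥F, (u : G) • b ≠ a := by
    intro u h'
    apply hab
    apply smul_inj' (u : G)
    rw [hua u.1 u.2, h']
  have hcardF : Nat.card ↥F = Fintype.card Ω - 1 := by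
    have hbij : Function.Bijective
        (fun u : ↥F => (⟨(u : G) • b, hFb_ne u⟩ : {y : Ω // y ≠ a})) := by
      constructor
      · intro u v huv
        have huv' : (u : G) • b = (v : G) • b := congrArg Subtype.val huv
        obtain ⟨w', _, hw'⟩ := hreg b ((v : G) • b) hab.symm (hFb_ne v)
        exact (hw' u huv').trans (hw' v rfl).symm
      · rintro ⟨y, hy⟩
        obtain ⟨w', hw', _⟩ := hreg b y hab.symm hy
        exact ⟨w', Subtype.ext hw'⟩
    rw [Nat.card_congr (Equiv.ofBijective _ hbij), Nat.card_eq_fintype_card]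
    exact Set.card_ne_eq a
  have hFfix : ∀ u ∈ F, u ≠ 1 → ∀ c : Ω, u • c = c → c = a := by
    intro u hu hu1 c hc
    by_contra hca
    obtain ⟨w', _, hw'⟩ := hreg c c hca hca
    have e1 := hw' ⟨u, hu⟩ hc
    have e2 := hw' 1 (by
      show ((1 : ↥F) : G) • c = c
      rw [Subgroup.coe_one, one_smul])
    exact hu1 (congrArg Subtype.val (e1.trans e2.symm))
  have hn3 := Cfsg.Agent.Lib.Helper11.zc_three_le_card hZ hab
  have hnil := no_normal_compl hZ hab hodd (by omega) F hFle hFab (by omega) hFfix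
  obtain ⟨hcyc, -, hinvt⟩ := Cfsg.Agent.Helper29.ZInvert.main hZ hab hodd hnil
  rw [← hHdef] at hodd hd hcyc hinvt hcardG0
  have hcardΩ : Fintype.card Ω = 2 * Nat.card ↥H + 2 := by omega
  have hdpos : 0 < Nat.card ↥H := Nat.card_pos
  have hcomm : ∀ h k : ↥H, h * k = k * h := by
    intro h k
    obtain ⟨g, hg⟩ := hcyc.exists_generator
    obtain ⟨i, rfl⟩ := Subgroup.mem_zpowers_iff.1 (hg h)
    obtain ⟨j, rfl⟩ := Subgroup.mem_zpowers_iff.1 (hg k)
    rw [← zpow_add, ← zpow_add, add_comm]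
  have hodd1 : ∀ k : ↥H, k * k = 1 → k = 1 := by
    intro k hk
    have e4 : orderOf k ∣ 2 := orderOf_dvd_of_pow_eq_one (by rw [pow_two]; exact hk)
    have e5 : orderOf k ∣ Nat.card ↥H := orderOf_dvd_natCard _
    have e6 : orderOf k = 1 := by
      have := Nat.dvd_gcd e4 e5
      have hc : Nat.gcd 2 (Nat.card ↥H) = 1 := Nat.coprime_two_left.2 hodd
      rw [hc] at this
      exact Nat.dvd_one.1 this
    exact orderOf_eq_one_iff.1 e6
  have hsqrt : ∀ h : ↥H, ∃ k : ↥H, k * k = h := by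
    intro h
    obtain ⟨r, hr⟩ := hodd
    refine ⟨h ^ (r + 1), ?_⟩
    rw [← pow_add]
    have : r + 1 + (r + 1) = Nat.card ↥H + 1 := by omega
    rw [this, pow_succ, pow_card_eq_one', one_mul]
  have hnorm : ∀ h ∈ H, ∀ u ∈ F, h * u * h⁻¹ ∈ F := by
    intro h hh u hu
    have hha : h ∈ stabilizer G a := ((hmem h).1 hh).1
    have key := hFn.conj_mem ⟨u, hFle hu⟩ (Subgroup.mem_subgroupOf.mpr hu) ⟨h, hha⟩
    rw [Subgroup.mem_subgroupOf] at key
    simpa using key
  have hub : ∀ u ∈ F, u ≠ 1 → u • b ≠ b := by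
    intro u hu hu1 hfix'
    exact hab.symm (hFfix u hu hu1 b hfix')
  -- coordinates
  obtain ⟨θ, hθ⟩ : ∃ θ : ↥H → ↥F → ↥F,
      ∀ (h : ↥H) (u : ↥F), ((θ h u : ↥F) : G) = (h : G) * u * (h : G)⁻¹ :=
    ⟨fun h u => ⟨(h : G) * u * (h : G)⁻¹, hnorm h h.2 u u.2⟩, fun h u => rfl⟩
  have hFc : ∀ x y : ↥F, x * y = y * x := fun x y => Subtype.ext (hFab x x.2 y y.2)
  have θmul : ∀ (h : ↥H) (x y : ↥F), θ h (x * y) = θ h x * θ h y := by
    intro h x y
    apply Subtype.ext
    rw [Subgroup.coe_mul, hθ, hθ, hθ, Subgroup.coe_mul]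
    group
  have θone : ∀ x : ↥F, θ 1 x = x := by
    intro x
    apply Subtype.ext
    rw [hθ, Subgroup.coe_one]
    group
  have θcomp : ∀ (h k : ↥H) (x : ↥F), θ (h * k) x = θ h (θ k x) := by
    intro h k x
    apply Subtype.ext
    rw [hθ, hθ, hθ, Subgroup.coe_mul]
    group
  have hfree : ∀ (h : ↥H) (x : ↥F), x ≠ 1 → θ h x = x → h = 1 := by
    intro h x hx1 hx
    have hx1' : (x : G) ≠ 1 := fun h' => hx1 (Subtype.ext h')
    have hconj : (h : G) * x * (h : G)⁻¹ = x := by
      rw [← hθ, hx]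
    have hcomm' : (h : G) * x = x * h := by
      calc (h : G) * x = ((h : G) * x * (h : G)⁻¹) * h := by group
        _ = x * h := by rw [hconj]
    have hha : (h : G) • a = a := ((hmem _).1 h.2).1
    have hhb : (h : G) • b = b := ((hmem _).1 h.2).2
    have hfix' : (h : G) • ((x : G) • b) = (x : G) • b := by
      rw [← mul_smul, hcomm', mul_smul, hhb]
    apply Subtype.ext
    refine h3 (h : G) a b ((x : G) • b) hab ?_ ?_ hha hhb hfix'
    · exact (hub x x.2 hx1').symm
    · exact (hFb_ne x).symm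
  have hbig : Nat.card ↥F ≤ 2 * Nat.card ↥H + 1 := by omega
  have hF1 : 1 < Nat.card ↥F := by omega
  obtain ⟨E, instE, instET, ψ, m, hψbij, hψadd, hm, hψθ⟩ :=
    exists_coords hFc θ θmul θone θcomp hcomm hfree hbig hF1
  have hcardE : Fintype.card E = 2 * Nat.card ↥H + 1 := by
    rw [← Nat.card_eq_fintype_card, Nat.card_congr (Equiv.ofBijective ψ hψbij), hcardF, hcardΩ]
    omega
  obtain ⟨τ, hτ⟩ : ∃ τ : E → G, ∀ x : E, τ x = ((ψ x : ↥F) : G) := ⟨fun x => (ψ x : G), fun x => rfl⟩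
  have τadd : ∀ x y : E, τ (x + y) = τ x * τ y := by
    intro x y
    rw [hτ, hτ, hτ, hψadd, Subgroup.coe_mul]
  have τa : ∀ x : E, τ x • a = a := by
    intro x
    rw [hτ]
    exact hua _ (ψ x).2
  have τinj : ∀ x y : E, τ x • b = τ y • b → x = y := by
    intro x y hxy
    rw [hτ, hτ] at hxy
    obtain ⟨w', _, hw'⟩ := hreg b ((ψ y : G) • b) hab.symm (hFb_ne _)
    have e1 := hw' (ψ x) hxy
    have e2 := hw' (ψ y) rfl
    exact hψbij.1 (e1.trans e2.symm)
  have τsurj : ∀ y : Ω, y ≠ a → ∃ x : E, τ x • b = y := by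
    intro y hy
    obtain ⟨u, hu, _⟩ := hreg b y hab.symm hy
    obtain ⟨x, hx⟩ := hψbij.2 u
    refine ⟨x, ?_⟩
    rw [hτ, hx]
    exact hu
  have hτH : ∀ (h : ↥H) (x : E), (h : G) * τ x * (h : G)⁻¹ = τ ((m h : E) * x) := by
    intro h x
    rw [hτ, hτ, ← hθ, hψθ]
  have τ0 : τ 0 = 1 := by
    have h := τadd 0 0
    rw [add_zero] at h
    have h' : τ 0 * τ 0 = τ 0 * 1 := by
      rw [mul_one]
      exact h.symm
    exact mul_left_cancel h'
  have τb0 : τ 0 • b = b := by rw [τ0, one_smul]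
  have τne : ∀ x : E, τ x • b ≠ a := by
    intro x h
    apply hab
    apply smul_inj' (τ x)
    rw [τa, h]
  have τtr : ∀ c x : E, τ c • τ x • b = τ (c + x) • b := by
    intro c x
    rw [τadd, mul_smul]
  have hHa : ∀ h : ↥H, (h : G) • a = a := fun h => ((hmem _).1 h.2).1
  have hHb : ∀ h : ↥H, (h : G) • b = b := fun h => ((hmem _).1 h.2).2
  have τH : ∀ (h : ↥H) (x : E), (h : G) • τ x • b = τ ((m h : E) * x) • b := by
    intro h x
    rw [← hτH h x, mul_smul, mul_smul]
    have e : (h : G)⁻¹ • b = b := inv_smul_eq_iff.2 (hHb h).symm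
    rw [e]
  have hcover : ∀ y : Ω, y = a ∨ ∃ x : E, y = τ x • b := by
    intro y
    by_cases hy : y = a
    · exact Or.inl hy
    · obtain ⟨x, hx⟩ := τsurj y hy
      exact Or.inr ⟨x, hx.symm⟩
  -- the swapping involution
  obtain ⟨t, hta, htb⟩ := h2t hab hab.symm
  have htH0 : ∀ h ∈ H, t * h * t⁻¹ = h⁻¹ := hinvt t hta htb
  have ht2H : t * t ∈ H :=
    (hmem _).2 ⟨by rw [mul_smul, hta, htb], by rw [mul_smul, htb, hta]⟩
  have htt : t * t = 1 := by
    have e1 := htH0 _ ht2H
    have e2 : t * (t * t) * t⁻¹ = t * t := by group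
    rw [e2] at e1
    have e3 : (⟨t * t, ht2H⟩ : ↥H) * ⟨t * t, ht2H⟩ = 1 := by
      apply Subtype.ext
      show (t * t) * (t * t) = 1
      nth_rewrite 1 [e1]
      exact inv_mul_cancel _
    exact congrArg Subtype.val (hodd1 _ e3)
  have htinv : t⁻¹ = t := inv_eq_of_mul_eq_one_left htt
  have htH : ∀ h : ↥H, t * (h : G) = (h : G)⁻¹ * t := by
    intro h
    have e := htH0 h h.2
    rw [htinv] at e
    calc t * (h : G) = (t * (h : G) * t) * t := by rw [mul_assoc (t * (h : G)), htt, mul_one]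
      _ = (h : G)⁻¹ * t := by rw [e]
  have h2 : (2 : E) ≠ 0 := by
    intro h
    have h0 : ((2 : ℕ) : E) = 0 := by exact_mod_cast h
    have h1 : ringChar E ∣ 2 := ringChar.dvd h0
    have h3' : ringChar E = 2 := by
      rcases (Nat.dvd_prime Nat.prime_two).1 h1 with h4 | h4
      · exact absurd h4 CharP.ringChar_ne_one
      · exact h4
    have h5 := FiniteField.even_card_iff_char_two.1 h3'
    omega
  -- the map `j`
  have hex : ∀ x : E, ∃ y : E, x ≠ 0 → t • τ x • b = τ y • b := by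
    intro x
    by_cases hx : x = 0
    · exact ⟨0, fun h => absurd hx h⟩
    · rcases hcover (t • τ x • b) with h | ⟨y, hy⟩
      · exfalso
        apply hx
        apply τinj x 0
        rw [τb0]
        apply smul_inj' t
        rw [h, htb]
      · exact ⟨y, fun _ => hy⟩
  choose j hj using hex
  have hj0 : ∀ x : E, x ≠ 0 → j x ≠ 0 := by
    intro x hx h
    have h1 := hj x hx
    rw [h, τb0] at h1
    apply τne x
    apply smul_inj' t
    rw [h1, hta]
  have hjj : ∀ x : E, x ≠ 0 → j (j x) = x := by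
    intro x hx
    apply τinj
    rw [← hj (j x) (hj0 x hx), ← hj x hx, ← mul_smul, htt, one_smul]
  have hjS : ∀ (h : ↥H) (x : E), x ≠ 0 → j ((m h : E) * x) = (m h : E)⁻¹ * j x := by
    intro h x hx
    have hmx : (m h : E) * x ≠ 0 := mul_ne_zero (Units.ne_zero _) hx
    apply τinj
    rw [← hj _ hmx, ← τH h x, ← mul_smul, htH h, mul_smul, hj x hx]
    have e := τH h⁻¹ (j x)
    rw [map_inv, Units.val_inv_eq_inv_val] at e
    rw [← e]
    rfl
  -- the subgroup of multipliers
  have hcardU : Nat.card Eˣ = 2 * Nat.card ↥H := by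
    rw [Nat.card_units, Nat.card_eq_fintype_card, hcardE]
    omega
  have hcardR : Nat.card ↥m.range = Nat.card ↥H :=
    (Nat.card_congr (MonoidHom.ofInjective hm).toEquiv).symm
  have hidx2 : m.range.index = 2 := by
    have h1 := Subgroup.card_mul_index m.range
    rw [hcardR, hcardU] at h1
    have h2' : Nat.card ↥H * m.range.index = Nat.card ↥H * 2 := by rw [h1, mul_comm]
    exact Nat.eq_of_mul_eq_mul_left hdpos h2'
  -- `-1` is not a multiplier
  have hneg1 : ∀ h : ↥H, (m h : E) ≠ -1 := by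
    intro h hh
    have e1 : m (h * h) = 1 := by
      apply Units.ext
      rw [map_mul, Units.val_mul, hh, Units.val_one]
      ring
    have e2 : h * h = 1 := hm (by rw [e1, map_one])
    have e3 := hodd1 h e2
    rw [e3, map_one, Units.val_one] at hh
    apply h2
    have : (1 : E) + 1 = 0 := by
      nth_rewrite 1 [hh]
      ring
    rw [← one_add_one_eq_two]
    exact this
  have hSor : ∀ x : E, x ≠ 0 → (¬ ∃ h : ↥H, (m h : E) = x) → ∃ h : ↥H, (m h : E) = -x := by
    intro x hx hxS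
    have h1 : (-1 : Eˣ) * (Units.mk0 x hx) ∈ m.range := by
      rw [Subgroup.mul_mem_iff_of_index_two hidx2]
      constructor
      · rintro ⟨h, hh⟩
        exfalso
        apply hneg1 h
        rw [hh]
        simp
      · rintro ⟨h, hh⟩
        exfalso
        apply hxS
        refine ⟨h, ?_⟩
        rw [hh, Units.val_mk0]
    obtain ⟨h, hh⟩ := h1
    refine ⟨h, ?_⟩
    rw [hh]
    simp
  have hα0 : j 1 ≠ 0 := hj0 1 one_ne_zero
  obtain ⟨α, hα⟩ : ∃ α : E, α = j 1 := ⟨_, rfl⟩
  rw [← hα] at hα0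
  -- the stabiliser of a point has odd order
  have hstabodd : ∀ c : Ω, Odd (Nat.card (stabilizer G c)) := by
    intro c
    have h1 := Cfsg.Agent.Lib.Helper11.zc_card_stab_mul hZ c
    rw [hcardG0] at h1
    have h2' : Nat.card (stabilizer G c) = (Fintype.card Ω - 1) * Nat.card ↥H := by
      have hpos : 0 < Fintype.card Ω := by omega
      exact Nat.eq_of_mul_eq_mul_left hpos h1
    rw [h2']
    apply Odd.mul _ hodd
    rw [hcardΩ]
    exact ⟨Nat.card ↥H, by omega⟩
  have ht1 : t ≠ 1 := by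
    intro h
    rw [h, one_smul] at hta
    exact hab hta
  have hnofix : ∀ c : Ω, t • c ≠ c := by
    intro c hc
    have hmemc : t ∈ stabilizer G c := mem_stabilizer_iff.2 hc
    have e4 : orderOf (⟨t, hmemc⟩ : stabilizer G c) ∣ 2 :=
      orderOf_dvd_of_pow_eq_one (by
        apply Subtype.ext
        rw [pow_two]
        exact htt)
    have e5 : orderOf (⟨t, hmemc⟩ : stabilizer G c) ∣ Nat.card (stabilizer G c) :=
      orderOf_dvd_natCard _
    have e6 : orderOf (⟨t, hmemc⟩ : stabilizer G c) = 1 := by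
      have := Nat.dvd_gcd e4 e5
      have hc' : Nat.gcd 2 (Nat.card (stabilizer G c)) = 1 :=
        Nat.coprime_two_left.2 (hstabodd c)
      rw [hc'] at this
      exact Nat.dvd_one.1 this
    have := orderOf_eq_one_iff.1 e6
    exact ht1 (congrArg Subtype.val this)
  have hαS : ¬ ∃ h : ↥H, (m h : E) = α := by
    rintro ⟨h₀, hh₀⟩
    obtain ⟨k, hk⟩ := hsqrt h₀
    have hy0 : (m k : E) ≠ 0 := Units.ne_zero _
    have hyy : (m k : E) * (m k : E) = α := by
      rw [← hh₀, ← hk, map_mul, Units.val_mul]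
    have e1 : j (m k : E) = (m k : E) := by
      have := hjS k 1 one_ne_zero
      rw [mul_one, ← hα, ← hyy] at this
      rw [this]
      field_simp
    apply hnofix (τ (m k : E) • b)
    rw [hj _ hy0, e1]
  obtain ⟨h₁, hh₁⟩ := hSor α hα0 hαS
  have hjneg : j (-1) = -α := by
    have e1 := hjj 1 one_ne_zero
    rw [← hα] at e1
    have hm1 : (-1 : E) ≠ 0 := neg_ne_zero.2 one_ne_zero
    have e2 := hjS h₁ (-1) hm1
    rw [hh₁] at e2
    have e3 : -α * -1 = α := by ring
    rw [e3, e1] at e2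
    have hnα : -α ≠ 0 := neg_ne_zero.2 hα0
    have e4 : (-α)⁻¹ * j (-1) = 1 := e2.symm
    calc j (-1) = -α * ((-α)⁻¹ * j (-1)) := by
          rw [← mul_assoc, mul_inv_cancel₀ hnα, one_mul]
      _ = -α := by rw [e4, mul_one]
  have hjall : ∀ x : E, x ≠ 0 → j x = α / x := by
    intro x hx
    by_cases hxS : ∃ h : ↥H, (m h : E) = x
    · obtain ⟨h, hh⟩ := hxS
      have := hjS h 1 one_ne_zero
      rw [mul_one, hh, ← hα] at this
      rw [this]
      field_simp
    · obtain ⟨h, hh⟩ := hSor x hx hxS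
      have hm1 : (-1 : E) ≠ 0 := neg_ne_zero.2 one_ne_zero
      have := hjS h (-1) hm1
      rw [hh, hjneg] at this
      have e3 : -x * -1 = x := by ring
      rw [e3] at this
      rw [this]
      field_simp
  -- normalise
  obtain ⟨t', ht'def⟩ : ∃ t' : G, t' = ((h₁⁻¹ : ↥H) : G) * t := ⟨_, rfl⟩
  have ht'a : t' • a = b := by
    rw [ht'def, mul_smul, hta, hHb]
  have ht'b : t' • b = a := by
    rw [ht'def, mul_smul, htb, hHa]
  have ht'3 : ∀ x : E, x ≠ 0 → t' • τ x • b = τ (-x⁻¹) • b := by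
    intro x hx
    rw [ht'def, mul_smul, hj x hx, τH, hjall x hx, map_inv, Units.val_inv_eq_inv_val, hh₁]
    congr 2
    field_simp
  have hsq : ∀ h : ↥H, ∃ s : E, s ≠ 0 ∧ s * s = (m h : E) := by
    intro h
    obtain ⟨k, hk⟩ := hsqrt h
    refine ⟨(m k : E), Units.ne_zero _, ?_⟩
    rw [← hk, map_mul, Units.val_mul]
  have hB1 : ∀ g : G, g • ptOf τ a b OnePoint.infty = ptOf τ a b OnePoint.infty →
      ∃ s c : E, s ≠ 0 ∧ ∀ x : E, g • ptOf τ a b (x : OnePoint E) =
        ptOf τ a b ((x * (s * s) + c : E) : OnePoint E) := by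
    intro g hg
    have hga : g • a = a := hg
    have hgb : g • b ≠ a := by
      intro h
      apply hab
      apply smul_inj' g
      rw [hga, h]
    obtain ⟨c, hc⟩ := τsurj (g • b) hgb
    have hk : (τ c)⁻¹ * g ∈ H := by
      rw [hmem]
      constructor
      · rw [mul_smul, hga, inv_smul_eq_iff, τa]
      · rw [mul_smul, inv_smul_eq_iff, hc]
    obtain ⟨s, hs0, hss⟩ := hsq ⟨_, hk⟩
    refine ⟨s, c, hs0, fun x => ?_⟩
    show g • τ x • b = τ (x * (s * s) + c) • b
    have e0 : g • τ x • b = τ c • ((τ c)⁻¹ * g) • τ x • b := by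
      rw [← mul_smul (τ c), mul_inv_cancel_left]
    have e := τH ⟨_, hk⟩ x
    have e3 : c + (m ⟨_, hk⟩ : E) * x = x * (s * s) + c := by
      rw [hss]
      ring
    rw [e0, e, τtr, e3]
  have hT1 : t' • ptOf τ a b OnePoint.infty = ptOf τ a b ((0 : E) : OnePoint E) := by
    show t' • a = τ 0 • b
    rw [ht'a, τb0]
  have hT2 : t' • ptOf τ a b ((0 : E) : OnePoint E) = ptOf τ a b OnePoint.infty := by
    show t' • τ 0 • b = a
    rw [τb0, ht'b]
  have hT3 : ∀ x : E, x ≠ 0 →
      t' • ptOf τ a b (x : OnePoint E) = ptOf τ a b ((-x⁻¹ : E) : OnePoint E) := by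
    intro x hx
    show t' • τ x • b = τ (-x⁻¹) • b
    exact ht'3 x hx
  have hB3 : ∀ c : E, ∃ g : G, g • ptOf τ a b OnePoint.infty = ptOf τ a b OnePoint.infty ∧
      g • ptOf τ a b ((0 : E) : OnePoint E) = ptOf τ a b (c : OnePoint E) := by
    intro c
    refine ⟨τ c, τa c, ?_⟩
    show τ c • τ 0 • b = τ c • b
    rw [τb0]
  have hpt : Function.Bijective (ptOf τ a b) := by
    constructor
    · intro y y' h
      induction y using OnePoint.rec with
      | infty =>
        induction y' using OnePoint.rec with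
        | infty => rfl
        | coe y' => exact absurd h.symm (τne y')
      | coe y =>
        induction y' using OnePoint.rec with
        | infty => exact absurd h (τne y)
        | coe y' =>
          have hyy : y = y' := τinj y y' h
          rw [hyy]
    · intro x
      rcases hcover x with h | ⟨y, hy⟩
      · exact ⟨OnePoint.infty, h.symm⟩
      · exact ⟨(y : OnePoint E), hy.symm⟩
  have hcard : Fintype.card E * (Fintype.card E ^ 2 - 1) ≤ 2 * Nat.card G := by
    rw [hcardG0, hcardΩ, hcardE]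
    have e1 : (2 * Nat.card ↥H + 1) ^ 2 - 1 =
        4 * Nat.card ↥H * Nat.card ↥H + 4 * Nat.card ↥H := by
      have e : (2 * Nat.card ↥H + 1) ^ 2 =
          4 * Nat.card ↥H * Nat.card ↥H + 4 * Nat.card ↥H + 1 := by ring
      rw [e, Nat.add_sub_cancel]
    have e2 : 2 * Nat.card ↥H + 2 - 1 = 2 * Nat.card ↥H + 1 := by omega
    rw [e1, e2]
    apply le_of_eq
    ring
  obtain ⟨e⟩ := recog_odd h2 (ptOf τ a b) hpt hfaith' hB1 t' hT1 hT2 hT3 hB3 hcard
  -- transport to the Galois field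
  obtain ⟨p, hpchar⟩ := CharP.exists E
  haveI := hpchar
  obtain ⟨f, hp, hpf⟩ := FiniteField.card E p
  haveI : Fact p.Prime := ⟨hp⟩
  letI : Fintype (GaloisField p f) := Fintype.ofFinite _
  have hK : Fintype.card (GaloisField p f) = p ^ (f : ℕ) := by
    rw [← Nat.card_eq_fintype_card]
    exact GaloisField.card p f f.ne_zero
  have hcc : Fintype.card E = Fintype.card (GaloisField p f) := by rw [hK, hpf]
  let re : E ≃+* GaloisField p f := FiniteField.ringEquivOfCardEq hcc
  have hp2 : p ≠ 2 := by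
    intro hp2
    rw [hp2] at hpf
    have : 2 ∣ Fintype.card E := by
      rw [hpf]
      exact dvd_pow_self 2 f.ne_zero
    omega
  refine ⟨GaloisField p f, inferInstance, inferInstance, ?_, ?_⟩
  · rw [ringChar.eq (GaloisField p f) p]
    exact hp2
  · exact ⟨e.trans (Cfsg.Agent.Lib.Helper3.SLTransport.quotientCenterEquiv
      (Cfsg.Agent.Lib.Helper3.SLTransport.mapEquiv re))⟩

end OddHalf

end Cfsg.Agent.Lib.Helper3.ZassAb
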