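import Mathlib
import Cfsg.Agent.Lib.Helper3.PP1A
import Cfsg.Agent.Lib.Helper3.CardSL
import Cfsg.Agent.Lib.Helper3.SLTransport
import Cfsg.Agent.Lib.Helper4.SharpTrans
import Cfsg.Agent.S0731

/-!
# Degree `p + 1`, order `(p+1) p d`: the Zassenhaus case (helper3)
-/

set_option autoImplicit false
set_option linter.unusedVariables false
set_option linter.unusedSectionVars false
set_option linter.style.longLine false

namespace Cfsg.Agent.Lib.Helper3.PP1

open MulAction Cfsg.H5.SharpTwo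

theorem arith_r_eq_p {p d r : ℕ} (hp : p.Prime) (hp2 : p ≠ 2) (hd : d < p) (hr : Odd r)
    (hr3 : 3 ≤ r) (h : 2 * ((p + 1) * p * d) = r * (r ^ 2 - 1)) : r = p := by
  have hp3 : 3 ≤ p := by
    have := hp.two_le
    omega
  obtain ⟨j, hj⟩ := hp.odd_of_ne_two hp2
  obtain ⟨i, hi⟩ := hr
  obtain ⟨s, hs⟩ : ∃ s, r = s + 1 := ⟨r - 1, by omega⟩
  have hs2 : 2 ≤ s := by omega
  have e1 : r * (r ^ 2 - 1) = s * (s + 1) * (s + 2) := by
    have : r ^ 2 - 1 = s * (s + 2) := by
      have h1 : r ^ 2 = s * (s + 2) + 1 := by rw [hs]; ring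
      rw [h1, Nat.add_sub_cancel]
    rw [this, hs]
    ring
  rw [e1] at h
  have hlt : (p + 1) * p * d < (p + 1) * p * p := Nat.mul_lt_mul_of_pos_left hd (by positivity)
  have hdvd : p ∣ s * (s + 1) * (s + 2) := by
    rw [← h]
    exact Dvd.dvd.mul_left (Dvd.dvd.mul_right (Dvd.intro_left _ rfl) _) _
  have mono : ∀ t : ℕ, t ≤ s → t * (t + 1) * (t + 2) ≤ s * (s + 1) * (s + 2) := by
    intro t ht
    exact Nat.mul_le_mul (Nat.mul_le_mul ht (by omega)) (by omega)
  rcases (Nat.Prime.dvd_mul hp).1 hdvd with h1 | h1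
  · rcases (Nat.Prime.dvd_mul hp).1 h1 with h2 | h2
    · -- `p ∣ s`
      exfalso
      obtain ⟨m, hm⟩ := h2
      have e2 : p * m = 2 * (j * m) + m := by rw [hj]; ring
      obtain ⟨m', hm'⟩ : ∃ m', m = 2 * m' := ⟨i - j * m, by omega⟩
      have hm'1 : 1 ≤ m' := by
        rcases Nat.eq_zero_or_pos m' with h0 | h0
        · rw [h0] at hm'
          rw [hm', mul_zero] at hm
          omega
        · exact h0
      have hs2p : 2 * p ≤ s := by
        rw [hm, hm']
        nlinarith
      have := mono (2 * p) hs2p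
      nlinarith
    · -- `p ∣ s + 1 = r`
      obtain ⟨m, hm⟩ := h2
      have e2 : p * m = 2 * (j * m) + m := by rw [hj]; ring
      rcases Nat.lt_or_ge m 2 with hm2 | hm2
      · interval_cases m
        · omega
        · omega
      · exfalso
        have hm3 : 3 ≤ m := by
          by_contra hc
          have : m = 2 := by omega
          subst this
          omega
        have hs3p : 3 * p - 1 ≤ s := by
          have : 3 * p ≤ p * m := by nlinarith
          omega
        obtain ⟨w, hw⟩ : ∃ w, 3 * p - 1 = w := ⟨_, rfl⟩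
        rw [hw] at hs3p
        have := mono w hs3p
        have hw' : w + 1 = 3 * p := by omega
        have e3 : w * (w + 1) * (w + 2) = w * (3 * p) * (3 * p + 1) := by
          rw [hw']
          have : w + 2 = 3 * p + 1 := by omega
          rw [this]
        have hw2 : 2 * p ≤ w := by omega
        have e4 : 2 * p * (3 * p) * (3 * p + 1) ≤ w * (3 * p) * (3 * p + 1) :=
          Nat.mul_le_mul_right _ (Nat.mul_le_mul_right _ hw2)
        nlinarith
  · -- `p ∣ s + 2 = r + 1`
    exfalso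
    obtain ⟨m, hm⟩ := h1
    have e2 : p * m = 2 * (j * m) + m := by rw [hj]; ring
    obtain ⟨m', hm'⟩ : ∃ m', m = 2 * m' := ⟨i + 1 - j * m, by omega⟩
    have hm'1 : 1 ≤ m' := by
      rcases Nat.eq_zero_or_pos m' with h0 | h0
      · rw [h0] at hm'
        rw [hm', mul_zero] at hm
        omega
      · exact h0
    have hs2p : 2 * p ≤ s + 2 := by
      rw [hm, hm']
      nlinarith
    obtain ⟨w, hw⟩ : ∃ w, 2 * p - 2 = w := ⟨_, rfl⟩
    have hws : w ≤ s := by omega
    have := mono w hws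
    have hw' : w + 2 = 2 * p := by omega
    have hw1 : w + 1 = 2 * p - 1 := by omega
    have hd' : d + 1 ≤ p := hd
    have e3 : (p + 1) * p * d ≤ (p + 1) * p * (p - 1) :=
      Nat.mul_le_mul_left _ (by omega)
    obtain ⟨v, hv⟩ : ∃ v, p = v + 3 := ⟨p - 3, by omega⟩
    have hwv : w = 2 * v + 4 := by omega
    have hpv : p - 1 = v + 2 := by omega
    rw [hpv] at e3
    rw [hwv] at this
    rw [hv] at e3 h
    obtain ⟨X, hX⟩ : ∃ X, X = (v + 3) * (v + 2) := ⟨_, rfl⟩
    have hX1 : 1 ≤ X := by rw [hX]; nlinarith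
    have e4 : (2 * v + 4) * (2 * v + 4 + 1) * (2 * v + 4 + 2) = 4 * X * (2 * v + 5) := by
      rw [hX]; ring
    have e5 : (v + 3 + 1) * (v + 3) * (v + 2) = X * (v + 4) := by rw [hX]; ring
    rw [e4] at this
    rw [e5] at e3
    have e6 : 4 * X * (2 * v + 5) ≤ 2 * (X * (v + 4)) := by
      calc 4 * X * (2 * v + 5) ≤ s * (s + 1) * (s + 2) := this
        _ = 2 * ((v + 3 + 1) * (v + 3) * d) := h.symm
        _ ≤ 2 * (X * (v + 4)) := Nat.mul_le_mul_left _ e3
    have e7 : 4 * X * (2 * v + 5) = 8 * (X * v) + 20 * X := by ring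
    have e8 : 2 * (X * (v + 4)) = 2 * (X * v) + 8 * X := by ring
    rw [e7, e8] at e6
    omega

section Zass

variable {G Ω : Type*} [Group G] [MulAction G Ω] {p d : ℕ}

/-- "regular normal subgroup", elementwise. -/
def HasRegNormal (G Ω : Type*) [Group G] [MulAction G Ω] : Prop :=
  ∃ R : Subgroup G, R.Normal ∧ (∀ x y : Ω, ∃ r ∈ R, r • x = y) ∧
    (∀ r ∈ R, ∀ x : Ω, r • x = x → r = 1)

/-- if `d = 1` the fixed-point-free elements together with `1` form a regular normal subgroup. -/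
theorem exists_kernel_of_d_one (H : Hyp G Ω p 1) :
    ∃ R : Subgroup G, (∀ g : G, g ∈ R ↔ g = 1 ∨ ∀ x : Ω, g • x ≠ x) ∧
      (∀ x y : Ω, ∃ r ∈ R, r • x = y) := by
  haveI := H.finiteΩ
  haveI := H.finiteG
  have hp2 := H.two_le
  have hS : Sharp G Ω := by
    intro g a b hab ha hb
    have h1 := H.card_stab2 hab
    have h2 : g ∈ (stabilizer G a ⊓ stabilizer G b : Subgroup G) :=
      Subgroup.mem_inf.2 ⟨mem_stabilizer_iff.2 ha, mem_stabilizer_iff.2 hb⟩
    have h3 := Nat.card_eq_one_iff_unique.1 h1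
    have h4 := h3.1.elim ⟨g, h2⟩ 1
    exact congrArg Subtype.val h4
  have hT : TwoTrans G Ω := fun a b c e hab hce => H.twoTrans a b c e hab hce
  have hn : ∃ x y : Ω, x ≠ y := by
    haveI : Nontrivial Ω := Finite.one_lt_card_iff_nontrivial.1 (by rw [H.cardΩ]; omega)
    exact exists_pair_ne Ω
  refine ⟨kernel hS hT hn, fun g => Iff.rfl, fun x y => ?_⟩
  exact exists_mem_kernel_smul_eq hS hT hn x y

theorem hasRegNormal_of_d_one (H : Hyp G Ω p 1) : HasRegNormal G Ω := by
  obtain ⟨R, hR, hRt⟩ := exists_kernel_of_d_one H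
  refine ⟨R, ⟨fun r hr g => ?_⟩, hRt, fun r hr x hx => ?_⟩
  · rw [hR] at hr ⊢
    rcases hr with rfl | hr
    · left; group
    · right
      intro x hx
      apply hr (g⁻¹ • x)
      rw [mul_smul, mul_smul] at hx
      rw [eq_inv_smul_iff]
      exact hx
  · rcases (hR r).1 hr with h | h
    · exact h
    · exact absurd hx (h x)

/-- **Zassenhaus case.** -/
theorem zass_case (H : Hyp G Ω p d) (hp2 : p ≠ 2) (hnoreg : ¬ HasRegNormal G Ω) :
    (d = p - 1 ∧ IsMultiplyPretransitive G Ω 3 ∧ ∀ t : Fin 3 ↪ Ω, stabilizer G t = ⊥) ∨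
    (2 * d = p - 1 ∧
      Nonempty (G ≃* Matrix.ProjectiveSpecialLinearGroup (Fin 2) (ZMod p))) := by
  classical
  haveI := H.finiteΩ
  haveI := H.finiteG
  have hp := H.prime
  have hp2' := H.two_le
  have hp3 : 3 ≤ p := by omega
  have hd1 : d ≠ 1 := by
    rintro rfl
    exact hnoreg (hasRegNormal_of_d_one H)
  have hdpos := H.dpos
  obtain ⟨a⟩ : Nonempty Ω := by
    have : 0 < Nat.card Ω := by rw [H.cardΩ]; omega
    exact (Nat.card_pos_iff.1 this).1
  obtain ⟨b, hab⟩ : ∃ b : Ω, a ≠ b := by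
    haveI : Nontrivial Ω := Finite.one_lt_card_iff_nontrivial.1 (by rw [H.cardΩ]; omega)
    exact exists_ne a |>.imp fun b hb => hb.symm
  obtain ⟨P, K⟩ := H.exists_ker a
  have hfaith : FaithfulSMul G Ω := by
    constructor
    intro g g' h
    have h5 : ∀ x : Ω, (g'⁻¹ * g) • x = x := by
      intro x
      rw [mul_smul, h x, inv_smul_smul]
    have h6 := H.faith _ h5
    calc g = g' * (g'⁻¹ * g) := by group
      _ = g' := by rw [h6, mul_one]
  have h2t : IsMultiplyPretransitive G Ω 2 := by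
    rw [MulAction.is_two_pretransitive_iff]
    intro a b c e hab hce
    exact H.twoTrans a b c e hab hce
  have hZ : Cfsg.IsZassenhausGroup G Ω := by
    refine ⟨hfaith, h2t, ?_, ?_, ?_⟩
    · intro g a b c hab hbc hac ha hb hc
      exact H.three_fix g a b c hab hbc hac ha hb hc
    · have h1 := H.card_stab2 hab
      have h2 : 1 < Nat.card ↥(stabilizer G a ⊓ stabilizer G b : Subgroup G) := by omega
      rw [Subgroup.one_lt_card_iff_ne_bot] at h2
      obtain ⟨⟨g, hg⟩, hg1⟩ := (Subgroup.ne_bot_iff_exists_ne_one).1 h2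
      rw [Subgroup.mem_inf, mem_stabilizer_iff, mem_stabilizer_iff] at hg
      refine ⟨g, ?_, a, b, hab, hg.1, hg.2⟩
      intro h
      apply hg1
      exact Subtype.ext h
    · intro N hN hNt
      by_contra hcon
      push Not at hcon
      apply hnoreg
      refine ⟨N, hN, fun x y => ?_, fun r hr x hx => ?_⟩
      · obtain ⟨n, hn⟩ := hNt.exists_smul_eq x y
        exact ⟨n.1, n.2, hn⟩
      · have h1 : (⟨r, hr⟩ : N) ∈ stabilizer N x := mem_stabilizer_iff.2 hx
        rw [hcon x, Subgroup.mem_bot] at h1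
        exact congrArg Subtype.val h1
  have hFle : P ≤ stabilizer G a := fun u hu => mem_stabilizer_iff.2 (K.fix u hu)
  have hFn : (P.subgroupOf (stabilizer G a)).Normal := by
    constructor
    intro n hn g
    rw [Subgroup.mem_subgroupOf] at hn ⊢
    have := K.norm g.1 (mem_stabilizer_iff.1 g.2) n.1 hn
    simpa using this
  have hFab : IsMulCommutative P := ⟨⟨fun u v => Subtype.ext (K.comm u u.2 v v.2)⟩⟩
  rcases Cfsg.Agent.S0731.result hZ a P hFle hFn hFab K.reg with ⟨h3, hsharp⟩ | ⟨F, iF, iFT, hchar, ⟨e⟩⟩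
  · left
    refine ⟨?_, h3, hsharp⟩
    have hc := Cfsg.Agent.Helper4.SharpTrans.card_eq ⟨h3, hsharp⟩ (by rw [H.cardΩ]; omega)
    rw [H.cardΩ, H.cardG] at hc
    obtain ⟨m, hm⟩ : ∃ m, p = m + 1 := ⟨p - 1, by omega⟩
    rw [hm] at hc ⊢
    rw [Nat.succ_descFactorial_succ, Nat.succ_descFactorial_succ, Nat.descFactorial_one,
      mul_assoc] at hc
    have h1 : (m + 1) * d = (m + 1) * m := Nat.eq_of_mul_eq_mul_left (by omega) hc
    have h2 : d = m := Nat.eq_of_mul_eq_mul_left (by omega) h1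
    omega
  · right
    have h2F : (2 : F) ≠ 0 := by
      intro h
      have h0 : ((2 : ℕ) : F) = 0 := by exact_mod_cast h
      have h1 : ringChar F ∣ 2 := ringChar.dvd h0
      rcases (Nat.dvd_prime Nat.prime_two).1 h1 with h4 | h4
      · exact absurd h4 CharP.ringChar_ne_one
      · exact hchar h4
    have hodd : Odd (Fintype.card F) := by
      rw [← Nat.not_even_iff_odd, Nat.even_iff]
      intro h
      exact hchar (FiniteField.even_card_iff_char_two.2 h)
    have hr3 : 3 ≤ Fintype.card F := by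
      have h1 : 1 < Fintype.card F := Fintype.one_lt_card
      obtain ⟨i, hi⟩ := hodd
      omega
    have hcG : Nat.card G = Nat.card (Matrix.ProjectiveSpecialLinearGroup (Fin 2) F) :=
      Nat.card_congr e.toEquiv
    have hcP := Cfsg.Agent.Lib.Helper3.CardSL.card_PSL_mul (F := F) 2
    rw [Cfsg.Agent.Lib.Helper3.CardSL.card_center_SL2 h2F,
      Cfsg.Agent.Lib.Helper3.CardSL.card_SL2, ← hcG, H.cardG] at hcP
    have hrp : Fintype.card F = p := by
      apply arith_r_eq_p hp hp2 H.lt hodd hr3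
      rw [← hcP, mul_comm]
    refine ⟨?_, ⟨e.trans (Cfsg.Agent.Lib.Helper3.SLTransport.pslEquivZMod hp hrp (Fin 2))⟩⟩
    rw [hrp] at hcP
    obtain ⟨m, hm⟩ : ∃ m, p = m + 1 := ⟨p - 1, by omega⟩
    rw [hm] at hcP ⊢
    have e1 : (m + 1) ^ 2 - 1 = m * (m + 2) := by
      have h1 : (m + 1) ^ 2 = m * (m + 2) + 1 := by ring
      rw [h1, Nat.add_sub_cancel]
    rw [e1] at hcP
    have e2 : (m + 1 + 1) * (m + 1) * d * 2 = ((m + 1) * (m + 2)) * (2 * d) := by ring
    have e3 : (m + 1) * (m * (m + 2)) = ((m + 1) * (m + 2)) * m := by ring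
    rw [e2, e3] at hcP
    have h1 : 2 * d = m := Nat.eq_of_mul_eq_mul_left (by positivity) hcP
    omega

end Zass

end Cfsg.Agent.Lib.Helper3.PP1
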