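import Mathlib
import Cfsg.Agent.Lib.Helper18.SylowRules
import Cfsg.Agent.Lib.Helper29.Ord5040A

/-!
# Order 5040, the case `n₅ = 36`: common lemmas (helper3, for helper29's S0978)
-/

set_option autoImplicit false
set_option linter.unusedSectionVars false
set_option maxRecDepth 100000

namespace Cfsg.Agent.Lib.Helper3.Ord5040L36

open Cfsg.H5.SmallOrd Cfsg.H5.SylowTuple Cfsg.Agent.Lib.Helper29.Ord5040

variable {G : Type*} [Group G] [Finite G]

/-- the Sylow 7 data when `7 ∣ c₅` -/
theorem sd7 [IsSimpleGroup G] (hG : ¬ IsMulCommutative G) (hn : Nat.card G = 5040)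
    [Fact (Nat.Prime 5)] [Fact (Nat.Prime 7)] {k e c : ℕ} (h5 : IsSD G 5 k e c) (h7c : 7 ∣ c) :
    IsSD G 7 36 2 10 := by
  obtain ⟨t, ht, hp, hsd⟩ := Cfsg.Agent.Lib.Helper18.SylowRules.exists_mem_ftriples hG 5040 7 hn
    (by norm_num) (by norm_num) (by norm_num) (by norm_num)
  have htr : Cfsg.Agent.Lib.Helper18.SylowRules.ftriples 5040 7 =
      [(36, 2, 10), (120, 2, 3), (120, 3, 2), (120, 6, 1)] := by decide +kernel
  rw [htr] at ht
  simp only [List.mem_cons, List.not_mem_nil, or_false] at ht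
  rcases ht with rfl | rfl | rfl | rfl
  · exact hsd
  · have hsd' : IsSD G 7 120 2 3 := hsd
    have := h5.adj hsd' (by norm_num) h7c
    omega
  · have hsd' : IsSD G 7 120 3 2 := hsd
    have := h5.adj hsd' (by norm_num) h7c
    omega
  · have hsd' : IsSD G 7 120 6 1 := hsd
    have := h5.adj hsd' (by norm_num) h7c
    omega

/-- an element of order `p` normalizing a Sylow `p`-subgroup lies in it -/
theorem mem_sylow_of_mem_normalizer {p : ℕ} [Fact p.Prime] (P : Sylow p G) (f : G)
    (hf : orderOf f = p) (hfN : f ∈ Subgroup.normalizer ((P : Subgroup G) : Set G)) :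
    f ∈ (P : Subgroup G) := by
  have hpg : IsPGroup p (Subgroup.zpowers f) :=
    IsPGroup.of_card (n := 1) (by rw [Nat.card_zpowers, hf, pow_one])
  have h := hpg.inf_normalizer_sylow P
  have h1 : f ∈ Subgroup.zpowers f ⊓ Subgroup.normalizer ((P : Subgroup G) : Set G) :=
    Subgroup.mem_inf.mpr ⟨Subgroup.mem_zpowers f, hfN⟩
  have h2 : f ∈ Subgroup.zpowers f ⊓ (P : Subgroup G) := h ▸ h1
  exact (Subgroup.mem_inf.mp h2).2

/-- inversion lemma: an involution normalizing but not centralizing a subgroup of prime order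
inverts it -/
theorem inverts_of_not_centralizes {p : ℕ} [hp : Fact p.Prime] (P : Subgroup G)
    (hP : Nat.card P = p) (x : G) (hx2 : x * x = 1)
    (hxN : x ∈ Subgroup.normalizer (P : Set G)) (hxC : x ∉ Subgroup.centralizer (P : Set G)) :
    ∀ a ∈ P, x * a * x⁻¹ = a⁻¹ := by
  haveI : Fact (Nat.card P).Prime := ⟨by rw [hP]; exact hp.out⟩
  have hxinv : x⁻¹ = x := inv_eq_of_mul_eq_one_right hx2
  have hcyc : IsCyclic P := isCyclic_of_prime_card rfl
  have hcomm : ∀ a ∈ P, ∀ b ∈ P, a * b = b * a := by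
    intro a ha b hb
    have : IsMulCommutative P := IsCyclic.isMulCommutative
    have := this.is_comm.comm ⟨a, ha⟩ ⟨b, hb⟩
    exact congrArg Subtype.val this
  have hconj : ∀ a ∈ P, x * a * x⁻¹ ∈ P := fun a ha =>
    (Subgroup.mem_normalizer_iff.mp hxN a).mp ha
  by_contra hcon
  push Not at hcon
  obtain ⟨a, haP, ha⟩ := hcon
  -- `w = a * (x a x⁻¹)` is fixed by `x` and nontrivial
  set w : G := a * (x * a * x⁻¹) with hw
  have hwP : w ∈ P := P.mul_mem haP (hconj a haP)
  have hw1 : w ≠ 1 := by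
    intro h
    apply ha
    rw [hw] at h
    exact (eq_inv_of_mul_eq_one_right h)
  have hwx : x * w * x⁻¹ = w := by
    have h1 : x * w * x⁻¹ = (x * a * x⁻¹) * (x * (x * a * x⁻¹) * x⁻¹) := by rw [hw]; group
    have h2 : x * (x * a * x⁻¹) * x⁻¹ = a := by
      rw [hxinv]
      calc x * (x * a * x) * x = (x * x) * a * (x * x) := by group
        _ = a := by rw [hx2, one_mul, mul_one]
    rw [h1, h2, hw]
    exact hcomm _ (hconj a haP) _ haP
  -- `w` generates `P`
  have hgen : ∀ b ∈ P, b ∈ Subgroup.zpowers w := by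
    intro b hb
    have hwo : orderOf (⟨w, hwP⟩ : P) = Nat.card P := by
      have hd : orderOf (⟨w, hwP⟩ : P) ∣ Nat.card P := orderOf_dvd_natCard _
      rw [hP] at hd ⊢
      rcases (Nat.dvd_prime hp.out).mp hd with h | h
      · exfalso
        rw [orderOf_eq_one_iff] at h
        exact hw1 (congrArg Subtype.val h)
      · exact h
    have h1 : (⟨b, hb⟩ : P) ∈ Subgroup.zpowers (⟨w, hwP⟩ : P) := by
      have htop : Subgroup.zpowers (⟨w, hwP⟩ : P) = ⊤ := by
        apply Subgroup.eq_top_of_card_eq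
        rw [Nat.card_zpowers, hwo]
      rw [htop]; trivial
    rw [Subgroup.mem_zpowers_iff] at h1 ⊢
    obtain ⟨i, hi⟩ := h1
    refine ⟨i, ?_⟩
    have := congrArg Subtype.val hi
    simpa using this
  -- hence `x` centralizes `P`
  apply hxC
  rw [Subgroup.mem_centralizer_iff]
  intro b hb
  obtain ⟨i, rfl⟩ := Subgroup.mem_zpowers_iff.mp (hgen b hb)
  have hc : Commute x w := by
    show x * w = w * x
    calc x * w = (x * w * x⁻¹) * x := by group
      _ = w * x := by rw [hwx]
  exact (hc.zpow_right i).symm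

/-- an involution of a subgroup of order 140 lies in an abelian subgroup of order 4 of it -/
theorem exists_four (N : Subgroup G) (hN : Nat.card N = 140) (t : G) (htN : t ∈ N)
    (ht : orderOf t = 2) :
    ∃ T : Subgroup G, T ≤ N ∧ Nat.card T = 4 ∧ t ∈ T ∧ ∀ x ∈ T, x * t = t * x := by
  haveI : Fact (Nat.Prime 2) := ⟨by norm_num⟩
  have hpg : IsPGroup 2 (Subgroup.zpowers (⟨t, htN⟩ : N)) := by
    apply IsPGroup.of_card (n := 1)
    rw [Nat.card_zpowers, pow_one, ← ht, Subgroup.orderOf_mk]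
  obtain ⟨S, hS⟩ := hpg.exists_le_sylow
  have hSc : Nat.card (S : Subgroup N) = 2 ^ 2 :=
    sylow_card 2 2 35 (by norm_num) (by rw [hN]; norm_num) S
  refine ⟨(S : Subgroup N).map N.subtype, Subgroup.map_subtype_le _, ?_, ?_, ?_⟩
  · rw [Subgroup.card_map_of_injective (Subgroup.subtype_injective _), hSc]; norm_num
  · rw [Subgroup.mem_map]
    exact ⟨⟨t, htN⟩, hS (Subgroup.mem_zpowers _), rfl⟩
  · intro x hx
    rw [Subgroup.mem_map] at hx
    obtain ⟨y, hy, rfl⟩ := hx
    have hcomm : IsMulCommutative (S : Subgroup N) :=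
      IsPGroup.isMulCommutative_of_card_eq_prime_sq (p := 2) hSc
    have := hcomm.is_comm.comm ⟨y, hy⟩ ⟨⟨t, htN⟩, hS (Subgroup.mem_zpowers _)⟩
    have h2 := congrArg (fun z : (S : Subgroup N) => ((z : N) : G)) this
    simpa using h2

end Cfsg.Agent.Lib.Helper3.Ord5040L36
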