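import Mathlib
import Cfsg.Agent.Lib.Helper11.M11A
import Cfsg.Agent.Lib.Helper3.Ord5040L36A

/-!
# Simple groups of order 7920: the normalizer of a Sylow 5-subgroup has order at most 70
(helper3, FO-A for helper11's S4429)

On `Ω = Syl₁₁(G)` (144 points) a Sylow 11-subgroup `R` acts semiregularly off `R`; the points fixed
by an element `y` of order 5 of `N(R)` lie in distinct `R`-orbits.
-/

set_option autoImplicit false
set_option linter.unusedSectionVars false
open scoped Pointwise

namespace Cfsg.Agent.Lib.Helper3.M11Five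

open Cfsg.Agent.Lib.Helper10.Ord7920 Cfsg.Agent.Lib.Helper11.M11

variable {G : Type*} [Group G] [Finite G]

/-- a simple group of order 7920 is not commutative -/
theorem not_comm [IsSimpleGroup G] (hord : Nat.card G = 7920) : ¬ IsMulCommutative G := by
  intro hc
  haveI : Fact (Nat.Prime 11) := ⟨by norm_num⟩
  obtain ⟨R⟩ : Nonempty (Sylow 11 G) := inferInstance
  apply sylow_eleven_not_normal hord R
  constructor
  intro n hn g
  have : g * n * g⁻¹ = n := by
    have h := hc.is_comm.comm g n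
    rw [h]; group
  rw [this]; exact hn

/-- an element of order 5 commutes with no nontrivial element of a Sylow 11-subgroup -/
theorem eq_one_of_commute [IsSimpleGroup G] (hord : Nat.card G = 7920) (R : Sylow 11 G)
    (y : G) (hyo : orderOf y = 5) (s : G) (hs : s ∈ (R : Subgroup G)) (hc : y * s = s * y) :
    s = 1 := by
  by_contra hs1
  have hso : orderOf s = 11 := by
    have h0 : orderOf s ∣ Nat.card (R : Subgroup G) := Subgroup.orderOf_dvd_natCard _ hs
    rw [card_sylow_eleven hord R] at h0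
    rcases (Nat.dvd_prime (by norm_num)).mp h0 with h | h
    · exact absurd (orderOf_eq_one_iff.mp h) hs1
    · exact h
  have hy := orderOf_eq_of_commute_eleven hord hso (show Commute y s from hc)
  have hd : orderOf y ∣ Nat.card (Subgroup.zpowers s) := Subgroup.orderOf_dvd_natCard _ hy
  rw [Nat.card_zpowers, hso, hyo] at hd
  omega

/-- a subgroup of order 5 meets a Sylow 11-subgroup trivially -/
theorem eq_one_of_mem_of_mem (hord : Nat.card G = 7920) (E : Subgroup G) (hE : Nat.card E = 5)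
    (R : Sylow 11 G) (c : G) (hcE : c ∈ E) (hcR : c ∈ (R : Subgroup G)) : c = 1 := by
  have h1 : orderOf c ∣ 5 := hE ▸ Subgroup.orderOf_dvd_natCard _ hcE
  have h2 : orderOf c ∣ 11 := by
    have := Subgroup.orderOf_dvd_natCard _ hcR
    rwa [card_sylow_eleven hord R] at this
  have h3 : orderOf c ∣ Nat.gcd 5 11 := Nat.dvd_gcd h1 h2
  have h4 : Nat.gcd 5 11 = 1 := by norm_num
  rw [h4, Nat.dvd_one] at h3
  exact orderOf_eq_one_iff.mp h3

/-- a subgroup of `N(R)` (order 55) containing an element of order 5 and no nontrivial element of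
`R` has order 5 -/
theorem card_eq_five [IsSimpleGroup G] (hord : Nat.card G = 7920) (R : Sylow 11 G)
    (E : Subgroup G) (hEF : E ≤ Subgroup.normalizer ((R : Subgroup G) : Set G))
    (y : G) (hyE : y ∈ E) (hyo : orderOf y = 5)
    (hER : ∀ z ∈ E, z ∈ (R : Subgroup G) → z = 1) : Nat.card E = 5 := by
  haveI : Fact (Nat.Prime 11) := ⟨by norm_num⟩
  have h1 : Nat.card E ∣ 55 := by
    rw [← card_normalizer_eleven hord R]
    exact Subgroup.card_dvd_of_le hEF
  have h2 : 5 ∣ Nat.card E := hyo ▸ Subgroup.orderOf_dvd_natCard _ hyE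
  have h3 : ¬ 11 ∣ Nat.card E := by
    intro h
    obtain ⟨z, hzE, hzo⟩ := exists_mem_orderOf_eq E (by norm_num) h
    have hzR : z ∈ (R : Subgroup G) :=
      Cfsg.Agent.Lib.Helper3.Ord5040L36.mem_sylow_of_mem_normalizer R z hzo (hEF hzE)
    have := hER z hzE hzR
    rw [this, orderOf_one] at hzo
    omega
  have h4 : Nat.card E ≤ 55 := Nat.le_of_dvd (by norm_num) h1
  generalize Nat.card E = d at h1 h2 h3 h4
  interval_cases d <;> omega

/-- **key**: two points `S ≠ R`, `s • S` (`s ∈ R`) of `Ω` fixed by `y` coincide -/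
theorem key [IsSimpleGroup G] (hord : Nat.card G = 7920) (R : Sylow 11 G) (y : G)
    (hyF : y ∈ Subgroup.normalizer ((R : Subgroup G) : Set G)) (hyo : orderOf y = 5)
    (S : Sylow 11 G) (hS : S ≠ R) (hyS : y • S = S) (s : G) (hs : s ∈ (R : Subgroup G))
    (hys : y • (s • S) = s • S) : s = 1 := by
  haveI : Fact (Nat.Prime 11) := ⟨by norm_num⟩
  obtain ⟨E, hEdef⟩ : ∃ E : Subgroup G, E = Subgroup.normalizer ((S : Subgroup G) : Set G) ⊓
      Subgroup.normalizer ((R : Subgroup G) : Set G) := ⟨_, rfl⟩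
  have hsF : s ∈ Subgroup.normalizer ((R : Subgroup G) : Set G) := Subgroup.le_normalizer hs
  have hyE : y ∈ E := by
    rw [hEdef]
    exact ⟨Sylow.smul_eq_iff_mem_normalizer.mp hyS, hyF⟩
  have huE : s⁻¹ * y * s ∈ E := by
    rw [hEdef]
    refine ⟨?_, Subgroup.mul_mem _ (Subgroup.mul_mem _ (Subgroup.inv_mem _ hsF) hyF) hsF⟩
    apply Sylow.smul_eq_iff_mem_normalizer.mp
    rw [mul_smul, mul_smul, hys, inv_smul_smul]
  have hE5 : Nat.card E = 5 := by
    apply card_eq_five hord R E (by rw [hEdef]; exact inf_le_right) y hyE hyo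
    intro z hzE hzR
    by_contra hz1
    rw [hEdef] at hzE
    exact hS (sylow_eq_of_smul_eq hord R S hzR hz1 (Sylow.smul_eq_iff_mem_normalizer.mpr hzE.1))
  have hcE : s⁻¹ * y * s * y⁻¹ ∈ E := E.mul_mem huE (E.inv_mem hyE)
  have hcR : s⁻¹ * y * s * y⁻¹ ∈ (R : Subgroup G) := by
    have h1 : y * s * y⁻¹ ∈ (R : Subgroup G) := (Subgroup.mem_normalizer_iff.mp hyF s).mp hs
    have h2 : s⁻¹ * y * s * y⁻¹ = s⁻¹ * (y * s * y⁻¹) := by group
    rw [h2]
    exact Subgroup.mul_mem _ (Subgroup.inv_mem _ hs) h1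
  have hc1 := eq_one_of_mem_of_mem hord E hE5 R _ hcE hcR
  apply eq_one_of_commute hord R y hyo s hs
  calc y * s = s * (s⁻¹ * y * s * y⁻¹) * y := by group
    _ = s * y := by rw [hc1, mul_one]

end Cfsg.Agent.Lib.Helper3.M11Five
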