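import Mathlib
import Cfsg.Agent.Lib.Helper18.SylowRules
import Cfsg.Agent.Lib.Helper3.M11FiveA

/-!
# Simple groups of order 7920 have 396 Sylow 5-subgroups (helper3, FO-A for helper11's S4429)
-/

set_option autoImplicit false
set_option linter.unusedSectionVars false
set_option maxRecDepth 100000
open scoped Pointwise

namespace Cfsg.Agent.Lib.Helper3.M11Five

open Cfsg.Agent.Lib.Helper10.Ord7920 Cfsg.Agent.Lib.Helper11.M11
open Cfsg.H5.SmallOrd Cfsg.H5.SylowTuple

variable {G : Type*} [Group G] [Finite G]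

/-- some Sylow 5-subgroup has a normalizer of order at most 70 -/
theorem exists_normalizer_le [IsSimpleGroup G] (hord : Nat.card G = 7920) :
    ∃ Q : Sylow 5 G, Nat.card (Subgroup.normalizer ((Q : Subgroup G) : Set G)) ≤ 70 := by
  haveI : Fact (Nat.Prime 5) := ⟨by norm_num⟩
  haveI : Fact (Nat.Prime 11) := ⟨by norm_num⟩
  obtain ⟨R⟩ : Nonempty (Sylow 11 G) := inferInstance
  have hF : Nat.card (Subgroup.normalizer ((R : Subgroup G) : Set G)) = 55 :=
    card_normalizer_eleven hord R
  have hRc : Nat.card (R : Subgroup G) = 11 := card_sylow_eleven hord R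
  obtain ⟨y, hyF, hyo⟩ := exists_mem_orderOf_eq (Subgroup.normalizer ((R : Subgroup G) : Set G))
    (p := 5) (by norm_num) (by rw [hF]; norm_num)
  have hpg : IsPGroup 5 (Subgroup.zpowers y) :=
    IsPGroup.of_card (n := 1) (by rw [Nat.card_zpowers, hyo, pow_one])
  obtain ⟨Q, hQ⟩ := hpg.exists_le_sylow
  have hQcard : Nat.card (Q : Subgroup G) = 5 := by
    have := sylow_card 5 1 1584 (by norm_num) (by rw [hord]; norm_num) Q
    simpa using this
  have hQeq : Subgroup.zpowers y = (Q : Subgroup G) :=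
    Subgroup.eq_of_le_of_card_ge hQ (by rw [hQcard, Nat.card_zpowers, hyo])
  have hyQ : y ∈ (Q : Subgroup G) := hQ (Subgroup.mem_zpowers y)
  have hQF : (Q : Subgroup G) ≤ Subgroup.normalizer ((R : Subgroup G) : Set G) := by
    rw [← hQeq, Subgroup.zpowers_le]; exact hyF
  refine ⟨Q, ?_⟩
  obtain ⟨M, hMdef⟩ : ∃ M : Subgroup G, M = Subgroup.normalizer ((Q : Subgroup G) : Set G) :=
    ⟨_, rfl⟩
  rw [← hMdef]
  -- `M ⊓ N(R)` has order 5
  have hD : Nat.card (Subgroup.normalizer ((R : Subgroup G) : Set G) ⊓ M : Subgroup G) = 5 := by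
    apply card_eq_five hord R _ inf_le_left y ⟨hyF, by rw [hMdef]; exact Subgroup.le_normalizer hyQ⟩
      hyo
    intro z hzD hzR
    -- `z ∈ R` normalizes `Q`, hence commutes with `y`
    have hzM : z ∈ Subgroup.normalizer ((Q : Subgroup G) : Set G) := by rw [← hMdef]; exact hzD.2
    have h1 : z * y * z⁻¹ ∈ (Q : Subgroup G) := (Subgroup.mem_normalizer_iff.mp hzM y).mp hyQ
    have hcQ : z * y * z⁻¹ * y⁻¹ ∈ (Q : Subgroup G) :=
      Subgroup.mul_mem _ h1 (Subgroup.inv_mem _ hyQ)
    have hcR : z * y * z⁻¹ * y⁻¹ ∈ (R : Subgroup G) := by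
      have h2 : y * z⁻¹ * y⁻¹ ∈ (R : Subgroup G) :=
        (Subgroup.mem_normalizer_iff.mp hyF z⁻¹).mp (Subgroup.inv_mem _ hzR)
      have h3 : z * y * z⁻¹ * y⁻¹ = z * (y * z⁻¹ * y⁻¹) := by group
      rw [h3]
      exact Subgroup.mul_mem _ hzR h2
    have hc1 := eq_one_of_mem_of_mem hord (Q : Subgroup G) hQcard R _ hcQ hcR
    apply eq_one_of_commute hord R y hyo z hzR
    calc y * z = (z * y * z⁻¹ * y⁻¹)⁻¹ * z * y := by group
      _ = z * y := by rw [hc1, inv_one, one_mul]
  -- the orbit of `R` under `M`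
  have hstab : MulAction.stabilizer M R =
      (Subgroup.normalizer ((R : Subgroup G) : Set G)).subgroupOf M := by
    ext m
    rw [MulAction.mem_stabilizer_iff, Subgroup.mem_subgroupOf, Subgroup.smul_def,
      Sylow.smul_eq_iff_mem_normalizer]
    exact Iff.rfl
  have horb : 5 * (MulAction.orbit M R).ncard = Nat.card M := by
    rw [← MulAction.index_stabilizer, hstab, ← hD]
    have h1 : ((Subgroup.normalizer ((R : Subgroup G) : Set G)).subgroupOf M).index =
        (Subgroup.normalizer ((R : Subgroup G) : Set G) ⊓ M : Subgroup G).relIndex M := by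
      rw [Subgroup.inf_relIndex_right]; rfl
    rw [h1]
    exact card_mul_relIndex' inf_le_right
  -- every point of the orbit is fixed by `y`
  have hfix : ∀ S ∈ MulAction.orbit M R, y • S = S := by
    intro S hS
    obtain ⟨m, hmS⟩ := hS
    have hmS' : (m : G) • R = S := hmS
    rw [← hmS']
    have hm : (m : G) ∈ Subgroup.normalizer ((Q : Subgroup G) : Set G) := by
      rw [← hMdef]; exact m.2
    have hm' : (m : G)⁻¹ ∈ Subgroup.normalizer ((Q : Subgroup G) : Set G) :=
      Subgroup.inv_mem _ hm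
    have h1 : (m : G)⁻¹ * y * ((m : G)⁻¹)⁻¹ ∈ (Q : Subgroup G) :=
      (Subgroup.mem_normalizer_iff.mp hm' y).mp hyQ
    have h2 : ((m : G)⁻¹ * y * ((m : G)⁻¹)⁻¹) • R = R :=
      Sylow.smul_eq_iff_mem_normalizer.mpr (hQF h1)
    calc y • ((m : G) • R) = (m : G) • (((m : G)⁻¹ * y * ((m : G)⁻¹)⁻¹) • R) := by
          rw [← mul_smul, ← mul_smul]; congr 1; group
      _ = (m : G) • R := by rw [h2]
  -- the injection
  have hRO : R ∈ MulAction.orbit M R := MulAction.mem_orbit_self R
  have hcount : ((MulAction.orbit M R \ {R}) ×ˢ ((R : Subgroup G) : Set G)).ncard ≤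
      ({R}ᶜ : Set (Sylow 11 G)).ncard := by
    apply Set.ncard_le_ncard_of_injOn (fun p : Sylow 11 G × G => p.2 • p.1)
    · rintro ⟨S, r⟩ ⟨⟨hSO, hSR⟩, hr⟩
      intro h
      apply hSR
      have hr' : r ∈ (R : Subgroup G) := hr
      have h1 : r • S = R := h
      have h2 : r⁻¹ • R = R := Sylow.smul_eq_iff_mem_normalizer.mpr
        (Subgroup.le_normalizer (Subgroup.inv_mem _ hr'))
      show S = R
      calc S = r⁻¹ • (r • S) := by rw [inv_smul_smul]
        _ = R := by rw [h1, h2]
    · rintro ⟨S, r⟩ ⟨⟨hSO, hSR⟩, hr⟩ ⟨S', r'⟩ ⟨⟨hSO', hSR'⟩, hr'⟩ h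
      have hrR : r ∈ (R : Subgroup G) := hr
      have hrR' : r' ∈ (R : Subgroup G) := hr'
      have h1 : r • S = r' • S' := h
      have h2 : (r'⁻¹ * r) • S = S' := by
        rw [mul_smul, h1, inv_smul_smul]
      have h3 : r'⁻¹ * r = 1 := by
        apply key hord R y hyF hyo S hSR (hfix S hSO) (r'⁻¹ * r)
          (Subgroup.mul_mem _ (Subgroup.inv_mem _ hrR') hrR)
        rw [h2]; exact hfix S' hSO'
      have h4 : r = r' := by
        calc r = r' * (r'⁻¹ * r) := by group
          _ = r' := by rw [h3, mul_one]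
      have h5 : S = S' := by
        rw [h3, one_smul] at h2; exact h2
      rw [h4, h5]
  rw [Set.ncard_prod, Set.ncard_sdiff_singleton_of_mem hRO, Set.ncard_compl,
    Set.ncard_singleton, card_sylow_eleven_eq hord] at hcount
  have hRn : ((R : Subgroup G) : Set G).ncard = 11 := by
    have h := Nat.card_coe_set_eq ((R : Subgroup G) : Set G)
    rw [← h]; exact hRc
  rw [hRn] at hcount
  omega

/-- **FO-A**: a simple group of order 7920 has 396 Sylow 5-subgroups -/
theorem card_sylow_five {G : Type*} [Group G] [Finite G] [IsSimpleGroup G]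
    (hord : Nat.card G = 7920) : Nat.card (Sylow 5 G) = 396 := by
  have hG := not_comm hord
  haveI : Fact (Nat.Prime 5) := ⟨by norm_num⟩
  haveI : Fact (Nat.Prime 11) := ⟨by norm_num⟩
  -- the Sylow 11 datum
  have h11 : IsSD G 11 144 5 1 := by
    obtain ⟨t, ht, hp, hsd⟩ := Cfsg.Agent.Lib.Helper18.SylowRules.exists_mem_ftriples hG 7920 11
      hord (by norm_num) (by norm_num) (by norm_num) (by norm_num)
    have htr : Cfsg.Agent.Lib.Helper18.SylowRules.ftriples 7920 11 =
        [(45, 2, 8), (144, 5, 1)] := by decide +kernel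
    rw [htr] at ht
    simp only [List.mem_cons, List.not_mem_nil, or_false] at ht
    rcases ht with rfl | rfl
    · have hsd' : IsSD G 11 45 2 8 := hsd
      have := hsd'.card_sylow
      rw [card_sylow_eleven_eq hord] at this
      omega
    · exact hsd
  obtain ⟨t, ht, hp, hsd⟩ := Cfsg.Agent.Lib.Helper18.SylowRules.exists_mem_ftriples hG 7920 5
    hord (by norm_num) (by norm_num) (by norm_num) (by norm_num)
  have htr : Cfsg.Agent.Lib.Helper18.SylowRules.ftriples 7920 5 =
      [(36, 2, 22), (36, 4, 11), (66, 2, 12), (66, 4, 6), (396, 2, 2), (396, 4, 1)] := by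
    decide +kernel
  rw [htr] at ht
  simp only [List.mem_cons, List.not_mem_nil, or_false] at ht
  obtain ⟨Q, hQ⟩ := exists_normalizer_le (G := G) hord
  rcases ht with rfl | rfl | rfl | rfl | rfl | rfl
  · have hsd' : IsSD G 5 36 2 22 := hsd
    have := hsd'.adj h11 (by norm_num) (by norm_num)
    omega
  · have hsd' : IsSD G 5 36 4 11 := hsd
    have := hsd'.adj h11 (by norm_num) (by norm_num)
    omega
  · have hsd' : IsSD G 5 66 2 12 := hsd
    rw [hsd'.card_N Q] at hQ
    omega
  · have hsd' : IsSD G 5 66 4 6 := hsd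
    rw [hsd'.card_N Q] at hQ
    omega
  · have hsd' : IsSD G 5 396 2 2 := hsd
    exact hsd'.card_sylow
  · have hsd' : IsSD G 5 396 4 1 := hsd
    exact hsd'.card_sylow

end Cfsg.Agent.Lib.Helper3.M11Five
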