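import Mathlib
import Cfsg.Agent.Lib.Helper16.FieldEmbed

set_option autoImplicit false

namespace Cfsg.Agent.Lib.Helper3.Singer

open Module

/-- If a cyclic subgroup contains the full `p`-part of the order of `G`, the Sylow `p`-subgroups of
`G` are cyclic. -/
theorem sylow_isCyclic_of_cyclic {G : Type*} [Group G] [Finite G] (p : ℕ) [Fact p.Prime]
    (C : Subgroup G) [IsCyclic C]
    (h : (Nat.card C).factorization p = (Nat.card G).factorization p) (P : Sylow p G) :
    IsCyclic P := by
  obtain ⟨Q⟩ : Nonempty (Sylow p C) := inferInstance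
  have hQcard : Nat.card Q = p ^ (Nat.card C).factorization p := Sylow.card_eq_multiplicity Q
  let Q' : Subgroup G := (Q : Subgroup C).map C.subtype
  have hQ'card : Nat.card Q' = p ^ (Nat.card G).factorization p := by
    rw [← h, ← hQcard]
    exact Subgroup.card_map_of_injective C.subtype_injective
  let S : Sylow p G := Sylow.ofCard Q' hQ'card
  have hS : IsCyclic S := by
    have e : (Q : Subgroup C) ≃* Q' := Subgroup.equivMapOfInjective _ _ C.subtype_injective
    exact isCyclic_of_surjective e.toMonoidHom e.surjective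
  obtain ⟨g, hg⟩ := MulAction.exists_smul_eq G S P
  have e0 : S ≃* ↥(g • S : Sylow p G) := Sylow.equivSMul S g
  rw [hg] at e0
  exact isCyclic_of_surjective e0.toMonoidHom e0.surjective

/-- The general linear group over a finite field with `q` elements contains a cyclic subgroup of
order `q ^ n - 1`. -/
theorem exists_singer {F : Type*} [Field F] [Fintype F] (n : ℕ) (hn : n ≠ 0) :
    ∃ C : Subgroup (GL (Fin n) F), IsCyclic C ∧ Nat.card C = Fintype.card F ^ n - 1 := by
  classical
  obtain ⟨p, _, k, hp, hk⟩ := FiniteField.card' F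
  have : Fact p.Prime := ⟨hp⟩
  have hkn : (k : ℕ) * n ≠ 0 := Nat.mul_ne_zero k.ne_zero hn
  let K := GaloisField p ((k : ℕ) * n)
  letI : Fintype K := Fintype.ofFinite K
  have hK : Fintype.card K = Fintype.card F ^ n := by
    rw [← Nat.card_eq_fintype_card, GaloisField.card p _ hkn, hk, ← pow_mul]
  obtain ⟨ι⟩ := Cfsg.Agent.Lib.Helper16.exists_ringHom_of_card_pow (F := F) (K := K) hn rfl hK
  letI : Algebra F K := ι.toAlgebra
  have hrank : finrank F K = n := by
    have h1 : Fintype.card K = Fintype.card F ^ finrank F K := Module.card_eq_pow_finrank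
    rw [hK] at h1
    exact (Nat.pow_right_injective Fintype.one_lt_card h1).symm
  let b : Basis (Fin n) F K := Module.finBasisOfFinrankEq F K hrank
  let φ : K →ₐ[F] Matrix (Fin n) (Fin n) F := Algebra.leftMulMatrix b
  have hφ : Function.Injective φ := Algebra.leftMulMatrix_injective b
  let ψ : Kˣ →* GL (Fin n) F := Units.map φ.toMonoidHom
  have hψ : Function.Injective ψ := Units.map_injective hφ
  refine ⟨ψ.range, ?_, ?_⟩
  · exact isCyclic_of_surjective ψ.rangeRestrict ψ.rangeRestrict_surjective
  · rw [← Nat.card_congr (MonoidHom.ofInjective hψ).toEquiv, Nat.card_units,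
      Nat.card_eq_fintype_card, hK]

end Cfsg.Agent.Lib.Helper3.Singer
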