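import Mathlib
import Cfsg.Agent.Lib.Helper3.BG14N
import Cfsg.Agent.S1366
import Cfsg.Agent.S1367
import Cfsg.Agent.S1368
import Cfsg.Agent.S1369
import Cfsg.Agent.S1372
import Cfsg.Agent.S1378
import Cfsg.Agent.S1430
import Cfsg.Agent.S1431
import Cfsg.Agent.S1432

/-!
# Helper3, B&G section 14 (part P): steps 3-5 of Corollary 14.8

`M = K U M_σ` with `K ≠ 1`, `U ≠ 1`; `H` a maximal subgroup containing `U K`, not conjugate to `M`.
Then `k = |K| ∉ σ(H)`, `κ(H) = ∅`, `K` acts regularly on `H_σ`, and `H_σ` is nilpotent.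
(Unconditional: uses the landed rows S1366-S1369, S1372, S1378, S1430-S1432.)
-/

set_option autoImplicit false
set_option linter.unusedSectionVars false
set_option linter.style.haveILetI false
set_option linter.unusedVariables false

open Cfsg
open scoped commutatorElement
open Cfsg.Agent.Lib.Helper10.BG Cfsg.Agent.Lib.Helper10 Cfsg.Agent.Lib.Helper9.BGExc
open Cfsg.Agent.Lib.Helper19.BGCompl Cfsg.Agent.Lib.Helper1.BGSigmaDecomp
open Cfsg.Agent.Lib.Helper3.BGStubs
open Cfsg.Agent.Lib.Helper1.BGConjEq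

namespace Cfsg.Agent.Lib.Helper3.BG14

variable {G : Type*} [Group G] [Finite G]

/-- Step 3 of B&G 14.8: if `M = K U M_σ` with `K ≠ 1 ≠ U` and `H` is a maximal subgroup containing
`U K`, then `k = |K| ∉ σ(H)`. -/
theorem cor148_step3 (hG : IsMinSimpleOddOrder G)
    (M : Subgroup G) (hM : IsCoatom M) (K U : Subgroup G) (hKU : IsSigmaDecomposition M K U)
    (hK1 : K ≠ ⊥) (hU1 : U ≠ ⊥)
    (H : Subgroup G) (hH : IsCoatom H) (hUH : U ≤ H) (hKH : K ≤ H) :
    Nat.card K ∉ sigma H := by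
  intro hkH
  obtain ⟨Ms, ⟨hMs, hKeq, hKsH⟩, -⟩ := Cfsg.Agent.S1366.result hG M hM K U hKU hK1
  have hkp : (Nat.card K).Prime := (Cfsg.Agent.S1372.result hG M hM K U hKU hK1 hU1).1
  haveI : Fact (Nat.card K).Prime := ⟨hkp⟩
  have h68 := (Cfsg.Agent.S1368.result hG M hM K U hKU hK1 Ms hMs hKeq hKsH).1
  have h78 := (Cfsg.Agent.S1378.result hG).2
  have hKMs : K ≤ sigmaCore Ms := by
    rw [hKeq]; exact inf_le_left
  have hkMs : Nat.card K ∈ sigma Ms :=
    mem_sigma_of_dvd_card_sigmaCore hG hMs hkp (Subgroup.card_dvd_of_le hKMs)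
  obtain ⟨g, hg⟩ := h78 Ms H hMs hH ⟨Nat.card K, hkMs, hkH⟩
  have hg' : H = cj g Ms := hg
  -- `K ≤ H_σ`
  have hKp : IsPGroup (Nat.card K) K := IsPGroup.of_card (n := 1) (by rw [pow_one])
  have hKHσ : K ≤ sigmaCore H := pgroup_le_sigmaCore hG hH hkH hKp hKH
  -- S1431(4) for `(M*, K*)`
  have hKs1 : sigmaCore M ⊓ Subgroup.centralizer (K : Set G) ≠ ⊥ :=
    Kstar_ne_bot hG hM (fun M hM K hK hK1 => Cfsg.Agent.S1430.result hG M hM K hK hK1) hKU.hall
  have h31 := (Cfsg.Agent.S1431.result hG Ms hMs _ hKsH hKs1).2.2.2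
  have hKeq' : sigmaCore Ms ⊓ Subgroup.centralizer
      (((sigmaCore M ⊓ Subgroup.centralizer (K : Set G) : Subgroup G)) : Set G) = K := by
    rw [Subgroup.coe_inf]; exact hKeq.symm
  have hle : sigmaCore H ≤ sigmaCore Ms := by
    apply h31 (sigmaCore H)
    · intro p hp hpd
      have : p ∈ sigma H := mem_sigma_of_dvd_card_sigmaCore hG hH hp hpd
      rw [hg', sigma_cj hMs g] at this
      exact this
    · rw [hKeq', inf_eq_right.mpr hKHσ]
      exact hK1
  have hcard : Nat.card (sigmaCore H) = Nat.card (sigmaCore Ms) := by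
    rw [hg', sigmaCore_cj hMs g, card_cj]
  have heq : sigmaCore H = sigmaCore Ms :=
    Subgroup.eq_of_le_of_card_ge hle (le_of_eq hcard.symm)
  have hHMs : H = Ms := by
    have h1 := normalizer_eq_of_isCoatom' hG hH (sigmaCore_ne_bot hG hH) (sigmaCore_le H)
      (le_normalizer_sigmaCore H)
    have h2 := normalizer_eq_of_isCoatom' hG hMs (sigmaCore_ne_bot hG hMs) (sigmaCore_le Ms)
      (le_normalizer_sigmaCore Ms)
    rw [← h1, ← h2, heq]
  -- `U ≤ M ∩ M* = K K*`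
  have hUM : U ≤ M := hKU.compl.1
  have hU : U ≤ K ⊔ (sigmaCore M ⊓ Subgroup.centralizer (K : Set G)) := by
    rw [← h68, ← hHMs]
    exact le_inf hUM hUH
  have hU' : U ≤ K ⊔ sigmaCore M := hU.trans (sup_le_sup_left inf_le_left K)
  apply hU1
  rw [eq_bot_iff, ← hKU.compl.2.2.1]
  exact le_inf le_rfl hU'

/-- Steps 3-5 of B&G Corollary 14.8. -/
theorem cor148_steps35 (hG : IsMinSimpleOddOrder G)
    (M : Subgroup G) (hM : IsCoatom M) (K U : Subgroup G) (hKU : IsSigmaDecomposition M K U)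
    (hK1 : K ≠ ⊥) (hU1 : U ≠ ⊥)
    (H : Subgroup G) (hH : IsCoatom H) (hUH : U ≤ H) (hKH : K ≤ H)
    (hnc : ∀ g : G, M.map (MulAut.conj g).toMonoidHom ≠ H) :
    Nat.card K ∉ sigma H ∧ kappa H = ∅ ∧
      (∀ x ∈ K, x ≠ 1 → ∀ y ∈ sigmaCore H, x * y = y * x → y = 1) ∧
      Group.IsNilpotent ↥(sigmaCore H) := by
  have h3 := cor148_step3 hG M hM K U hKU hK1 hU1 H hH hUH hKH
  obtain ⟨Ms, ⟨hMs, hKeq, hKsH⟩, -⟩ := Cfsg.Agent.S1366.result hG M hM K U hKU hK1
  have hkp : (Nat.card K).Prime := (Cfsg.Agent.S1372.result hG M hM K U hKU hK1 hU1).1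
  haveI : Fact (Nat.card K).Prime := ⟨hkp⟩
  have h67 := (Cfsg.Agent.S1367.result hG M hM K U hKU hK1 Ms hMs hKeq hKsH).2 K le_rfl hkp
  have h69 := (Cfsg.Agent.S1369.result hG M hM K U hKU hK1 Ms hMs hKeq hKsH).2
  have hKMs : K ≤ sigmaCore Ms := by
    rw [hKeq]; exact inf_le_left
  have hkMs : Nat.card K ∈ sigma Ms :=
    mem_sigma_of_dvd_card_sigmaCore hG hMs hkp (Subgroup.card_dvd_of_le hKMs)
  -- `H` is not conjugate to `M*`
  have hncs : ∀ g : G, H ≠ cj g Ms := by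
    intro g hg
    apply h3
    rw [hg, sigma_cj hMs g]
    exact hkMs
  -- step 4
  have h4 : kappa H = ∅ := by
    by_contra hne
    obtain ⟨g, hg | hg⟩ := h69 H hH (Set.nonempty_iff_ne_empty.mpr hne)
    · exact hnc g hg.symm
    · exact hncs g hg
  -- step 5
  have horder : ∀ x ∈ K, x ≠ 1 → orderOf x = Nat.card K := by
    intro x hx hx1
    have h1 : orderOf (⟨x, hx⟩ : ↥K) ∣ Nat.card K := orderOf_dvd_natCard _
    have h2 : orderOf (⟨x, hx⟩ : ↥K) = orderOf x := Subgroup.orderOf_mk x hx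
    rw [h2] at h1
    rcases (Nat.dvd_prime hkp).mp h1 with h | h
    · exact absurd (orderOf_eq_one_iff.mp h) hx1
    · exact h
  have hcent : ∀ x ∈ K, x ≠ 1 →
      Subgroup.centralizer ({x} : Set G) ≤ Subgroup.centralizer (K : Set G) := by
    intro x hx hx1
    apply Cfsg.Agent.Lib.Helper29.BG1212.centralizer_singleton_le_of_eq_zpowers
    have htop : Subgroup.zpowers (⟨x, hx⟩ : ↥K) = ⊤ :=
      zpowers_eq_top_of_prime_card (p := Nat.card K) rfl
        (fun h => hx1 (congrArg Subtype.val h))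
    apply le_antisymm
    · intro z hz
      have : (⟨z, hz⟩ : ↥K) ∈ Subgroup.zpowers (⟨x, hx⟩ : ↥K) := by rw [htop]; trivial
      obtain ⟨n, hn⟩ := Subgroup.mem_zpowers_iff.mp this
      rw [Subgroup.mem_zpowers_iff]
      refine ⟨n, ?_⟩
      have := congrArg Subtype.val hn
      simpa using this
    · rw [Subgroup.zpowers_le]; exact hx
  have h5 : ∀ x ∈ K, x ≠ 1 → ∀ y ∈ sigmaCore H, x * y = y * x → y = 1 := by
    intro x hx hx1 y hy hxy
    by_contra hy1
    have hσ : ∀ p : ℕ, p.Prime → p ∣ orderOf x → p ∉ sigma H := by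
      intro p hp hpd
      rw [horder x hx hx1] at hpd
      rw [(Nat.prime_dvd_prime_iff_eq hp hkp).mp hpd]
      exact h3
    have hxmem : x ∈ H ⊓ Subgroup.centralizer ({y} : Set G) := by
      refine Subgroup.mem_inf.mpr ⟨hKH hx, ?_⟩
      rw [Subgroup.mem_centralizer_singleton_iff]
      exact hxy
    rcases Cfsg.Agent.S1432.result hG H hH y hy hy1 x hxmem hx1 hσ with ⟨hκ, -⟩ | ⟨-, -, -, huniq⟩
    · have : Nat.card K ∈ kappa H := hκ _ hkp (by rw [horder x hx hx1])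
      rw [h4] at this
      exact this
    · have hMsH : Ms = H := huniq Ms hMs ((hcent x hx hx1).trans h67.1)
      apply h3
      rw [← hMsH]
      exact hkMs
  refine ⟨h3, h4, h5, ?_⟩
  -- nilpotency of `H_σ` (Thompson)
  have hnorm : K ≤ Subgroup.normalizer ((sigmaCore H : Subgroup G) : Set G) :=
    hKH.trans (le_normalizer_sigmaCore H)
  have hle : sigmaCore H ⊔ K ≤ H := sup_le (sigmaCore_le H) hKH
  have hne : sigmaCore H ⊔ K ≠ ⊤ := ne_top_of_le_isCoatom hH hle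
  have hsolv : Group.IsSolvable ↥(sigmaCore H ⊔ K) := isSolvable_of_ne_top hG hne
  have hodd : Odd (Nat.card ↥(sigmaCore H ⊔ K)) := odd_card_subgroup hG _
  have hcop : (Nat.card (sigmaCore H)).Coprime (Nat.card K) := by
    apply Nat.Coprime.symm
    rw [Nat.Prime.coprime_iff_not_dvd hkp]
    intro hd
    exact h3 (mem_sigma_of_dvd_card_sigmaCore hG hH hkp hd)
  refine isNilpotent_of_regular hnorm hsolv hodd hcop hK1 ?_
  intro x hx hx1
  rw [eq_bot_iff]
  intro y hy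
  rw [Subgroup.mem_bot]
  have hc := (Subgroup.mem_inf.mp hy).2
  rw [Subgroup.mem_centralizer_singleton_iff] at hc
  exact h5 x hx hx1 y (Subgroup.mem_inf.mp hy).1 hc.symm

end Cfsg.Agent.Lib.Helper3.BG14
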