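import Mathlib
import Cfsg.Agent.Lib.Helper3.BG14P
import Cfsg.Agent.Lib.Helper10.BG148F
import Cfsg.Agent.S1417
import Cfsg.Agent.S1418
import Cfsg.Agent.S1419
import Cfsg.Agent.Lib.Helper1.BGFcons
import Cfsg.Agent.Lib.Helper16.SectRank
import Cfsg.Agent.Lib.Helper19.BG12C
import Cfsg.Agent.Lib.Helper19.BG12A
import Cfsg.Agent.Lib.Helper22.BG1430L
import Cfsg.Agent.Lib.Helper7.BG148A
import Cfsg.Agent.Lib.Helper10.BGUniq3

/-!
# Helper3, B&G section 15 (part A): `τ₂(H) = ∅` in the situation of S1376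

`N = K U N_σ` of type `P₂` (`K ≠ 1 ≠ U`), partner `N*`, `H` a maximal subgroup containing `U K`,
not conjugate to `N`, with `N ∩ H ≤ U K`, and `x ∈ U#` with `C_G(x) ≤ N`.  Then `τ₂(H) = ∅`.
-/

set_option autoImplicit false
set_option linter.unusedSectionVars false
set_option linter.style.haveILetI false
set_option linter.unusedVariables false

open Cfsg
open scoped commutatorElement
open Cfsg.Agent.Lib.Helper10.BG Cfsg.Agent.Lib.Helper10 Cfsg.Agent.Lib.Helper9.BGExc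
open Cfsg.Agent.Lib.Helper19.BGCompl Cfsg.Agent.Lib.Helper1.BGSigmaDecomp
open Cfsg.Agent.Lib.Helper3.BGStubs
open Cfsg.Agent.Lib.Helper1.BGConjEq

namespace Cfsg.Agent.Lib.Helper3.BG14

/-- Type-level form: `X = C Q` solvable of odd order, `C` normal, `Z ≤ C` central in `X`,
`(|C|,|Q|) = 1`, `Q ≠ 1` and `C_C(y) ≤ Z` for all `y ∈ Q#`.  Then `C` is nilpotent. -/
theorem isNilpotent_of_regular_mod_central_type {X : Type*} [Group X] [Finite X]
    [Group.IsSolvable X] (hodd : Odd (Nat.card X)) (C Q Z : Subgroup X) [C.Normal]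
    (hZ : Z ≤ Subgroup.center X) (hZC : Z ≤ C) (hCQ : C ⊔ Q = ⊤)
    (hcop : (Nat.card C).Coprime (Nat.card Q)) (hQ1 : Q ≠ ⊥)
    (hreg : ∀ y ∈ Q, y ≠ 1 → C ⊓ Subgroup.centralizer ({y} : Set X) ≤ Z) :
    Group.IsNilpotent C := by
  haveI hZn : Z.Normal := ⟨fun z hz g => by
    have h1 : g * z = z * g := (Subgroup.mem_center_iff.mp (hZ hz)) g
    have : g * z * g⁻¹ = z := by rw [h1]; group
    rw [this]; exact hz⟩
  have hπ : Function.Surjective (QuotientGroup.mk' Z) := QuotientGroup.mk'_surjective Z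
  haveI : (C.map (QuotientGroup.mk' Z)).Normal := Subgroup.Normal.map inferInstance _ hπ
  have hSR : C.map (QuotientGroup.mk' Z) ⊔ Q.map (QuotientGroup.mk' Z) = ⊤ := by
    rw [← Subgroup.map_sup, hCQ, ← MonoidHom.range_eq_map, MonoidHom.range_eq_top]
    exact hπ
  have hcS : Nat.card (C.map (QuotientGroup.mk' Z)) ∣ Nat.card C := Subgroup.card_map_dvd _ _
  have hcR : Nat.card (Q.map (QuotientGroup.mk' Z)) ∣ Nat.card Q := Subgroup.card_map_dvd _ _
  have hcop' : (Nat.card (C.map (QuotientGroup.mk' Z))).Coprime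
      (Nat.card (Q.map (QuotientGroup.mk' Z))) :=
    Nat.Coprime.of_dvd hcS hcR hcop
  have hCQbot : C ⊓ Q = ⊥ := (Subgroup.disjoint_of_coprime_natCard hcop).eq_bot
  have hker : ∀ y ∈ Q, (QuotientGroup.mk' Z) y = 1 → y = 1 := by
    intro y hy h
    have hyZ : y ∈ Z := by
      rwa [QuotientGroup.mk'_apply, QuotientGroup.eq_one_iff] at h
    have : y ∈ C ⊓ Q := Subgroup.mem_inf.mpr ⟨hZC hyZ, hy⟩
    rwa [hCQbot, Subgroup.mem_bot] at this
  have hR1 : Q.map (QuotientGroup.mk' Z) ≠ ⊥ := by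
    intro h
    apply hQ1
    rw [eq_bot_iff]
    intro y hy
    rw [Subgroup.mem_bot]
    apply hker y hy
    have : (QuotientGroup.mk' Z) y ∈ Q.map (QuotientGroup.mk' Z) := Subgroup.mem_map_of_mem _ hy
    rwa [h, Subgroup.mem_bot] at this
  have hreg' : ∀ x ∈ Q.map (QuotientGroup.mk' Z), x ≠ 1 →
      C.map (QuotientGroup.mk' Z) ⊓ Subgroup.centralizer ({x} : Set (X ⧸ Z)) = ⊥ := by
    rintro _ ⟨y, hy, rfl⟩ hx1
    have hy1 : y ≠ 1 := by
      rintro rfl
      exact hx1 (map_one _)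
    rw [eq_bot_iff]
    rintro _ hs0
    obtain ⟨⟨s, hs, rfl⟩, hsc⟩ := Subgroup.mem_inf.mp hs0
    rw [Subgroup.mem_bot]
    rw [Subgroup.mem_centralizer_singleton_iff] at hsc
    -- `⁅s, y⁆ ∈ Z`
    have hcZ : ⁅s, y⁆ ∈ Z := by
      have h1 : (QuotientGroup.mk' Z) (⁅s, y⁆) = 1 := by
        rw [commutatorElement_def, map_mul, map_mul, map_mul, hsc, map_inv, map_inv]
        group
      rwa [QuotientGroup.mk'_apply, QuotientGroup.eq_one_iff] at h1
    have hcc : ⁅s, y⁆ * y = y * ⁅s, y⁆ := ((Subgroup.mem_center_iff.mp (hZ hcZ)) y).symm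
    have hco : (orderOf y).Coprime (Nat.card Z) := by
      have h1 : orderOf y ∣ Nat.card Q := by
        have := orderOf_dvd_natCard (⟨y, hy⟩ : Q)
        rwa [Subgroup.orderOf_mk] at this
      exact Nat.Coprime.of_dvd h1 (Subgroup.card_dvd_of_le hZC) hcop.symm
    have hc1 : ⁅s, y⁆ = 1 :=
      commutator_eq_one_of_commute hco (pow_orderOf_eq_one y) hcZ hcc
    have hsy : s * y = y * s := by
      rw [commutatorElement_def] at hc1
      have : s * y = (s * y * s⁻¹ * y⁻¹) * (y * s) := by group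
      rw [this, hc1, one_mul]
    have hsZ : s ∈ Z := hreg y hy hy1 (Subgroup.mem_inf.mpr ⟨hs, by
      rw [Subgroup.mem_centralizer_singleton_iff]; exact hsy⟩)
    rw [QuotientGroup.mk'_apply, QuotientGroup.eq_one_iff]
    exact hsZ
  have hoddq : Odd (Nat.card (X ⧸ Z)) := by
    have : Nat.card (X ⧸ Z) ∣ Nat.card X := by
      rw [← Subgroup.index_eq_card]; exact Subgroup.index_dvd_card Z
    exact Odd.of_dvd_nat hodd this
  have hSnil := isNilpotent_of_regular_type hoddq (C.map (QuotientGroup.mk' Z))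
    (Q.map (QuotientGroup.mk' Z)) hSR hcop' hR1 hreg'
  haveI := hSnil
  refine Subgroup.isNilpotent_of_ker_le_center ((QuotientGroup.mk' Z).subgroupMap C) ?_
  intro c hc
  rw [MonoidHom.mem_ker] at hc
  have hcZ : (c : X) ∈ Z := by
    have h1 : (((QuotientGroup.mk' Z).subgroupMap C c : C.map (QuotientGroup.mk' Z)) : X ⧸ Z)
        = 1 := by rw [hc]; rfl
    rw [← QuotientGroup.eq_one_iff]
    exact h1
  rw [Subgroup.mem_center_iff]
  intro g
  apply Subtype.ext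
  exact (Subgroup.mem_center_iff.mp (hZ hcZ)) g

/-- Subgroup form: `Z ≤ C` central in `C`, `Q` normalizes `C` and centralizes `Z`, coprime orders,
`Q ≠ 1`, `C_C(y) ≤ Z` for every `y ∈ Q#`, `C Q` solvable of odd order.  Then `C` is nilpotent. -/
theorem isNilpotent_of_regular_mod_central {G : Type*} [Group G] [Finite G] {C Z Q : Subgroup G}
    (hZC : Z ≤ C) (hZc : ∀ z ∈ Z, ∀ c ∈ C, z * c = c * z)
    (hQC : Q ≤ Subgroup.normalizer (C : Set G)) (hQZ : ∀ y ∈ Q, ∀ z ∈ Z, y * z = z * y)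
    (hcop : (Nat.card C).Coprime (Nat.card Q)) (hQ1 : Q ≠ ⊥)
    (hreg : ∀ y ∈ Q, y ≠ 1 → C ⊓ Subgroup.centralizer ({y} : Set G) ≤ Z)
    (hsolv : Group.IsSolvable ↥(C ⊔ Q)) (hodd : Odd (Nat.card ↥(C ⊔ Q))) :
    Group.IsNilpotent C := by
  have hSH : C ≤ C ⊔ Q := le_sup_left
  have hRH : Q ≤ C ⊔ Q := le_sup_right
  have hZH : Z ≤ C ⊔ Q := hZC.trans hSH
  have hHn : C ⊔ Q ≤ Subgroup.normalizer (C : Set G) := sup_le Subgroup.le_normalizer hQC
  haveI : (C.subgroupOf (C ⊔ Q)).Normal := Subgroup.normal_subgroupOf_of_le_normalizer hHn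
  haveI := hsolv
  have hsup : C.subgroupOf (C ⊔ Q) ⊔ Q.subgroupOf (C ⊔ Q) = ⊤ := by
    rw [← Subgroup.subgroupOf_sup hSH hRH, Subgroup.subgroupOf_self]
  have hcS : Nat.card (C.subgroupOf (C ⊔ Q)) = Nat.card C :=
    Nat.card_congr (Subgroup.subgroupOfEquivOfLe hSH).toEquiv
  have hcR : Nat.card (Q.subgroupOf (C ⊔ Q)) = Nat.card Q :=
    Nat.card_congr (Subgroup.subgroupOfEquivOfLe hRH).toEquiv
  have hR1' : Q.subgroupOf (C ⊔ Q) ≠ ⊥ := by
    intro h
    apply hQ1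
    rw [← Subgroup.card_eq_one, ← hcR, h, Subgroup.card_bot]
  -- `Z` is central in `C ⊔ Q`
  have hZcen : ∀ z ∈ Z, ∀ g ∈ C ⊔ Q, g * z = z * g := by
    intro z hz g hg
    have hle : C ⊔ Q ≤ Subgroup.centralizer ({z} : Set G) := by
      apply sup_le
      · intro c hc
        rw [Subgroup.mem_centralizer_singleton_iff]
        exact (hZc z hz c hc).symm
      · intro y hy
        rw [Subgroup.mem_centralizer_singleton_iff]
        exact hQZ y hy z hz
    have := hle hg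
    rwa [Subgroup.mem_centralizer_singleton_iff] at this
  have hZ' : Z.subgroupOf (C ⊔ Q) ≤ Subgroup.center ↥(C ⊔ Q) := by
    intro z hz
    rw [Subgroup.mem_center_iff]
    intro g
    apply Subtype.ext
    exact hZcen (z : G) (Subgroup.mem_subgroupOf.mp hz) (g : G) g.2
  have hZC' : Z.subgroupOf (C ⊔ Q) ≤ C.subgroupOf (C ⊔ Q) := by
    intro z hz
    exact Subgroup.mem_subgroupOf.mpr (hZC (Subgroup.mem_subgroupOf.mp hz))
  have hreg' : ∀ y ∈ Q.subgroupOf (C ⊔ Q), y ≠ 1 →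
      C.subgroupOf (C ⊔ Q) ⊓ Subgroup.centralizer ({y} : Set ↥(C ⊔ Q)) ≤
        Z.subgroupOf (C ⊔ Q) := by
    intro y hy hy1 s hs
    have hs1 : (s : G) ∈ C := Subgroup.mem_subgroupOf.mp (Subgroup.mem_inf.mp hs).1
    have hs2 : s * y = y * s := by
      have := (Subgroup.mem_inf.mp hs).2
      rw [Subgroup.mem_centralizer_singleton_iff] at this
      exact this
    have hy1' : (y : G) ≠ 1 := fun h => hy1 (Subtype.ext h)
    have hmem : (s : G) ∈ C ⊓ Subgroup.centralizer ({(y : G)} : Set G) := by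
      refine Subgroup.mem_inf.mpr ⟨hs1, ?_⟩
      rw [Subgroup.mem_centralizer_singleton_iff]
      have := congrArg Subtype.val hs2
      simpa using this
    exact Subgroup.mem_subgroupOf.mpr (hreg (y : G) (Subgroup.mem_subgroupOf.mp hy) hy1' hmem)
  have h := isNilpotent_of_regular_mod_central_type hodd (C.subgroupOf (C ⊔ Q))
    (Q.subgroupOf (C ⊔ Q)) (Z.subgroupOf (C ⊔ Q)) hZ' hZC' hsup
    (by rw [hcS, hcR]; exact hcop) hR1' hreg'
  exact (Group.isNilpotent_congr (Subgroup.subgroupOfEquivOfLe hSH)).mp h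

section P2

variable {G : Type*} [Group G] [Finite G]

/-- The case `p = k` : no elementary abelian subgroup of order `k²` in `E = H ∩ N*` when
`k = |K| ∈ τ₂(H)`. -/
theorem p2_case_k (hG : IsMinSimpleOddOrder G) {N K U Ns H : Subgroup G}
    (hN : IsCoatom N) (hKU : IsSigmaDecomposition N K U) (hK1 : K ≠ ⊥) (hU1 : U ≠ ⊥)
    (hNs : IsCoatom Ns)
    (hKst : K = sigmaCore Ns ⊓ Subgroup.centralizer
      ((sigmaCore N ⊓ Subgroup.centralizer (K : Set G) : Subgroup G) : Set G))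
    (hKstH : IsPiHallOf (kappa Ns) (sigmaCore N ⊓ Subgroup.centralizer (K : Set G)) Ns)
    (hH : IsCoatom H) (hUH : U ≤ H) (hKH : K ≤ H)
    (hnc : ∀ g : G, N.map (MulAut.conj g).toMonoidHom ≠ H)
    (hNH : N ⊓ H ≤ U ⊔ K) {x : G} (hxU : x ∈ U) (hx1 : x ≠ 1)
    (hxN : Subgroup.centralizer ({x} : Set G) ≤ N)
    (hk2 : Nat.card K ∈ tau2 H) {P : Subgroup G} (hPE : P ≤ H ⊓ Ns)
    (hPe : IsElementaryAbelian (Nat.card K) P) (hPc : Nat.card P = Nat.card K ^ 2) : False := by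
  have hkp : (Nat.card K).Prime := (Cfsg.Agent.S1372.result hG N hN K U hKU hK1 hU1).1
  haveI : Fact (Nat.card K).Prime := ⟨hkp⟩
  obtain ⟨hkσ, hκ, hregel, hnil⟩ :=
    Cfsg.Agent.Lib.Helper7.BG148.steps_35 hG hN hKU hK1 hU1 hH hUH hKH hnc
  have hUσ : U ≤ sigmaCore H := cor148_b hG hN hKU hK1 hU1 hNs hKst hKstH hH hUH hKH hnc
  obtain ⟨hKF, hE⟩ := cor148_ef hG hN hKU hK1 hU1 hNs hKst hKstH hH hUH hKH hnc
  have hHNs : H ≠ Ns := by
    have h := Cfsg.Agent.Lib.Helper7.BG148.not_conj_Mstar hG hN hKU hK1 hU1 hNs hKst hKstH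
      hUH hKH 1
    intro h'
    apply h
    rw [h']
    ext y
    simp
  have hKNs : K ≤ sigmaCore Ns := by rw [hKst]; exact inf_le_left
  have hkNs : Nat.card K ∈ sigma Ns :=
    mem_sigma_of_dvd_card_sigmaCore hG hNs hkp (Subgroup.card_dvd_of_le hKNs)
  have hKE : K ≤ H ⊓ Ns := le_inf hKH (hKNs.trans (sigmaCore_le Ns))
  have hPp : IsPGroup (Nat.card K) P := IsPGroup.of_card hPc
  have h18 := Cfsg.Agent.S1418.result hG H hH (H ⊓ Ns) hE (Nat.card K) hk2 P ⟨hPE, hPe, hPc⟩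
  by_cases hab : ∀ S : Subgroup G, IsSylowIn (Nat.card K) S ⊤ → ∀ u ∈ S, ∀ v ∈ S, u * v = v * u
  · -- abelian Sylow `k`-subgroups
    have hPNs : P ≤ sigmaCore Ns :=
      pgroup_le_sigmaCore hG hNs hkNs hPp (hPE.trans inf_le_right)
    obtain ⟨T, hT, hPT⟩ := exists_isSylowIn_ge hPNs hPp
    have hTtop : IsSylowIn (Nat.card K) T ⊤ := (isSylowIn_of_sigmaCore hG hNs hkNs hT).2
    have hTab := hab T hTtop
    have hTC : T ≤ Subgroup.centralizer (P : Set G) := by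
      intro t ht
      rw [Subgroup.mem_centralizer_iff]
      intro p hp
      exact hTab p (hPT hp) t ht
    have hTH : T ≤ H := hTC.trans (h18.2.1.1.trans inf_le_left)
    have hKs1 : sigmaCore N ⊓ Subgroup.centralizer (K : Set G) ≠ ⊥ :=
      (Cfsg.Agent.S1354.result hG N hN K hKU.cyclic hKU.hall).1
    have hdvd : Nat.card K ∣ Nat.card ↥(sigmaCore Ns ⊓ Subgroup.centralizer
        ((sigmaCore N ⊓ Subgroup.centralizer (K : Set G) : Subgroup G) : Set G)) := by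
      rw [← hKst]
    have h31 := (Cfsg.Agent.S1431.result hG Ns hNs _ hKstH hKs1).2.2.1 (Nat.card K) hkp hdvd
      hT.toSylow
    have hmap : ((hT.toSylow : Sylow (Nat.card K) ↥(sigmaCore Ns)) :
        Subgroup ↥(sigmaCore Ns)).map (sigmaCore Ns).subtype = T :=
      Subgroup.map_subgroupOf_eq_of_le hT.le
    rw [hmap] at h31
    obtain ⟨⟨L, hL, hLuniq⟩, hTNs, -⟩ := h31
    have h1 : H = L := hLuniq H ⟨hH, hTH⟩
    have h2 : Ns = L := hLuniq Ns ⟨hNs, hT.le.trans (sigmaCore_le Ns)⟩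
    exact hHNs (h1.trans h2.symm)
  · -- nonabelian Sylow `k`-subgroups
    have hS := Cfsg.Agent.Lib.Helper22.BG1430L.sylow_nonabelian_of_not_forall hab
    have h19 := Cfsg.Agent.S1419.result hG H hH (H ⊓ Ns) hE (Nat.card K) hk2 hS P
      ⟨hPE, hPe, hPc⟩
    have hcard := h19.2.1.1
    obtain ⟨z, hz, hz1⟩ := exists_ne_one_of_prime_card (K := P ⊓ Subgroup.centralizer
      ((sigmaCore H : Subgroup G) : Set G)) (by rw [hcard]; exact hkp)
    obtain ⟨hzP, hzC⟩ := Subgroup.mem_inf.mp hz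
    have hxσ : x ∈ sigmaCore H := hUσ hxU
    have hzx : x * z = z * x := (Subgroup.mem_centralizer_iff.mp hzC) x hxσ
    have hzN : z ∈ N := hxN (by
      rw [Subgroup.mem_centralizer_singleton_iff]; exact hzx.symm)
    have hzE : z ∈ H ⊓ Ns := hPE hzP
    have hzUK : z ∈ U ⊔ K := hNH (Subgroup.mem_inf.mpr ⟨hzN, (Subgroup.mem_inf.mp hzE).1⟩)
    have hzUK' : z ∈ ((U ⊔ K : Subgroup G) : Set G) := hzUK
    rw [Subgroup.coe_mul_of_right_le_normalizer_left U K hKU.normal] at hzUK'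
    obtain ⟨u, hu, c, hc, huc⟩ := hzUK'
    have hu' : u = z * c⁻¹ := by rw [← huc]; group
    have huE : u ∈ H ⊓ Ns := by
      rw [hu']; exact Subgroup.mul_mem _ hzE (Subgroup.inv_mem _ (hKE hc))
    have hu1 : u = 1 := by
      have : u ∈ (H ⊓ Ns) ⊓ sigmaCore H := Subgroup.mem_inf.mpr ⟨huE, hUσ hu⟩
      rwa [hE.2.2.1, Subgroup.mem_bot] at this
    have hzc : z = c := by
      simp only at huc
      rw [← huc, hu1, one_mul]
    have hzK : z ∈ K := hzc ▸ hc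
    exact hx1 (hregel z hzK hz1 x hxσ hzx.symm)

/-- `Y = C_{N*_σ}(K)` is nilpotent: `K*` acts on it, centralizing `K ≤ Z(Y)`, with
`C_Y(y) = K` for every `y ∈ K*#`. -/
theorem p2_Y_nilpotent (hG : IsMinSimpleOddOrder G) {N K U Ns : Subgroup G}
    (hN : IsCoatom N) (hKU : IsSigmaDecomposition N K U) (hK1 : K ≠ ⊥)
    (hNs : IsCoatom Ns)
    (hKst : K = sigmaCore Ns ⊓ Subgroup.centralizer
      ((sigmaCore N ⊓ Subgroup.centralizer (K : Set G) : Subgroup G) : Set G))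
    (hKstH : IsPiHallOf (kappa Ns) (sigmaCore N ⊓ Subgroup.centralizer (K : Set G)) Ns) :
    Group.IsNilpotent ↥(sigmaCore Ns ⊓ Subgroup.centralizer (K : Set G)) := by
  have hKNs : K ≤ sigmaCore Ns := by rw [hKst]; exact inf_le_left
  have hKs1 : sigmaCore N ⊓ Subgroup.centralizer (K : Set G) ≠ ⊥ :=
    (Cfsg.Agent.S1354.result hG N hN K hKU.cyclic hKU.hall).1
  have hKab : ∀ a ∈ K, ∀ b ∈ K, a * b = b * a := by
    intro a ha b hb
    haveI := hKU.cyclic
    have := (IsCyclic.commGroup (α := K)).mul_comm ⟨a, ha⟩ ⟨b, hb⟩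
    exact congrArg Subtype.val this
  have hKsNs : sigmaCore N ⊓ Subgroup.centralizer (K : Set G) ≤ Ns := hKstH.1
  have hYNs : sigmaCore Ns ⊓ Subgroup.centralizer (K : Set G) ≤ Ns :=
    inf_le_left.trans (sigmaCore_le Ns)
  have hle : (sigmaCore Ns ⊓ Subgroup.centralizer (K : Set G)) ⊔
      (sigmaCore N ⊓ Subgroup.centralizer (K : Set G)) ≤ Ns := sup_le hYNs hKsNs
  apply isNilpotent_of_regular_mod_central (Z := K)
    (Q := sigmaCore N ⊓ Subgroup.centralizer (K : Set G))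
  · -- `K ≤ Y`
    refine le_inf hKNs ?_
    intro a ha
    rw [Subgroup.mem_centralizer_iff]
    intro b hb
    exact hKab b hb a ha
  · -- `K` central in `Y`
    intro z hz c hc
    exact (Subgroup.mem_centralizer_iff.mp (Subgroup.mem_inf.mp hc).2) z hz
  · -- `K*` normalizes `Y`
    apply Cfsg.Agent.Lib.Helper10.BG.le_normalizer_of_conj_mem
    intro g hg c hc
    obtain ⟨hgσ, hgC⟩ := Subgroup.mem_inf.mp hg
    obtain ⟨hcσ, hcC⟩ := Subgroup.mem_inf.mp hc
    refine Subgroup.mem_inf.mpr ⟨conj_mem_of_mem_normalizer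
      (le_normalizer_sigmaCore Ns (hKsNs hg)) hcσ, ?_⟩
    rw [Subgroup.mem_centralizer_iff] at hgC hcC ⊢
    intro h hh
    have h1 := hgC h hh
    have h2 := hcC h hh
    have h3 : h * g⁻¹ = g⁻¹ * h := by
      have : g⁻¹ * (h * g) * g⁻¹ = g⁻¹ * (g * h) * g⁻¹ := by rw [h1]
      have e1 : g⁻¹ * (h * g) * g⁻¹ = g⁻¹ * h := by group
      have e2 : g⁻¹ * (g * h) * g⁻¹ = h * g⁻¹ := by group
      rw [e1, e2] at this
      exact this.symm
    calc h * (g * c * g⁻¹) = (h * g) * c * g⁻¹ := by group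
      _ = g * (h * c) * g⁻¹ := by rw [h1]; group
      _ = g * c * (h * g⁻¹) := by rw [h2]; group
      _ = g * c * g⁻¹ * h := by rw [h3]; group
  · -- `K*` centralizes `K`
    intro y hy z hz
    exact ((Subgroup.mem_centralizer_iff.mp (Subgroup.mem_inf.mp hy).2) z hz).symm
  · -- coprime
    by_contra hnc
    obtain ⟨p, hp, hp1, hp2⟩ := Nat.Prime.not_coprime_iff_dvd.mp hnc
    have h1 : p ∈ sigma Ns := mem_sigma_of_dvd_card_sigmaCore hG hNs hp
      (hp1.trans (Subgroup.card_dvd_of_le inf_le_left))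
    have h2 : p ∈ kappa Ns := hKstH.2.1 p hp hp2
    exact h2.2.2.1 h1
  · exact hKs1
  · -- regularity
    intro y hy hy1
    have h30 := (Cfsg.Agent.S1430.result hG Ns hNs _ hKstH hKs1).1 y hy hy1
    intro s hs
    obtain ⟨hsY, hsC⟩ := Subgroup.mem_inf.mp hs
    have : s ∈ sigmaCore Ns ⊓ Subgroup.centralizer ({y} : Set G) :=
      Subgroup.mem_inf.mpr ⟨(Subgroup.mem_inf.mp hsY).1, hsC⟩
    rw [h30, ← hKst] at this
    exact this
  · exact isSolvable_of_ne_top hG (ne_top_of_le_isCoatom hNs hle)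
  · exact odd_card_subgroup hG _

/-- **`τ₂(H) = ∅`** in the situation of S1376: `N = K U N_σ` of type `P₂`, partner `N*`, `H` a
maximal subgroup containing `U K`, not conjugate to `N`, with `N ∩ H ≤ U K`, and `x ∈ U#` with
`C_G(x) ≤ N`. -/
theorem tau2_eq_empty_of_P2 (hG : IsMinSimpleOddOrder G) {N K U Ns H : Subgroup G}
    (hN : IsCoatom N) (hKU : IsSigmaDecomposition N K U) (hK1 : K ≠ ⊥) (hU1 : U ≠ ⊥)
    (hNs : IsCoatom Ns)
    (hKst : K = sigmaCore Ns ⊓ Subgroup.centralizer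
      ((sigmaCore N ⊓ Subgroup.centralizer (K : Set G) : Subgroup G) : Set G))
    (hKstH : IsPiHallOf (kappa Ns) (sigmaCore N ⊓ Subgroup.centralizer (K : Set G)) Ns)
    (hH : IsCoatom H) (hUH : U ≤ H) (hKH : K ≤ H)
    (hnc : ∀ g : G, N.map (MulAut.conj g).toMonoidHom ≠ H)
    (hNH : N ⊓ H ≤ U ⊔ K) {x : G} (hxU : x ∈ U) (hx1 : x ≠ 1)
    (hxN : Subgroup.centralizer ({x} : Set G) ≤ N) : tau2 H = ∅ := by
  by_contra hne
  obtain ⟨r, hr⟩ := Set.nonempty_iff_ne_empty.mpr hne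
  have hrp : r.Prime := hr.1
  haveI : Fact r.Prime := ⟨hrp⟩
  have hkp : (Nat.card K).Prime := (Cfsg.Agent.S1372.result hG N hN K U hKU hK1 hU1).1
  haveI : Fact (Nat.card K).Prime := ⟨hkp⟩
  obtain ⟨hkσ, hκ, hregel, hnil⟩ :=
    Cfsg.Agent.Lib.Helper7.BG148.steps_35 hG hN hKU hK1 hU1 hH hUH hKH hnc
  obtain ⟨hKF, hE⟩ := cor148_ef hG hN hKU hK1 hU1 hNs hKst hKstH hH hUH hKH hnc
  have hHNs : H ≠ Ns := by
    have h := Cfsg.Agent.Lib.Helper7.BG148.not_conj_Mstar hG hN hKU hK1 hU1 hNs hKst hKstH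
      hUH hKH 1
    intro h'
    apply h
    rw [h']
    ext y
    simp
  have hKNs : K ≤ sigmaCore Ns := by rw [hKst]; exact inf_le_left
  have hkNs : Nat.card K ∈ sigma Ns :=
    mem_sigma_of_dvd_card_sigmaCore hG hNs hkp (Subgroup.card_dvd_of_le hKNs)
  have hKE : K ≤ H ⊓ Ns := le_inf hKH (hKNs.trans (sigmaCore_le Ns))
  have hKp : IsPGroup (Nat.card K) K := IsPGroup.of_card (n := 1) (by rw [pow_one])
  obtain ⟨A, hAE, hAe, hAc⟩ := Cfsg.Agent.Lib.Helper19.BG12.tau2_elem_sq_compl hG hH hE hr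
  by_cases hrk : r = Nat.card K
  · subst hrk
    exact p2_case_k hG hN hKU hK1 hU1 hNs hKst hKstH hH hUH hKH hnc hNH hxU hx1 hxN hr hAE
      hAe hAc
  -- `r ≠ k`
  have h18 := Cfsg.Agent.S1418.result hG H hH (H ⊓ Ns) hE r hr A ⟨hAE, hAe, hAc⟩
  have hAp : IsPGroup r A := IsPGroup.of_card hAc
  have hANs : A ≤ Ns := hAE.trans inf_le_right
  have hAH : A ≤ H := hAE.trans inf_le_left
  have hAab : ∀ a ∈ A, ∀ b ∈ A, a * b = b * a := fun a ha b hb =>
    congrArg Subtype.val (hAe.1.is_comm.comm (⟨a, ha⟩ : ↥A) ⟨b, hb⟩)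
  have hAnil : Group.IsNilpotent A := by
    haveI := hAe.1
    exact isNilpotent_of_isMulCommutative_sub A hAe.1
  -- orders
  have hoA : ∀ a ∈ A, orderOf a ∣ r := fun a ha => orderOf_dvd_of_pow_eq_one (hAe.2 a ha)
  have hcop_rk : ∀ n : ℕ, (r).Coprime (Nat.card K ^ n) :=
    fun n => Nat.Coprime.pow_right n ((Nat.coprime_primes hrp hkp).mpr hrk)
  have hoQ : ∀ {Q : Subgroup G}, IsPGroup (Nat.card K) Q → ∀ d ∈ Q, ∀ a ∈ A,
      (orderOf d).Coprime (orderOf a) := by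
    intro Q hQ d hd a ha
    obtain ⟨n, hn⟩ := hQ ⟨d, hd⟩
    have h1 : orderOf d ∣ Nat.card K ^ n := by
      apply orderOf_dvd_of_pow_eq_one
      have := congrArg Subtype.val hn
      simpa using this
    exact Nat.Coprime.of_dvd h1 (hoA a ha) (hcop_rk n).symm
  -- T1: `[A, K] = 1`
  have hAF : A ≤ fittingOf (H ⊓ Ns) := le_fittingOf hAE h18.1.1 hAnil
  have hAK : ∀ a ∈ A, ∀ c ∈ K, a * c = c * a := by
    intro a ha c hc
    exact (Cfsg.Agent.Lib.Helper1.BGFcons.commute_of_coprime_of_nilpotent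
      (isNilpotent_fittingOf (H ⊓ Ns)) (hKF hc) (hAF ha) (hoQ hKp c hc a ha)).symm
  -- T2: `r ∈ σ(N*)`
  have hrσ : r ∈ sigma Ns := by
    by_contra hrσ
    have hτ : r ∈ tau2 Ns := by
      refine ⟨hrp, hrσ, alpha_rank Ns r hrp (fun h => hrσ (alpha_subset_sigma hG hNs h)), ?_⟩
      apply Cfsg.Agent.Lib.Helper10.BG.not_pRankLE_of_le hANs hAe
      rw [hAc, pow_one]
      calc r = r ^ 1 := (pow_one r).symm
        _ < r ^ 2 := Nat.pow_lt_pow_right hrp.one_lt (by norm_num)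
    have h17 := (Cfsg.Agent.S1417.result hG Ns hNs r hτ A ⟨hANs, hAe, hAc⟩).2.2.2.2.1
      H hH hHNs hAH
    apply hK1
    rw [eq_bot_iff, ← h17]
    exact le_inf hKNs hKH
  have hAσ : A ≤ sigmaCore Ns := pgroup_le_sigmaCore hG hNs hrσ hAp hANs
  have hAY : A ≤ sigmaCore Ns ⊓ Subgroup.centralizer (K : Set G) := by
    refine le_inf hAσ ?_
    intro a ha
    rw [Subgroup.mem_centralizer_iff]
    intro c hc
    exact (hAK a ha c hc).symm
  have hYnil := p2_Y_nilpotent hG hN hKU hK1 hNs hKst hKstH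
  -- the Sylow `k`-subgroup `Q` of `N*_σ`
  obtain ⟨Q, hQ, hKQ⟩ := exists_isSylowIn_ge hKNs hKp
  have hKab : ∀ a ∈ K, ∀ b ∈ K, a * b = b * a := by
    intro a ha b hb
    haveI := hKU.cyclic
    have := (IsCyclic.commGroup (α := K)).mul_comm ⟨a, ha⟩ ⟨b, hb⟩
    exact congrArg Subtype.val this
  have hKD : K ≤ Q ⊓ Subgroup.centralizer (K : Set G) := by
    refine le_inf hKQ ?_
    intro a ha
    rw [Subgroup.mem_centralizer_iff]
    intro b hb
    exact hKab b hb a ha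
  have hDp : IsPGroup (Nat.card K) ↥(Q ⊓ Subgroup.centralizer (K : Set G)) :=
    hQ.isPGroup.to_le inf_le_left
  have hDY : Q ⊓ Subgroup.centralizer (K : Set G) ≤
      sigmaCore Ns ⊓ Subgroup.centralizer (K : Set G) := inf_le_inf_right _ hQ.le
  have hDA : Q ⊓ Subgroup.centralizer (K : Set G) ≤ Subgroup.centralizer (A : Set G) := by
    intro d hd
    rw [Subgroup.mem_centralizer_iff]
    intro a ha
    exact (Cfsg.Agent.Lib.Helper1.BGFcons.commute_of_coprime_of_nilpotent hYnil (hDY hd)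
      (hAY ha) (hoQ hDp d hd a ha)).symm
  have hDH : Q ⊓ Subgroup.centralizer (K : Set G) ≤ H := hDA.trans (h18.2.1.1.trans inf_le_left)
  have hDE : Q ⊓ Subgroup.centralizer (K : Set G) ≤ H ⊓ Ns :=
    le_inf hDH (inf_le_left.trans (hQ.le.trans (sigmaCore_le Ns)))
  -- `Q` lies in the unique maximal subgroup `N*`
  have hKs1 : sigmaCore N ⊓ Subgroup.centralizer (K : Set G) ≠ ⊥ :=
    (Cfsg.Agent.S1354.result hG N hN K hKU.cyclic hKU.hall).1
  have hdvd : Nat.card K ∣ Nat.card ↥(sigmaCore Ns ⊓ Subgroup.centralizer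
      ((sigmaCore N ⊓ Subgroup.centralizer (K : Set G) : Subgroup G) : Set G)) := by
    rw [← hKst]
  have h31 := (Cfsg.Agent.S1431.result hG Ns hNs _ hKstH hKs1).2.2.1 (Nat.card K) hkp hdvd
    hQ.toSylow
  have hmap : ((hQ.toSylow : Sylow (Nat.card K) ↥(sigmaCore Ns)) :
      Subgroup ↥(sigmaCore Ns)).map (sigmaCore Ns).subtype = Q :=
    Subgroup.map_subgroupOf_eq_of_le hQ.le
  rw [hmap] at h31
  obtain ⟨⟨L, hL, hLuniq⟩, hQNs, -⟩ := h31
  have hQH : ¬ Q ≤ H := by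
    intro hQH
    have h1 : H = L := hLuniq H ⟨hH, hQH⟩
    have h2 : Ns = L := hLuniq Ns ⟨hNs, hQ.le.trans (sigmaCore_le Ns)⟩
    exact hHNs (h1.trans h2.symm)
  have hDQ : Q ⊓ Subgroup.centralizer (K : Set G) ≠ Q := by
    intro h
    apply hQH
    rw [← h]
    exact hDH
  obtain ⟨g, hgQ, hgN, hgD⟩ := Cfsg.Agent.Lib.Helper7.BG148.exists_mem_normalizer_not_mem
    hQ.isPGroup.isNilpotent inf_le_left hDQ
  -- `K' = K^g`
  have hK'D : cj g K ≤ Q ⊓ Subgroup.centralizer (K : Set G) := by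
    rintro _ ⟨c, hc, rfl⟩
    exact conj_mem_of_mem_normalizer hgN (hKD hc)
  have hK'c : Nat.card (cj g K) = Nat.card K := card_cj g K
  have hK'ne : cj g K ≠ K := by
    intro h
    apply hgD
    refine Subgroup.mem_inf.mpr ⟨hgQ, ?_⟩
    apply Cfsg.Agent.Lib.Helper19.BG12.pelement_centralizes_of_card_prime (p := Nat.card K) rfl
      (hQ.isPGroup.to_le (Subgroup.zpowers_le.mpr hgQ))
    rw [Subgroup.mem_normalizer_iff]
    intro n
    constructor
    · intro hn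
      rw [← h]
      exact ⟨n, hn, rfl⟩
    · intro hn
      rw [← h] at hn
      obtain ⟨m, hm, hmn⟩ := hn
      have : m = n := by
        have h1 : g * m * g⁻¹ = g * n * g⁻¹ := hmn
        have h2 : g⁻¹ * (g * m * g⁻¹) * g = g⁻¹ * (g * n * g⁻¹) * g := by rw [h1]
        have e1 : g⁻¹ * (g * m * g⁻¹) * g = m := by group
        have e2 : g⁻¹ * (g * n * g⁻¹) * g = n := by group
        rw [e1, e2] at h2
        exact h2
      exact this ▸ hm
  have hKK' : ∀ a ∈ K, ∀ b ∈ cj g K, a * b = b * a := by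
    intro a ha b hb
    exact (Subgroup.mem_centralizer_iff.mp (Subgroup.mem_inf.mp (hK'D hb)).2) a ha
  have hKe : IsElementaryAbelian (Nat.card K) K := by
    refine ⟨⟨⟨fun a b => Subtype.ext (hKab a a.2 b b.2)⟩⟩, fun a ha => ?_⟩
    have : (⟨a, ha⟩ : K) ^ Nat.card K = 1 := pow_card_eq_one'
    exact congrArg Subtype.val this
  have hK'e : IsElementaryAbelian (Nat.card K) (cj g K) :=
    isElementaryAbelian_map (MulAut.conj g).toMonoidHom hKe
  have hA'e : IsElementaryAbelian (Nat.card K) (K ⊔ cj g K) :=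
    isElementaryAbelian_sup hKe hK'e hKK'
  have hdisj : K ⊓ cj g K = ⊥ := by
    by_contra hne
    obtain ⟨z, hz, hz1⟩ := exists_ne_one_of_ne_bot hne
    obtain ⟨hzK, hzK'⟩ := Subgroup.mem_inf.mp hz
    apply hK'ne
    rw [eq_zpowers_of_card_prime (p := Nat.card K) hK'c hzK' hz1]
    exact (eq_zpowers_of_card_prime (p := Nat.card K) rfl hzK hz1).symm
  have hA'c : Nat.card ↥(K ⊔ cj g K) = Nat.card K ^ 2 := by
    rw [Cfsg.Agent.Lib.Helper16.SectRank.card_sup_eq hKK' hdisj, hK'c, sq]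
  have hA'E : K ⊔ cj g K ≤ H ⊓ Ns := sup_le hKE (hK'D.trans hDE)
  have hk2 : Nat.card K ∈ tau2 H := by
    refine ⟨hkp, hkσ, alpha_rank H _ hkp (fun h => hkσ (alpha_subset_sigma hG hH h)), ?_⟩
    apply Cfsg.Agent.Lib.Helper10.BG.not_pRankLE_of_le (hA'E.trans inf_le_left) hA'e
    rw [hA'c, pow_one]
    calc Nat.card K = Nat.card K ^ 1 := (pow_one _).symm
      _ < Nat.card K ^ 2 := Nat.pow_lt_pow_right hkp.one_lt (by norm_num)
  exact p2_case_k hG hN hKU hK1 hU1 hNs hKst hKstH hH hUH hKH hnc hNH hxU hx1 hxN hk2 hA'E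
    hA'e hA'c

end P2

end Cfsg.Agent.Lib.Helper3.BG14
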