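import Mathlib

/-!
FO-FIN of helper11's S4707 farm-out (elementary group theory): the final step `p = 5`.
-/

set_option autoImplicit false

namespace Cfsg.Agent.Lib.Helper3.S4707FOFIN

open Subgroup

section Basic

variable {G : Type*} [Group G]

/-- With no element of order `4`, an element of `2`-power order is an involution or trivial. -/
theorem sq_eq_one_of_orderOf_two_pow (hno4 : ∀ g : G, orderOf g ≠ 4) (x : G) (j : ℕ)
    (hx : orderOf x = 2 ^ j) : x ^ 2 = 1 := by
  by_cases hj : j ≤ 1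
  · have h2 : orderOf x ∣ 2 := by
      rw [hx]
      calc 2 ^ j ∣ 2 ^ 1 := pow_dvd_pow 2 hj
        _ = 2 := by norm_num
    exact orderOf_dvd_iff_pow_eq_one.1 h2
  · exfalso
    push Not at hj
    have h4 : 4 ∣ orderOf x := by
      rw [hx]
      calc 4 = 2 ^ 2 := by norm_num
        _ ∣ 2 ^ j := pow_dvd_pow 2 hj
    have hpos : orderOf x ≠ 0 := by rw [hx]; positivity
    exact hno4 _ (orderOf_pow_orderOf_div hpos h4)

/-- A number not dividing `2` is divisible by `4` or by an odd prime. -/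
theorem four_dvd_or_odd_prime_dvd (n : ℕ) (hn : ¬ n ∣ 2) :
    4 ∣ n ∨ ∃ r : ℕ, r.Prime ∧ r ≠ 2 ∧ r ∣ n := by
  by_cases h0 : n = 0
  · left; rw [h0]; exact dvd_zero 4
  obtain ⟨j, m, hm, rfl⟩ := Nat.exists_eq_two_pow_mul_odd h0
  by_cases hm1 : m = 1
  · left
    subst hm1
    rw [mul_one] at hn ⊢
    have hj : 2 ≤ j := by
      by_contra hj
      push Not at hj
      apply hn
      calc 2 ^ j ∣ 2 ^ 1 := pow_dvd_pow 2 (by omega)
        _ = 2 := by norm_num
    calc 4 = 2 ^ 2 := by norm_num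
      _ ∣ 2 ^ j := pow_dvd_pow 2 hj
  · right
    obtain ⟨r, hr, hrm⟩ := Nat.exists_prime_and_dvd hm1
    refine ⟨r, hr, ?_, dvd_mul_of_dvd_right hrm _⟩
    rintro rfl
    exact (Nat.not_even_iff_odd.2 hm) (even_iff_two_dvd.2 hrm)

/-- In a group where `x`, `y`, `x * y` are all of exponent `2`, `x` and `y` commute. -/
theorem commute_of_sq_eq_one (x y : G) (hx : x ^ 2 = 1) (hy : y ^ 2 = 1) (hxy : (x * y) ^ 2 = 1) :
    x * y = y * x := by
  have h1 : x⁻¹ = x := by
    rw [inv_eq_iff_mul_eq_one, ← sq]; exact hx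
  have h2 : y⁻¹ = y := by
    rw [inv_eq_iff_mul_eq_one, ← sq]; exact hy
  have h3 : (x * y)⁻¹ = x * y := by
    rw [inv_eq_iff_mul_eq_one, ← sq]; exact hxy
  rw [mul_inv_rev, h1, h2] at h3
  exact h3.symm

end Basic

section SylowTwo

variable {G : Type*} [Group G] [Finite G]

/-- An involution of `H` lies in a subgroup of `H` of any given `2`-power order dividing `|H|`. -/
theorem exists_two_subgroup (H : Subgroup G) (v : G) (hv : v ∈ H) (hv2 : orderOf v = 2) (m : ℕ)
    (hm : 1 ≤ m) (hdvd : 2 ^ m ∣ Nat.card H) :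
    ∃ S : Subgroup G, S ≤ H ∧ v ∈ S ∧ Nat.card S = 2 ^ m := by
  haveI : Fact (Nat.Prime 2) := ⟨Nat.prime_two⟩
  have hc : Nat.card (zpowers (⟨v, hv⟩ : H)) = 2 ^ 1 := by
    rw [Nat.card_zpowers, Subgroup.orderOf_mk, hv2, pow_one]
  obtain ⟨K, hK, hle⟩ := Sylow.exists_subgroup_card_pow_prime_le 2 hdvd _ hc hm
  refine ⟨K.map H.subtype, map_subtype_le K, ?_, ?_⟩
  · exact ⟨⟨v, hv⟩, hle (mem_zpowers _), rfl⟩
  · rw [card_map_of_injective H.subtype_injective, hK]

/-- A `2`-subgroup without elements of order `4` has exponent `2` and is abelian. -/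
theorem two_subgroup_props (hno4 : ∀ g : G, orderOf g ≠ 4) (S : Subgroup G) (m : ℕ)
    (hS : Nat.card S = 2 ^ m) :
    (∀ x ∈ S, x ^ 2 = 1) ∧ ∀ x ∈ S, ∀ y ∈ S, x * y = y * x := by
  have h1 : ∀ x ∈ S, x ^ 2 = 1 := by
    intro x hx
    have hd : orderOf x ∣ 2 ^ m := by
      have := orderOf_dvd_natCard (⟨x, hx⟩ : S)
      rwa [Subgroup.orderOf_mk, hS] at this
    obtain ⟨j, _, hj⟩ := (Nat.dvd_prime_pow Nat.prime_two).1 hd
    exact sq_eq_one_of_orderOf_two_pow hno4 x j hj
  refine ⟨h1, ?_⟩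
  intro x hx y hy
  exact commute_of_sq_eq_one x y (h1 x hx) (h1 y hy) (h1 _ (S.mul_mem hx hy))

end SylowTwo

section Count

variable {G : Type*} [Group G] [Fintype G]

open Classical in
/-- Number of elements of order `d` in a cyclic subgroup. -/
theorem card_orderOf_zpowers (y : G) (d : ℕ) :
    (Finset.univ.filter (fun g : G => g ∈ zpowers y ∧ orderOf g = d)).card =
      if d ∣ orderOf y then Nat.totient d else 0 := by
  split_ifs with hd
  · have h1 : d ∣ Fintype.card (zpowers y) := by rwa [Fintype.card_zpowers]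
    rw [← IsCyclic.card_orderOf_eq_totient (α := zpowers y) h1]
    symm
    apply Finset.card_bij (fun (a : zpowers y) _ => (a : G))
    · intro a ha
      simp only [Finset.mem_filter, Finset.mem_univ, true_and] at ha ⊢
      exact ⟨a.2, by rw [Subgroup.orderOf_coe]; exact ha⟩
    · intro a _ b _ hab
      exact Subtype.ext hab
    · intro g hg
      simp only [Finset.mem_filter, Finset.mem_univ, true_and] at hg
      refine ⟨⟨g, hg.1⟩, ?_, rfl⟩
      simp only [Finset.mem_filter, Finset.mem_univ, true_and]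
      rw [← Subgroup.orderOf_coe]; exact hg.2
  · rw [Finset.card_eq_zero, Finset.filter_eq_empty_iff]
    rintro g _ ⟨hg, hgo⟩
    exact hd (hgo ▸ orderOf_dvd_of_mem_zpowers hg)

open Classical in
/-- The sum of `c` over a subgroup in terms of the numbers of involutions and elements of order
`p`. -/
theorem sum_formula (p : ℕ) (hp : p.Prime) (hp5 : 5 ≤ p) (c : G → ℤ)
    (hc1 : c 1 = (p : ℤ) - 1)
    (hcp : ∀ g : G, orderOf g = p → c g = -1)
    (hc2 : ∀ g : G, orderOf g = 2 → c g = 0)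
    (hcr : ∀ g : G, orderOf g ≠ p → g ^ 2 ≠ 1 → c g = 1) (A : Subgroup G) :
    ∑ g ∈ Finset.univ.filter (fun g : G => g ∈ A), c g =
      (Nat.card A : ℤ) + ((p : ℤ) - 2)
        - ((Finset.univ.filter (fun g : G => g ∈ A ∧ orderOf g = 2)).card : ℤ)
        - 2 * ((Finset.univ.filter (fun g : G => g ∈ A ∧ orderOf g = p)).card : ℤ) := by
  have hpt : ∀ g : G, c g = 1 + (if g = 1 then ((p : ℤ) - 2) else 0)
      - (if orderOf g = 2 then 1 else 0) - 2 * (if orderOf g = p then 1 else 0) := by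
    intro g
    by_cases h1 : g = 1
    · subst h1
      have hne2 : ¬ ((1 : ℕ) = 2) := by omega
      have hnep : ¬ ((1 : ℕ) = p) := by omega
      rw [hc1, orderOf_one, if_pos rfl, if_neg hne2, if_neg hnep]; ring
    by_cases h2 : orderOf g = 2
    · have hnep : ¬ (orderOf g = p) := by omega
      rw [hc2 g h2, if_neg h1, if_pos h2, if_neg hnep]; ring
    by_cases h3 : orderOf g = p
    · rw [hcp g h3, if_neg h1, if_neg h2, if_pos h3]; ring
    · have hsq : g ^ 2 ≠ 1 := by
        intro hsq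
        have hdvd : orderOf g ∣ 2 := orderOf_dvd_of_pow_eq_one hsq
        rcases (Nat.dvd_prime Nat.prime_two).1 hdvd with h | h
        · exact h1 (orderOf_eq_one_iff.1 h)
        · exact h2 h
      rw [hcr g h3 hsq, if_neg h1, if_neg h2, if_neg h3]; ring
  have h1A : (1 : G) ∈ Finset.univ.filter (fun g : G => g ∈ A) := by
    simp only [Finset.mem_filter, Finset.mem_univ, true_and]; exact one_mem A
  have hcardA : ((Finset.univ.filter (fun g : G => g ∈ A)).card : ℤ) = (Nat.card A : ℤ) := by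
    rw [Nat.card_eq_fintype_card, Fintype.card_subtype]
  rw [Finset.sum_congr rfl (fun g _ => hpt g), Finset.sum_sub_distrib, Finset.sum_sub_distrib,
    Finset.sum_add_distrib, Finset.sum_const, ← Finset.mul_sum, Finset.sum_ite_eq', if_pos h1A,
    Finset.sum_boole, Finset.sum_boole, Finset.filter_filter, Finset.filter_filter, nsmul_one,
    hcardA]

open Classical in
/-- No element of odd prime order commutes with an involution. -/
theorem no_commuting_odd_prime (p : ℕ) (hp : p.Prime) (hp5 : 5 ≤ p) (c : G → ℤ)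
    (hc1 : c 1 = (p : ℤ) - 1)
    (hcp : ∀ g : G, orderOf g = p → c g = -1)
    (hc2 : ∀ g : G, orderOf g = 2 → c g = 0)
    (hcr : ∀ g : G, orderOf g ≠ p → g ^ 2 ≠ 1 → c g = 1)
    (hdiv : ∀ A : Subgroup G,
      (Nat.card A : ℤ) ∣ ∑ g ∈ Finset.univ.filter (fun g : G => g ∈ A), c g)
    (u g : G) (hu : orderOf u = 2) (hcomm : Commute u g) (r : ℕ) (hr : r.Prime) (hr2 : r ≠ 2)
    (hg : orderOf g = r) : False := by
  have hcop : Nat.Coprime 2 r := (Nat.coprime_primes Nat.prime_two hr).2 (Ne.symm hr2)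
  have hug : orderOf (u * g) = 2 * r := by
    rw [hcomm.orderOf_mul_eq_mul_orderOf_of_coprime (by rw [hu, hg]; exact hcop), hu, hg]
  have h2 := hdiv (zpowers (u * g))
  rw [sum_formula p hp hp5 c hc1 hcp hc2 hcr, card_orderOf_zpowers, card_orderOf_zpowers, hug,
    Nat.card_zpowers, hug, if_pos (dvd_mul_right 2 r), Nat.totient_two] at h2
  by_cases hrp : r = p
  · subst hrp
    rw [if_pos (dvd_mul_left r 2), Nat.totient_prime hp] at h2
    have hp1 : 1 ≤ r := by omega
    have hexp : ((2 * r : ℕ) : ℤ) + ((r : ℤ) - 2) - ((1 : ℕ) : ℤ) - 2 * ((r - 1 : ℕ) : ℤ)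
        = (r : ℤ) - 1 := by
      push_cast [Nat.cast_sub hp1]; ring
    rw [hexp] at h2
    have h3 := Int.le_of_dvd (by omega) h2
    push_cast at h3
    omega
  · have hnd : ¬ p ∣ 2 * r := by
      intro h
      rcases (Nat.Prime.dvd_mul hp).1 h with h | h
      · have := (Nat.prime_dvd_prime_iff_eq hp Nat.prime_two).1 h
        omega
      · exact hrp ((Nat.prime_dvd_prime_iff_eq hp hr).1 h).symm
    rw [if_neg hnd] at h2
    have h1 := hdiv (zpowers g)
    have hnd2 : ¬ 2 ∣ r := by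
      intro h
      exact hr2 ((Nat.prime_dvd_prime_iff_eq Nat.prime_two hr).1 h).symm
    have hndp : ¬ p ∣ r := by
      intro h
      exact hrp ((Nat.prime_dvd_prime_iff_eq hp hr).1 h).symm
    rw [sum_formula p hp hp5 c hc1 hcp hc2 hcr, card_orderOf_zpowers, card_orderOf_zpowers, hg,
      Nat.card_zpowers, hg, if_neg hnd2, if_neg hndp] at h1
    -- `r ∣ p - 2` and `2r ∣ p - 3`
    have h1' : (r : ℤ) ∣ (p : ℤ) - 2 := by
      have : (r : ℤ) + ((p : ℤ) - 2) - ((0 : ℕ) : ℤ) - 2 * ((0 : ℕ) : ℤ)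
          = (r : ℤ) + ((p : ℤ) - 2) := by push_cast; ring
      rw [this] at h1
      exact (dvd_add_right (dvd_refl _)).1 h1
    have h2' : (r : ℤ) ∣ (p : ℤ) - 3 := by
      have : ((2 * r : ℕ) : ℤ) + ((p : ℤ) - 2) - ((1 : ℕ) : ℤ) - 2 * ((0 : ℕ) : ℤ)
          = ((2 * r : ℕ) : ℤ) + ((p : ℤ) - 3) := by push_cast; ring
      rw [this] at h2
      have h3 := (dvd_add_right (dvd_refl _)).1 h2
      refine dvd_trans ?_ h3
      push_cast
      exact dvd_mul_left _ _
    have h3 : (r : ℤ) ∣ 1 := by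
      have := dvd_sub h1' h2'
      have h4 : (p : ℤ) - 2 - ((p : ℤ) - 3) = 1 := by ring
      rwa [h4] at this
    have h4 : r ∣ 1 := by exact_mod_cast h3
    exact hr.one_lt.ne' (Nat.dvd_one.1 h4)

open Classical in
/-- Everything commuting with an involution has square `1`. -/
theorem sq_eq_one_of_commute (p : ℕ) (hp : p.Prime) (hp5 : 5 ≤ p) (c : G → ℤ)
    (hc1 : c 1 = (p : ℤ) - 1)
    (hcp : ∀ g : G, orderOf g = p → c g = -1)
    (hc2 : ∀ g : G, orderOf g = 2 → c g = 0)
    (hcr : ∀ g : G, orderOf g ≠ p → g ^ 2 ≠ 1 → c g = 1)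
    (hno4 : ∀ g : G, orderOf g ≠ 4)
    (hdiv : ∀ A : Subgroup G,
      (Nat.card A : ℤ) ∣ ∑ g ∈ Finset.univ.filter (fun g : G => g ∈ A), c g)
    (u g : G) (hu : orderOf u = 2) (hcomm : Commute u g) : g ^ 2 = 1 := by
  by_contra hsq
  have hn : ¬ orderOf g ∣ 2 := fun h => hsq (orderOf_dvd_iff_pow_eq_one.1 h)
  have hpos : orderOf g ≠ 0 := (orderOf_pos g).ne'
  rcases four_dvd_or_odd_prime_dvd _ hn with h4 | ⟨r, hr, hr2, hrd⟩
  · exact hno4 _ (orderOf_pow_orderOf_div hpos h4)
  · exact no_commuting_odd_prime p hp hp5 c hc1 hcp hc2 hcr hdiv u (g ^ (orderOf g / r)) hu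
      (hcomm.pow_right _) r hr hr2 (orderOf_pow_orderOf_div hpos hrd)

open Classical in
/-- The centraliser of an involution is elementary abelian of order `p - 1 = 2 ^ k`. -/
theorem card_centralizer_involution (p : ℕ) (hp : p.Prime) (hp5 : 5 ≤ p) (c : G → ℤ)
    (hc1 : c 1 = (p : ℤ) - 1)
    (hcp : ∀ g : G, orderOf g = p → c g = -1)
    (hc2 : ∀ g : G, orderOf g = 2 → c g = 0)
    (hcr : ∀ g : G, orderOf g ≠ p → g ^ 2 ≠ 1 → c g = 1)
    (hno4 : ∀ g : G, orderOf g ≠ 4)
    (hdiv : ∀ A : Subgroup G,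
      (Nat.card A : ℤ) ∣ ∑ g ∈ Finset.univ.filter (fun g : G => g ∈ A), c g)
    (hcent : ∀ u : G, orderOf u = 2 →
      p + 1 ≤ 2 * Nat.card (Subgroup.centralizer ({u} : Set G)))
    (u : G) (hu : orderOf u = 2) :
    Nat.card (centralizer ({u} : Set G)) = p - 1 ∧ ∃ k : ℕ, p - 1 = 2 ^ k := by
  have hexp : ∀ x ∈ centralizer ({u} : Set G), x ^ 2 = 1 := by
    intro x hx
    rw [mem_centralizer_singleton_iff] at hx
    exact sq_eq_one_of_commute p hp hp5 c hc1 hcp hc2 hcr hno4 hdiv u x hu hx.symm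
  have hsum : ∑ g ∈ Finset.univ.filter (fun g : G => g ∈ centralizer ({u} : Set G)), c g
      = (p : ℤ) - 1 := by
    rw [← hc1]
    apply Finset.sum_eq_single_of_mem
    · simp only [Finset.mem_filter, Finset.mem_univ, true_and]; exact one_mem _
    · intro x hx hx1
      simp only [Finset.mem_filter, Finset.mem_univ, true_and] at hx
      haveI : Fact (Nat.Prime 2) := ⟨Nat.prime_two⟩
      exact hc2 x (orderOf_eq_prime (hexp x hx) hx1)
  have hd := hdiv (centralizer ({u} : Set G))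
  rw [hsum] at hd
  have hp1 : 1 ≤ p := by omega
  have hd' : Nat.card (centralizer ({u} : Set G)) ∣ p - 1 := by
    have : ((p - 1 : ℕ) : ℤ) = (p : ℤ) - 1 := by push_cast [Nat.cast_sub hp1]; ring
    rw [← this] at hd
    exact_mod_cast hd
  have hc := hcent u hu
  have hcardeq : Nat.card (centralizer ({u} : Set G)) = p - 1 := by
    obtain ⟨t, ht⟩ := hd'
    rcases t with _ | _ | t
    · omega
    · omega
    · exfalso
      have : 2 * Nat.card (centralizer ({u} : Set G)) ≤ p - 1 := by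
        rw [ht]; nlinarith
      omega
  refine ⟨hcardeq, ?_⟩
  haveI : Fact (Nat.Prime 2) := ⟨Nat.prime_two⟩
  have hpg : IsPGroup 2 (centralizer ({u} : Set G)) := by
    intro x
    refine ⟨1, ?_⟩
    apply Subtype.ext
    rw [pow_one, Subgroup.coe_pow, Subgroup.coe_one]
    exact hexp x x.2
  obtain ⟨k, hk⟩ := IsPGroup.iff_card.1 hpg
  exact ⟨k, by rw [← hcardeq, hk]⟩

end Count

open Classical in
/-- **FO-FIN**. -/
theorem final_five {G : Type*} [Group G] [Fintype G] [DecidableEq G] (p : ℕ) (hp : p.Prime)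
    (hp5 : 5 ≤ p) (c : G → ℤ)
    (hcard : Fintype.card G = p * (p - 1) * (p - 2))
    (hc1 : c 1 = (p : ℤ) - 1)
    (hcp : ∀ g : G, orderOf g = p → c g = -1)
    (hc2 : ∀ g : G, orderOf g = 2 → c g = 0)
    (hcr : ∀ g : G, orderOf g ≠ p → g ^ 2 ≠ 1 → c g = 1)
    (hno4 : ∀ g : G, orderOf g ≠ 4)
    (hdiv : ∀ A : Subgroup G,
      (Nat.card A : ℤ) ∣ ∑ g ∈ Finset.univ.filter (fun g : G => g ∈ A), c g)
    (hcent : ∀ u : G, orderOf u = 2 →
      p + 1 ≤ 2 * Nat.card (Subgroup.centralizer ({u} : Set G)))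
    (H : Subgroup G) (hH : Nat.card H * (2 * p) = Fintype.card G)
    (hHsum : ∑ g ∈ Finset.univ.filter (fun g : G => g ∈ H), c g = (Nat.card H : ℤ)) :
    p = 5 := by
  haveI : Fact (Nat.Prime 2) := ⟨Nat.prime_two⟩
  have hp1 : 1 ≤ p := by omega
  -- `2|H| = (p-1)(p-2)`
  have h2H : 2 * Nat.card H = (p - 1) * (p - 2) := by
    have h3 : p * (2 * Nat.card H) = p * ((p - 1) * (p - 2)) := by
      have : Nat.card H * (2 * p) = p * ((p - 1) * (p - 2)) := by rw [hH, hcard]; ring
      rw [← this]; ring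
    exact Nat.eq_of_mul_eq_mul_left (by omega) h3
  -- no element of order `p` in `H`
  have hnop : ∀ x ∈ H, orderOf x ≠ p := by
    intro x hx hxo
    have hd : p ∣ Nat.card H := by
      have := orderOf_dvd_natCard (⟨x, hx⟩ : H)
      rwa [Subgroup.orderOf_mk, hxo] at this
    have hd2 : p ∣ (p - 1) * (p - 2) := by rw [← h2H]; exact dvd_mul_of_dvd_right hd 2
    rcases (Nat.Prime.dvd_mul hp).1 hd2 with h | h
    · have := Nat.le_of_dvd (by omega) h; omega
    · have := Nat.le_of_dvd (by omega) h; omega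
  -- the number of involutions of `H`
  have hinv : (Finset.univ.filter (fun g : G => g ∈ H ∧ orderOf g = 2)).card = p - 2 := by
    have hs := sum_formula p hp hp5 c hc1 hcp hc2 hcr H
    rw [hHsum] at hs
    have h0 : (Finset.univ.filter (fun g : G => g ∈ H ∧ orderOf g = p)).card = 0 := by
      rw [Finset.card_eq_zero, Finset.filter_eq_empty_iff]
      rintro g _ ⟨hg, hgo⟩
      exact hnop g hg hgo
    rw [h0] at hs
    have h1 : ((Finset.univ.filter (fun g : G => g ∈ H ∧ orderOf g = 2)).card : ℤ)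
        = (p : ℤ) - 2 := by
      push_cast at hs; linarith
    have h2 : ((p - 2 : ℕ) : ℤ) = (p : ℤ) - 2 := by
      push_cast [Nat.cast_sub (by omega : 2 ≤ p)]; ring
    rw [← h2] at h1
    exact_mod_cast h1
  -- an involution of `H`
  obtain ⟨v₀, hv₀⟩ : ∃ v₀, v₀ ∈ Finset.univ.filter (fun g : G => g ∈ H ∧ orderOf g = 2) := by
    apply Finset.card_pos.1; rw [hinv]; omega
  simp only [Finset.mem_filter, Finset.mem_univ, true_and] at hv₀
  obtain ⟨_, k, hk⟩ :=
    card_centralizer_involution p hp hp5 c hc1 hcp hc2 hcr hno4 hdiv hcent v₀ hv₀.2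
  have hk2 : 2 ≤ k := by
    by_contra h
    push Not at h
    interval_cases k <;> omega
  obtain ⟨k', rfl⟩ : ∃ k', k = k' + 1 := ⟨k - 1, by omega⟩
  have hk'1 : 1 ≤ k' := by omega
  have hpow1 : 1 ≤ 2 ^ k' := Nat.one_le_two_pow
  have hpowsucc : 2 ^ (k' + 1) = 2 * 2 ^ k' := by rw [pow_succ]; ring
  have hp2 : p - 2 = 2 ^ (k' + 1) - 1 := by omega
  have hHc : Nat.card H = 2 ^ k' * (2 ^ (k' + 1) - 1) := by
    have : 2 * Nat.card H = 2 * (2 ^ k' * (2 ^ (k' + 1) - 1)) := by
      rw [h2H, hk, hp2, hpowsucc]; ring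
    omega
  -- for an involution `v` of `H`, `|C(v) ⊓ H| = 2 ^ k'`
  have hfcard : ∀ v : G, v ∈ H → orderOf v = 2 →
      Nat.card (centralizer ({v} : Set G) ⊓ H : Subgroup G) = 2 ^ k' := by
    intro v hv hv2
    obtain ⟨hCc, _⟩ :=
      card_centralizer_involution p hp hp5 c hc1 hcp hc2 hcr hno4 hdiv hcent v hv2
    obtain ⟨S, hSH, hvS, hScard⟩ := exists_two_subgroup H v hv hv2 k' hk'1
      (by rw [hHc]; exact dvd_mul_right _ _)
    obtain ⟨_, hS2⟩ := two_subgroup_props hno4 S k' hScard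
    have hSle : S ≤ centralizer ({v} : Set G) ⊓ H := by
      intro x hx
      refine Subgroup.mem_inf.2 ⟨?_, hSH hx⟩
      rw [mem_centralizer_singleton_iff]
      exact hS2 x hx v hvS
    have hd1 : 2 ^ k' ∣ Nat.card (centralizer ({v} : Set G) ⊓ H : Subgroup G) := by
      rw [← hScard]; exact card_dvd_of_le hSle
    have hd2 : Nat.card (centralizer ({v} : Set G) ⊓ H : Subgroup G) ∣ 2 ^ k' := by
      have h3 : Nat.card (centralizer ({v} : Set G) ⊓ H : Subgroup G) ∣ 2 ^ (k' + 1) := by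
        rw [← hk, ← hCc]; exact card_dvd_of_le inf_le_left
      obtain ⟨j, _, hj⟩ := (Nat.dvd_prime_pow Nat.prime_two).1 h3
      have h4 : Nat.card (centralizer ({v} : Set G) ⊓ H : Subgroup G) ∣
          2 ^ k' * (2 ^ (k' + 1) - 1) := by
        rw [← hHc]; exact card_dvd_of_le inf_le_right
      rw [hj] at h4 ⊢
      have hcop : Nat.Coprime (2 ^ j) (2 ^ (k' + 1) - 1) := by
        apply Nat.Coprime.pow_left
        rw [Nat.coprime_two_left]
        rw [hpowsucc]
        exact ⟨2 ^ k' - 1, by omega⟩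
      exact hcop.dvd_of_dvd_mul_right h4
    exact Nat.dvd_antisymm hd2 hd1
  -- elements of `C(v)` have square `1`
  have hexp : ∀ v : G, orderOf v = 2 → ∀ x ∈ centralizer ({v} : Set G), x ^ 2 = 1 := by
    intro v hv2 x hx
    rw [mem_centralizer_singleton_iff] at hx
    exact sq_eq_one_of_commute p hp hp5 c hc1 hcp hc2 hcr hno4 hdiv v x hv2 hx.symm
  set I := Finset.univ.filter (fun g : G => g ∈ H ∧ orderOf g = 2) with hI
  let f : G → Subgroup G := fun v => centralizer ({v} : Set G) ⊓ H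
  have hfib : ∀ v ∈ I, (I.filter (fun w => f w = f v)).card = 2 ^ k' - 1 := by
    intro v hv
    simp only [hI, Finset.mem_filter, Finset.mem_univ, true_and] at hv
    have hset : I.filter (fun w => f w = f v)
        = (Finset.univ.filter (fun g : G => g ∈ f v)).erase 1 := by
      ext w
      simp only [hI, Finset.mem_filter, Finset.mem_univ, true_and, Finset.mem_erase]
      constructor
      · rintro ⟨⟨hwH, hw2⟩, hfw⟩
        refine ⟨?_, ?_⟩
        · rintro rfl
          rw [orderOf_one] at hw2; omega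
        · rw [← hfw]
          exact Subgroup.mem_inf.2 ⟨mem_centralizer_singleton_iff.2 rfl, hwH⟩
      · rintro ⟨hw1, hwf⟩
        have hwC : w ∈ centralizer ({v} : Set G) := (Subgroup.mem_inf.1 hwf).1
        have hwH : w ∈ H := (Subgroup.mem_inf.1 hwf).2
        have hw2 : orderOf w = 2 := orderOf_eq_prime (hexp v hv.2 w hwC) hw1
        refine ⟨⟨hwH, hw2⟩, ?_⟩
        symm
        apply eq_of_le_of_card_ge
        · intro x hx
          have hx' := Subgroup.mem_inf.1 hx
          refine Subgroup.mem_inf.2 ⟨?_, hx'.2⟩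
          rw [mem_centralizer_singleton_iff]
          exact commute_of_sq_eq_one x w (hexp v hv.2 x hx'.1) (hexp v hv.2 w hwC)
            (hexp v hv.2 _ (mul_mem hx'.1 hwC))
        · rw [hfcard w hwH hw2, hfcard v hv.1 hv.2]
    rw [hset, Finset.card_erase_of_mem]
    · congr 1
      have h7 := hfcard v hv.1 hv.2
      rw [Nat.card_eq_fintype_card, Fintype.card_subtype] at h7
      exact h7
    · simp only [Finset.mem_filter, Finset.mem_univ, true_and]
      exact one_mem _
  have hcardI : I.card = (I.image f).card * (2 ^ k' - 1) := by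
    rw [Finset.card_eq_sum_card_image f I]
    apply Finset.sum_const_nat
    intro B hB
    obtain ⟨v, hv, rfl⟩ := Finset.mem_image.1 hB
    exact hfib v hv
  have hdvd : (2 ^ k' - 1) ∣ 2 ^ (k' + 1) - 1 := by
    rw [← hp2, ← hinv, hcardI]; exact dvd_mul_left _ _
  have h1 : (2 ^ k' - 1) ∣ 1 := by
    have h5 : 2 ^ (k' + 1) - 1 = 2 * (2 ^ k' - 1) + 1 := by omega
    rw [h5] at hdvd
    exact (Nat.dvd_add_right (dvd_mul_left _ _)).1 hdvd
  have h6 : 2 ^ k' = 2 := by
    have := Nat.dvd_one.1 h1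
    omega
  rw [hpowsucc, h6] at hk
  omega

end Cfsg.Agent.Lib.Helper3.S4707FOFIN
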