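import Mathlib

/-!
FO-SING of helper11's S4707 farm-out: with a Sylow `p`-subgroup `P` of order `p` and
`|N(P)| = 2p`, the elements of order `p` are the non-identity elements of the conjugates of `P`,
and there are `|G : N(P)| (p - 1)` of them.
-/

set_option autoImplicit false

namespace Cfsg.Agent.Lib.Helper3.S4707FOSING

open Subgroup

/-- Every Sylow `p`-subgroup has order `p` if one has. -/
theorem sylow_card {G : Type*} [Group G] [Finite G] {p : ℕ} [Fact p.Prime] (P Q : Sylow p G)
    (hP : Nat.card (P : Subgroup G) = p) : Nat.card (Q : Subgroup G) = p := by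
  rw [Q.card_eq_multiplicity, ← P.card_eq_multiplicity, hP]

/-- A non-identity element of a subgroup of order `p` has order `p`. -/
theorem orderOf_eq_of_mem {G : Type*} [Group G] {p : ℕ} [Fact p.Prime] (Q : Subgroup G)
    (hQ : Nat.card Q = p) (g : G) (hg : g ∈ Q) (hg1 : g ≠ 1) : orderOf g = p := by
  have hpp : p.Prime := Fact.out
  have h1 : orderOf g ∣ p := by
    have := orderOf_dvd_natCard (⟨g, hg⟩ : Q)
    rwa [Subgroup.orderOf_mk, hQ] at this
  rcases (Nat.dvd_prime hpp).1 h1 with h | h
  · exact absurd (orderOf_eq_one_iff.1 h) hg1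
  · exact h

/-- An element of order `p` in a subgroup `Q` of order `p` generates it. -/
theorem zpowers_eq_of_mem {G : Type*} [Group G] [Finite G] {p : ℕ} (Q : Subgroup G)
    (hQ : Nat.card Q = p) (g : G) (hg : g ∈ Q) (hgo : orderOf g = p) : zpowers g = Q := by
  apply eq_of_le_of_card_ge
  · rw [zpowers_le]; exact hg
  · rw [Nat.card_zpowers, hgo, hQ]

theorem card_order_p {G : Type*} [Group G] [Fintype G] (p : ℕ) [Fact p.Prime] (P : Sylow p G)
    (hP : Nat.card (P : Subgroup G) = p)
    (hN : Nat.card (Subgroup.normalizer ((P : Subgroup G) : Set G)) = 2 * p) :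
    (Finset.univ.filter (fun g : G => orderOf g = p)).card * (2 * p) = (p - 1) * Fintype.card G ∧
    ∀ g : G, orderOf g = p ↔ (g ≠ 1 ∧ ∃ k : G, k * g * k⁻¹ ∈ (P : Subgroup G)) := by
  classical
  have hpp : p.Prime := Fact.out
  have hcardQ : ∀ Q : Sylow p G, Nat.card (Q : Subgroup G) = p := fun Q => sylow_card P Q hP
  have hfac : p = p ^ (Nat.card G).factorization p := by
    rw [← P.card_eq_multiplicity, hP]
  -- the Sylow subgroup generated by an element of order `p`
  have hsyl : ∀ g : G, orderOf g = p → ∃ Q : Sylow p G, (Q : Subgroup G) = zpowers g := by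
    intro g hg
    have hc : Nat.card (zpowers g) = p ^ (Nat.card G).factorization p := by
      rw [Nat.card_zpowers, hg, ← hfac]
    exact ⟨Sylow.ofCard (zpowers g) hc, rfl⟩
  constructor
  · letI : Fintype (Sylow p G) := Fintype.ofFinite _
    have hdc := Finset.sum_card_bipartiteAbove_eq_sum_card_bipartiteBelow
      (s := Finset.univ.filter (fun g : G => orderOf g = p))
      (t := (Finset.univ : Finset (Sylow p G))) (fun (g : G) (Q : Sylow p G) => g ∈ Q)
    have hL : ∀ g ∈ Finset.univ.filter (fun g : G => orderOf g = p),
        ((Finset.univ : Finset (Sylow p G)).bipartiteAbove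
          (fun (g : G) (Q : Sylow p G) => g ∈ Q) g).card = 1 := by
      intro g hg
      rw [Finset.mem_filter] at hg
      obtain ⟨Q₀, hQ₀⟩ := hsyl g hg.2
      rw [Finset.card_eq_one]
      refine ⟨Q₀, ?_⟩
      ext Q
      simp only [Finset.bipartiteAbove, Finset.mem_filter, Finset.mem_univ, true_and,
        Finset.mem_singleton]
      constructor
      · intro hgQ
        apply Sylow.ext
        rw [hQ₀]
        exact (zpowers_eq_of_mem (Q : Subgroup G) (hcardQ Q) g hgQ hg.2).symm
      · rintro rfl
        show g ∈ (Q : Subgroup G)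
        rw [hQ₀]
        exact mem_zpowers g
    have hR : ∀ Q ∈ (Finset.univ : Finset (Sylow p G)),
        ((Finset.univ.filter (fun g : G => orderOf g = p)).bipartiteBelow
          (fun (g : G) (Q : Sylow p G) => g ∈ Q) Q).card = p - 1 := by
      intro Q _
      have hset : (Finset.univ.filter (fun g : G => orderOf g = p)).bipartiteBelow
          (fun (g : G) (Q : Sylow p G) => g ∈ Q) Q
          = (Finset.univ.filter (fun g : G => g ∈ (Q : Subgroup G))).erase 1 := by
        ext g
        simp only [Finset.bipartiteBelow, Finset.mem_filter, Finset.mem_univ, true_and,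
          Finset.mem_erase]
        constructor
        · rintro ⟨ho, hgQ⟩
          refine ⟨?_, hgQ⟩
          rintro rfl
          rw [orderOf_one] at ho
          exact hpp.one_lt.ne ho
        · rintro ⟨h1, hgQ⟩
          exact ⟨orderOf_eq_of_mem (Q : Subgroup G) (hcardQ Q) g hgQ h1, hgQ⟩
      rw [hset, Finset.card_erase_of_mem]
      · congr 1
        have h7 := hcardQ Q
        rw [Nat.card_eq_fintype_card, Fintype.card_subtype] at h7
        exact h7
      · simp only [Finset.mem_filter, Finset.mem_univ, true_and]
        exact one_mem _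
    rw [Finset.sum_congr rfl hL, Finset.sum_congr rfl hR, Finset.sum_const, Finset.sum_const,
      smul_eq_mul, smul_eq_mul, mul_one, Finset.card_univ, ← Nat.card_eq_fintype_card,
      Sylow.card_eq_index_normalizer P] at hdc
    have hidx : (normalizer (P : Set G)).index = (normalizer ((P : Subgroup G) : Set G)).index :=
      rfl
    rw [hdc, ← Nat.card_eq_fintype_card (α := G),
      ← Subgroup.index_mul_card (normalizer ((P : Subgroup G) : Set G)), hN, hidx]
    ring
  · intro g
    constructor
    · intro hg
      refine ⟨?_, ?_⟩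
      · rintro rfl
        rw [orderOf_one] at hg
        exact hpp.one_lt.ne hg
      · obtain ⟨Q, hQ⟩ := hsyl g hg
        obtain ⟨k, hk⟩ := MulAction.exists_smul_eq G Q P
        refine ⟨k, ?_⟩
        have hgQ : g ∈ (Q : Subgroup G) := by rw [hQ]; exact mem_zpowers g
        have : k * g * k⁻¹ ∈ ((k • Q : Sylow p G) : Subgroup G) := by
          rw [Sylow.coe_subgroup_smul, Subgroup.mem_pointwise_smul_iff_inv_smul_mem]
          rw [MulAut.smul_def, MulAut.conj_inv_apply]
          have h6 : k⁻¹ * (k * g * k⁻¹) * k = g := by group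
          rw [h6]; exact hgQ
        rwa [hk] at this
    · rintro ⟨h1, k, hk⟩
      have h2 : k * g * k⁻¹ ≠ 1 := by
        intro h
        apply h1
        have h6 : g = k⁻¹ * (k * g * k⁻¹) * k := by group
        rw [h6, h]; group
      have h3 := orderOf_eq_of_mem (P : Subgroup G) hP _ hk h2
      have h4 : orderOf (k * g * k⁻¹) = orderOf g :=
        orderOf_injective (MulAut.conj k).toMonoidHom (MulAut.conj k).injective g
      rw [← h4]; exact h3

end Cfsg.Agent.Lib.Helper3.S4707FOSING
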