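import Mathlib

set_option autoImplicit false

namespace Cfsg.Agent.Lib.Helper3.PermIso

open Equiv

/-- A group acting faithfully on `n` points with order `n!` is the symmetric group. -/
theorem nonempty_mulEquiv_perm {G X : Type*} [Group G] [Fintype X] [DecidableEq X]
    (f : G →* Perm X) (hf : Function.Injective f) (n : ℕ) (hX : Fintype.card X = n)
    (hG : Nat.card G = n.factorial) : Nonempty (G ≃* Perm (Fin n)) := by
  classical
  have e : X ≃ Fin n := Fintype.equivFinOfCardEq hX
  let ψ : G →* Perm (Fin n) := (e.permCongrHom).toMonoidHom.comp f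
  have hψ : Function.Injective ψ := (e.permCongrHom).injective.comp hf
  have hfin : Finite G := Nat.finite_of_card_ne_zero (by rw [hG]; exact Nat.factorial_ne_zero n)
  have hcard : Nat.card G = Nat.card (Perm (Fin n)) := by
    rw [hG, Nat.card_eq_fintype_card, Fintype.card_perm, Fintype.card_fin]
  have hbij : Function.Bijective ψ :=
    (Nat.bijective_iff_injective_and_card ψ).2 ⟨hψ, hcard⟩
  exact ⟨MulEquiv.ofBijective ψ hbij⟩

/-- A group acting faithfully on `n` points with order `n!/2` is the alternating group. -/
theorem nonempty_mulEquiv_alternatingGroup {G X : Type*} [Group G] [Fintype X] [DecidableEq X]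
    (f : G →* Perm X) (hf : Function.Injective f) (n : ℕ) (hX : Fintype.card X = n)
    (hG : 2 * Nat.card G = n.factorial) : Nonempty (G ≃* alternatingGroup (Fin n)) := by
  classical
  have e : X ≃ Fin n := Fintype.equivFinOfCardEq hX
  let ψ : G →* Perm (Fin n) := (e.permCongrHom).toMonoidHom.comp f
  have hψ : Function.Injective ψ := (e.permCongrHom).injective.comp hf
  have hrange : Nat.card ψ.range = Nat.card G :=
    (Nat.card_congr (MonoidHom.ofInjective hψ).toEquiv).symm
  have hindex : ψ.range.index = 2 := by
    have h1 : ψ.range.index * Nat.card ψ.range = Nat.card (Perm (Fin n)) :=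
      ψ.range.index_mul_card
    rw [hrange, Nat.card_eq_fintype_card (α := Perm (Fin n)), Fintype.card_perm,
      Fintype.card_fin, ← hG] at h1
    have hpos : 0 < Nat.card G := by
      rcases Nat.eq_zero_or_pos (Nat.card G) with h0 | h0
      · rw [h0, mul_zero] at hG
        exact absurd hG.symm (Nat.factorial_ne_zero n)
      · exact h0
    exact Nat.eq_of_mul_eq_mul_right hpos h1
  have hA : ψ.range = alternatingGroup (Fin n) :=
    Equiv.Perm.eq_alternatingGroup_of_index_eq_two hindex
  exact ⟨(MonoidHom.ofInjective hψ).trans (MulEquiv.subgroupCongr hA)⟩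

end Cfsg.Agent.Lib.Helper3.PermIso
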