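import Mathlib
import Cfsg.Agent.Lib.Helper3.PermIso

set_option autoImplicit false

namespace Cfsg.Agent.Lib.Helper3.PermIso

open Equiv

/-- A simple group of order `n!/2` with a subgroup of index `n` is the alternating group. -/
theorem nonempty_mulEquiv_alternatingGroup_of_index {G : Type*} [Group G] [IsSimpleGroup G]
    (H : Subgroup G) (n : ℕ) (hH : H.index = n) (hn : 2 ≤ n)
    (hG : 2 * Nat.card G = n.factorial) : Nonempty (G ≃* alternatingGroup (Fin n)) := by
  classical
  have hfi : H.FiniteIndex := ⟨by rw [hH]; omega⟩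
  have : Fintype (G ⧸ H) := Fintype.ofFinite _
  have hX : Fintype.card (G ⧸ H) = n := by
    rw [← Nat.card_eq_fintype_card, ← Subgroup.index_eq_card, hH]
  have hker : (MulAction.toPermHom G (G ⧸ H)).ker = ⊥ := by
    rcases (MulAction.toPermHom G (G ⧸ H)).normal_ker.eq_bot_or_eq_top with h | h
    · exact h
    · exfalso
      rw [← Subgroup.normalCore_eq_ker] at h
      have hle : H.normalCore ≤ H := Subgroup.normalCore_le H
      rw [h, top_le_iff] at hle
      rw [hle, Subgroup.index_top] at hH
      omega
  have hinj : Function.Injective (MulAction.toPermHom G (G ⧸ H)) :=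
    (MonoidHom.ker_eq_bot_iff _).1 hker
  exact nonempty_mulEquiv_alternatingGroup _ hinj n hX hG

end Cfsg.Agent.Lib.Helper3.PermIso
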