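import Mathlib

/-!
# S2047-[CEN] (helper3): a small normal subgroup of a perfect group over a central subgroup is central

`N` normal in the perfect group `Γ`, `Z ≤ N` central with `|N| ≤ 2 |Z|`.  Then `Γ` acts trivially on `N / Z`
(of order `≤ 2`), so for `k ∈ N` the map `x ↦ x k x⁻¹ k⁻¹` is a homomorphism into the centre, hence trivial.
-/

set_option autoImplicit false

namespace Cfsg.Agent.Lib.Helper12.McLW

universe u

namespace Helper3

/-- conjugation moves elements of `N` only inside their `Z`-coset -/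
theorem conj_mul_inv_mem {Γ : Type u} [Group Γ]
    (N : Subgroup Γ) [N.Normal] [Finite N] (Z : Subgroup Γ) (hZ : Z ≤ Subgroup.center Γ) (hZN : Z ≤ N)
    (hcard : Nat.card N ≤ 2 * Nat.card Z) (k : Γ) (hk : k ∈ N) (x : Γ) :
    x * k * x⁻¹ * k⁻¹ ∈ Z := by
  have : Finite Z := Finite.of_injective (Subgroup.inclusion hZN) (Subgroup.inclusion_injective hZN)
  have hZpos : 0 < Nat.card Z := Nat.card_pos
  -- the index of `Z` in `N`
  have hcardZ : Nat.card (Z.subgroupOf N) = Nat.card Z :=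
    Nat.card_congr (Subgroup.subgroupOfEquivOfLe hZN).toEquiv
  have hmul : Nat.card (Z.subgroupOf N) * (Z.subgroupOf N).index = Nat.card N :=
    Subgroup.card_mul_index _
  rw [hcardZ] at hmul
  have hidx_pos : 0 < (Z.subgroupOf N).index := Nat.pos_of_ne_zero Subgroup.index_ne_zero_of_finite
  have hidx_le : (Z.subgroupOf N).index ≤ 2 := by
    by_contra hcon
    rw [not_le] at hcon
    have : Nat.card Z * 3 ≤ Nat.card Z * (Z.subgroupOf N).index := Nat.mul_le_mul_left _ hcon
    omega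
  have hxk : x * k * x⁻¹ ∈ N := ‹N.Normal›.conj_mem k hk x
  by_cases hkZ : k ∈ Z
  · -- `k` is central
    have hc := Subgroup.mem_center_iff.mp (hZ hkZ) x
    have : x * k * x⁻¹ * k⁻¹ = 1 := by
      rw [hc, mul_inv_cancel_right, mul_inv_cancel]
    rw [this]; exact Z.one_mem
  · -- `k ∉ Z`: the index is two
    have hxkZ : x * k * x⁻¹ ∉ Z := by
      intro h
      have hc := Subgroup.mem_center_iff.mp (hZ h) x
      -- x * (x k x⁻¹) = (x k x⁻¹) * x, so x k x⁻¹ = k
      have hkk : x * k * x⁻¹ = k := by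
        have h1 : x⁻¹ * (x * k * x⁻¹) * x = x * k * x⁻¹ := by
          rw [mul_assoc, ← hc, ← mul_assoc, inv_mul_cancel, one_mul]
        have h2 : x⁻¹ * (x * k * x⁻¹) * x = k := by group
        rw [← h1, h2]
      rw [hkk] at h
      exact hkZ h
    have hidx2 : (Z.subgroupOf N).index = 2 := by
      rcases Nat.lt_or_ge (Z.subgroupOf N).index 2 with h | h
      · exfalso
        have h1 : (Z.subgroupOf N).index = 1 := by omega
        have htop : Z.subgroupOf N = ⊤ := Subgroup.index_eq_one.mp h1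
        have : (⟨k, hk⟩ : N) ∈ Z.subgroupOf N := by rw [htop]; exact Subgroup.mem_top _
        exact hkZ (Subgroup.mem_subgroupOf.mp this)
      · omega
    have hiff := Subgroup.mul_mem_iff_of_index_two hidx2
      (a := (⟨x * k * x⁻¹, hxk⟩ : N)) (b := (⟨k, hk⟩ : N)⁻¹)
    have hmem : (⟨x * k * x⁻¹, hxk⟩ : N) * (⟨k, hk⟩ : N)⁻¹ ∈ Z.subgroupOf N := by
      rw [hiff]
      constructor
      · intro h; exact absurd (Subgroup.mem_subgroupOf.mp h) hxkZ
      · intro h
        rw [Subgroup.inv_mem_iff] at h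
        exact absurd (Subgroup.mem_subgroupOf.mp h) hkZ
    have := Subgroup.mem_subgroupOf.mp hmem
    simpa using this

/-- `x ↦ x k x⁻¹ k⁻¹` is multiplicative as soon as its values are central -/
theorem comm_map_mul {Γ : Type u} [Group Γ] (k : Γ)
    (key : ∀ x : Γ, x * k * x⁻¹ * k⁻¹ ∈ Subgroup.center Γ) (x y : Γ) :
    x * y * k * (x * y)⁻¹ * k⁻¹ = (x * k * x⁻¹ * k⁻¹) * (y * k * y⁻¹ * k⁻¹) := by
  have hy := Subgroup.mem_center_iff.mp (key y)
  have h1 : x * y * k * (x * y)⁻¹ * k⁻¹ = x * (y * k * y⁻¹ * k⁻¹) * (k * x⁻¹ * k⁻¹) := by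
    rw [mul_inv_rev]
    simp only [mul_assoc, inv_mul_cancel_left]
  rw [h1, hy x]
  have h2 : y * k * y⁻¹ * k⁻¹ * x * (k * x⁻¹ * k⁻¹) = (y * k * y⁻¹ * k⁻¹) * (x * k * x⁻¹ * k⁻¹) := by
    simp only [mul_assoc]
  rw [h2]
  exact (hy (x * k * x⁻¹ * k⁻¹)).symm

/-- the homomorphism `x ↦ x k x⁻¹ k⁻¹` into the centre -/
def commHom {Γ : Type u} [Group Γ] (k : Γ)
    (key : ∀ x : Γ, x * k * x⁻¹ * k⁻¹ ∈ Subgroup.center Γ) : Γ →* Subgroup.center Γ :=
  MonoidHom.mk' (fun x => ⟨x * k * x⁻¹ * k⁻¹, key x⟩) (fun x y => Subtype.ext (comm_map_mul k key x y))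

theorem commHom_apply {Γ : Type u} [Group Γ] (k : Γ)
    (key : ∀ x : Γ, x * k * x⁻¹ * k⁻¹ ∈ Subgroup.center Γ) (x : Γ) :
    ((commHom k key x : Subgroup.center Γ) : Γ) = x * k * x⁻¹ * k⁻¹ := rfl

end Helper3

/-- [CEN] a normal subgroup `N` of a perfect group which contains a central subgroup `Z` with `|N| ≤ 2 |Z|`
is central (generic; `x ↦ k⁻¹ x k x⁻¹` is a homomorphism into `Z`) -/
theorem normal_le_center_of_perfect {Γ : Type u} [Group Γ] (hperf : commutator Γ = ⊤)
    (N : Subgroup Γ) [N.Normal] [Finite N] (Z : Subgroup Γ) (hZ : Z ≤ Subgroup.center Γ) (hZN : Z ≤ N)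
    (hcard : Nat.card N ≤ 2 * Nat.card Z) : N ≤ Subgroup.center Γ := by
  intro k hk
  have key : ∀ x : Γ, x * k * x⁻¹ * k⁻¹ ∈ Subgroup.center Γ := fun x =>
    hZ (Helper3.conj_mul_inv_mem N Z hZ hZN hcard k hk x)
  let f : Γ →* Subgroup.center Γ := Helper3.commHom k key
  have hker : commutator Γ ≤ f.ker := by
    rw [commutator_def, Subgroup.commutator_le]
    intro a _ b _
    rw [MonoidHom.mem_ker, map_commutatorElement, commutatorElement_eq_one_iff_commute]
    exact Subtype.ext (Subgroup.mem_center_iff.mp (f b).2 (f a))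
  rw [hperf] at hker
  rw [Subgroup.mem_center_iff]
  intro x
  have hx : f x = 1 := MonoidHom.mem_ker.mp (hker (Subgroup.mem_top x))
  have hx' : x * k * x⁻¹ * k⁻¹ = 1 := by
    rw [← Helper3.commHom_apply k key x]
    exact congrArg Subtype.val hx
  have : x * k = k * x := by
    have h3 : x * k = (x * k * x⁻¹ * k⁻¹) * (k * x) := by
      simp only [mul_assoc, inv_mul_cancel_left, inv_mul_cancel, mul_one]
    rw [h3, hx', one_mul]
  exact this

end Cfsg.Agent.Lib.Helper12.McLW
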