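import Mathlib
import Cfsg.Prelude.Def_KGroupFacts
import Cfsg.Agent.H5.TCkSound
import Cfsg.Agent.H5.StemTC
import Cfsg.Agent.Lib.Helper12.McLWData
import Cfsg.Agent.Lib.Helper12.McLWCover

/-!
# S2047-[T] (helper3): the relators of `⟨a, b⟩` are exact when the kernel has odd order

`T = ⟨γh 0, γh 1⟩` satisfies `relsAB`, so `|T| ≤ 336`; its image `⟨g 0, g 1⟩` has order `≥ 168`, so the kernel
of `σ` on `T` has order `≤ 2`; it embeds into `ker σ` of odd order, so it is trivial and `σ` is injective on `T`.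
-/

set_option autoImplicit false

namespace Cfsg.Agent.Lib.Helper12.McLW

open Cfsg Cfsg.H5.TCk

universe u

namespace Helper3

theorem relsAB_all : ∀ r ∈ relsAB, r.all (fun l => decide (l < 2 * 2)) = true := by decide

end Helper3

/-- [T] the relators of `⟨a, b⟩` are exact when the kernel has odd order (generic, [CAB] as hypothesis):
`T = ⟨γh 0, γh 1⟩` has order `≤ 336`, its image has order `≥ 168`, so `T ∩ ker σ` has order `≤ 2` -/
theorem tight_of_odd
    (hCAB : ∀ {Δ : Type u} [Group Δ] (δ : ℕ → Δ), (∀ r ∈ relsAB, ev δ r = 1) →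
      Subgroup.closure (Set.range fun i : Fin 2 => δ i.val) = ⊤ → Finite Δ ∧ Nat.card Δ ≤ 336)
    {G : Type u} {Γ : Type u} [Group G] [Group Γ] [Finite Γ] (σ : Γ →* G)
    (hodd : Odd (Nat.card σ.ker)) (g : ℕ → G) (γh : ℕ → Γ) (hγ : ∀ i < 2, σ (γh i) = g i)
    (h168 : 168 ≤ Nat.card (Subgroup.closure (Set.range fun i : Fin 2 => g i.val)))
    (hAB : ∀ r ∈ relsAB, ev γh r = 1) (w : List ℕ)
    (hw : w.all (fun l => decide (l < 2 * 2)) = true) (hgw : ev g w = 1) : ev γh w = 1 := by
  classical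
  generalize hTdef : Subgroup.closure (Set.range fun i : Fin 2 => γh i.val) = T
  have hmemT : ∀ i < 2, γh i ∈ T := fun i hi => by
    rw [← hTdef]; exact Subgroup.subset_closure ⟨⟨i, hi⟩, rfl⟩
  let δ : ℕ → T := fun i => if h : i < 2 then ⟨γh i, hmemT i h⟩ else 1
  have hδ : ∀ i < 2, ((δ i : T) : Γ) = γh i := by
    intro i hi
    simp only [δ, dif_pos hi]
  have hev : ∀ v : List ℕ, v.all (fun l => decide (l < 2 * 2)) = true →
      ((ev δ v : T) : Γ) = ev γh v := by
    intro v hv
    have h1 : ((ev δ v : T) : Γ) = ev (fun i => ((δ i : T) : Γ)) v :=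
      Cfsg.H5.StemTC.map_ev T.subtype δ v
    rw [h1]
    exact ev_congr' _ _ 2 (fun i hi => hδ i hi) v hv
  have hrelT : ∀ r ∈ relsAB, ev δ r = 1 := by
    intro r hr
    apply Subtype.ext
    rw [hev r (Helper3.relsAB_all r hr), hAB r hr]
    rfl
  have hgenT : Subgroup.closure (Set.range fun i : Fin 2 => δ i.val) = ⊤ := by
    apply Subgroup.map_injective T.subtype_injective
    rw [MonoidHom.map_closure, ← Set.range_comp, ← MonoidHom.range_eq_map, Subgroup.range_subtype]
    have : (⇑T.subtype ∘ fun i : Fin 2 => δ i.val) = fun i : Fin 2 => γh i.val :=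
      funext fun i => hδ i.val i.isLt
    rw [this]
    exact hTdef
  obtain ⟨_, hcardT⟩ := hCAB δ hrelT hgenT
  -- `σ` restricted to `T`
  let τ : T →* G := σ.comp T.subtype
  have hrange : τ.range = Subgroup.closure (Set.range fun i : Fin 2 => g i.val) := by
    rw [MonoidHom.range_eq_map, ← hgenT, MonoidHom.map_closure, ← Set.range_comp]
    congr 2
    funext i
    show σ ((δ i.val : T) : Γ) = g i.val
    rw [hδ _ i.isLt, hγ _ i.isLt]
  have hcard : Nat.card T = Nat.card τ.ker * Nat.card τ.range := by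
    rw [Subgroup.card_eq_card_quotient_mul_card_subgroup τ.ker,
      Nat.card_congr (QuotientGroup.quotientKerEquivRange τ).toEquiv, mul_comm]
  -- the kernel of `τ` embeds into the kernel of `σ`
  have hdvd : Nat.card τ.ker ∣ Nat.card σ.ker := by
    let ι : τ.ker →* σ.ker :=
      { toFun := fun x => ⟨((x : T) : Γ), MonoidHom.mem_ker.mpr (MonoidHom.mem_ker.mp x.2)⟩
        map_one' := rfl
        map_mul' := fun _ _ => rfl }
    refine Subgroup.card_dvd_of_injective ι ?_
    intro x y h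
    apply Subtype.ext
    apply Subtype.ext
    exact congrArg (fun z : σ.ker => (z : Γ)) h
  have hk1 : Nat.card τ.ker = 1 := by
    have hpos : 0 < Nat.card τ.ker := Nat.card_pos
    have hoddk : Odd (Nat.card τ.ker) := hodd.of_dvd_nat hdvd
    have h168' : 168 ≤ Nat.card τ.range := by rw [hrange]; exact h168
    have hle : Nat.card τ.ker * 168 ≤ 336 :=
      calc Nat.card τ.ker * 168 ≤ Nat.card τ.ker * Nat.card τ.range := Nat.mul_le_mul_left _ h168'
        _ = Nat.card T := hcard.symm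
        _ ≤ 336 := hcardT
    obtain ⟨m, hm⟩ := hoddk
    omega
  have hinj : τ.ker = ⊥ := Subgroup.card_eq_one.mp hk1
  have hwT : ev γh w ∈ T := Cfsg.H5.StemTC.ev_mem γh T 2 hmemT w hw
  have hmem : (⟨ev γh w, hwT⟩ : T) ∈ τ.ker := by
    rw [MonoidHom.mem_ker]
    show σ (ev γh w) = 1
    rw [Cfsg.H5.StemTC.map_ev, ev_congr' (fun i => σ (γh i)) g 2 hγ w hw, hgw]
  rw [hinj, Subgroup.mem_bot] at hmem
  exact congrArg Subtype.val hmem

end Cfsg.Agent.Lib.Helper12.McLW
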