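import Mathlib
import Cfsg.Agent.Lib.Helper3.SpTDefs
import Cfsg.Agent.Lib.Helper3.SpTL1b
import Cfsg.Agent.Lib.Helper13.OrthParab
import Cfsg.Agent.Lib.Helper13.OrthNondeg
import Cfsg.Agent.Lib.Helper10.QGeo

/-!
# `O_a ⊗ O_b` in `Ω_{ab}` (S5681 / S5709): the exit `T4`  (helper3)

`V = (Fin a × Fin b → F) = U ⊗ W`, `f₁ = bf J1`, `f₂ = bf J2` symmetric non-degenerate (`SymG`), `2 ≠ 0`, `Q` a quadratic form on `V`
with polar form `f₁ ⊗ f₂` (`SetupO`).

`T4` : if a subgroup `M` of `GL(V)` contains all Siegel transformations `ρ_{u⊗k, u'⊗k'}` with `⟨k, k'⟩` totally singular in `W`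
(`k' = k` allowed) - i.e. the long root elements of `Ω(V)` inside the groups `Z_L`, `L = U ⊗ π`, `π` a totally singular line of
`W` - and `b ≥ 5`, then `Ω(V) ≤ M`.
-/

set_option autoImplicit false

namespace Cfsg.Agent.Lib.Helper3.OTT

open Matrix Module QuadraticMap
open scoped Kronecker
open Cfsg.Agent.Lib.Helper16.Tens
open Cfsg.Agent.Lib.Helper3.SpT
open Cfsg.Agent.Lib.Helper6 Cfsg.Agent.Lib.Helper13 Cfsg.Agent.Lib.Helper13.OND

variable {F : Type*} [Field F]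

section forms
variable {κ : Type} [Fintype κ]

/-- a non-degenerate symmetric Gram matrix -/
structure SymG (J : Matrix κ κ F) : Prop where
  symm : ∀ x y, bf J x y = bf J y x
  nondeg : ∀ x, (∀ y, bf J x y = 0) → x = 0

variable [DecidableEq κ] {J : Matrix κ κ F}

theorem SymG.isUnit_det (hJ : SymG J) : IsUnit J.det := by
  rw [← Matrix.isUnit_iff_isUnit_det, ← Matrix.mulVec_injective_iff_isUnit]
  intro x y hxy
  have h : ∀ z, bf J (x - y) z = 0 := by
    intro z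
    rw [hJ.symm]
    unfold bf
    rw [Matrix.mulVec_sub, hxy, sub_self, dotProduct_zero]
  exact sub_eq_zero.mp (hJ.nondeg _ h)

/-- a vector of non-zero norm -/
theorem SymG.exists_norm_ne_zero [Nonempty κ] (hJ : SymG J) (h2 : (2 : F) ≠ 0) : ∃ u, bf J u u ≠ 0 := by
  by_contra hcon
  push Not at hcon
  have hz : ∀ x y, bf J x y = 0 := by
    intro x y
    have h := hcon (x + y)
    rw [bf_add_left, bf_add_right, bf_add_right, hcon x, hcon y, hJ.symm y x] at h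
    have h' : 2 * bf J x y = 0 := by linear_combination h
    exact (mul_eq_zero.mp h').resolve_left h2
  obtain ⟨i⟩ := ‹Nonempty κ›
  have := hJ.nondeg (Pi.single i 1) (fun y => hz _ y)
  have h1 := congrFun this i
  simp at h1

/-- a quadratic form with polar form `bf J` -/
theorem SymG.exists_quad (hJ : SymG J) (h2 : (2 : F) ≠ 0) :
    ∃ Q₂ : QuadraticForm F (κ → F), (∀ x y, polar (⇑Q₂) x y = bf J x y) ∧ ∀ x, 2 * Q₂ x = bf J x x := by
  obtain ⟨B, hB⟩ : ∃ B : LinearMap.BilinForm F (κ → F), ∀ x y, B x y = (2 : F)⁻¹ * bf J x y := by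
    refine ⟨(2 : F)⁻¹ • Matrix.toBilin' J, fun x y => ?_⟩
    rw [LinearMap.smul_apply, LinearMap.smul_apply, Matrix.toBilin'_apply', smul_eq_mul]
    rfl
  refine ⟨B.toQuadraticMap, fun x y => ?_, fun x => ?_⟩
  · rw [LinearMap.BilinMap.polar_toQuadraticMap, hB, hB, hJ.symm y x]
    field_simp
    ring
  · rw [LinearMap.BilinMap.toQuadraticMap_apply, hB]
    field_simp

end forms

variable {a b : ℕ} (J1 : Matrix (Fin a) (Fin a) F) (J2 : Matrix (Fin b) (Fin b) F)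

/-- the standing hypotheses for `O ⊗ O` -/
structure SetupO (Q : QuadraticForm F (Fin a × Fin b → F)) : Prop where
  h1 : SymG J1
  h2 : SymG J2
  polar : ∀ x y, QuadraticMap.polar (⇑Q) x y = bf (J1 ⊗ₖ J2) x y
  two : (2 : F) ≠ 0

variable {J1 J2} {Q : QuadraticForm F (Fin a × Fin b → F)}

theorem SetupO.polar_pur (hS : SetupO J1 J2 Q) (u u' : Fin a → F) (w w' : Fin b → F) :
    QuadraticMap.polar (⇑Q) (pur u w) (pur u' w') = bf J1 u u' * bf J2 w w' := by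
  rw [hS.polar, bf_kron_pur]

theorem SetupO.two_Q_pur (hS : SetupO J1 J2 Q) (u : Fin a → F) (w : Fin b → F) :
    2 * Q (pur u w) = bf J1 u u * bf J2 w w := by
  rw [← hS.polar_pur, polar_self, two_mul, two_smul]

theorem SetupO.Q_pur_sing (hS : SetupO J1 J2 Q) (u : Fin a → F) {k : Fin b → F} (hk : bf J2 k k = 0) :
    Q (pur u k) = 0 := by
  have h := hS.two_Q_pur u k
  rw [hk, mul_zero] at h
  exact (mul_eq_zero.mp h).resolve_left hS.two

theorem SetupO.nondeg (hS : SetupO J1 J2 Q) : (polarBilin Q).Nondegenerate := by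
  have hK : IsUnit (J1 ⊗ₖ J2).det := by
    rw [Matrix.det_kronecker]
    exact (hS.h1.isUnit_det.pow _).mul (hS.h2.isUnit_det.pow _)
  constructor
  · intro x hx
    have h1 : ∀ y, x ᵥ* (J1 ⊗ₖ J2) ⬝ᵥ y = 0 := by
      intro y
      have := hx y
      rw [polarBilin_apply_apply, hS.polar] at this
      unfold bf at this
      rwa [Matrix.dotProduct_mulVec] at this
    have h2 : x ᵥ* (J1 ⊗ₖ J2) = 0 := by
      funext p
      have := h1 (Pi.single p 1)
      rwa [dotProduct_single_one] at this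
    have h3 := congrArg (fun z => z ᵥ* (J1 ⊗ₖ J2)⁻¹) h2
    simp only [Matrix.vecMul_vecMul, Matrix.mul_nonsing_inv _ hK, Matrix.vecMul_one, Matrix.zero_vecMul] at h3
    exact h3
  · intro y hy
    have h1 : ∀ x : Fin a × Fin b → F, x ⬝ᵥ (J1 ⊗ₖ J2) *ᵥ y = 0 := by
      intro x
      have := hy x
      rwa [polarBilin_apply_apply, hS.polar] at this
    have h2 : (J1 ⊗ₖ J2) *ᵥ y = 0 := by
      funext p
      have := h1 (Pi.single p 1)
      rwa [single_one_dotProduct] at this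
    have h3 := congrArg (fun z => (J1 ⊗ₖ J2)⁻¹ *ᵥ z) h2
    simp only [Matrix.mulVec_mulVec, Matrix.nonsing_inv_mul _ hK, Matrix.one_mulVec, Matrix.mulVec_zero] at h3
    exact h3

/-! ## `T4` -/

section T4

variable [Fintype F] {M : Subgroup (GL (Fin a × Fin b) F)}

/-- the hypothesis of `T4`: all long root elements `ρ_{u⊗k, u'⊗k'}`, `⟨k,k'⟩` totally singular, lie in `M` -/
def AllLong (J2 : Matrix (Fin b) (Fin b) F) (Q : QuadraticForm F (Fin a × Fin b → F))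
    (M : Subgroup (GL (Fin a × Fin b) F)) : Prop :=
  ∀ (u u' : Fin a → F) (k k' : Fin b → F), bf J2 k k = 0 → bf J2 k k' = 0 → bf J2 k' k' = 0 →
    SIn Q M (pur u k) (pur u' k')

/-- `ρ_{u0⊗k1, u⊗w} ∈ M` for every `w ⊥ k1` -/
theorem SIn_pur_of_perp (hS : SetupO J1 J2 Q) (hb : 5 ≤ b) (hall : AllLong J2 Q M)
    (u0 u : Fin a → F) (k1 w : Fin b → F) (hk1 : bf J2 k1 k1 = 0) (hw : bf J2 w k1 = 0) :
    SIn Q M (pur u0 k1) (pur u w) := by
  obtain ⟨Q₂, hQ₂, hQ₂'⟩ := hS.h2.exists_quad hS.two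
  have hnd : ∀ v : Fin b → F, v ≠ 0 → ∃ x, polar (⇑Q₂) v x ≠ 0 := by
    intro v hv
    by_contra hcon
    push Not at hcon
    exact hv (hS.h2.nondeg v (fun y => by rw [← hQ₂]; exact hcon y))
  have hmem := Cfsg.Agent.Lib.Helper10.QGeo.span_singular_perp Q₂ hnd hb k1 w (by rw [hQ₂]; exact hw)
  refine Submodule.span_induction (p := fun w _ => SIn Q M (pur u0 k1) (pur u w)) ?_ ?_ ?_ ?_ hmem
  · rintro c ⟨hc1, hc2⟩
    have hcc : bf J2 c c = 0 := by rw [← hQ₂' c, hc1, mul_zero]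
    have hck : bf J2 k1 c = 0 := by rw [hS.h2.symm, ← hQ₂]; exact hc2
    exact hall u0 u k1 c hk1 hck hcc
  · exact hall u0 u k1 0 hk1 (bf_zero_right _ _) (bf_zero_right _ _)
  · intro w w' _ _ h h'
    rw [pur_add_right]
    exact h.add h'
  · intro t w _ h
    rw [pur_smul_right]
    exact h.smul t

/-- `ρ_{u0⊗k1, u1⊗k1'} ∈ M` for `u1 ⊥ u0`, `k1'` a singular vector orthogonal to a hyperbolic pair `k3, k3'` in `k1^⊥` -/
theorem SIn_pur_opp (hS : SetupO J1 J2 Q) (ha : 1 ≤ a) (hall : AllLong J2 Q M)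
    (u0 u1 : Fin a → F) (k1 k1' k3 k3' : Fin b → F)
    (h11 : bf J2 k1 k1 = 0) (h1'1' : bf J2 k1' k1' = 0) (h33 : bf J2 k3 k3 = 0) (h3'3' : bf J2 k3' k3' = 0)
    (h13 : bf J2 k1 k3 = 0) (h13' : bf J2 k1 k3' = 0) (h1'3 : bf J2 k1' k3 = 0) (h1'3' : bf J2 k1' k3' = 0)
    (h33' : bf J2 k3 k3' = 1) (hu : bf J1 u0 u1 = 0) :
    SIn Q M (pur u0 k1) (pur u1 k1') := by
  -- `z, z'` with `f₁(z, z') = 1`
  obtain ⟨z, z', hzz'⟩ : ∃ z z' : Fin a → F, bf J1 z z' = 1 := by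
    have hz0 : (Pi.single (⟨0, by omega⟩ : Fin a) (1 : F) : Fin a → F) ≠ 0 := by
      intro h
      have := congrFun h ⟨0, by omega⟩
      simp at this
    obtain ⟨y, hy⟩ : ∃ y, bf J1 (Pi.single (⟨0, by omega⟩ : Fin a) (1 : F)) y ≠ 0 := by
      by_contra hcon
      push Not at hcon
      exact hz0 (hS.h1.nondeg _ hcon)
    refine ⟨Pi.single (⟨0, by omega⟩ : Fin a) (1 : F),
      (bf J1 (Pi.single (⟨0, by omega⟩ : Fin a) (1 : F)) y)⁻¹ • y, ?_⟩
    rw [bf_smul_right, inv_mul_cancel₀ hy]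
  have hy1 : Q (pur u1 k1') = 0 := hS.Q_pur_sing u1 h1'1'
  have hy12 : polar (⇑Q) (pur u1 k1') (pur z k3) = 0 := by
    rw [hS.polar_pur, h1'3, mul_zero]
  have hm : ((siegIso Q (pur u1 k1') (pur z k3) hy1 hy12 : ↥(Cfsg.isometryGroup F ⇑Q)) :
      GL (Fin a × Fin b) F) ∈ M := (hall u1 z k1' k3 h1'1' h1'3 h33).mem hy1 hy12
  have hv : SIn Q M (pur u0 k1) (pur z' k3') := hall u0 z' k1 k3' h11 h13' h3'3'
  have hc := hv.conj (siegIso Q (pur u1 k1') (pur z k3) hy1 hy12) hm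
  have e1 : gact Q (siegIso Q (pur u1 k1') (pur z k3) hy1 hy12) (pur u0 k1) = pur u0 k1 := by
    rw [gact_siegIso, hS.polar_pur, hS.polar_pur, hS.h2.symm k3 k1, h13, hS.h1.symm u1 u0, hu]
    simp
  have e2 : gact Q (siegIso Q (pur u1 k1') (pur z k3) hy1 hy12) (pur z' k3') =
      pur z' k3' + pur u1 k1' := by
    rw [gact_siegIso, hS.polar_pur, hS.polar_pur, h33', h1'3', hzz']
    simp
  rw [e1, e2] at hc
  have := hc.sub hv
  rwa [add_sub_cancel_left] at this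

/-- all Siegel transformations centred at `u0 ⊗ k1` lie in `M` -/
theorem OrX_pur (hS : SetupO J1 J2 Q) (ha : 1 ≤ a) (hb : 5 ≤ b) (hall : AllLong J2 Q M)
    (u0 : Fin a → F) (k1 k1' k3 k3' : Fin b → F)
    (h11 : bf J2 k1 k1 = 0) (h1'1' : bf J2 k1' k1' = 0) (h33 : bf J2 k3 k3 = 0) (h3'3' : bf J2 k3' k3' = 0)
    (h13 : bf J2 k1 k3 = 0) (h13' : bf J2 k1 k3' = 0) (h1'3 : bf J2 k1' k3 = 0) (h1'3' : bf J2 k1' k3' = 0)
    (h33' : bf J2 k3 k3' = 1) (h11' : bf J2 k1' k1 = 1) :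
    OrX Q M (pur u0 k1) := by
  have hx : Q (pur u0 k1) = 0 := hS.Q_pur_sing u0 h11
  have key : ∀ v : Fin a × Fin b → F,
      SIn Q M (pur u0 k1) (v - pur (ctr (J2 *ᵥ k1) v) k1') := by
    intro v
    refine pur_induction (p := fun v => SIn Q M (pur u0 k1) (v - pur (ctr (J2 *ᵥ k1) v) k1')) ?_ ?_ ?_ v
    · have h0 := SIn_pur_of_perp hS hb hall u0 0 k1 0 h11 (bf_zero_left _ _)
      have e : (0 : Fin a × Fin b → F) - pur (ctr (J2 *ᵥ k1) (0 : Fin a × Fin b → F)) k1' = pur (0 : Fin a → F) (0 : Fin b → F) := by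
        rw [map_zero]
        funext p
        simp [pur_apply]
      rw [e]
      exact h0
    · intro x y hx hy
      have e : x + y - pur (ctr (J2 *ᵥ k1) (x + y)) k1' =
          (x - pur (ctr (J2 *ᵥ k1) x) k1') + (y - pur (ctr (J2 *ᵥ k1) y) k1') := by
        rw [map_add, pur_add_left]
        abel
      rw [e]
      exact hx.add hy
    · intro u w
      have e : pur u w - pur (ctr (J2 *ᵥ k1) (pur u w)) k1' = pur u (w - bf J2 w k1 • k1') := by
        rw [ctr_J_pur, pur_smul_left, ← pur_smul_right, sub_eq_add_neg, ← pur_neg_right, ← pur_add_right,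
          ← sub_eq_add_neg]
      rw [e]
      apply SIn_pur_of_perp hS hb hall u0 u k1 _ h11
      rw [bf_sub_left, bf_smul_left, h11', mul_one, sub_self]
  apply OrX_of_SIn hx
  intro v hv
  have hperp : bf J1 u0 (ctr (J2 *ᵥ k1) v) = 0 := by
    rw [polar_comm, hS.polar, bf_kron_pur_right] at hv
    rw [hS.h1.symm]
    exact hv
  have h2 := SIn_pur_opp hS ha hall u0 (ctr (J2 *ᵥ k1) v) k1 k1' k3 k3' h11 h1'1' h33 h3'3' h13 h13' h1'3 h1'3'
    h33' hperp
  have := (key v).add h2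
  rwa [sub_add_cancel] at this

/-- **T4** for `O ⊗ O`: a subgroup containing all long root elements `ρ_{u⊗k, u'⊗k'}` (`⟨k, k'⟩` totally singular in `W`,
`dim W ≥ 5`) contains `Ω(V)`. -/
theorem T4 (hS : SetupO J1 J2 Q) (ha : 1 ≤ a) (hb : 5 ≤ b) (M : Subgroup (GL (Fin a × Fin b) F))
    (hall : AllLong J2 Q M) : Cfsg.Geo.omegaGL (⇑Q) ≤ M := by
  obtain ⟨Q₂, hQ₂, hQ₂'⟩ := hS.h2.exists_quad hS.two
  have hnd : ∀ v : Fin b → F, v ≠ 0 → ∃ x, polar (⇑Q₂) v x ≠ 0 := by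
    intro v hv
    by_contra hcon
    push Not at hcon
    exact hv (hS.h2.nondeg v (fun y => by rw [← hQ₂]; exact hcon y))
  obtain ⟨k1, k3, k1', k3', -, q1, q3, q1', q3', p13, p11', p31', p13', p33', p1'3'⟩ :=
    Cfsg.Agent.Lib.Helper10.QGeo.exists_two_hyp Q₂ hnd (c := 0) (by omega) (fun i => i.elim0)
  have n1 : bf J2 k1 k1 = 0 := by rw [← hQ₂' k1, q1, mul_zero]
  have n3 : bf J2 k3 k3 = 0 := by rw [← hQ₂' k3, q3, mul_zero]
  have n1' : bf J2 k1' k1' = 0 := by rw [← hQ₂' k1', q1', mul_zero]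
  have n3' : bf J2 k3' k3' = 0 := by rw [← hQ₂' k3', q3', mul_zero]
  rw [hQ₂] at p13 p11' p31' p13' p33' p1'3'
  haveI : Nonempty (Fin a) := ⟨⟨0, by omega⟩⟩
  obtain ⟨u0, hu0⟩ := hS.h1.exists_norm_ne_zero hS.two
  have hX : OrX Q M (pur u0 k1) :=
    OrX_pur hS ha hb hall u0 k1 k1' k3 k3' n1 n1' n3 n3' p13 p13' (by rw [hS.h2.symm]; exact p31') p1'3' p33'
      (by rw [hS.h2.symm]; exact p11')
  have hX' : OrX Q M (pur u0 k1') :=
    OrX_pur hS ha hb hall u0 k1' k1 k3 k3' n1' n1 n3 n3' (by rw [hS.h2.symm]; exact p31') p1'3' p13 p13' p33' p11'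
  have hne : polar (⇑Q) (pur u0 k1) (pur u0 k1') ≠ 0 := by
    rw [hS.polar_pur, p11', mul_one]
    exact hu0
  have h5 : 5 ≤ Fintype.card (Fin a × Fin b) := by
    rw [Fintype.card_prod, Fintype.card_fin, Fintype.card_fin]
    nlinarith
  apply omegaGL_le_of_forall hS.nondeg h5
  intro z hz
  exact OrX.all hS.nondeg hX hX' hne z hz

end T4

end Cfsg.Agent.Lib.Helper3.OTT
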