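import Mathlib

set_option autoImplicit false
set_option linter.unusedSectionVars false
set_option linter.style.haveILetI false

namespace Cfsg.Agent.Lib.Helper3.SU3

/-- the data: `q = 2^n` and `|F| = q^2` -/
structure QData (F : Type*) [Field F] [Fintype F] (q n : ℕ) : Prop where
  hq : q = 2 ^ n
  hF : Fintype.card F = q ^ 2

variable {F : Type*} [Field F] [Fintype F] {q n : ℕ}

namespace QData

variable (d : QData F q n)
include d

lemma n_pos : 1 ≤ n := by
  by_contra h
  have hn : n = 0 := by omega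
  have h1 := d.hF
  rw [d.hq, hn] at h1
  have : 1 < Fintype.card F := Fintype.one_lt_card
  simp at h1
  omega

lemma q_pos : 0 < q := by rw [d.hq]; positivity

lemma two_le_q : 2 ≤ q := by
  rw [d.hq]
  calc 2 = 2 ^ 1 := by norm_num
    _ ≤ 2 ^ n := Nat.pow_le_pow_right (by norm_num) d.n_pos

lemma two_eq_zero : (2 : F) = 0 := by
  have h := Nat.cast_card_eq_zero F
  rw [d.hF, d.hq] at h
  have h' : ((2 : F) ^ n) ^ 2 = 0 := by exact_mod_cast h
  have h'' : (2 : F) ^ n = 0 := (pow_eq_zero_iff (by norm_num)).1 h'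
  exact (pow_eq_zero_iff (by have := d.n_pos; omega)).1 h''

lemma charP : CharP F 2 := CharTwo.of_one_ne_zero_of_two_eq_zero one_ne_zero d.two_eq_zero

lemma add_self (x : F) : x + x = 0 := by linear_combination x * d.two_eq_zero

lemma neg_eq (x : F) : -x = x := by linear_combination (-x) * d.two_eq_zero

lemma pow_q_add (x y : F) : (x + y) ^ q = x ^ q + y ^ q := by
  have := d.charP
  have : Fact (Nat.Prime 2) := ⟨Nat.prime_two⟩
  rw [d.hq]
  exact add_pow_char_pow x y 2 n

lemma pow_q_q (x : F) : (x ^ q) ^ q = x := by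
  rw [← pow_mul, ← pow_two, ← d.hF, FiniteField.pow_card]

/-- conjugation -/
def cj : F →+* F where
  toFun x := x ^ q
  map_one' := one_pow q
  map_mul' x y := mul_pow x y q
  map_zero' := zero_pow (by have := d.q_pos; omega)
  map_add' := d.pow_q_add

lemma cj_apply (x : F) : d.cj x = x ^ q := rfl

lemma cj_cj (x : F) : d.cj (d.cj x) = x := d.pow_q_q x

/-- the trace -/
def tr : F →+ F where
  toFun x := x + x ^ q
  map_zero' := by rw [zero_pow (by have := d.q_pos; omega), add_zero]
  map_add' x y := by rw [d.pow_q_add]; ring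

lemma tr_apply (x : F) : d.tr x = x + x ^ q := rfl

lemma tr_tr (x : F) : d.tr (d.tr x) = 0 := by
  rw [tr_apply, tr_apply, d.pow_q_add, d.pow_q_q]
  linear_combination (x + x ^ q) * d.two_eq_zero

lemma mem_ker_tr {x : F} : x ∈ d.tr.ker ↔ x ^ q = x := by
  rw [AddMonoidHom.mem_ker, tr_apply]
  constructor
  · intro h
    linear_combination h - x * d.two_eq_zero
  · intro h
    rw [h]
    exact d.add_self x

lemma card_ker_le : Nat.card d.tr.ker ≤ q := by
  classical
  have hq1 : 1 < q := d.two_le_q
  have hp : (Polynomial.X ^ q - Polynomial.X : Polynomial F) ≠ 0 :=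
    FiniteField.X_pow_card_sub_X_ne_zero F hq1
  have hdeg : (Polynomial.X ^ q - Polynomial.X : Polynomial F).natDegree = q :=
    FiniteField.X_pow_card_sub_X_natDegree_eq F hq1
  have hsub : (Finset.univ.filter (fun x : F => x ∈ d.tr.ker)) ⊆
      (Polynomial.X ^ q - Polynomial.X : Polynomial F).roots.toFinset := by
    intro x hx
    rw [Finset.mem_filter] at hx
    rw [Multiset.mem_toFinset, Polynomial.mem_roots hp, Polynomial.IsRoot.def]
    simp only [Polynomial.eval_sub, Polynomial.eval_pow, Polynomial.eval_X]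
    rw [d.mem_ker_tr.1 hx.2, sub_self]
  calc Nat.card d.tr.ker = Fintype.card d.tr.ker := Nat.card_eq_fintype_card
    _ = (Finset.univ.filter (fun x : F => x ∈ d.tr.ker)).card := Fintype.card_subtype _
    _ ≤ ((Polynomial.X ^ q - Polynomial.X : Polynomial F).roots.toFinset).card :=
        Finset.card_le_card hsub
    _ ≤ Multiset.card (Polynomial.X ^ q - Polynomial.X : Polynomial F).roots :=
        Multiset.toFinset_card_le _
    _ ≤ (Polynomial.X ^ q - Polynomial.X : Polynomial F).natDegree := Polynomial.card_roots' _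
    _ = q := hdeg

lemma range_le_ker : d.tr.range ≤ d.tr.ker := by
  rintro _ ⟨x, rfl⟩
  rw [AddMonoidHom.mem_ker]
  exact d.tr_tr x

lemma card_ker_mul_range : Nat.card d.tr.ker * Nat.card d.tr.range = q ^ 2 := by
  rw [← AddSubgroup.index_ker, AddSubgroup.card_mul_index, Nat.card_eq_fintype_card, d.hF]

lemma card_ker : Nat.card d.tr.ker = q := by
  have h1 := d.card_ker_le
  have h2 : Nat.card d.tr.range ≤ Nat.card d.tr.ker :=
    AddSubgroup.card_le_of_le d.range_le_ker
  have h3 := d.card_ker_mul_range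
  have hq := d.q_pos
  by_contra hne
  have hlt : Nat.card d.tr.ker < q := lt_of_le_of_ne h1 hne
  have : Nat.card d.tr.ker * Nat.card d.tr.range < q * q := by
    calc Nat.card d.tr.ker * Nat.card d.tr.range ≤ Nat.card d.tr.ker * q :=
          Nat.mul_le_mul_left _ (h2.trans h1)
      _ < q * q := Nat.mul_lt_mul_of_pos_right hlt hq
  rw [h3, pow_two] at this
  exact lt_irrefl _ this

lemma card_range : Nat.card d.tr.range = q := by
  have h3 := d.card_ker_mul_range
  rw [d.card_ker, pow_two] at h3
  exact Nat.eq_of_mul_eq_mul_left d.q_pos h3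

lemma range_eq_ker : d.tr.range = d.tr.ker := by
  apply AddSubgroup.eq_of_le_of_card_ge d.range_le_ker
  rw [d.card_ker, d.card_range]

lemma exists_tr_eq {c : F} (hc : c ^ q = c) : ∃ b : F, b + b ^ q = c := by
  have : c ∈ d.tr.range := by
    rw [d.range_eq_ker]
    exact d.mem_ker_tr.2 hc
  obtain ⟨b, hb⟩ := this
  exact ⟨b, hb⟩

lemma norm_fixed (a : F) : (a * a ^ q) ^ q = a * a ^ q := by
  rw [mul_pow, d.pow_q_q, mul_comm]

lemma exists_tr_eq_norm (a : F) : ∃ b : F, b + b ^ q = a * a ^ q :=
  d.exists_tr_eq (d.norm_fixed a)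

lemma exists_omega : ∃ ω : F, ω + ω ^ q = 1 := d.exists_tr_eq (one_pow q)

end QData

end Cfsg.Agent.Lib.Helper3.SU3
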