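import Mathlib
import Cfsg.Agent.Lib.Helper3.SU3Syl1

set_option autoImplicit false
set_option linter.unusedSectionVars false
set_option linter.style.haveILetI false

namespace Cfsg.Agent.Lib.Helper3.SU3

/-- the abstract Sylow 2-subgroup of `SU_3(q)`, `q = 2^n` -/
@[ext]
structure UP (F : Type*) [Field F] (q n : ℕ) where
  a : F
  b : F
  h : b + b ^ q = a * a ^ q

variable {F : Type*} [Field F] [Fintype F] {q n : ℕ}

namespace UP

variable [hd : Fact (QData F q n)]

instance : Mul (UP F q n) := ⟨fun x y => ⟨x.a + y.a, x.b + y.b + x.a ^ q * y.a, by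
  have d := hd.out
  rw [d.pow_q_add, d.pow_q_add, d.pow_q_add, mul_pow, d.pow_q_q]
  linear_combination x.h + y.h⟩⟩

instance : One (UP F q n) := ⟨⟨0, 0, by
  have d := hd.out
  rw [zero_pow (by have := d.q_pos; omega)]; ring⟩⟩

instance : Inv (UP F q n) := ⟨fun x => ⟨x.a, x.b ^ q, by
  have d := hd.out
  rw [d.pow_q_q]
  linear_combination x.h⟩⟩

@[simp] lemma mul_a (x y : UP F q n) : (x * y).a = x.a + y.a := rfl
@[simp] lemma mul_b (x y : UP F q n) : (x * y).b = x.b + y.b + x.a ^ q * y.a := rfl
@[simp] lemma one_a : (1 : UP F q n).a = 0 := rfl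
@[simp] lemma one_b : (1 : UP F q n).b = 0 := rfl
@[simp] lemma inv_a (x : UP F q n) : (x⁻¹).a = x.a := rfl
@[simp] lemma inv_b (x : UP F q n) : (x⁻¹).b = x.b ^ q := rfl

instance : Group (UP F q n) where
  mul_assoc x y z := by
    have d := hd.out
    ext
    · simp only [mul_a]; ring
    · simp only [mul_a, mul_b]; rw [d.pow_q_add]; ring
  one_mul x := by
    have d := hd.out
    ext
    · simp
    · simp only [mul_b, one_a, one_b]
      rw [zero_pow (by have := d.q_pos; omega)]; ring
  mul_one x := by
    ext
    · simp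
    · simp
  inv_mul_cancel x := by
    have d := hd.out
    ext
    · simp only [mul_a, inv_a, one_a]
      exact d.add_self _
    · simp only [mul_b, inv_a, inv_b, one_b]
      linear_combination x.h + (x.a * x.a ^ q) * d.two_eq_zero

lemma mul_self (x : UP F q n) : x * x = ⟨0, x.a * x.a ^ q, by
    have d := hd.out
    rw [d.norm_fixed]; linear_combination (x.a * x.a ^ q) * d.two_eq_zero⟩ := by
  have d := hd.out
  ext
  · simp only [mul_a]; exact d.add_self _
  · simp only [mul_b]
    linear_combination x.b * d.two_eq_zero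

lemma mul_self_eq_one_iff (x : UP F q n) : x * x = 1 ↔ x.a = 0 := by
  have d := hd.out
  constructor
  · intro h
    have h1 := congrArg UP.b h
    rw [mul_self] at h1
    simp only [one_b] at h1
    rcases mul_eq_zero.1 h1 with h2 | h2
    · exact h2
    · exact (pow_eq_zero_iff (by have := d.q_pos; omega)).1 h2
  · intro h
    rw [mul_self]
    ext
    · rfl
    · simp [h]

/-- a chosen section of the trace -/
noncomputable def sec (a : F) : F := Classical.choose (hd.out.exists_tr_eq_norm a)

lemma sec_spec (a : F) : sec (q := q) (n := n) a + (sec (q := q) (n := n) a) ^ q = a * a ^ q :=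
  Classical.choose_spec (hd.out.exists_tr_eq_norm a)

/-- a chosen lift -/
noncomputable def lift (a : F) : UP F q n := ⟨a, sec (q := q) (n := n) a, sec_spec a⟩

@[simp] lemma lift_a (a : F) : (lift (q := q) (n := n) a).a = a := rfl

/-- central elements -/
def zel (c : F) (hc : c ^ q = c) : UP F q n := ⟨0, c, by
  have d := hd.out
  rw [hc, zero_mul]; exact d.add_self c⟩

@[simp] lemma zel_a (c : F) (hc : c ^ q = c) : (zel (n := n) c hc).a = 0 := rfl
@[simp] lemma zel_b (c : F) (hc : c ^ q = c) : (zel (n := n) c hc).b = c := rfl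

lemma b_fixed_of_a_zero {x : UP F q n} (hx : x.a = 0) : x.b ^ q = x.b := by
  have d := hd.out
  have := x.h
  rw [hx, zero_mul] at this
  exact d.mem_ker_tr.1 this

/-- the underlying equivalence with `F × ker tr` -/
noncomputable def equivProd : UP F q n ≃ F × hd.out.tr.ker where
  toFun x := (x.a, ⟨x.b + sec (q := q) (n := n) x.a, by
    have d := hd.out
    rw [AddMonoidHom.mem_ker, map_add, d.tr_apply, d.tr_apply, x.h, sec_spec]
    exact d.add_self _⟩)
  invFun p := ⟨p.1, p.2.1 + sec (q := q) (n := n) p.1, by
    have d := hd.out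
    have h2 : (p.2.1 : F) ^ q = p.2.1 := d.mem_ker_tr.1 p.2.2
    rw [d.pow_q_add, h2]
    linear_combination sec_spec (q := q) (n := n) p.1 + (p.2.1 : F) * d.two_eq_zero⟩
  left_inv x := by
    have d := hd.out
    ext
    · rfl
    · show x.b + sec (q := q) (n := n) x.a + sec (q := q) (n := n) x.a = x.b
      linear_combination (sec (q := q) (n := n) x.a) * d.two_eq_zero
  right_inv p := by
    have d := hd.out
    apply Prod.ext
    · rfl
    · apply Subtype.ext
      show p.2.1 + sec (q := q) (n := n) p.1 + sec (q := q) (n := n) p.1 = p.2.1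
      linear_combination (sec (q := q) (n := n) p.1) * d.two_eq_zero

theorem card_UP : Nat.card (UP F q n) = q ^ 3 := by
  have d := hd.out
  rw [Nat.card_congr (equivProd (F := F) (q := q) (n := n)), Nat.card_prod, d.card_ker,
    Nat.card_eq_fintype_card, d.hF]
  ring

instance : Finite (UP F q n) := by
  have d := hd.out
  apply Nat.finite_of_card_ne_zero
  rw [card_UP]
  have := d.q_pos
  positivity

end UP

end Cfsg.Agent.Lib.Helper3.SU3
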