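import Mathlib
import Cfsg.Agent.Lib.Helper3.SU3Syl3
import Cfsg.Agent.Lib.Helper16.SUCenter

set_option autoImplicit false
set_option linter.unusedSectionVars false
set_option linter.style.haveILetI false

namespace Cfsg.Agent.Lib.Helper3.SU3
open Matrix Cfsg

variable {F : Type*} [Field F] [Fintype F] {q n : ℕ} [hd : Fact (QData F q n)]

omit hd in
lemma odd_card_center (hF : Fintype.card F = q ^ 2) :
    Odd (Nat.card (Subgroup.center ↥(Cfsg.SU 3 F q))) := by
  rw [Cfsg.Agent.Lib.Helper16.card_center_SU hF (by norm_num)]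
  have h : Nat.gcd 3 (q + 1) ∣ 3 := Nat.gcd_dvd_left _ _
  rcases (Nat.dvd_prime Nat.prime_three).1 h with h1 | h1 <;> rw [h1] <;> decide

/-- the embedding into `PSU_3` -/
noncomputable def toPSU : UP F q n →* Cfsg.PSU 3 F q :=
  (QuotientGroup.mk' (Subgroup.center ↥(Cfsg.SU 3 F q))).comp toSU

lemma toPSU_injective : Function.Injective (toPSU (F := F) (q := q) (n := n)) := by
  have d := hd.out
  rw [injective_iff_map_eq_one]
  intro x hx
  have h1 : toSU x ∈ Subgroup.center ↥(Cfsg.SU 3 F q) := by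
    rw [← QuotientGroup.eq_one_iff]
    exact hx
  have h2 : orderOf (toSU x) ∣ Nat.card (Subgroup.center ↥(Cfsg.SU 3 F q)) :=
    Subgroup.orderOf_dvd_natCard _ h1
  have h3 : orderOf x ∣ 2 ^ (3 * n) := by
    have := orderOf_dvd_natCard x
    have e : q ^ 3 = 2 ^ (3 * n) := by rw [d.hq, ← pow_mul, mul_comm]
    rwa [UP.card_UP, e] at this
  rw [orderOf_injective toSU toSU_injective x] at h2
  have h4 : Nat.Coprime (2 ^ (3 * n)) (Nat.card (Subgroup.center ↥(Cfsg.SU 3 F q))) :=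
    Nat.Coprime.pow_left _ (Nat.coprime_two_left.mpr (odd_card_center d.hF))
  have h5 : orderOf x = 1 := Nat.eq_one_of_dvd_coprimes h4 h3 h2
  exact orderOf_eq_one_iff.1 h5

lemma factorization_card_PSU3 : (Nat.card (Cfsg.PSU 3 F q)).factorization 2 = 3 * n := by
  have h1 := Subgroup.card_eq_card_quotient_mul_card_subgroup (Subgroup.center ↥(Cfsg.SU 3 F q))
  have h2 := factorization_card_SU3 (F := F) (q := q) (n := n)
  have hodd := odd_card_center (F := F) (q := q) hd.out.hF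
  have hZ : Nat.card (Subgroup.center ↥(Cfsg.SU 3 F q)) ≠ 0 := Nat.card_pos.ne'
  have hQ : Nat.card (↥(Cfsg.SU 3 F q) ⧸ Subgroup.center ↥(Cfsg.SU 3 F q)) ≠ 0 := Nat.card_pos.ne'
  rw [h1, Nat.factorization_mul hQ hZ] at h2
  simp only [Finsupp.coe_add, Pi.add_apply] at h2
  have h3 : (Nat.card (Subgroup.center ↥(Cfsg.SU 3 F q))).factorization 2 = 0 := by
    apply Nat.factorization_eq_zero_of_not_dvd
    intro h
    rw [← even_iff_two_dvd] at h
    exact (Nat.not_even_iff_odd.2 hodd) h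
  rw [h3, add_zero] at h2
  exact h2

/-- every Sylow 2-subgroup of `PSU_3(q)` is isomorphic to the abstract group -/
theorem sylow_PSU_equiv (P : Sylow 2 (Cfsg.PSU 3 F q)) :
    Nonempty (↥(P : Subgroup (Cfsg.PSU 3 F q)) ≃* UP F q n) := by
  have d := hd.out
  haveI : Fact (Nat.Prime 2) := ⟨Nat.prime_two⟩
  have hcardT : Nat.card (toPSU (F := F) (q := q) (n := n)).range
      = 2 ^ (Nat.card (Cfsg.PSU 3 F q)).factorization 2 := by
    rw [factorization_card_PSU3 (n := n),
      ← Nat.card_congr (MonoidHom.ofInjective (toPSU_injective (F := F) (q := q) (n := n))).toEquiv,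
      UP.card_UP, d.hq, ← pow_mul, mul_comm]
  let Q : Sylow 2 (Cfsg.PSU 3 F q) := Sylow.ofCard _ hcardT
  obtain ⟨g, hg⟩ := MulAction.exists_smul_eq (Cfsg.PSU 3 F q) Q P
  have e0 : (toPSU (F := F) (q := q) (n := n)).range ≃* ↥(g • Q : Sylow 2 (Cfsg.PSU 3 F q)) :=
    Sylow.equivSMul Q g
  rw [hg] at e0
  exact ⟨e0.symm.trans (MonoidHom.ofInjective toPSU_injective).symm⟩

end Cfsg.Agent.Lib.Helper3.SU3
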