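import Mathlib
import Cfsg.Agent.Lib.Helper3.SU3Syl2

set_option autoImplicit false
set_option linter.unusedSectionVars false
set_option linter.style.haveILetI false

namespace Cfsg.Agent.Lib.Helper3.SU3

open scoped commutatorElement

section transfer
variable {A B : Type*} [Group A] [Group B]

lemma mem_center_equiv (e : A ≃* B) (x : A) :
    x ∈ Subgroup.center A ↔ e x ∈ Subgroup.center B := by
  rw [Subgroup.mem_center_iff, Subgroup.mem_center_iff]
  constructor
  · intro h y
    obtain ⟨y', rfl⟩ := e.surjective y
    rw [← map_mul, ← map_mul, h y']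
  · intro h y
    apply e.injective
    rw [map_mul, map_mul, h (e y)]

lemma mem_commutator_equiv (e : A ≃* B) (x : A) :
    x ∈ commutator A ↔ e x ∈ commutator B := by
  have h : (commutator A).map e.toMonoidHom = commutator B := by
    rw [commutator_def, Subgroup.map_commutator,
      Subgroup.map_top_of_surjective e.toMonoidHom e.surjective, ← commutator_def]
  rw [← h]
  exact (Subgroup.mem_map_iff_mem (f := e.toMonoidHom) e.injective).symm

lemma center_eq_commutator_of_equiv (e : A ≃* B)
    (h : Subgroup.center B = commutator B) : Subgroup.center A = commutator A := by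
  ext x
  rw [mem_center_equiv e, mem_commutator_equiv e, h]

lemma card_center_of_equiv (e : A ≃* B) :
    Nat.card (Subgroup.center A) = Nat.card (Subgroup.center B) := by
  apply Nat.card_congr
  exact
    { toFun := fun x => ⟨e x.1, (mem_center_equiv e x.1).1 x.2⟩
      invFun := fun y => ⟨e.symm y.1, (mem_center_equiv e (e.symm y.1)).2 (by
        rw [MulEquiv.apply_symm_apply]; exact y.2)⟩
      left_inv := fun x => Subtype.ext (e.symm_apply_apply x.1)
      right_inv := fun y => Subtype.ext (e.apply_symm_apply y.1) }

end transfer

variable {F : Type*} [Field F] [Fintype F] {q n : ℕ}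

namespace UP

variable [hd : Fact (QData F q n)]

lemma commute_iff (x y : UP F q n) : x * y = y * x ↔ x.a ^ q * y.a = y.a ^ q * x.a := by
  constructor
  · intro h
    have := congrArg UP.b h
    simp only [mul_b] at this
    linear_combination this
  · intro h
    ext
    · simp only [mul_a]; ring
    · simp only [mul_b]; linear_combination h

omit hd in
lemma exists_not_fixed (d : QData F q n) : ∃ c : F, c ^ q ≠ c := by
  obtain ⟨ω, hω⟩ := d.exists_omega
  refine ⟨ω, fun h => ?_⟩
  rw [h, d.add_self] at hω
  exact zero_ne_one hω

lemma mem_center_iff (x : UP F q n) : x ∈ Subgroup.center (UP F q n) ↔ x.a = 0 := by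
  have d := hd.out
  rw [Subgroup.mem_center_iff]
  constructor
  · intro h
    have h1 := fun c : F => (commute_iff (lift (q := q) (n := n) c) x).1 (h _)
    simp only [lift_a] at h1
    have h2 := h1 1
    rw [one_pow, one_mul, mul_one] at h2
    obtain ⟨c, hc⟩ := exists_not_fixed d
    have h3 := h1 c
    rw [← h2] at h3
    have h4 : (c ^ q - c) * x.a = 0 := by linear_combination h3
    rcases mul_eq_zero.1 h4 with h5 | h5
    · exact absurd (sub_eq_zero.1 h5) hc
    · exact h5
  · intro h y
    rw [commute_iff, h, zero_pow (by have := d.q_pos; omega)]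
    ring

lemma mem_center_of_sq (x : UP F q n) : x * x ∈ Subgroup.center (UP F q n) := by
  rw [mem_center_iff, mul_self]

theorem card_center : Nat.card (Subgroup.center (UP F q n)) = q := by
  have d := hd.out
  refine Eq.trans ?_ d.card_ker
  apply Nat.card_congr
  exact
    { toFun := fun x => ⟨x.1.b, d.mem_ker_tr.2 (b_fixed_of_a_zero ((mem_center_iff x.1).1 x.2))⟩
      invFun := fun c => ⟨zel c.1 (d.mem_ker_tr.1 c.2), (mem_center_iff _).2 rfl⟩
      left_inv := fun x => by
        apply Subtype.ext
        ext
        · exact ((mem_center_iff x.1).1 x.2).symm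
        · rfl
      right_inv := fun c => Subtype.ext rfl }

lemma not_comm : ∃ x y : UP F q n, x * y ≠ y * x := by
  have d := hd.out
  obtain ⟨c, hc⟩ := exists_not_fixed d
  refine ⟨lift (1 : F), lift c, fun h => ?_⟩
  rw [commute_iff] at h
  simp only [lift_a, one_pow, one_mul, mul_one] at h
  exact hc h.symm

lemma isPGroup : IsPGroup 2 (UP F q n) := by
  have d := hd.out
  apply IsPGroup.of_card (n := 3 * n)
  rw [card_UP, d.hq, ← pow_mul, mul_comm]

lemma orderOf_eq_two_iff (x : UP F q n) : orderOf x = 2 ↔ x ≠ 1 ∧ x.a = 0 := by
  rw [orderOf_eq_iff (by norm_num)]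
  constructor
  · rintro ⟨h1, h2⟩
    refine ⟨?_, ?_⟩
    · intro h
      exact h2 1 (by norm_num) (by norm_num) (by rw [h, pow_one])
    · rw [pow_two] at h1
      exact (mul_self_eq_one_iff x).1 h1
  · rintro ⟨h1, h2⟩
    refine ⟨?_, ?_⟩
    · rw [pow_two]
      exact (mul_self_eq_one_iff x).2 h2
    · intro m hm hm0
      have : m = 1 := by omega
      rw [this, pow_one]
      exact h1

theorem center_eq_closure :
    Subgroup.center (UP F q n) = Subgroup.closure {x : UP F q n | orderOf x = 2} := by
  apply le_antisymm
  · intro x hx
    by_cases h1 : x = 1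
    · rw [h1]; exact Subgroup.one_mem _
    · apply Subgroup.subset_closure
      exact (orderOf_eq_two_iff x).2 ⟨h1, (mem_center_iff x).1 hx⟩
  · rw [Subgroup.closure_le]
    intro x hx
    exact (mem_center_iff x).2 ((orderOf_eq_two_iff x).1 hx).2

theorem center_eq_commutator : Subgroup.center (UP F q n) = commutator (UP F q n) := by
  have d := hd.out
  apply le_antisymm
  · intro x hx
    have hxa := (mem_center_iff x).1 hx
    have hxb := b_fixed_of_a_zero hxa
    obtain ⟨t, ht⟩ := d.exists_tr_eq hxb
    have : x = ⁅lift (q := q) (n := n) (1 : F), lift (q := q) (n := n) t⁆ := by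
      rw [commutatorElement_def]
      ext
      · simp only [mul_a, inv_a, lift_a, hxa]
        linear_combination (-(1 : F) - t) * d.two_eq_zero
      · simp only [mul_b, mul_a, inv_a, inv_b, lift_a, one_pow, one_mul]
        have s1 := sec_spec (F := F) (q := q) (n := n) (1 : F)
        have s2 := sec_spec (F := F) (q := q) (n := n) t
        rw [one_pow, one_mul] at s1
        show x.b = (lift (q := q) (n := n) (1 : F)).b + (lift (q := q) (n := n) t).b + t
          + (lift (q := q) (n := n) (1 : F)).b ^ q + (1 + t) ^ q * 1
          + (lift (q := q) (n := n) t).b ^ q + (1 + t + 1) ^ q * t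
        have e1 : (lift (q := q) (n := n) (1 : F)).b = sec (q := q) (n := n) (1 : F) := rfl
        have e2 : (lift (q := q) (n := n) t).b = sec (q := q) (n := n) t := rfl
        rw [e1, e2, d.pow_q_add, d.pow_q_add, d.pow_q_add, one_pow]
        linear_combination (-1 : F) * ht - s1 - s2 + (-1 - t - t * t ^ q) * d.two_eq_zero
    rw [this, commutator_def]
    exact Subgroup.commutator_mem_commutator (Subgroup.mem_top _) (Subgroup.mem_top _)
  · rw [commutator_def, Subgroup.commutator_le]
    intro x _ y _
    rw [mem_center_iff, commutatorElement_def]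
    simp only [mul_a, inv_a]
    linear_combination (x.a + y.a) * d.two_eq_zero

end UP

end Cfsg.Agent.Lib.Helper3.SU3
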