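import Mathlib
import Cfsg.Prelude.Def_LieRecognition
import Cfsg.Agent.Lib.Helper3.SU3Syl5

set_option autoImplicit false
set_option linter.unusedSectionVars false
set_option linter.style.haveILetI false

namespace Cfsg.Agent.Lib.Helper3.SU3

open Cfsg

/-- Suzuki 2-groups are preserved by isomorphisms -/
theorem isSuzukiTwoGroup_of_equiv {A B : Type*} [Group A] [Group B] (e : A ≃* B)
    (h : Cfsg.IsSuzukiTwoGroup B) : Cfsg.IsSuzukiTwoGroup A := by
  obtain ⟨hfin, hp, ⟨x, y, hxy⟩, ⟨u, v, huv, hu1, hu2, hv1, hv2⟩, K, hK, hreg⟩ := h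
  refine ⟨Finite.of_equiv B e.symm.toEquiv, hp.of_equiv e.symm, ⟨e.symm x, e.symm y, ?_⟩,
    ⟨e.symm u, e.symm v, ?_, ?_, ?_, ?_, ?_⟩, K.map (MulAut.congr e.symm).toMonoidHom, ?_, ?_⟩
  · intro h
    apply hxy
    have := congrArg e h
    simpa using this
  · intro h
    exact huv (e.symm.injective h)
  · intro h
    apply hu1
    have := congrArg e h
    simpa using this
  · rw [← map_mul, hu2, map_one]
  · intro h
    apply hv1
    have := congrArg e h
    simpa using this
  · rw [← map_mul, hv2, map_one]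
  · haveI := hK
    exact isCyclic_of_surjective ((MulAut.congr e.symm).toMonoidHom.subgroupMap K)
      ((MulAut.congr e.symm).toMonoidHom.subgroupMap_surjective K)
  · intro a b ha1 ha2 hb1 hb2
    have hea1 : e a ≠ 1 := fun h => ha1 (by
      have := congrArg e.symm h
      simpa using this)
    have heb1 : e b ≠ 1 := fun h => hb1 (by
      have := congrArg e.symm h
      simpa using this)
    have hea2 : e a * e a = 1 := by rw [← map_mul, ha2, map_one]
    have heb2 : e b * e b = 1 := by rw [← map_mul, hb2, map_one]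
    obtain ⟨k, hk, hkuniq⟩ := hreg (e a) (e b) hea1 hea2 heb1 heb2
    refine ⟨⟨MulAut.congr e.symm k.1, ⟨k.1, k.2, rfl⟩⟩, ?_, ?_⟩
    · show e.symm (k.1 (e.symm.symm a)) = b
      rw [MulEquiv.symm_symm, hk, MulEquiv.symm_apply_apply]
    · rintro ⟨_, k2, hk2, rfl⟩ hk2b
      have h3 : k2 (e a) = e b := by
        have h4 : e.symm (k2 (e.symm.symm a)) = b := hk2b
        rw [MulEquiv.symm_symm] at h4
        rw [← h4, MulEquiv.apply_symm_apply]
      have := hkuniq ⟨k2, hk2⟩ h3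
      apply Subtype.ext
      show MulAut.congr e.symm k2 = MulAut.congr e.symm k.1
      rw [← this]

variable {F : Type*} [Field F] [Fintype F] {q n : ℕ}

/-- the units fixed by conjugation -/
def fixU (F : Type*) [Field F] (q : ℕ) : Subgroup Fˣ where
  carrier := {u | (u : F) ^ q = u}
  mul_mem' := by
    intro u v hu hv
    show ((u * v : Fˣ) : F) ^ q = (u * v : Fˣ)
    rw [Units.val_mul, mul_pow, hu, hv]
  one_mem' := by
    show ((1 : Fˣ) : F) ^ q = (1 : Fˣ)
    rw [Units.val_one, one_pow]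
  inv_mem' := by
    intro u hu
    show ((u⁻¹ : Fˣ) : F) ^ q = (u⁻¹ : Fˣ)
    rw [Units.val_inv_eq_inv_val, inv_pow, hu]

lemma mem_fixU (u : Fˣ) : u ∈ fixU F q ↔ (u : F) ^ q = u := Iff.rfl

namespace UP

variable [hd : Fact (QData F q n)]

/-- the torus automorphisms -/
def torAut (u : fixU F q) : MulAut (UP F q n) where
  toFun x := ⟨(u.1 : F) * x.a, (u.1 : F) ^ 2 * x.b, by
    have hu : (u.1 : F) ^ q = u.1 := u.2
    rw [mul_pow, mul_pow, ← pow_mul, mul_comm 2 q, pow_mul, hu]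
    linear_combination ((u.1 : F) ^ 2) * x.h⟩
  invFun x := ⟨((u.1⁻¹ : Fˣ) : F) * x.a, ((u.1⁻¹ : Fˣ) : F) ^ 2 * x.b, by
    have hu : ((u.1⁻¹ : Fˣ) : F) ^ q = (u.1⁻¹ : Fˣ) := (u⁻¹).2
    rw [mul_pow, mul_pow, ← pow_mul, mul_comm 2 q, pow_mul, hu]
    linear_combination (((u.1⁻¹ : Fˣ) : F) ^ 2) * x.h⟩
  left_inv x := by
    ext
    · show ((u.1⁻¹ : Fˣ) : F) * ((u.1 : F) * x.a) = x.a
      rw [← mul_assoc, Units.inv_mul, one_mul]
    · show ((u.1⁻¹ : Fˣ) : F) ^ 2 * ((u.1 : F) ^ 2 * x.b) = x.b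
      rw [← mul_assoc, ← mul_pow, Units.inv_mul, one_pow, one_mul]
  right_inv x := by
    ext
    · show (u.1 : F) * (((u.1⁻¹ : Fˣ) : F) * x.a) = x.a
      rw [← mul_assoc, Units.mul_inv, one_mul]
    · show (u.1 : F) ^ 2 * (((u.1⁻¹ : Fˣ) : F) ^ 2 * x.b) = x.b
      rw [← mul_assoc, ← mul_pow, Units.mul_inv, one_pow, one_mul]
  map_mul' x y := by
    have hu : (u.1 : F) ^ q = u.1 := u.2
    ext
    · show (u.1 : F) * (x.a + y.a) = (u.1 : F) * x.a + (u.1 : F) * y.a
      ring
    · show (u.1 : F) ^ 2 * (x.b + y.b + x.a ^ q * y.a)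
        = (u.1 : F) ^ 2 * x.b + (u.1 : F) ^ 2 * y.b + ((u.1 : F) * x.a) ^ q * ((u.1 : F) * y.a)
      rw [mul_pow, hu]
      ring

lemma torAut_apply_a (u : fixU F q) (x : UP F q n) : (torAut u x).a = (u.1 : F) * x.a := rfl
lemma torAut_apply_b (u : fixU F q) (x : UP F q n) : (torAut u x).b = (u.1 : F) ^ 2 * x.b := rfl

/-- the torus as a homomorphism -/
def torHom : fixU F q →* MulAut (UP F q n) where
  toFun := torAut
  map_one' := by
    ext x
    · show ((1 : Fˣ) : F) * x.a = x.a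
      rw [Units.val_one, one_mul]
    · show ((1 : Fˣ) : F) ^ 2 * x.b = x.b
      rw [Units.val_one, one_pow, one_mul]
  map_mul' u v := by
    ext x
    · show ((u.1 * v.1 : Fˣ) : F) * x.a = (u.1 : F) * ((v.1 : F) * x.a)
      rw [Units.val_mul, mul_assoc]
    · show ((u.1 * v.1 : Fˣ) : F) ^ 2 * x.b = (u.1 : F) ^ 2 * ((v.1 : F) ^ 2 * x.b)
      rw [Units.val_mul, mul_pow, mul_assoc]

lemma exists_fixed_ne (hn : 2 ≤ n) : ∃ c : F, c ^ q = c ∧ c ≠ 0 ∧ c ≠ 1 := by
  have d := hd.out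
  by_contra hcon
  push Not at hcon
  have hsub : (d.tr.ker : Set F) ⊆ {0, 1} := by
    intro c hc
    have h1 : c ^ q = c := d.mem_ker_tr.1 hc
    by_cases h0 : c = 0
    · left; exact h0
    · right; exact hcon c h1 h0
  have h1 : Nat.card d.tr.ker ≤ 2 := by
    have e : Nat.card d.tr.ker = Set.ncard (d.tr.ker : Set F) := _root_.Nat.card_coe_set_eq _
    rw [e]
    calc Set.ncard (d.tr.ker : Set F) ≤ Set.ncard ({0, 1} : Set F) :=
          Set.ncard_le_ncard hsub (Set.toFinite _)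
      _ ≤ 2 := le_of_eq (Set.ncard_pair zero_ne_one)
  rw [d.card_ker, d.hq] at h1
  have : 2 ^ 2 ≤ 2 ^ n := Nat.pow_le_pow_right (by norm_num) hn
  omega

theorem isSuzukiTwoGroup (hn : 2 ≤ n) : Cfsg.IsSuzukiTwoGroup (UP F q n) := by
  have d := hd.out
  obtain ⟨c, hc, hc0, hc1⟩ := exists_fixed_ne (F := F) (q := q) (n := n) hn
  refine ⟨inferInstance, isPGroup, not_comm, ⟨zel 1 (one_pow q), zel c hc, ?_, ?_, ?_, ?_, ?_⟩,
    (torHom (F := F) (q := q) (n := n)).range, ?_, ?_⟩
  · intro h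
    exact hc1 (congrArg UP.b h).symm
  · intro h
    exact one_ne_zero (congrArg UP.b h)
  · exact (mul_self_eq_one_iff _).2 rfl
  · intro h
    exact hc0 (congrArg UP.b h)
  · exact (mul_self_eq_one_iff _).2 rfl
  · exact isCyclic_of_surjective (torHom (F := F) (q := q) (n := n)).rangeRestrict
      (torHom (F := F) (q := q) (n := n)).rangeRestrict_surjective
  · intro x y hx1 hx2 hy1 hy2
    have hxa := (mul_self_eq_one_iff x).1 hx2
    have hya := (mul_self_eq_one_iff y).1 hy2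
    have hxb := b_fixed_of_a_zero hxa
    have hyb := b_fixed_of_a_zero hya
    have hxb0 : x.b ≠ 0 := by
      intro h
      apply hx1
      ext
      · exact hxa
      · exact h
    have hyb0 : y.b ≠ 0 := by
      intro h
      apply hy1
      ext
      · exact hya
      · exact h
    -- the square root of `y.b / x.b`
    obtain ⟨k, hk⟩ : ∃ k, n = k + 1 := ⟨n - 1, by have := d.n_pos; omega⟩
    set r : F := y.b / x.b with hr
    have hrq : r ^ q = r := by rw [hr, div_pow, hxb, hyb]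
    have hr0 : r ≠ 0 := div_ne_zero hyb0 hxb0
    set l : F := r ^ (2 ^ k) with hl
    have hl2 : l ^ 2 = r := by
      rw [hl, ← pow_mul, ← pow_succ, ← hk, ← d.hq, hrq]
    have hl0 : l ≠ 0 := pow_ne_zero _ hr0
    have hlq : l ^ q = l := by
      rw [hl, ← pow_mul, mul_comm, pow_mul, hrq]
    let u : fixU F q := ⟨Units.mk0 l hl0, hlq⟩
    refine ⟨⟨torHom u, u, rfl⟩, ?_, ?_⟩
    · show torAut u x = y
      ext
      · rw [torAut_apply_a, hxa, hya, mul_zero]
      · rw [torAut_apply_b]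
        show l ^ 2 * x.b = y.b
        rw [hl2, hr, div_mul_cancel₀ _ hxb0]
    · rintro ⟨_, v, rfl⟩ hv
      apply Subtype.ext
      show torHom v = torHom u
      have h1 : (torAut v x).b = y.b := congrArg UP.b hv
      rw [torAut_apply_b] at h1
      have h2 : ((v.1 : Fˣ) : F) ^ 2 = l ^ 2 := by
        rw [hl2, hr, eq_div_iff hxb0, h1]
      have h3 : ((v.1 : Fˣ) : F) = l := by
        have h4 : (((v.1 : Fˣ) : F) + l) ^ 2 = 0 := by
          linear_combination h2 + (((v.1 : Fˣ) : F) * l + l ^ 2) * d.two_eq_zero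
        have h5 := pow_eq_zero_iff (two_ne_zero) |>.1 h4
        linear_combination h5 - l * d.two_eq_zero
      have h6 : v = u := by
        apply Subtype.ext
        apply Units.ext
        exact h3
      rw [h6]

end UP

end Cfsg.Agent.Lib.Helper3.SU3
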