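import Mathlib

set_option autoImplicit false

/-!
Piece P3 for helper12's S2197 (the Tits group has no 2-transitive action): orbit counting for an
elementary abelian group `Q = ⟨u1, u2⟩` of order 25 all of whose subgroups of order 5 are conjugate
in the ambient group.
-/

namespace Cfsg.Agent.Lib.Helper12.Tits2T

open MulAction

namespace P3

section generic

variable {G : Type*} [Group G]

theorem pow_mod5 {u : G} (h : u ^ 5 = 1) (n : ℕ) : u ^ n = u ^ (n % 5) := pow_eq_pow_mod n h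

theorem inv_eq_pow4 {u : G} (h : u ^ 5 = 1) : u⁻¹ = u ^ 4 := by
  apply inv_eq_of_mul_eq_one_right
  rw [← pow_succ', h]

theorem exists_mul_mod5 (b : ℕ) (hb : ¬ 5 ∣ b) : ∃ s, ¬ 5 ∣ s ∧ (b * s) % 5 = 1 := by
  have h5 : b % 5 = 1 ∨ b % 5 = 2 ∨ b % 5 = 3 ∨ b % 5 = 4 := by omega
  rcases h5 with h | h | h | h
  · exact ⟨1, by omega, by omega⟩
  · exact ⟨3, by omega, by omega⟩
  · exact ⟨2, by omega, by omega⟩
  · exact ⟨4, by omega, by omega⟩

/-- elements of the closure of two commuting elements of order dividing 5 -/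
theorem mem_closure_pair5 {u1 u2 : G} (h1 : u1 ^ 5 = 1) (h2 : u2 ^ 5 = 1)
    (hc : u1 * u2 = u2 * u1) {x : G} (hx : x ∈ Subgroup.closure ({u1, u2} : Set G)) :
    ∃ i j : ℕ, i < 5 ∧ j < 5 ∧ x = u1 ^ i * u2 ^ j := by
  have hcomm : Commute u1 u2 := hc
  induction hx using Subgroup.closure_induction with
  | mem x hx =>
    rcases hx with rfl | rfl
    · exact ⟨1, 0, by norm_num, by norm_num, by simp⟩
    · exact ⟨0, 1, by norm_num, by norm_num, by simp⟩
  | one => exact ⟨0, 0, by norm_num, by norm_num, by simp⟩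
  | mul x y _ _ hx hy =>
    obtain ⟨i, j, -, -, rfl⟩ := hx
    obtain ⟨i', j', -, -, rfl⟩ := hy
    refine ⟨(i + i') % 5, (j + j') % 5, Nat.mod_lt _ (by norm_num), Nat.mod_lt _ (by norm_num), ?_⟩
    rw [← pow_mod5 h1, ← pow_mod5 h2, pow_add, pow_add]
    exact Commute.mul_mul_mul_comm (hcomm.pow_pow i' j).symm _ _
  | inv x _ hx =>
    obtain ⟨i, j, -, -, rfl⟩ := hx
    refine ⟨(4 * i) % 5, (4 * j) % 5, Nat.mod_lt _ (by norm_num), Nat.mod_lt _ (by norm_num), ?_⟩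
    rw [← pow_mod5 h1, ← pow_mod5 h2, mul_inv_rev, pow_mul, pow_mul, ← inv_eq_pow4 h1,
      ← inv_eq_pow4 h2, inv_pow, inv_pow]
    exact ((hcomm.pow_pow i j).inv_inv).symm.eq

/-- a relation between `u1` and `u2` is trivial -/
theorem dvd_of_pow_mul_pow_eq_one {u1 u2 : G} (h1 : u1 ^ 5 = 1) (h2 : u2 ^ 5 = 1)
    (hu1 : u1 ≠ 1) (hne : ∀ k : ℕ, u2 ≠ u1 ^ k) {a b : ℕ} (h : u1 ^ a * u2 ^ b = 1) :
    5 ∣ a ∧ 5 ∣ b := by
  have : Fact (Nat.Prime 5) := ⟨by norm_num⟩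
  have hb : 5 ∣ b := by
    by_contra hb
    obtain ⟨s, -, hs⟩ := exists_mul_mod5 b hb
    have e1 : u2 ^ b = (u1 ^ a)⁻¹ := (inv_eq_of_mul_eq_one_right h).symm
    have e2 : u2 = u1 ^ (4 * a * s) := by
      calc u2 = u2 ^ (b * s) := by rw [pow_mod5 h2, hs, pow_one]
        _ = ((u1 ^ a)⁻¹) ^ s := by rw [pow_mul, e1]
        _ = u1 ^ (4 * a * s) := by
          rw [← inv_pow, inv_eq_pow4 h1, ← pow_mul, ← pow_mul, mul_assoc]
    exact hne _ e2
  refine ⟨?_, hb⟩
  have e3 : u2 ^ b = 1 := by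
    rw [pow_mod5 h2, Nat.mod_eq_zero_of_dvd hb, pow_zero]
  rw [e3, mul_one] at h
  have ho : orderOf u1 = 5 := orderOf_eq_prime h1 hu1
  rw [← ho]
  exact orderOf_dvd_of_pow_eq_one h

/-- the closure of `u1`, `u2` has order 25 -/
theorem card_closure_pair5 {u1 u2 : G} (h1 : u1 ^ 5 = 1) (h2 : u2 ^ 5 = 1)
    (hc : u1 * u2 = u2 * u1) (hu1 : u1 ≠ 1) (hne : ∀ k : ℕ, u2 ≠ u1 ^ k) :
    Nat.card ↥(Subgroup.closure ({u1, u2} : Set G)) = 25 := by
  have hm1 : u1 ∈ Subgroup.closure ({u1, u2} : Set G) := Subgroup.subset_closure (by simp)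
  have hm2 : u2 ∈ Subgroup.closure ({u1, u2} : Set G) := Subgroup.subset_closure (by simp)
  let f : Fin 5 × Fin 5 → ↥(Subgroup.closure ({u1, u2} : Set G)) := fun ij =>
    ⟨u1 ^ ij.1.val * u2 ^ ij.2.val,
      Subgroup.mul_mem _ (Subgroup.pow_mem _ hm1 _) (Subgroup.pow_mem _ hm2 _)⟩
  have hf : Function.Bijective f := by
    constructor
    · rintro ⟨i, j⟩ ⟨i', j'⟩ h
      have h0 : u1 ^ i.val * u2 ^ j.val = u1 ^ i'.val * u2 ^ j'.val := congrArg Subtype.val h
      have h3 : u1 ^ (5 - i'.val + i.val) * u2 ^ (j.val + (5 - j'.val)) = 1 := by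
        calc u1 ^ (5 - i'.val + i.val) * u2 ^ (j.val + (5 - j'.val))
            = u1 ^ (5 - i'.val) * (u1 ^ i.val * u2 ^ j.val) * u2 ^ (5 - j'.val) := by
              rw [pow_add, pow_add]; simp only [mul_assoc]
          _ = u1 ^ (5 - i'.val) * (u1 ^ i'.val * u2 ^ j'.val) * u2 ^ (5 - j'.val) := by rw [h0]
          _ = u1 ^ (5 - i'.val + i'.val) * u2 ^ (j'.val + (5 - j'.val)) := by
              rw [pow_add, pow_add]; simp only [mul_assoc]
          _ = 1 := by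
              have e1 : 5 - i'.val + i'.val = 5 := by have := i'.2; omega
              have e2 : j'.val + (5 - j'.val) = 5 := by have := j'.2; omega
              rw [e1, e2, h1, h2, one_mul]
      obtain ⟨d1, d2⟩ := dvd_of_pow_mul_pow_eq_one h1 h2 hu1 hne h3
      have hi := i.2
      have hi' := i'.2
      have hj := j.2
      have hj' := j'.2
      have e1 : i = i' := Fin.ext (by omega)
      have e2 : j = j' := Fin.ext (by omega)
      rw [e1, e2]
    · rintro ⟨x, hx⟩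
      obtain ⟨i, j, hi, hj, rfl⟩ := mem_closure_pair5 h1 h2 hc hx
      exact ⟨(⟨i, hi⟩, ⟨j, hj⟩), rfl⟩
  rw [← Nat.card_congr (Equiv.ofBijective f hf), Nat.card_prod, Nat.card_fin]

end generic

section fixedpoints

variable {G Ω : Type*} [Group G] [MulAction G Ω]

/-- the number of fixed points of an element -/
noncomputable def fp (Ω : Type*) [MulAction G Ω] (g : G) : ℕ := Nat.card {ω : Ω // g • ω = ω}

theorem pow_smul_eq_self {x : G} {ω : Ω} (h : x • ω = ω) (n : ℕ) : x ^ n • ω = ω :=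
  mem_stabilizer_iff.mp (Subgroup.pow_mem _ (mem_stabilizer_iff.mpr h) n)

theorem fp_pow {x : G} (hx : x ^ 5 = 1) {t : ℕ} (ht : ¬ 5 ∣ t) : fp Ω (x ^ t) = fp Ω x := by
  unfold fp
  obtain ⟨s, -, hs⟩ := exists_mul_mod5 t ht
  have e : (x ^ t) ^ s = x := by
    rw [← pow_mul, pow_mod5 hx, hs, pow_one]
  apply Nat.card_congr
  refine Equiv.subtypeEquivRight (fun ω => ⟨fun h => ?_, fun h => pow_smul_eq_self h t⟩)
  have := pow_smul_eq_self h s
  rwa [e] at this

theorem fp_conj (c x : G) : fp Ω (c * x * c⁻¹) = fp Ω x := by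
  unfold fp
  apply Nat.card_congr
  refine ⟨fun ω => ⟨c⁻¹ • ω.1, ?_⟩, fun ω => ⟨c • ω.1, ?_⟩, fun ω => ?_, fun ω => ?_⟩
  · have h := ω.2
    rw [mul_smul, mul_smul] at h
    exact (smul_eq_iff_eq_inv_smul c).mp h
  · have h := ω.2
    rw [mul_smul, mul_smul, inv_smul_smul, h]
  · apply Subtype.ext
    exact smul_inv_smul c ω.1
  · apply Subtype.ext
    exact inv_smul_smul c ω.1

/-- every nontrivial element of `⟨u1, u2⟩` has as many fixed points as `u1` -/
theorem fp_eq_of_mem {u1 u2 : G} (h1 : u1 ^ 5 = 1) (h2 : u2 ^ 5 = 1) (hc : u1 * u2 = u2 * u1)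
    (hconj0 : ∃ c : G, ∃ k : ℕ, ¬ 5 ∣ k ∧ c * u1 ^ k * c⁻¹ = u2)
    (hconj : ∀ j : ℕ, ∃ c : G, ∃ k : ℕ, ¬ 5 ∣ k ∧ c * u1 ^ k * c⁻¹ = u1 * u2 ^ j)
    {q : G} (hq : q ∈ Subgroup.closure ({u1, u2} : Set G)) (hq1 : q ≠ 1) :
    fp Ω q = fp Ω u1 := by
  have hcomm : Commute u1 u2 := hc
  obtain ⟨i, j, -, -, rfl⟩ := mem_closure_pair5 h1 h2 hc hq
  have hq5 : ∀ a b : ℕ, (u1 ^ a * u2 ^ b) ^ 5 = 1 := by
    intro a b
    rw [(hcomm.pow_pow a b).mul_pow, ← pow_mul, ← pow_mul, mul_comm a, mul_comm b, pow_mul,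
      pow_mul, h1, h2, one_pow, one_pow, one_mul]
  by_cases hj : 5 ∣ j
  · have e3 : u2 ^ j = 1 := by
      rw [pow_mod5 h2, Nat.mod_eq_zero_of_dvd hj, pow_zero]
    rw [e3, mul_one] at hq1 ⊢
    have hi : ¬ 5 ∣ i := by
      intro hi
      apply hq1
      rw [pow_mod5 h1, Nat.mod_eq_zero_of_dvd hi, pow_zero]
    exact fp_pow h1 hi
  · obtain ⟨s, hs5, hs⟩ := exists_mul_mod5 j hj
    have e1 : (u1 ^ i * u2 ^ j) ^ s = u1 ^ (i * s) * u2 := by
      rw [(hcomm.pow_pow i j).mul_pow, ← pow_mul, ← pow_mul, pow_mod5 h2 (j * s), hs, pow_one]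
    rw [← fp_pow (hq5 i j) hs5, e1]
    by_cases hi : 5 ∣ i * s
    · have e3 : u1 ^ (i * s) = 1 := by
        rw [pow_mod5 h1, Nat.mod_eq_zero_of_dvd hi, pow_zero]
      rw [e3, one_mul]
      obtain ⟨c, k, hk, hck⟩ := hconj0
      rw [← hck, fp_conj, fp_pow h1 hk]
    · obtain ⟨s', hs'5, hs'⟩ := exists_mul_mod5 (i * s) hi
      have e2 : (u1 ^ (i * s) * u2) ^ s' = u1 * u2 ^ s' := by
        rw [(hcomm.pow_left (i * s)).mul_pow, ← pow_mul, pow_mod5 h1 (i * s * s'), hs', pow_one]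
      have h5' : (u1 ^ (i * s) * u2) ^ 5 = 1 := by
        have := hq5 (i * s) 1
        rwa [pow_one] at this
      rw [← fp_pow h5' hs'5, e2]
      obtain ⟨c, k, hk, hck⟩ := hconj s'
      rw [← hck, fp_conj, fp_pow h1 hk]

end fixedpoints

section counting

/-- orbit counting for a group of order 25 all of whose nontrivial elements have the same
number of fixed points -/
theorem orbit_count_25 {Q Ω : Type*} [Group Q] [Fintype Q] [Fintype Ω] [MulAction Q Ω]
    (hQ : Fintype.card Q = 25) (φ : ℕ)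
    (hφ : ∀ q : Q, q ≠ 1 → Nat.card {ω : Ω // q • ω = ω} = φ) :
    ∃ m b : ℕ, Fintype.card Ω = Nat.card {ω : Ω // ∀ q : Q, q • ω = ω} + 30 * m + 25 * b := by
  classical
  haveI : Fintype (Quotient (orbitRel Q Ω)) := Fintype.ofFinite _
  -- orbit sizes
  set s : Quotient (orbitRel Q Ω) → ℕ := fun o =>
    Fintype.card Q / Fintype.card (stabilizer Q o.out) with hs_def
  have hstab : ∀ ω : Ω, Fintype.card (stabilizer Q ω) = 1 ∨ Fintype.card (stabilizer Q ω) = 5 ∨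
      Fintype.card (stabilizer Q ω) = 25 := by
    intro ω
    have hd : Fintype.card (stabilizer Q ω) ∣ 25 := by
      have := Subgroup.card_subgroup_dvd_card (stabilizer Q ω)
      rwa [Nat.card_eq_fintype_card, Nat.card_eq_fintype_card, hQ] at this
    have hmem : Fintype.card (stabilizer Q ω) ∈ Nat.divisors 25 :=
      Nat.mem_divisors.mpr ⟨hd, by norm_num⟩
    have e : Nat.divisors 25 = {1, 5, 25} := by decide
    rw [e] at hmem
    simpa using hmem
  have hs : ∀ o, s o = 1 ∨ s o = 5 ∨ s o = 25 := by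
    intro o
    simp only [hs_def, hQ]
    rcases hstab o.out with h | h | h <;> rw [h]
    · right; right; rfl
    · right; left; rfl
    · left; rfl
  -- class formula
  have hclass : Fintype.card Ω = ∑ o, s o := card_eq_sum_card_group_div_card_stabilizer Q Ω
  -- Burnside
  have hburn := sum_card_fixedBy_eq_card_orbits_mul_card_group Q Ω
  have hfix1 : Fintype.card (fixedBy Ω (1 : Q)) = Fintype.card Ω :=
    Fintype.card_congr ⟨fun x => x.1, fun ω => ⟨ω, one_smul _ ω⟩, fun _ => rfl, fun _ => rfl⟩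
  have hfixq : ∀ q : Q, q ≠ 1 → Fintype.card (fixedBy Ω q) = φ := by
    intro q hq
    rw [← hφ q hq, Nat.card_eq_fintype_card]
    rfl
  have hsum : ∑ q : Q, Fintype.card (fixedBy Ω q) = Fintype.card Ω + 24 * φ := by
    rw [← Finset.add_sum_erase Finset.univ _ (Finset.mem_univ (1 : Q)), hfix1]
    congr 1
    rw [Finset.sum_congr rfl (fun q hq => hfixq q (Finset.ne_of_mem_erase hq)), Finset.sum_const,
      Finset.card_erase_of_mem (Finset.mem_univ _), Finset.card_univ, hQ, smul_eq_mul]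
  rw [hsum, hQ] at hburn
  -- counting orbits by size
  set x1 := (Finset.univ.filter (fun o => s o = 1)).card with hx1
  set x5 := (Finset.univ.filter (fun o => s o = 5)).card with hx5
  set x25 := (Finset.univ.filter (fun o => s o = 25)).card with hx25
  have hN : Fintype.card (Quotient (orbitRel Q Ω)) = x1 + x5 + x25 := by
    have e : ∀ o : Quotient (orbitRel Q Ω), (1 : ℕ) = (if s o = 1 then 1 else 0) +
        (if s o = 5 then 1 else 0) + (if s o = 25 then 1 else 0) := by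
      intro o
      rcases hs o with h | h | h <;> rw [h] <;> norm_num
    rw [← Finset.card_univ, Finset.card_eq_sum_ones, Finset.sum_congr rfl (fun o _ => e o),
      Finset.sum_add_distrib, Finset.sum_add_distrib, Finset.sum_boole, Finset.sum_boole,
      Finset.sum_boole]
    simp [hx1, hx5, hx25]
  have hS : ∑ o, s o = x1 + 5 * x5 + 25 * x25 := by
    have e : ∀ o : Quotient (orbitRel Q Ω), s o = (if s o = 1 then 1 else 0) +
        5 * (if s o = 5 then 1 else 0) + 25 * (if s o = 25 then 1 else 0) := by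
      intro o
      rcases hs o with h | h | h <;> rw [h] <;> norm_num
    rw [Finset.sum_congr rfl (fun o _ => e o), Finset.sum_add_distrib, Finset.sum_add_distrib,
      ← Finset.mul_sum, ← Finset.mul_sum, Finset.sum_boole, Finset.sum_boole, Finset.sum_boole]
    simp [hx1, hx5, hx25]
  -- orbits of size one
  have hfixed : ∀ ω : Ω, (∀ q : Q, q • ω = ω) ↔ Fintype.card (stabilizer Q ω) = 25 := by
    intro ω
    constructor
    · intro h
      have : stabilizer Q ω = ⊤ := by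
        ext q
        simp [mem_stabilizer_iff, h q]
      rw [← Nat.card_eq_fintype_card, this, Subgroup.card_top, Nat.card_eq_fintype_card, hQ]
    · intro h q
      have : stabilizer Q ω = ⊤ := by
        apply Subgroup.eq_top_of_card_eq
        rw [Nat.card_eq_fintype_card, Nat.card_eq_fintype_card, h, hQ]
      have hq : q ∈ stabilizer Q ω := by rw [this]; exact Subgroup.mem_top q
      exact mem_stabilizer_iff.mp hq
  have hs1 : ∀ o, s o = 1 ↔ ∀ q : Q, q • o.out = o.out := by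
    intro o
    rw [hfixed]
    simp only [hs_def, hQ]
    rcases hstab o.out with h | h | h <;> rw [h] <;> norm_num
  have hx1f : x1 = Nat.card {ω : Ω // ∀ q : Q, q • ω = ω} := by
    rw [Nat.card_eq_fintype_card, Fintype.card_subtype, hx1]
    apply Finset.card_bij (fun o _ => o.out)
    · intro o ho
      rw [Finset.mem_filter] at ho ⊢
      exact ⟨Finset.mem_univ _, (hs1 o).mp ho.2⟩
    · intro o _ o' _ h
      exact Quotient.out_injective h
    · intro ω hω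
      rw [Finset.mem_filter] at hω
      have hout : (Quotient.mk'' ω : Quotient (orbitRel Q Ω)).out = ω := by
        have h1 : (orbitRel Q Ω).r (Quotient.mk'' ω : Quotient (orbitRel Q Ω)).out ω :=
          Quotient.exact (Quotient.out_eq _)
        rw [orbitRel_apply] at h1
        obtain ⟨q, hq⟩ := h1
        rw [← hq]
        exact hω.2 q
      refine ⟨Quotient.mk'' ω, ?_, hout⟩
      rw [Finset.mem_filter]
      refine ⟨Finset.mem_univ _, (hs1 _).mpr ?_⟩
      rw [hout]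
      exact hω.2
  rw [hclass, hS] at hburn
  rw [hN] at hburn
  refine ⟨(φ - x1) / 5, x25, ?_⟩
  rw [hclass, hS, ← hx1f]
  omega

end counting

end P3

open P3

theorem Q_count {G Ω : Type*} [Group G] [Finite G] [Fintype Ω] [MulAction G Ω] (u1 u2 : G)
    (h1 : u1 ^ 5 = 1) (h2 : u2 ^ 5 = 1) (hc : u1 * u2 = u2 * u1) (hu1 : u1 ≠ 1)
    (hne : ∀ k : ℕ, u2 ≠ u1 ^ k)
    (hconj0 : ∃ c : G, ∃ k : ℕ, ¬ 5 ∣ k ∧ c * u1 ^ k * c⁻¹ = u2)
    (hconj : ∀ j : ℕ, ∃ c : G, ∃ k : ℕ, ¬ 5 ∣ k ∧ c * u1 ^ k * c⁻¹ = u1 * u2 ^ j) :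
    ∃ m b : ℕ, Fintype.card Ω =
      Nat.card {ω : Ω // u1 • ω = ω ∧ u2 • ω = ω} + 30 * m + 25 * b := by
  classical
  haveI : Fintype ↥(Subgroup.closure ({u1, u2} : Set G)) := Fintype.ofFinite _
  have hm1 : u1 ∈ Subgroup.closure ({u1, u2} : Set G) := Subgroup.subset_closure (by simp)
  have hm2 : u2 ∈ Subgroup.closure ({u1, u2} : Set G) := Subgroup.subset_closure (by simp)
  have hQ : Fintype.card ↥(Subgroup.closure ({u1, u2} : Set G)) = 25 := by
    rw [← Nat.card_eq_fintype_card]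
    exact card_closure_pair5 h1 h2 hc hu1 hne
  have hφ : ∀ q : ↥(Subgroup.closure ({u1, u2} : Set G)), q ≠ 1 →
      Nat.card {ω : Ω // q • ω = ω} = fp Ω u1 := by
    intro q hq
    have hq1 : (q : G) ≠ 1 := fun h => hq (Subtype.ext h)
    exact fp_eq_of_mem (Ω := Ω) h1 h2 hc hconj0 hconj q.2 hq1
  obtain ⟨m, b, hmb⟩ := orbit_count_25 hQ (fp Ω u1) hφ
  refine ⟨m, b, ?_⟩
  rw [hmb]
  congr 2
  apply Nat.card_congr
  refine Equiv.subtypeEquivRight (fun ω => ⟨fun h => ⟨h ⟨u1, hm1⟩, h ⟨u2, hm2⟩⟩, fun h q => ?_⟩)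
  have hle : Subgroup.closure ({u1, u2} : Set G) ≤ stabilizer G ω := by
    rw [Subgroup.closure_le]
    rintro x (rfl | rfl)
    · exact mem_stabilizer_iff.mpr h.1
    · exact mem_stabilizer_iff.mpr h.2
  exact mem_stabilizer_iff.mp (hle q.2)

theorem Q_stab_dvd {G Ω : Type*} [Group G] [Finite G] [MulAction G Ω] (u1 u2 : G)
    (h1 : u1 ^ 5 = 1) (h2 : u2 ^ 5 = 1) (hc : u1 * u2 = u2 * u1) (hu1 : u1 ≠ 1)
    (hne : ∀ k : ℕ, u2 ≠ u1 ^ k) (ω : Ω) (hf1 : u1 • ω = ω) (hf2 : u2 • ω = ω) :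
    25 ∣ Nat.card (stabilizer G ω) := by
  have hle : Subgroup.closure ({u1, u2} : Set G) ≤ stabilizer G ω := by
    rw [Subgroup.closure_le]
    rintro x (rfl | rfl)
    · exact mem_stabilizer_iff.mpr hf1
    · exact mem_stabilizer_iff.mpr hf2
  rw [← card_closure_pair5 h1 h2 hc hu1 hne]
  exact Subgroup.card_dvd_of_le hle

end Cfsg.Agent.Lib.Helper12.Tits2T

namespace Cfsg.Agent.Lib.Helper12.Tits2T

open MulAction

-- the two signatures of helper12's farm-out message, restated verbatim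
example {G Ω : Type*} [Group G] [Finite G] [Fintype Ω] [MulAction G Ω] (u1 u2 : G) (h1 : u1 ^ 5 = 1) (h2 : u2 ^ 5 = 1) (hc : u1 * u2 = u2 * u1) (hu1 : u1 ≠ 1) (hne : ∀ k : ℕ, u2 ≠ u1 ^ k) (hconj0 : ∃ c : G, ∃ k : ℕ, ¬ 5 ∣ k ∧ c * u1 ^ k * c⁻¹ = u2) (hconj : ∀ j : ℕ, ∃ c : G, ∃ k : ℕ, ¬ 5 ∣ k ∧ c * u1 ^ k * c⁻¹ = u1 * u2 ^ j) : ∃ m b : ℕ, Fintype.card Ω = Nat.card {ω : Ω // u1 • ω = ω ∧ u2 • ω = ω} + 30 * m + 25 * b :=
  Q_count u1 u2 h1 h2 hc hu1 hne hconj0 hconj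

example {G Ω : Type*} [Group G] [Finite G] [MulAction G Ω] (u1 u2 : G) (h1 : u1 ^ 5 = 1) (h2 : u2 ^ 5 = 1) (hc : u1 * u2 = u2 * u1) (hu1 : u1 ≠ 1) (hne : ∀ k : ℕ, u2 ≠ u1 ^ k) (ω : Ω) (hf1 : u1 • ω = ω) (hf2 : u2 • ω = ω) : 25 ∣ Nat.card (stabilizer G ω) :=
  Q_stab_dvd u1 u2 h1 h2 hc hu1 hne ω hf1 hf2

end Cfsg.Agent.Lib.Helper12.Tits2T
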