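import Mathlib
import Cfsg.Prelude.Def_GeometricClasses
import Cfsg.Agent.Lib.Helper3.OEC6
import Cfsg.Agent.Lib.Helper7.OETypeB

/-!
# Class 6 in an orthogonal group forces plus type: the final statement (helper3)

`c6_decomposition` (two isometric non-degenerate halves of even dimension) + helper7's R1.
-/

set_option autoImplicit false

namespace Cfsg.Agent.Lib.Helper3.OEC6

open Matrix Cfsg Cfsg.Geo

variable {F : Type*} [Field F] [Fintype F] {n : ℕ} {Q : (Fin n → F) → F}

/-- **class 6 forces plus type**: a non-degenerate quadratic function `Q` on `F^n`, `4 ≤ n`, whose isometry group contains an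
absolutely irreducible `2`-group of symplectic type, is of plus type -/
theorem c6_isPlusTypeOn_top (hQ : IsNondegenerateQuadraticForm Q) (hn : 4 ≤ n) (R : Subgroup (GL (Fin n) F))
    (hR : IsSymplecticTypeGroup 2 R) (hirr : ActsAbsolutelyIrreducibly (matrixSet R))
    (hRI : R ≤ isometryGroup F Q) : IsPlusTypeOn Q ⊤ := by
  obtain ⟨k, D, hk, _, hD⟩ := c6_decomposition hQ hn R hR hirr hRI
  exact Cfsg.Agent.Lib.Helper7.OEType.isPlusTypeOn_top_of_decomposition_even hQ D hD (by decide) (Or.inl hk)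

/-- the dimension of a class-6 member is a power of two, at least `4` if `n ≥ 4` -/
theorem c6_exists_pow (hQ : IsNondegenerateQuadraticForm Q) (hn : 2 ≤ n) (R : Subgroup (GL (Fin n) F))
    (hR : IsSymplecticTypeGroup 2 R) (hirr : ActsAbsolutelyIrreducibly (matrixSet R))
    (hRI : R ≤ isometryGroup F Q) : ∃ k : ℕ, n = 2 ^ k ∧ Nat.card R = 2 ^ (1 + 2 * k) := by
  have hRI' : R ≤ Cfsg.Agent.Lib.Helper16.SpA.Iso (QuadraticMap.polar Q) := hRI.trans isometryGroup_le_iso
  obtain ⟨hN, hsq⟩ := classTwo_of_symplecticType hQ.polar_bilinear hQ.nondegenerate hn R hR hirr hRI'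
  exact Cfsg.Agent.Lib.Helper3.FormC6.exists_k hQ.polar_bilinear hQ.nondegenerate hn hRI' hN hsq

/-- no class-6 member when `n` is not a power of two -/
theorem c6_false_of_not_pow (hQ : IsNondegenerateQuadraticForm Q) (hn : 2 ≤ n) (hpow : ∀ k : ℕ, n ≠ 2 ^ k)
    (R : Subgroup (GL (Fin n) F)) (hR : IsSymplecticTypeGroup 2 R) (hirr : ActsAbsolutelyIrreducibly (matrixSet R))
    (hRI : R ≤ isometryGroup F Q) : False := by
  obtain ⟨k, hk, _⟩ := c6_exists_pow hQ hn R hR hirr hRI
  exact hpow k hk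

theorem ten_ne_two_pow (k : ℕ) : (10 : ℕ) ≠ 2 ^ k := by
  intro h
  have hk : k < 4 := by
    by_contra hge
    have : 2 ^ 4 ≤ 2 ^ k := Nat.pow_le_pow_right (by norm_num) (by omega)
    omega
  interval_cases k <;> omega

theorem twelve_ne_two_pow (k : ℕ) : (12 : ℕ) ≠ 2 ^ k := by
  intro h
  have hk : k < 4 := by
    by_contra hge
    have : 2 ^ 4 ≤ 2 ^ k := Nat.pow_le_pow_right (by norm_num) (by omega)
    omega
  interval_cases k <;> omega

/-- no class-6 member in dimension `10` -/
theorem c6_false_ten {Q : (Fin 10 → F) → F} (hQ : IsNondegenerateQuadraticForm Q)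
    (R : Subgroup (GL (Fin 10) F)) (hR : IsSymplecticTypeGroup 2 R) (hirr : ActsAbsolutelyIrreducibly (matrixSet R))
    (hRI : R ≤ isometryGroup F Q) : False :=
  c6_false_of_not_pow hQ (by norm_num) ten_ne_two_pow R hR hirr hRI

/-- no class-6 member in dimension `12` -/
theorem c6_false_twelve {Q : (Fin 12 → F) → F} (hQ : IsNondegenerateQuadraticForm Q)
    (R : Subgroup (GL (Fin 12) F)) (hR : IsSymplecticTypeGroup 2 R) (hirr : ActsAbsolutelyIrreducibly (matrixSet R))
    (hRI : R ≤ isometryGroup F Q) : False :=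
  c6_false_of_not_pow hQ (by norm_num) twelve_ne_two_pow R hR hirr hRI

/-- no class-6 member in a space of minus type (`4 ≤ n`) -/
theorem c6_false_of_minus (hQ : IsNondegenerateQuadraticForm Q) (hn : 4 ≤ n) (hminus : ¬ IsPlusTypeOn Q ⊤)
    (R : Subgroup (GL (Fin n) F)) (hR : IsSymplecticTypeGroup 2 R) (hirr : ActsAbsolutelyIrreducibly (matrixSet R))
    (hRI : R ≤ isometryGroup F Q) : False :=
  hminus (c6_isPlusTypeOn_top hQ hn R hR hirr hRI)

end Cfsg.Agent.Lib.Helper3.OEC6
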