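import Mathlib
import Cfsg.Agent.Lib.Helper13.UOmDefs

/-!
FO-III of helper13's S5700 farm-out: an element of `M` not normalising `K = F[δ]` gives a direction
outside a `K`-line.
-/

set_option autoImplicit false
set_option linter.unusedSectionVars false
set_option linter.unusedVariables false

namespace Cfsg.Agent.Lib.Helper3.S5700FOIII

open Matrix Module QuadraticMap Cfsg.Agent.Lib.Helper6 Cfsg.Agent.Lib.Helper13
open Cfsg.Agent.Lib.Helper13.OND

universe u
variable {F : Type u} [Field F] [Fintype F] {ι : Type} [Fintype ι] [DecidableEq ι]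
variable {Q : QuadraticForm F (ι → F)} {δ : Matrix ι ι F} {τ ν : F} {M : Subgroup (GL ι F)}

theorem ndOn_top (hQ : (polarBilin Q).Nondegenerate) : NdOn Q ⊤ := by
  intro x _ hx0
  by_contra hne
  push Not at hne
  exact hx0 (hQ.1 x (fun y => hne y Submodule.mem_top))

theorem finrank_top_eq : finrank F (⊤ : Submodule F (ι → F)) = Fintype.card ι := by
  rw [finrank_top, Module.finrank_fintype_fun_eq_card]

/-- if `y ∉ Kl δ x` then `x, δ x, y, δ y` are linearly independent -/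
theorem indep4 (hU : UStr Q δ τ ν) {x y : ι → F} (hx : x ≠ 0) (hy : y ∉ Kl δ x) {a b c d : F}
    (h : a • x + b • (δ *ᵥ x) + (c • y + d • (δ *ᵥ y)) = 0) :
    a = 0 ∧ b = 0 ∧ c = 0 ∧ d = 0 := by
  have hcd : c = 0 ∧ d = 0 := by
    by_contra hne
    have hcd' : c ≠ 0 ∨ d ≠ 0 := by
      by_contra h2
      push Not at h2
      exact hne h2
    have hN := hU.norm_ne hcd'
    apply hy
    have hw : c • y + d • (δ *ᵥ y) ∈ Kl δ x := by
      have e : c • y + d • (δ *ᵥ y) = (-a) • x + (-b) • (δ *ᵥ x) := by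
        have := eq_neg_of_add_eq_zero_right h
        rw [this]
        module
      rw [e]
      exact mem_Kl.mpr ⟨-a, -b, rfl⟩
    have hδw := hU.delta_mem_Kl_of_mem hw
    have h1 : (c + d * τ) • (c • y + d • (δ *ᵥ y)) - d • (δ *ᵥ (c • y + d • (δ *ᵥ y))) =
        (c ^ 2 + c * d * τ + d ^ 2 * ν) • y := by
      rw [mulVec_add, mulVec_smul, mulVec_smul, hU.dd]
      module
    have h2 : (c ^ 2 + c * d * τ + d ^ 2 * ν) • y ∈ Kl δ x := by
      rw [← h1]
      exact (Kl δ x).sub_mem ((Kl δ x).smul_mem _ hw) ((Kl δ x).smul_mem _ hδw)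
    have h3 := (Kl δ x).smul_mem (c ^ 2 + c * d * τ + d ^ 2 * ν)⁻¹ h2
    rwa [smul_smul, inv_mul_cancel₀ hN, one_smul] at h3
  obtain ⟨hc, hd⟩ := hcd
  subst hc
  subst hd
  rw [zero_smul, zero_smul, add_zero, add_zero] at h
  have h4 := hU.comb_eq_zero hx h
  exact ⟨h4.1, h4.2, rfl, rfl⟩

/-- a singular vector orthogonal to `x`, `y` outside a subspace of dimension at most `4` -/
theorem exists_singular_avoid (hn : 14 ≤ Fintype.card ι) (x y : ι → F)
    (T : Submodule F (ι → F)) (hT : finrank F T ≤ 4) :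
    ∃ z : ι → F, z ≠ 0 ∧ Q z = 0 ∧ polar (⇑Q) x z = 0 ∧ polar (⇑Q) y z = 0 ∧ z ∉ T := by
  obtain ⟨C, hC⟩ := Submodule.exists_isCompl T
  have h1 := Submodule.finrank_add_eq_of_isCompl hC
  rw [Module.finrank_fintype_fun_eq_card] at h1
  obtain ⟨z, hzC, hz0, hQz, hxz, hyz⟩ := exists_singular_cut2 Q C x y (by omega)
  refine ⟨z, hz0, hQz, hxz, hyz, ?_⟩
  intro hzT
  apply hz0
  have : z ∈ T ⊓ C := ⟨hzT, hzC⟩
  rw [hC.inf_eq_bot] at this
  exact (Submodule.mem_bot F).mp this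

theorem exists_start (hU : UStr Q δ τ ν) (hQ : (polarBilin Q).Nondegenerate)
    (hn : 14 ≤ Fintype.card ι) (hM : ∀ y, Q y = 0 → SIn Q M y (δ *ᵥ y))
    (g : ↥(Cfsg.isometryGroup F ⇑Q)) (hgM : (g : GL ι F) ∈ M)
    (hg : ¬ ∃ a b : F, ((g : GL ι F) : Matrix ι ι F) * δ *
      (((g : GL ι F)⁻¹ : GL ι F) : Matrix ι ι F) = a • (1 : Matrix ι ι F) + b • δ) :
    ∃ (x : ι → F) (hx : Q x = 0) (w : ι → F), x ≠ 0 ∧ w ∈ Lsub M x hx ∧ w ∉ Kl δ x := by
  classical
  by_contra hcon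
  push Not at hcon
  obtain ⟨D, hD⟩ : ∃ D : Matrix ι ι F, D = ((g : GL ι F) : Matrix ι ι F) * δ *
      (((g : GL ι F)⁻¹ : GL ι F) : Matrix ι ι F) := ⟨_, rfl⟩
  -- for singular `x`, `D x ∈ Lsub M x`
  have hkey : ∀ (x : ι → F) (hx : Q x = 0), D *ᵥ x ∈ Lsub M x hx := by
    intro x hx
    have hy : Q (gact Q g⁻¹ x) = 0 := by rw [Q_gact, hx]
    have h1 := SIn.conj (hM _ hy) g hgM
    rw [gact_gact_inv] at h1
    have e : gact Q g (δ *ᵥ gact Q g⁻¹ x) = D *ᵥ x := by
      unfold gact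
      rw [hD, mulVec_mulVec, mulVec_mulVec]
      rfl
    rw [e] at h1
    exact h1
  have hP : ∀ (x : ι → F), Q x = 0 → x ≠ 0 → ∃ a b : F, D *ᵥ x = a • x + b • (δ *ᵥ x) := by
    intro x hx hx0
    exact mem_Kl.mp (hcon x hx (D *ᵥ x) hx0 (hkey x hx))
  -- step 1
  have step1 : ∀ (x y : ι → F), Q x = 0 → Q y = 0 → x ≠ 0 → polar (⇑Q) x y = 0 → y ∉ Kl δ x →
      ∀ a b c d : F, D *ᵥ x = a • x + b • (δ *ᵥ x) → D *ᵥ y = c • y + d • (δ *ᵥ y) →
      a = c ∧ b = d := by
    intro x y hx hy hx0 hxy hyK a b c d hPx hPy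
    have hs : Q (x + y) = 0 := by rw [Q_add, hx, hy, hxy]; ring
    have hs0 : x + y ≠ 0 := by
      intro h0
      apply hyK
      have : y = (-1 : F) • x + (0 : F) • (δ *ᵥ x) := by
        rw [zero_smul, add_zero, neg_one_smul]
        exact (neg_eq_of_add_eq_zero_right h0).symm
      exact mem_Kl.mpr ⟨-1, 0, this⟩
    obtain ⟨e, f, hPs⟩ := hP (x + y) hs hs0
    rw [mulVec_add, hPx, hPy, mulVec_add] at hPs
    have h0 : (e - a) • x + (f - b) • (δ *ᵥ x) + ((e - c) • y + (f - d) • (δ *ᵥ y)) = 0 := by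
      have : (e - a) • x + (f - b) • (δ *ᵥ x) + ((e - c) • y + (f - d) • (δ *ᵥ y)) =
          (e • (x + y) + f • (δ *ᵥ x + δ *ᵥ y)) -
            (a • x + b • (δ *ᵥ x) + (c • y + d • (δ *ᵥ y))) := by
        module
      rw [this, hPs, sub_self]
    obtain ⟨h1, h2, h3, h4⟩ := indep4 hU hx0 hyK h0
    constructor
    · rw [← sub_eq_zero.mp h1, sub_eq_zero.mp h3]
    · rw [← sub_eq_zero.mp h2, sub_eq_zero.mp h4]
  -- step 2
  have step2 : ∀ (x y : ι → F), Q x = 0 → Q y = 0 → x ≠ 0 → y ≠ 0 →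
      ∀ a b c d : F, D *ᵥ x = a • x + b • (δ *ᵥ x) → D *ᵥ y = c • y + d • (δ *ᵥ y) →
      a = c ∧ b = d := by
    intro x y hx hy hx0 hy0 a b c d hPx hPy
    obtain ⟨T, hTdef⟩ : ∃ T : Submodule F (ι → F),
        T = Submodule.span F (({x, δ *ᵥ x, y, δ *ᵥ y} : Finset (ι → F)) : Set (ι → F)) := ⟨_, rfl⟩
    have hT4 : finrank F T ≤ 4 := by
      rw [hTdef]
      exact le_trans (finrank_span_finset_le_card _) Finset.card_le_four
    have hxT : Kl δ x ≤ T := by
      rw [hTdef]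
      unfold Kl
      apply Submodule.span_mono
      intro v hv
      simp only [Set.mem_insert_iff, Set.mem_singleton_iff] at hv
      simp only [Finset.coe_insert, Finset.coe_singleton, Set.mem_insert_iff,
        Set.mem_singleton_iff]
      tauto
    have hyT : Kl δ y ≤ T := by
      rw [hTdef]
      unfold Kl
      apply Submodule.span_mono
      intro v hv
      simp only [Set.mem_insert_iff, Set.mem_singleton_iff] at hv
      simp only [Finset.coe_insert, Finset.coe_singleton, Set.mem_insert_iff,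
        Set.mem_singleton_iff]
      tauto
    obtain ⟨z, hz0, hQz, hxz, hyz, hzT⟩ := exists_singular_avoid (Q := Q) hn x y T hT4
    obtain ⟨e, f, hPz⟩ := hP z hQz hz0
    have h1 := step1 x z hx hQz hx0 hxz (fun h => hzT (hxT h)) a b e f hPx hPz
    have h2 := step1 y z hy hQz hy0 hyz (fun h => hzT (hyT h)) c d e f hPy hPz
    exact ⟨h1.1.trans h2.1.symm, h1.2.trans h2.2.symm⟩
  -- a base point
  have h3 : 3 ≤ finrank F (⊤ : Submodule F (ι → F)) := by rw [finrank_top_eq]; omega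
  obtain ⟨x₀, -, hx₀0, hx₀⟩ := exists_singular_sub Q ⊤ h3
  obtain ⟨a, b, hab⟩ := hP x₀ hx₀ hx₀0
  apply hg
  refine ⟨a, b, ?_⟩
  rw [← hD]
  apply matrix_ext_mulVec
  intro v
  rw [add_mulVec, smul_mulVec, smul_mulVec, one_mulVec]
  -- the subspace where the identity holds
  let Dsub : Submodule F (ι → F) :=
    { carrier := {v | D *ᵥ v = a • v + b • (δ *ᵥ v)}
      add_mem' := by
        intro u w hu hw
        simp only [Set.mem_ofPred_eq] at hu hw ⊢
        rw [mulVec_add, mulVec_add, hu, hw]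
        module
      zero_mem' := by
        simp only [Set.mem_ofPred_eq]
        rw [mulVec_zero, mulVec_zero]
        simp
      smul_mem' := by
        intro c u hu
        simp only [Set.mem_ofPred_eq] at hu ⊢
        rw [mulVec_smul, mulVec_smul, hu]
        module }
  have htop : (⊤ : Submodule F (ι → F)) ≤ Dsub := by
    by_contra hnot
    obtain ⟨z, -, hQz, hzD⟩ := exists_singular_not_mem Q ⊤ Dsub (ndOn_top hQ) h3 hnot
    apply hzD
    by_cases hz0 : z = 0
    · rw [hz0]; exact Dsub.zero_mem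
    obtain ⟨c, d, hcd⟩ := hP z hQz hz0
    obtain ⟨h1, h2⟩ := step2 x₀ z hx₀ hQz hx₀0 hz0 a b c d hab hcd
    show D *ᵥ z = a • z + b • (δ *ᵥ z)
    rw [h1, h2]
    exact hcd
  exact htop (Submodule.mem_top : v ∈ ⊤)

end Cfsg.Agent.Lib.Helper3.S5700FOIII
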