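import Mathlib
import Cfsg.Agent.Lib.Helper13.UOmDefs
import Cfsg.Agent.Lib.Helper24.S5700FOV

/-!
FO-STRICT of helper13's S5700 farm-out: some element of `Ω` does not normalise `K = F[δ]`.
-/

set_option autoImplicit false
set_option linter.unusedSectionVars false
set_option linter.unusedVariables false

namespace Cfsg.Agent.Lib.Helper3.S5700FOSTRICT

open Matrix Module QuadraticMap Cfsg.Agent.Lib.Helper6 Cfsg.Agent.Lib.Helper13
open Cfsg.Agent.Lib.Helper13.OND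

universe u
variable {F : Type u} [Field F] [Fintype F] {ι : Type} [Fintype ι] [DecidableEq ι]
variable {Q : QuadraticForm F (ι → F)} {δ : Matrix ι ι F} {τ ν : F} {M : Subgroup (GL ι F)}

theorem exists_not_normalizer (hU : UStr Q δ τ ν) (hQ : (polarBilin Q).Nondegenerate)
    (hn : 14 ≤ Fintype.card ι) (K : Subalgebra F (Matrix ι ι F))
    (hKδ : ∀ k : Matrix ι ι F, k ∈ K ↔ ∃ a b : F, k = a • (1 : Matrix ι ι F) + b • δ) :
    ∃ g : GL ι F, g ∈ Cfsg.Geo.omegaGL ⇑Q ∧ g ∉ Cfsg.Geo.subalgebraNormalizer K := by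
  classical
  have hfr : finrank F (⊤ : Submodule F (ι → F)) = Fintype.card ι := by
    rw [finrank_top, Module.finrank_fintype_fun_eq_card]
  have h3 : 3 ≤ finrank F (⊤ : Submodule F (ι → F)) := by rw [hfr]; omega
  obtain ⟨v, -, hv0, hv⟩ := exists_singular_sub Q ⊤ h3
  obtain ⟨w, hvw, hδvw⟩ := Cfsg.Agent.Lib.Helper24.S5700FOV.exists_dual hU hQ v hv0
  -- the Siegel element
  obtain ⟨ρ, hρ⟩ : ∃ ρ : ↥(Cfsg.isometryGroup F ⇑Q), ρ = siegIso Q v w hv hvw := ⟨_, rfl⟩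
  have hact : ∀ x, gact Q ρ x = x + (polar (⇑Q) w x - Q w * polar (⇑Q) v x) • v +
      (-(polar (⇑Q) v x)) • w := by
    intro x; rw [hρ]; exact gact_siegIso Q v w hv hvw x
  have hvv : polar (⇑Q) v v = 0 := by rw [polar_self, hv, smul_zero]
  have hwv : polar (⇑Q) w v = 0 := by rw [polar_comm]; exact hvw
  have hwδv : polar (⇑Q) w (δ *ᵥ v) = 1 := by rw [polar_comm]; exact hδvw
  have hρv : gact Q ρ v = v := by
    rw [hact, hvv, hwv]; simp
  have hρδv : gact Q ρ (δ *ᵥ v) = δ *ᵥ v + v := by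
    rw [hact, hU.polar_self_delta hv, hwδv]; simp
  refine ⟨(ρ : GL ι F), ?_, ?_⟩
  · rw [mem_omegaGL_iff]
    exact ⟨ρ, by rw [hρ]; exact siegIso_mem_Omega Q hQ (by omega) _ _ _ _, rfl⟩
  · intro hN
    have hδK : δ ∈ K := (hKδ δ).mpr ⟨0, 1, by simp⟩
    have hconj := (hN δ).mp hδK
    obtain ⟨a, b, hab⟩ := (hKδ _).mp hconj
    -- the matrix identity `ρ δ = (a + b δ) ρ`
    have hinv : (((ρ : GL ι F)⁻¹ : GL ι F) : Matrix ι ι F) * ((ρ : GL ι F) : Matrix ι ι F) = 1 := by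
      rw [← Units.val_mul, inv_mul_cancel, Units.val_one]
    have hmat : ((ρ : GL ι F) : Matrix ι ι F) * δ =
        (a • (1 : Matrix ι ι F) + b • δ) * ((ρ : GL ι F) : Matrix ι ι F) := by
      rw [← hab, Matrix.mul_assoc, hinv, Matrix.mul_one]
    have hvec : ∀ x, gact Q ρ (δ *ᵥ x) = a • gact Q ρ x + b • (δ *ᵥ gact Q ρ x) := by
      intro x
      have h0 : (((ρ : GL ι F) : Matrix ι ι F) * δ) *ᵥ x =
          ((a • (1 : Matrix ι ι F) + b • δ) * ((ρ : GL ι F) : Matrix ι ι F)) *ᵥ x := by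
        rw [hmat]
      rw [← mulVec_mulVec, ← mulVec_mulVec, add_mulVec, smul_mulVec, smul_mulVec,
        one_mulVec] at h0
      exact h0
    -- evaluate on `v`
    have h1 := hvec v
    rw [hρv, hρδv] at h1
    have h2 : (1 - a) • v + (1 - b) • (δ *ᵥ v) = 0 := by
      have : (1 - a) • v + (1 - b) • (δ *ᵥ v) = (δ *ᵥ v + v) - (a • v + b • (δ *ᵥ v)) := by
        module
      rw [this, h1, sub_self]
    obtain ⟨ha, hb⟩ := hU.comb_eq_zero hv0 h2
    have ha1 : a = 1 := (sub_eq_zero.mp ha).symm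
    have hb1 : b = 1 := (sub_eq_zero.mp hb).symm
    -- a vector fixed by `ρ` together with its `δ`-image
    have hP : 3 ≤ finrank F ↥(((⊤ : Submodule F (ι → F)) ⊓ LinearMap.ker (polarBilin Q v)) ⊓
        LinearMap.ker (polarBilin Q w)) := by
      have := finrank_cut2 Q (⊤ : Submodule F (ι → F)) v w
      omega
    obtain ⟨z, hzP, hz0, hz3, hz4⟩ := exists_ne_zero_cut2 Q _ (δ *ᵥ v) (δ *ᵥ w) hP
    simp only [Submodule.mem_inf, LinearMap.mem_ker, polarBilin_apply_apply] at hzP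
    have hz1 : polar (⇑Q) v z = 0 := hzP.1.2
    have hz2 : polar (⇑Q) w z = 0 := hzP.2
    have hρz : gact Q ρ z = z := by
      rw [hact, hz1, hz2]; simp
    have hz5 : polar (⇑Q) v (δ *ᵥ z) = 0 := by rw [hU.adj', hz1, hz3]; ring
    have hz6 : polar (⇑Q) w (δ *ᵥ z) = 0 := by rw [hU.adj', hz2, hz4]; ring
    have hρδz : gact Q ρ (δ *ᵥ z) = δ *ᵥ z := by
      rw [hact, hz5, hz6]; simp
    have h3 := hvec z
    rw [hρz, hρδz, ha1, hb1, one_smul, one_smul] at h3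
    apply hz0
    have : z + δ *ᵥ z = 0 + δ *ᵥ z := by rw [zero_add]; exact h3.symm
    exact add_right_cancel this

end Cfsg.Agent.Lib.Helper3.S5700FOSTRICT
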