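import Mathlib
import Cfsg.Prelude.Def_Characters
import Cfsg.Prelude.Def_Blocks
import Cfsg.Agent.Lib.Helper15.Syl2E
import Cfsg.Agent.Lib.Helper15.Dk5b
import Cfsg.Agent.Lib.Helper15.PSL2Orders2

/-!
P8 of helper14's S2436 farm-out (McKay for `SL₂(q)`): the Sylow 2-normalizer for `q ≡ ±3 mod 8`
(data for FO-G11), `q = 3`, and the order of `SL₂(q)`.
-/

set_option autoImplicit false

namespace Cfsg.Agent.Lib.Helper3.S2436P8

open Cfsg Matrix

section SL2

variable {F : Type*} [Field F] [Fintype F]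

/-- SL-H: the order of `SL₂(q)`. -/
theorem card_SL2 : Nat.card (SpecialLinearGroup (Fin 2) F) =
    Fintype.card F * (Fintype.card F - 1) * (Fintype.card F + 1) := by
  rw [Cfsg.Agent.Lib.Helper15.card_SL2_eq _ rfl]
  have h1 : 1 ≤ Fintype.card F := Fintype.card_pos
  obtain ⟨k, hk⟩ : ∃ k, Fintype.card F = k + 1 := ⟨Fintype.card F - 1, by omega⟩
  rw [hk]
  have h2 : (k + 1) ^ 2 - 1 = k * (k + 2) := by
    have : (k + 1) ^ 2 = k * (k + 2) + 1 := by ring
    omega
  rw [h2, Nat.add_sub_cancel]
  ring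

theorem two_ne_zero_of_odd (hodd : Odd (Fintype.card F)) : (2 : F) ≠ 0 := by
  intro h
  have := (Cfsg.Agent.Lib.Helper15.two_dvd_card_iff (F := F)).2 h
  rw [Nat.odd_iff] at hodd
  omega

/-- for `q ≡ ±3 mod 8` the Sylow 2-subgroups of `SL₂(q)` have order `8` -/
theorem card_sylow_two_eight (S : Sylow 2 (SpecialLinearGroup (Fin 2) F))
    (h : Fintype.card F % 8 = 3 ∨ Fintype.card F % 8 = 5) : Nat.card S = 8 := by
  haveI : Fact (Nat.Prime 2) := ⟨Nat.prime_two⟩
  -- `|G| = 8 m`, `m` odd
  obtain ⟨m, hm, hG⟩ : ∃ m : ℕ, Odd m ∧ Nat.card (SpecialLinearGroup (Fin 2) F) = 8 * m := by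
    rw [card_SL2]
    rcases h with h | h
    · obtain ⟨j, hj⟩ : ∃ j, Fintype.card F = 8 * j + 3 := ⟨Fintype.card F / 8, by omega⟩
      refine ⟨(8 * j + 3) * (4 * j + 1) * (2 * j + 1), ?_, ?_⟩
      · apply Odd.mul (Odd.mul ?_ ?_) ?_
        · exact ⟨4 * j + 1, by ring⟩
        · exact ⟨2 * j, by ring⟩
        · exact ⟨j, by ring⟩
      · rw [hj]
        have : 8 * j + 3 - 1 = 8 * j + 2 := by omega
        rw [this]; ring
    · obtain ⟨j, hj⟩ : ∃ j, Fintype.card F = 8 * j + 5 := ⟨Fintype.card F / 8, by omega⟩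
      refine ⟨(8 * j + 5) * (2 * j + 1) * (4 * j + 3), ?_, ?_⟩
      · apply Odd.mul (Odd.mul ?_ ?_) ?_
        · exact ⟨4 * j + 2, by ring⟩
        · exact ⟨j, by ring⟩
        · exact ⟨2 * j + 1, by ring⟩
      · rw [hj]
        have : 8 * j + 5 - 1 = 8 * j + 4 := by omega
        rw [this]; ring
  have h8 : 2 ^ 3 ∣ Nat.card S := by
    apply S.pow_dvd_card_of_pow_dvd_card
    rw [hG]; exact Dvd.intro _ rfl
  obtain ⟨k, hk⟩ := IsPGroup.iff_card.1 S.isPGroup'
  have hdvd : Nat.card S ∣ Nat.card (SpecialLinearGroup (Fin 2) F) :=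
    Subgroup.card_subgroup_dvd_card _
  rw [hk, hG] at hdvd
  have hcop : Nat.Coprime (2 ^ k) m := by
    apply Nat.Coprime.pow_left
    rw [Nat.coprime_two_left]
    exact hm
  have h9 : 2 ^ k ∣ 8 := hcop.dvd_of_dvd_mul_right hdvd
  rw [hk] at h8 ⊢
  exact Nat.dvd_antisymm h9 h8

/-- SL-F: for `q = 3` the Sylow 2-subgroup is normal. -/
theorem normalizer_sylow_two_eq_top_of_card_three (h3 : Fintype.card F = 3)
    (S : Sylow 2 (SpecialLinearGroup (Fin 2) F)) :
    Subgroup.normalizer ((S : Subgroup (SpecialLinearGroup (Fin 2) F)) :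
      Set (SpecialLinearGroup (Fin 2) F)) = ⊤ := by
  have hodd : Odd (Fintype.card F) := by rw [h3]; exact ⟨1, by norm_num⟩
  have h2 := two_ne_zero_of_odd hodd
  have hq : Fintype.card F % 8 = 3 ∨ Fintype.card F % 8 = 5 := by rw [h3]; left; norm_num
  have hN := Cfsg.Agent.Lib.Helper15.card_normalizer_sylow_two hodd h2 S hq
  rw [card_sylow_two_eight S hq] at hN
  apply Subgroup.eq_top_of_card_eq
  rw [hN, card_SL2, h3]

/-- the data for FO-G11 when `q ≡ ±3 mod 8` -/
theorem sylow_two_three_data (hodd : Odd (Fintype.card F))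
    (S : Sylow 2 (SpecialLinearGroup (Fin 2) F))
    (h : Fintype.card F % 8 = 3 ∨ Fintype.card F % 8 = 5) :
    Nat.card (Subgroup.normalizer ((S : Subgroup (SpecialLinearGroup (Fin 2) F)) :
      Set (SpecialLinearGroup (Fin 2) F))) = 24 ∧
    Nat.card ((S : Subgroup (SpecialLinearGroup (Fin 2) F)).subgroupOf
      (Subgroup.normalizer ((S : Subgroup (SpecialLinearGroup (Fin 2) F)) :
        Set (SpecialLinearGroup (Fin 2) F)))) = 8 ∧
    (∀ x ∈ (S : Subgroup (SpecialLinearGroup (Fin 2) F)).subgroupOf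
      (Subgroup.normalizer ((S : Subgroup (SpecialLinearGroup (Fin 2) F)) :
        Set (SpecialLinearGroup (Fin 2) F))),
      ∀ y ∈ (S : Subgroup (SpecialLinearGroup (Fin 2) F)).subgroupOf
        (Subgroup.normalizer ((S : Subgroup (SpecialLinearGroup (Fin 2) F)) :
          Set (SpecialLinearGroup (Fin 2) F))),
      orderOf x = 2 → orderOf y = 2 → x = y) ∧
    Nat.card (Subgroup.centralizer
      (((S : Subgroup (SpecialLinearGroup (Fin 2) F)).subgroupOf
        (Subgroup.normalizer ((S : Subgroup (SpecialLinearGroup (Fin 2) F)) :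
          Set (SpecialLinearGroup (Fin 2) F))) :
        Subgroup (Subgroup.normalizer ((S : Subgroup (SpecialLinearGroup (Fin 2) F)) :
          Set (SpecialLinearGroup (Fin 2) F)))) :
        Set (Subgroup.normalizer ((S : Subgroup (SpecialLinearGroup (Fin 2) F)) :
          Set (SpecialLinearGroup (Fin 2) F))))) = 2 := by
  have h2 := two_ne_zero_of_odd hodd
  have hS8 := card_sylow_two_eight S h
  have hN := Cfsg.Agent.Lib.Helper15.card_normalizer_sylow_two hodd h2 S h
  rw [hS8] at hN
  have hle : (S : Subgroup (SpecialLinearGroup (Fin 2) F)) ≤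
      Subgroup.normalizer ((S : Subgroup (SpecialLinearGroup (Fin 2) F)) :
        Set (SpecialLinearGroup (Fin 2) F)) := Subgroup.le_normalizer
  refine ⟨hN, ?_, ?_, ?_⟩
  · rw [Nat.card_congr (Subgroup.subgroupOfEquivOfLe hle).toEquiv]
    exact hS8
  · -- unique involution
    have key : ∀ x : Subgroup.normalizer ((S : Subgroup (SpecialLinearGroup (Fin 2) F)) :
        Set (SpecialLinearGroup (Fin 2) F)), orderOf x = 2 →
        (x : SpecialLinearGroup (Fin 2) F) = -1 := by
      intro x hx
      have h1 : x ^ 2 = 1 := by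
        have := pow_orderOf_eq_one x
        rwa [hx] at this
      have h3 : (x : SpecialLinearGroup (Fin 2) F) * (x : SpecialLinearGroup (Fin 2) F) = 1 := by
        have := congrArg Subtype.val h1
        rw [Subgroup.coe_pow, Subgroup.coe_one, pow_two] at this
        exact this
      rcases Cfsg.Agent.Lib.Helper15.eq_one_or_neg_one_of_mul_self h2 _ h3 with h4 | h4
      · exfalso
        have : x = 1 := Subtype.ext h4
        rw [this, orderOf_one] at hx
        omega
      · exact h4
    intro x _ y _ hx hy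
    apply Subtype.ext
    rw [key x hx, key y hy]
  · -- the centraliser
    have hcen := Cfsg.Agent.Lib.Helper15.centralizer_sylow_two hodd h2 S
    have hcard : Nat.card (Subgroup.center (SpecialLinearGroup (Fin 2) F)) = 2 := by
      rw [Cfsg.Agent.Lib.Helper15.Dk.card_center_eq_gcd,
        Cfsg.Agent.Lib.Helper15.gcd_two_of_ne h2]
    -- the centraliser in `N` of `S ∩ N` is `Z.subgroupOf N`
    have heq : Subgroup.centralizer
        (((S : Subgroup (SpecialLinearGroup (Fin 2) F)).subgroupOf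
          (Subgroup.normalizer ((S : Subgroup (SpecialLinearGroup (Fin 2) F)) :
            Set (SpecialLinearGroup (Fin 2) F))) :
          Subgroup (Subgroup.normalizer ((S : Subgroup (SpecialLinearGroup (Fin 2) F)) :
            Set (SpecialLinearGroup (Fin 2) F)))) :
          Set (Subgroup.normalizer ((S : Subgroup (SpecialLinearGroup (Fin 2) F)) :
            Set (SpecialLinearGroup (Fin 2) F)))) =
        (Subgroup.center (SpecialLinearGroup (Fin 2) F)).subgroupOf
          (Subgroup.normalizer ((S : Subgroup (SpecialLinearGroup (Fin 2) F)) :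
            Set (SpecialLinearGroup (Fin 2) F))) := by
      ext g
      rw [Subgroup.mem_centralizer_iff, Subgroup.mem_subgroupOf, ← hcen,
        Subgroup.mem_centralizer_iff]
      constructor
      · intro hg s hs
        have := hg ⟨s, hle hs⟩ (by rw [SetLike.mem_coe, Subgroup.mem_subgroupOf]; exact hs)
        exact congrArg Subtype.val this
      · intro hg s hs
        rw [SetLike.mem_coe, Subgroup.mem_subgroupOf] at hs
        apply Subtype.ext
        exact hg (s : SpecialLinearGroup (Fin 2) F) hs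
    rw [heq]
    have hcle : Subgroup.center (SpecialLinearGroup (Fin 2) F) ≤
        Subgroup.normalizer ((S : Subgroup (SpecialLinearGroup (Fin 2) F)) :
          Set (SpecialLinearGroup (Fin 2) F)) := by
      rw [← hcen]
      exact Subgroup.centralizer_le_normalizer _
    rw [Nat.card_congr (Subgroup.subgroupOfEquivOfLe hcle).toEquiv]
    exact hcard

end SL2

/-- the number of irreducible characters of degree prime to `ℓ` (copy of helper14's `mk`) -/
noncomputable def mk (ℓ : ℕ) (K : Type*) [Group K] : ℕ :=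
  Nat.card {χ : Cfsg.IrrCharacter K // ¬ ℓ ∣ Cfsg.charDegree (χ : K → ℂ)}

universe u

/-- SL-E2, with FO-G11 as a hypothesis. -/
theorem mk_normalizer_sylow_two_three_of {F : Type u} [Field F] [Fintype F]
    (hG11 : ∀ (N : Type u) [Group N] [Finite N], Nat.card N = 24 →
      ∀ (S : Subgroup N) [S.Normal], Nat.card S = 8 →
      (∀ x ∈ S, ∀ y ∈ S, orderOf x = 2 → orderOf y = 2 → x = y) →
      Nat.card (Subgroup.centralizer (S : Set N)) = 2 → mk 2 N = 4)
    (hodd : Odd (Fintype.card F))
    (S : Sylow 2 (SpecialLinearGroup (Fin 2) F))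
    (h : Fintype.card F % 8 = 3 ∨ Fintype.card F % 8 = 5) :
    mk 2 (Subgroup.normalizer ((S : Subgroup (SpecialLinearGroup (Fin 2) F)) :
      Set (SpecialLinearGroup (Fin 2) F))) = 4 := by
  obtain ⟨h1, h2, h3, h4⟩ := sylow_two_three_data hodd S h
  exact hG11 _ h1 _ h2 h3 h4

end Cfsg.Agent.Lib.Helper3.S2436P8
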