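import Mathlib
import Cfsg.Agent.S0326

set_option autoImplicit false

namespace Cfsg.Agent.Lib.Helper3.Sz

open Matrix

variable {F : Type*} [Field F]

/-- the polynomial defining the ovoid -/
def fpoly (m : ℕ) (x y : F) : F := x * y + x ^ (2 ^ (m + 1) + 2) + y ^ (2 ^ (m + 1))

lemma vec_eq (m : ℕ) (x y : F) : Cfsg.Agent.S0326.vec m x y = ![fpoly m x y, y, x, 1] := rfl

section field
variable [Fintype F] {m : ℕ} (hF : Fintype.card F = 2 ^ (2 * m + 1))

include hF in
lemma two_eq_zero : (2 : F) = 0 := by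
  have h := Nat.cast_card_eq_zero F
  rw [hF] at h
  have h' : (2 : F) ^ (2 * m + 1) = 0 := by exact_mod_cast h
  exact pow_eq_zero_iff (by omega) |>.1 h'

include hF in
lemma charP : CharP F 2 := CharTwo.of_one_ne_zero_of_two_eq_zero one_ne_zero (two_eq_zero hF)

include hF in
lemma sig_add (x y : F) : (x + y) ^ (2 ^ (m + 1)) = x ^ (2 ^ (m + 1)) + y ^ (2 ^ (m + 1)) := by
  have := charP hF
  have : Fact (Nat.Prime 2) := ⟨Nat.prime_two⟩
  exact add_pow_char_pow x y 2 (m + 1)

include hF in
lemma sig_sig (x : F) : (x ^ (2 ^ (m + 1))) ^ (2 ^ (m + 1)) = x ^ 2 := by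
  rw [← pow_mul, ← pow_add]
  have : m + 1 + (m + 1) = (2 * m + 1) + 1 := by ring
  rw [this, pow_succ, pow_mul, ← hF, FiniteField.pow_card]

include hF in
lemma neg_eq (x : F) : -x = x := by
  have h2 := two_eq_zero hF
  linear_combination (-x) * h2

include hF in
/-- `f(x,y) = 0` only for `x = y = 0` -/
lemma fpoly_eq_zero {x y : F} (h : fpoly m x y = 0) : x = 0 ∧ y = 0 := by
  have h2 := two_eq_zero hF
  obtain ⟨X, hX⟩ : ∃ X, X = x ^ (2 ^ (m + 1)) := ⟨_, rfl⟩
  obtain ⟨Y, hY⟩ : ∃ Y, Y = y ^ (2 ^ (m + 1)) := ⟨_, rfl⟩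
  have hf : x * y + X * x ^ 2 + Y = 0 := by
    have : fpoly m x y = x * y + X * x ^ 2 + Y := by
      simp only [fpoly, hX, hY, pow_add]
    rw [← this]; exact h
  have hXs : X ^ (2 ^ (m + 1)) = x ^ 2 := by rw [hX]; exact sig_sig hF x
  have hYs : Y ^ (2 ^ (m + 1)) = y ^ 2 := by rw [hY]; exact sig_sig hF y
  -- apply sigma
  have hΦ : X * Y + x ^ 2 * X ^ 2 + y ^ 2 = 0 := by
    have := congrArg (fun t => t ^ (2 ^ (m + 1))) hf
    simp only [sig_add hF, mul_pow, hXs, hYs, ← hX, ← hY] at this
    rw [zero_pow (by positivity)] at this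
    rw [← pow_mul, mul_comm 2, pow_mul, ← hX] at this
    linear_combination this
  have hy : y * (X * x + y) = 0 := by
    linear_combination hΦ - X * hf + (X * x * y) * h2
  have hx_of_y : y = 0 → x = 0 := by
    intro hy0
    have hY0 : Y = 0 := by rw [hY, hy0, zero_pow (by positivity)]
    rw [hy0, hY0] at hf
    have : x ^ (2 ^ (m + 1) + 2) = 0 := by
      rw [pow_add, ← hX]; linear_combination hf
    exact pow_eq_zero_iff (by positivity) |>.1 this
  rcases mul_eq_zero.1 hy with hy0 | hy1
  · exact ⟨hx_of_y hy0, hy0⟩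
  · have hyX : y = X * x := by
      linear_combination hy1 - (X * x) * h2
    have hY0 : Y = 0 := by
      rw [hyX] at hf
      linear_combination hf - (X * x ^ 2) * h2
    have hy0 : y = 0 := by
      rw [hY] at hY0
      exact pow_eq_zero_iff (by positivity) |>.1 hY0
    exact ⟨hx_of_y hy0, hy0⟩

/-- the translation matrix -/
def transM (m : ℕ) (a b : F) : Matrix (Fin 4) (Fin 4) F :=
  !![1, a, b + a ^ (2 ^ (m + 1)) * a, a * b + a ^ (2 ^ (m + 1)) * a ^ 2 + b ^ (2 ^ (m + 1));
     0, 1, a ^ (2 ^ (m + 1)), b;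
     0, 0, 1, a;
     0, 0, 0, 1]

/-- the vector of the point at infinity -/
def einf : Fin 4 → F := ![1, 0, 0, 0]

omit [Fintype F] in
lemma transM_einf (a b : F) : transM m a b *ᵥ einf = einf := by
  ext i
  fin_cases i <;> simp [transM, einf, Matrix.mulVec, dotProduct, Fin.sum_univ_four]

include hF in
lemma fpoly_trans (a b x y : F) :
    fpoly m (x + a) (y + b + a ^ (2 ^ (m + 1)) * x)
      = fpoly m x y + a * y + (b + a ^ (2 ^ (m + 1)) * a) * x
        + (a * b + a ^ (2 ^ (m + 1)) * a ^ 2 + b ^ (2 ^ (m + 1))) := by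
  have h2 := two_eq_zero hF
  have hs1 := sig_add hF
  have hs2 := sig_sig hF
  unfold fpoly
  generalize 2 ^ (m + 1) = s at *
  simp only [pow_add, hs1, mul_pow, hs2]
  obtain ⟨X, hX⟩ : ∃ X, X = x ^ s := ⟨_, rfl⟩
  obtain ⟨Y, hY⟩ : ∃ Y, Y = y ^ s := ⟨_, rfl⟩
  obtain ⟨A, hA⟩ : ∃ A, A = a ^ s := ⟨_, rfl⟩
  obtain ⟨B, hB⟩ : ∃ B, B = b ^ s := ⟨_, rfl⟩
  rw [← hX, ← hY, ← hA, ← hB]
  linear_combination (A * x ^ 2 + a ^ 2 * X + a * x * X + a * x * A) * h2

include hF in
lemma transM_vec (a b x y : F) :
    transM m a b *ᵥ Cfsg.Agent.S0326.vec m x y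
      = Cfsg.Agent.S0326.vec m (x + a) (y + b + a ^ (2 ^ (m + 1)) * x) := by
  rw [vec_eq, vec_eq, fpoly_trans hF]
  ext i
  fin_cases i <;> simp [transM, Matrix.mulVec, dotProduct, Fin.sum_univ_four] <;> ring

/-- the inversion matrix -/
def invM : Matrix (Fin 4) (Fin 4) F := !![0, 0, 0, 1; 0, 0, 1, 0; 0, 1, 0, 0; 1, 0, 0, 0]

omit [Fintype F] in
lemma invM_vec (x y : F) :
    (invM : Matrix (Fin 4) (Fin 4) F) *ᵥ Cfsg.Agent.S0326.vec m x y = ![1, x, y, fpoly m x y] := by
  rw [vec_eq]
  ext i
  fin_cases i <;> simp [invM, Matrix.mulVec, dotProduct, Fin.sum_univ_four]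

omit [Fintype F] in
lemma invM_einf : (invM : Matrix (Fin 4) (Fin 4) F) *ᵥ einf = ![0, 0, 0, 1] := by
  ext i
  fin_cases i <;> simp [invM, einf, Matrix.mulVec, dotProduct, Fin.sum_univ_four]

omit [Fintype F] in
lemma fpoly_zero : fpoly m (0 : F) 0 = 0 := by
  simp [fpoly]

omit [Fintype F] in
lemma vec_zero : Cfsg.Agent.S0326.vec m (0 : F) 0 = ![0, 0, 0, 1] := by
  rw [vec_eq, fpoly_zero]

include hF in
/-- the key identity for the inversion -/
lemma fpoly_inv (x y : F) (hf : fpoly m x y ≠ 0) :
    fpoly m x y * fpoly m (y / fpoly m x y) (x / fpoly m x y) = 1 := by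
  have h2 := two_eq_zero hF
  have hs1 := sig_add hF
  have hs2 := sig_sig hF
  unfold fpoly at hf ⊢
  generalize 2 ^ (m + 1) = s at *
  obtain ⟨X, hX⟩ : ∃ X, X = x ^ s := ⟨_, rfl⟩
  obtain ⟨Y, hY⟩ : ∃ Y, Y = y ^ s := ⟨_, rfl⟩
  have hXs : X ^ s = x ^ 2 := by rw [hX]; exact hs2 x
  have hYs : Y ^ s = y ^ 2 := by rw [hY]; exact hs2 y
  obtain ⟨f, hfe⟩ : ∃ f, f = x * y + X * x ^ 2 + Y := ⟨_, rfl⟩
  have hfe' : x * y + x ^ (s + 2) + y ^ s = f := by
    rw [hfe, pow_add, ← hX, ← hY]
  rw [hfe'] at hf ⊢
  obtain ⟨Φ, hΦ⟩ : ∃ Φ, Φ = f ^ s := ⟨_, rfl⟩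
  have hΦe : Φ = X * Y + x ^ 2 * X ^ 2 + y ^ 2 := by
    rw [hΦ, hfe]
    simp only [hs1, mul_pow, hXs, hYs, ← hX, ← hY]
    rw [← pow_mul, mul_comm 2, pow_mul, ← hX]
  have hΦ0 : Φ ≠ 0 := by rw [hΦ]; exact pow_ne_zero _ hf
  have key : x * y * Φ + Y * y ^ 2 + X * f ^ 2 = Φ * f := by
    rw [hΦe, hfe]
    linear_combination (x ^ 3 * y * X ^ 2 + x * y * X * Y) * h2
  have e1 : y / f * (x / f) + (y / f) ^ (s + 2) + (x / f) ^ s
      = y / f * (x / f) + Y / Φ * (y / f) ^ 2 + X / Φ := by
    rw [pow_add, div_pow y f s, div_pow x f s, ← hX, ← hY, ← hΦ]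
  rw [e1]
  field_simp
  linear_combination key

/-- vector of a parameter -/
def pvec (m : ℕ) : Option (F × F) → (Fin 4 → F)
  | none => einf
  | some (x, y) => Cfsg.Agent.S0326.vec m x y

omit [Fintype F] in
lemma pvec_ne_zero (c : Option (F × F)) : pvec m c ≠ 0 := by
  rcases c with _ | ⟨x, y⟩
  · exact Cfsg.Agent.S0326.inf_ne_zero
  · exact Cfsg.Agent.S0326.vec_ne_zero m x y

omit [Fintype F] in
lemma param_eq (c : Option (F × F)) :
    Cfsg.Agent.S0326.param m c = Projectivization.mk F (pvec m c) (pvec_ne_zero c) := by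
  rcases c with _ | ⟨x, y⟩ <;> rfl

/-- translation on parameters -/
def tau (m : ℕ) (a b : F) : Option (F × F) → Option (F × F)
  | none => none
  | some (x, y) => some (x + a, y + b + a ^ (2 ^ (m + 1)) * x)

include hF in
lemma transM_pvec (a b : F) (c : Option (F × F)) :
    transM m a b *ᵥ pvec m c = pvec m (tau m a b c) := by
  rcases c with _ | ⟨x, y⟩
  · exact transM_einf a b
  · exact transM_vec hF a b x y

omit [Fintype F] in
lemma tau_injective (a b : F) : Function.Injective (tau m a b) := by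
  intro c d h
  rcases c with _ | ⟨x, y⟩ <;> rcases d with _ | ⟨x', y'⟩ <;> simp only [tau] at h
  · rfl
  · exact absurd h (by simp)
  · exact absurd h (by simp)
  · simp only [Option.some.injEq, Prod.mk.injEq] at h
    obtain ⟨h1, h2⟩ := h
    have hx : x = x' := add_right_cancel h1
    subst hx
    have hy : y = y' := by
      have := add_right_cancel h2
      exact add_right_cancel this
    rw [hy]

/-- inversion on parameters -/
noncomputable def omega (m : ℕ) : Option (F × F) → Option (F × F)
  | none => some (0, 0)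
  | some (x, y) =>
    haveI := Classical.dec (fpoly m x y = 0)
    if fpoly m x y = 0 then none else some (y / fpoly m x y, x / fpoly m x y)

include hF in
lemma invM_pvec (c : Option (F × F)) :
    ∃ l : Fˣ, (invM : Matrix (Fin 4) (Fin 4) F) *ᵥ pvec m c = l • pvec m (omega m c) := by
  rcases c with _ | ⟨x, y⟩
  · refine ⟨1, ?_⟩
    rw [one_smul]
    show invM *ᵥ einf = Cfsg.Agent.S0326.vec m 0 0
    rw [invM_einf, vec_zero]
  · by_cases hf : fpoly m x y = 0
    · refine ⟨1, ?_⟩
      obtain ⟨hx, hy⟩ := fpoly_eq_zero hF hf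
      subst hx hy
      rw [one_smul]
      have : omega m (some ((0 : F), (0 : F))) = none := by
        simp only [omega, fpoly_zero, if_true]
      rw [this]
      show invM *ᵥ Cfsg.Agent.S0326.vec m 0 0 = einf
      rw [invM_vec, fpoly_zero]
      rfl
    · refine ⟨Units.mk0 _ hf, ?_⟩
      have : omega m (some (x, y)) = some (y / fpoly m x y, x / fpoly m x y) := by
        simp only [omega, hf, if_false]
      rw [this]
      show invM *ᵥ Cfsg.Agent.S0326.vec m x y
        = fpoly m x y • Cfsg.Agent.S0326.vec m (y / fpoly m x y) (x / fpoly m x y)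
      rw [invM_vec, vec_eq]
      have key := fpoly_inv hF x y hf
      ext i
      fin_cases i
      · simp [key]
      · simp; field_simp
      · simp; field_simp
      · simp

include hF in
lemma omega_omega (c : Option (F × F)) : omega m (omega m c) = c := by
  rcases c with _ | ⟨x, y⟩
  · simp only [omega, fpoly_zero, if_true]
  · by_cases hf : fpoly m x y = 0
    · obtain ⟨hx, hy⟩ := fpoly_eq_zero hF hf
      subst hx hy
      simp only [omega, fpoly_zero, if_true]
    · have key := fpoly_inv hF x y hf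
      have hf' : fpoly m (y / fpoly m x y) (x / fpoly m x y) = (fpoly m x y)⁻¹ :=
        eq_inv_of_mul_eq_one_right key
      have hne : fpoly m (y / fpoly m x y) (x / fpoly m x y) ≠ 0 := by
        rw [hf']; exact inv_ne_zero hf
      simp only [omega, hf, if_false, hne]
      rw [hf']
      congr 2
      · field_simp
      · field_simp

include hF in
lemma omega_injective : Function.Injective (omega (F := F) m) :=
  Function.LeftInverse.injective (omega_omega hF)

omit [Fintype F] in
/-- the point at infinity and two distinct affine points are independent -/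
lemma indep_inf (x y x' y' : F) (h : (x, y) ≠ (x', y')) :
    LinearIndependent F ![einf, Cfsg.Agent.S0326.vec m x y, Cfsg.Agent.S0326.vec m x' y'] := by
  rw [Fintype.linearIndependent_iff]
  intro g hg
  have h3 := congrFun hg 3
  have h2 := congrFun hg 2
  have h1 := congrFun hg 1
  have h0 := congrFun hg 0
  simp [Fin.sum_univ_three, einf, vec_eq] at h0 h1 h2 h3
  have hg2 : g 2 = -g 1 := by linear_combination h3
  rw [hg2] at h1 h2 h0
  have hg1 : g 1 = 0 := by
    by_contra hne
    apply h
    have hx : x = x' := by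
      have : g 1 * (x - x') = 0 := by linear_combination h2
      rcases mul_eq_zero.1 this with h' | h'
      · exact absurd h' hne
      · exact sub_eq_zero.1 h'
    have hy : y = y' := by
      have : g 1 * (y - y') = 0 := by linear_combination h1
      rcases mul_eq_zero.1 this with h' | h'
      · exact absurd h' hne
      · exact sub_eq_zero.1 h'
    rw [hx, hy]
  rw [hg1] at hg2 h0
  simp at hg2 h0
  intro i
  fin_cases i
  · exact h0
  · exact hg1
  · exact hg2

omit [Fintype F] in
lemma indep_of_first_none (c : Fin 3 → Option (F × F)) (hc : Function.Injective c)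
    (h0 : c 0 = none) : LinearIndependent F (fun i => pvec m (c i)) := by
  have h01 : c 1 ≠ none := fun h => by
    have := hc (h.trans h0.symm); exact absurd this (by decide)
  have h02 : c 2 ≠ none := fun h => by
    have := hc (h.trans h0.symm); exact absurd this (by decide)
  obtain ⟨⟨x, y⟩, h1⟩ := Option.ne_none_iff_exists'.1 h01
  obtain ⟨⟨x', y'⟩, h2⟩ := Option.ne_none_iff_exists'.1 h02
  have hne : (x, y) ≠ (x', y') := by
    intro h
    have : c 1 = c 2 := by rw [h1, h2, h]
    exact absurd (hc this) (by decide)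
  have : (fun i => pvec m (c i))
      = ![einf, Cfsg.Agent.S0326.vec m x y, Cfsg.Agent.S0326.vec m x' y'] := by
    funext i
    fin_cases i
    · show pvec m (c 0) = _; rw [h0]; rfl
    · show pvec m (c 1) = _; rw [h1]; rfl
    · show pvec m (c 2) = _; rw [h2]; rfl
  rw [this]
  exact indep_inf x y x' y' hne

include hF in
/-- any three distinct points of the ovoid are independent -/
theorem indep_of_injective (c : Fin 3 → Option (F × F)) (hc : Function.Injective c) :
    LinearIndependent F (fun i => pvec m (c i)) := by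
  have h2 := two_eq_zero hF
  rcases hc0 : c 0 with _ | ⟨a, b⟩
  · exact indep_of_first_none (m := m) c hc hc0
  · set b' := b + a ^ (2 ^ (m + 1)) * a with hb'
    let c' : Fin 3 → Option (F × F) := fun i => omega m (tau m a b' (c i))
    have hc' : Function.Injective c' := (omega_injective hF).comp ((tau_injective a b').comp hc)
    have hc'0 : c' 0 = none := by
      show omega m (tau m a b' (c 0)) = none
      rw [hc0]
      have : tau m a b' (some (a, b)) = some (0, 0) := by
        simp only [tau, hb']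
        congr 2
        · linear_combination a * h2
        · linear_combination (b + a ^ (2 ^ (m + 1)) * a) * h2
      rw [this]
      simp only [omega, fpoly_zero, if_true]
    have hind := indep_of_first_none (m := m) c' hc' hc'0
    have hl : ∀ i, ∃ l : Fˣ, (invM * transM m a b') *ᵥ pvec m (c i) = l • pvec m (c' i) := by
      intro i
      obtain ⟨l, hl⟩ := invM_pvec hF (tau m a b' (c i))
      refine ⟨l, ?_⟩
      rw [← Matrix.mulVec_mulVec, transM_pvec hF, hl]
    choose l hl using hl
    have hind2 : LinearIndependent F (fun i => (invM * transM m a b') *ᵥ pvec m (c i)) := by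
      have := hind.units_smul l
      convert this using 1
      funext i
      exact hl i
    exact LinearIndependent.of_comp (Matrix.mulVecLin (invM * transM m a b')) hind2

end field

end Cfsg.Agent.Lib.Helper3.Sz
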