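import Mathlib
import Cfsg.Agent.Lib.Helper3.Suzuki

set_option autoImplicit false

namespace Cfsg.Agent.Lib.Helper3.Sz

open Matrix Cfsg
open scoped Pointwise

variable {F : Type*} [Field F]

lemma SL_smul_mk (S : Matrix.SpecialLinearGroup (Fin 4) F) (v : Fin 4 → F) (hv : v ≠ 0) :
    ∃ h : S.1 *ᵥ v ≠ 0, S • Projectivization.mk F v hv = Projectivization.mk F (S.1 *ᵥ v) h := by
  have h : S • v ≠ 0 := (smul_ne_zero_iff_ne S).mpr hv
  exact ⟨h, rfl⟩

/-- a matrix mapping vectors of parameters to multiples of vectors of parameters -/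
lemma smul_param {m : ℕ} (S : Matrix.SpecialLinearGroup (Fin 4) F) (c d : Option (F × F)) (l : Fˣ)
    (h : S.1 *ᵥ pvec m c = l • pvec m d) :
    S • Cfsg.Agent.S0326.param m c = Cfsg.Agent.S0326.param m d := by
  rw [param_eq, param_eq]
  obtain ⟨h1, h2⟩ := SL_smul_mk S (pvec m c) (pvec_ne_zero c)
  rw [h2, Projectivization.mk_eq_mk_iff]
  exact ⟨l, h.symm⟩

lemma ovoid_finite [Finite F] (m : ℕ) : (suzukiOvoid F m).Finite := by
  rw [← Cfsg.Agent.S0326.range_param]
  exact Set.finite_range _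

lemma mem_Sz_of_forall [Finite F] {m : ℕ} (S : Matrix.SpecialLinearGroup (Fin 4) F)
    (φ : Option (F × F) → Option (F × F))
    (h : ∀ c, S • Cfsg.Agent.S0326.param m c = Cfsg.Agent.S0326.param m (φ c)) : S ∈ Sz F m := by
  rw [MulAction.mem_stabilizer_set_iff_smul_set_subset (ovoid_finite m)]
  rintro _ ⟨p, hp, rfl⟩
  rw [← Cfsg.Agent.S0326.range_param] at hp ⊢
  obtain ⟨c, rfl⟩ := hp
  exact ⟨φ c, (h c).symm⟩

lemma transM_det (m : ℕ) (a b : F) : (transM m a b).det = 1 := by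
  have h : (transM m a b).BlockTriangular id := by
    intro i j hij
    fin_cases i <;> fin_cases j <;> first | rfl | (exfalso; revert hij; decide)
  rw [Matrix.det_of_isUpperTriangular h]
  simp [Fin.prod_univ_four, transM]

lemma invM_det : (invM : Matrix (Fin 4) (Fin 4) F).det = 1 := by
  simp [Matrix.det_succ_row_zero, Fin.sum_univ_succ, invM, Fin.succAbove, pow_succ]

/-- translation as an element of `SL₄` -/
def transS (m : ℕ) (a b : F) : Matrix.SpecialLinearGroup (Fin 4) F := ⟨transM m a b, transM_det m a b⟩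

/-- inversion as an element of `SL₄` -/
def invS : Matrix.SpecialLinearGroup (Fin 4) F := ⟨invM, invM_det⟩


section field
variable [Fintype F] {m : ℕ} (hF : Fintype.card F = 2 ^ (2 * m + 1))

include hF in
lemma transS_param (a b : F) (c : Option (F × F)) :
    transS m a b • Cfsg.Agent.S0326.param m c = Cfsg.Agent.S0326.param m (tau m a b c) := by
  apply smul_param (transS m a b) c (tau m a b c) 1
  rw [one_smul]
  exact transM_pvec hF a b c

include hF in
lemma invS_param (c : Option (F × F)) :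
    (invS : Matrix.SpecialLinearGroup (Fin 4) F) • Cfsg.Agent.S0326.param m c
      = Cfsg.Agent.S0326.param m (omega m c) := by
  obtain ⟨l, hl⟩ := invM_pvec hF c
  exact smul_param invS c (omega m c) l hl

include hF in
lemma transS_mem (a b : F) : transS m a b ∈ Sz F m :=
  mem_Sz_of_forall _ (tau m a b) (transS_param hF a b)

include hF in
lemma invS_mem : (invS : Matrix.SpecialLinearGroup (Fin 4) F) ∈ Sz F m :=
  mem_Sz_of_forall _ (omega m) (invS_param hF)

/-- the torus matrix -/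
def torM (m : ℕ) (k : Fˣ) : Matrix (Fin 4) (Fin 4) F :=
  Matrix.diagonal ![(k : F) ^ (1 + 2 ^ m), (k : F) ^ (2 ^ m), ((k⁻¹ : Fˣ) : F) ^ (2 ^ m),
    ((k⁻¹ : Fˣ) : F) ^ (1 + 2 ^ m)]

omit [Fintype F] in
lemma torM_det (m : ℕ) (k : Fˣ) : (torM m k).det = 1 := by
  rw [torM, Matrix.det_diagonal, Fin.prod_univ_four]
  simp only [Matrix.cons_val_zero, Matrix.cons_val_one, Matrix.cons_val]
  have hk : (k : F) ≠ 0 := k.ne_zero
  simp only [Units.val_inv_eq_inv_val, inv_pow]
  field_simp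

/-- torus element of `SL₄` -/
def torS (m : ℕ) (k : Fˣ) : Matrix.SpecialLinearGroup (Fin 4) F := ⟨torM m k, torM_det m k⟩

/-- the torus action on parameters -/
def delta (m : ℕ) (k : F) : Option (F × F) → Option (F × F)
  | none => none
  | some (x, y) => some (k * x, k ^ (2 ^ (m + 1) + 1) * y)

include hF in
lemma pow_q (x : F) : x ^ (2 ^ (2 * m + 1)) = x := by
  rw [← hF, FiniteField.pow_card]

include hF in
lemma torM_pvec (k : Fˣ) (c : Option (F × F)) :
    ∃ l : Fˣ, torM m k *ᵥ pvec m c = l • pvec m (delta m (k : F) c) := by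
  rcases c with _ | ⟨x, y⟩
  · refine ⟨k ^ (1 + 2 ^ m), ?_⟩
    show torM m k *ᵥ einf = _ • einf
    ext i
    fin_cases i <;> simp [torM, einf, Matrix.mulVec_diagonal, Units.smul_def]
  · refine ⟨(k⁻¹) ^ (1 + 2 ^ m), ?_⟩
    show torM m k *ᵥ Cfsg.Agent.S0326.vec m x y
      = _ • Cfsg.Agent.S0326.vec m ((k : F) * x) ((k : F) ^ (2 ^ (m + 1) + 1) * y)
    rw [vec_eq, vec_eq]
    have hk : (k : F) ≠ 0 := k.ne_zero
    obtain ⟨R, hR⟩ : ∃ R : F, R = (k : F) ^ (2 ^ m) := ⟨_, rfl⟩
    have hR0 : R ≠ 0 := by rw [hR]; exact pow_ne_zero _ hk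
    have hks : (k : F) ^ (2 ^ (m + 1)) = R ^ 2 := by
      rw [hR, ← pow_mul, pow_succ]
    have hRs : R ^ (2 ^ (m + 1)) = (k : F) := by
      rw [hR, ← pow_mul, ← pow_add]
      have : m + (m + 1) = 2 * m + 1 := by ring
      rw [this, pow_q hF]
    have hf : fpoly m ((k : F) * x) ((k : F) ^ (2 ^ (m + 1) + 1) * y)
        = R ^ 2 * (k : F) ^ 2 * fpoly m x y := by
      unfold fpoly
      rw [pow_succ ((k : F)) (2 ^ (m + 1)), hks, mul_pow, mul_pow, mul_pow, pow_add ((k : F)), hks,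
        ← pow_mul, mul_comm 2, pow_mul, hRs]
      ring
    rw [hf, pow_succ ((k : F)) (2 ^ (m + 1)), hks]
    ext i
    fin_cases i
    · simp [torM, Matrix.mulVec_diagonal, Units.smul_def, pow_add, ← hR]
      field_simp
    · simp [torM, Matrix.mulVec_diagonal, Units.smul_def, pow_add, ← hR]
      field_simp
    · simp [torM, Matrix.mulVec_diagonal, Units.smul_def, pow_add, ← hR]
      field_simp
    · simp [torM, Matrix.mulVec_diagonal, Units.smul_def, pow_add, ← hR]

include hF in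
lemma torS_param (k : Fˣ) (c : Option (F × F)) :
    torS m k • Cfsg.Agent.S0326.param m c = Cfsg.Agent.S0326.param m (delta m (k : F) c) := by
  obtain ⟨l, hl⟩ := torM_pvec hF k c
  exact smul_param (torS m k) c _ l hl

include hF in
lemma torS_mem (k : Fˣ) : torS m k ∈ Sz F m :=
  mem_Sz_of_forall _ (delta m (k : F)) (torS_param hF k)


omit [Fintype F] in
lemma col0 (g : Matrix.SpecialLinearGroup (Fin 4) F)
    (h : g • Cfsg.Agent.S0326.param (F := F) m none = Cfsg.Agent.S0326.param m none) :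
    ∃ a : Fˣ, g.1 0 0 = a ∧ g.1 1 0 = 0 ∧ g.1 2 0 = 0 ∧ g.1 3 0 = 0 := by
  rw [param_eq] at h
  obtain ⟨h1, h2⟩ := SL_smul_mk g (pvec m none) (pvec_ne_zero none)
  rw [h2, Projectivization.mk_eq_mk_iff] at h
  obtain ⟨a, ha⟩ := h
  refine ⟨a, ?_, ?_, ?_, ?_⟩
  · have := congrFun ha 0
    simpa [pvec, einf, Matrix.mulVec, dotProduct, Fin.sum_univ_four, Units.smul_def] using this.symm
  · have := congrFun ha 1
    simpa [pvec, einf, Matrix.mulVec, dotProduct, Fin.sum_univ_four, Units.smul_def] using this.symm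
  · have := congrFun ha 2
    simpa [pvec, einf, Matrix.mulVec, dotProduct, Fin.sum_univ_four, Units.smul_def] using this.symm
  · have := congrFun ha 3
    simpa [pvec, einf, Matrix.mulVec, dotProduct, Fin.sum_univ_four, Units.smul_def] using this.symm

omit [Fintype F] in
lemma col3 (g : Matrix.SpecialLinearGroup (Fin 4) F)
    (h : g • Cfsg.Agent.S0326.param m (some ((0 : F), (0 : F)))
      = Cfsg.Agent.S0326.param m (some ((0 : F), (0 : F)))) :
    ∃ a : Fˣ, g.1 3 3 = a ∧ g.1 0 3 = 0 ∧ g.1 1 3 = 0 ∧ g.1 2 3 = 0 := by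
  rw [param_eq] at h
  obtain ⟨h1, h2⟩ := SL_smul_mk g (pvec m (some ((0 : F), (0 : F)))) (pvec_ne_zero _)
  rw [h2, Projectivization.mk_eq_mk_iff] at h
  obtain ⟨a, ha⟩ := h
  have hp : pvec m (some ((0 : F), (0 : F))) = ![0, 0, 0, 1] := vec_zero
  rw [hp] at ha
  refine ⟨a, ?_, ?_, ?_, ?_⟩
  · have := congrFun ha 3
    simpa [Matrix.mulVec, dotProduct, Fin.sum_univ_four, Units.smul_def] using this.symm
  · have := congrFun ha 0
    simpa [Matrix.mulVec, dotProduct, Fin.sum_univ_four, Units.smul_def] using this.symm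
  · have := congrFun ha 1
    simpa [Matrix.mulVec, dotProduct, Fin.sum_univ_four, Units.smul_def] using this.symm
  · have := congrFun ha 2
    simpa [Matrix.mulVec, dotProduct, Fin.sum_univ_four, Units.smul_def] using this.symm

omit [Fintype F] in
lemma affine_image (g : Matrix.SpecialLinearGroup (Fin 4) F) (hg : g ∈ Sz F m)
    (hinf : g • Cfsg.Agent.S0326.param (F := F) m none = Cfsg.Agent.S0326.param m none) (x y : F) :
    ∃ (x' y' : F) (l : Fˣ),
      g.1 *ᵥ Cfsg.Agent.S0326.vec m x y = l • Cfsg.Agent.S0326.vec m x' y' := by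
  have hmem : g • Cfsg.Agent.S0326.param m (some (x, y)) ∈ suzukiOvoid F m := by
    have h1 : g • suzukiOvoid F m = suzukiOvoid F m := MulAction.mem_stabilizer_iff.1 hg
    have h2 : Cfsg.Agent.S0326.param m (some (x, y)) ∈ suzukiOvoid F m := by
      rw [← Cfsg.Agent.S0326.range_param]; exact ⟨_, rfl⟩
    rw [← h1]
    exact Set.smul_mem_smul_set h2
  rw [← Cfsg.Agent.S0326.range_param] at hmem
  obtain ⟨c, hc⟩ := hmem
  rcases c with _ | ⟨x', y'⟩
  · exfalso
    rw [← hinf] at hc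
    have := smul_left_cancel g hc
    have := Cfsg.Agent.S0326.param_injective m this
    exact absurd this (by simp)
  · refine ⟨x', y', ?_⟩
    rw [param_eq, param_eq] at hc
    obtain ⟨h1, h2⟩ := SL_smul_mk g (pvec m (some (x, y))) (pvec_ne_zero _)
    rw [h2, Projectivization.mk_eq_mk_iff] at hc
    obtain ⟨a, ha⟩ := hc
    refine ⟨a⁻¹, ?_⟩
    show g.1 *ᵥ pvec m (some (x, y)) = a⁻¹ • pvec m (some (x', y'))
    rw [← ha, smul_smul, inv_mul_cancel, one_smul]

omit [Fintype F] in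
lemma poly4 [Fintype F] (s : ℕ) (hs : 2 < s) (hq : s + 2 < Fintype.card F) (A B C D : F)
    (h : ∀ y : F, A * y + B * y ^ 2 + C * y ^ s + D * y ^ (s + 2) = 0) :
    A = 0 ∧ B = 0 ∧ C = 0 ∧ D = 0 := by
  classical
  obtain ⟨P, hPdef⟩ : ∃ P : Polynomial F, P = Polynomial.C A * Polynomial.X
    + Polynomial.C B * Polynomial.X ^ 2
    + Polynomial.C C * Polynomial.X ^ s + Polynomial.C D * Polynomial.X ^ (s + 2) := ⟨_, rfl⟩
  have hdeg : P.natDegree ≤ s + 2 := by
    rw [hPdef]
    compute_degree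
  have hP : P = 0 := by
    apply Polynomial.eq_zero_of_natDegree_lt_card_of_eval_eq_zero' P Finset.univ
    · intro y _
      rw [hPdef]
      simp only [Polynomial.eval_add, Polynomial.eval_mul, Polynomial.eval_C, Polynomial.eval_X,
        Polynomial.eval_pow]
      exact h y
    · rw [Finset.card_univ]; omega
  have h1 := congrArg (fun p => Polynomial.coeff p 1) hP
  have h2 := congrArg (fun p => Polynomial.coeff p 2) hP
  have h3 := congrArg (fun p => Polynomial.coeff p s) hP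
  have h4 := congrArg (fun p => Polynomial.coeff p (s + 2)) hP
  simp only [hPdef, Polynomial.coeff_add, Polynomial.coeff_C_mul, Polynomial.coeff_X_pow,
    Polynomial.coeff_X, Polynomial.coeff_zero] at h1 h2 h3 h4
  have e1 : (1 : ℕ) ≠ s := by omega
  have e3 : (2 : ℕ) ≠ s := by omega
  have e6 : s ≠ 2 := by omega
  have e11 : s ≠ 0 := by omega
  simp [e1, e3, e6, e11] at h1 h2 h3 h4
  exact ⟨h1, h2, h3, h4⟩

include hF in
lemma func_eq (hm : 1 ≤ m) (c1 c2 b1 b2 lam a1 a2 : F) (hlam : lam ≠ 0)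
    (h : ∀ x y : F, fpoly m (c1 * y + c2 * x) (b1 * y + b2 * x)
      = lam * fpoly m x y + a1 * y + a2 * x) :
    c1 = 0 ∧ b2 = 0 ∧ a1 = 0 ∧ a2 = 0 ∧ c2 ≠ 0 ∧ lam = c2 ^ (2 ^ (m + 1) + 2)
      ∧ b1 = c2 ^ (2 ^ (m + 1) + 1) := by
  have h2 := two_eq_zero hF
  have h2m : 2 ≤ 2 ^ m := by
    calc 2 = 2 ^ 1 := by norm_num
      _ ≤ 2 ^ m := Nat.pow_le_pow_right (by norm_num) hm
  have hs4 : 2 < 2 ^ (m + 1) := by rw [pow_succ]; omega
  have hsq : 2 ^ (m + 1) + 2 < Fintype.card F := by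
    rw [hF]
    have : 2 ^ (2 * m + 1) = 2 ^ (m + 1) * 2 ^ m := by
      rw [← pow_add]; congr 1; ring
    rw [this]
    nlinarith
  simp only [fpoly] at h
  generalize 2 ^ (m + 1) = s at *
  have hs0 : s ≠ 0 := by omega
  have hs2 : s + 2 ≠ 0 := by omega
  have hx0 : ∀ y : F, (-a1) * y + (c1 * b1) * y ^ 2 + (b1 ^ s - lam) * y ^ s
      + c1 ^ (s + 2) * y ^ (s + 2) = 0 := by
    intro y
    have := h 0 y
    simp only [mul_zero, add_zero, zero_mul, zero_pow hs2, zero_add, mul_pow] at this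
    linear_combination this
  have hy0 : ∀ x : F, (-a2) * x + (c2 * b2) * x ^ 2 + (b2 ^ s) * x ^ s
      + (c2 ^ (s + 2) - lam) * x ^ (s + 2) = 0 := by
    intro x
    have := h x 0
    simp only [mul_zero, add_zero, zero_pow hs0, zero_add, mul_pow] at this
    linear_combination this
  obtain ⟨ha1, -, hb1, hc1⟩ := poly4 s hs4 hsq _ _ _ _ hx0
  obtain ⟨ha2, -, hb2, hc2⟩ := poly4 s hs4 hsq _ _ _ _ hy0
  have hc1' : c1 = 0 := pow_eq_zero_iff hs2 |>.1 hc1
  have hb2' : b2 = 0 := pow_eq_zero_iff hs0 |>.1 hb2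
  have ha1' : a1 = 0 := by linear_combination -ha1
  have ha2' : a2 = 0 := by linear_combination -ha2
  have h11 := h 1 1
  rw [hc1', hb2', ha1', ha2'] at h11
  simp only [mul_one, zero_add, add_zero, one_pow] at h11
  have hcb : c2 * b1 = lam := by
    linear_combination h11 - hc2 - hb1
  have hc20 : c2 ≠ 0 := by
    intro h0
    rw [h0, zero_mul] at hcb
    exact hlam hcb.symm
  have hlam' : lam = c2 ^ (s + 2) := by linear_combination -hc2
  refine ⟨hc1', hb2', ha1', ha2', hc20, hlam', ?_⟩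
  apply mul_left_cancel₀ hc20
  rw [hcb, hlam']
  ring

end field

end Cfsg.Agent.Lib.Helper3.Sz
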