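import Mathlib
import Cfsg.Prelude.Def_GeometricClasses
import Cfsg.Agent.Lib.Helper13.TensorNM
import Cfsg.Agent.Lib.Helper15.MonoA
import Cfsg.Agent.Lib.Helper15.BlkA

/-!
# BlkMax FO-SWAP : signed block swaps (S5634, `m ≥ 2`; architect helper15)
-/

set_option autoImplicit false

namespace Cfsg.Agent.Lib.Helper3.BlkSwap

open Matrix Cfsg Cfsg.Geo Cfsg.Agent.Lib.Helper13.TNM Cfsg.Agent.Lib.Helper15.MonoMax
open Cfsg.Agent.Lib.Helper15.BlkMax

variable {t m : ℕ} {F : Type*} [Field F]

/-- the permutation of the coordinates swapping the blocks `j` and `l` -/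
def swapPerm (t m : ℕ) (j l : Fin t) : Equiv.Perm (Fin t × Fin m) :=
  Equiv.prodCongrLeft (fun _ : Fin m => Equiv.swap j l)

theorem swapPerm_apply (j l : Fin t) (a : Fin t × Fin m) :
    swapPerm t m j l a = (Equiv.swap j l a.1, a.2) := rfl

theorem swapPerm_swapPerm (j l : Fin t) (a : Fin t × Fin m) :
    swapPerm t m j l (swapPerm t m j l a) = a := by
  rw [swapPerm_apply, swapPerm_apply]
  simp

/-- the signs -/
def sgn (F : Type*) [Field F] {t m : ℕ} (l : Fin t) (b : Fin t × Fin m) : F :=
  if b.1 = l then -1 else 1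

theorem sgn_mul_self (l : Fin t) (b : Fin t × Fin m) : sgn F l b * sgn F l b = 1 := by
  unfold sgn
  split_ifs <;> simp

/-- the signed swap matrix -/
def swapMat (F : Type*) [Field F] (t m : ℕ) (j l : Fin t) :
    Matrix (Fin t × Fin m) (Fin t × Fin m) F :=
  fun a b => if a = swapPerm t m j l b then sgn F l b else 0

theorem swapMat_eq (j l : Fin t) :
    swapMat F t m j l =
      ((swapPerm t m j l).toPEquiv.toMatrix : Matrix (Fin t × Fin m) (Fin t × Fin m) F) *
        Matrix.diagonal (sgn F l) := by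
  ext a b
  rw [Matrix.mul_diagonal, PEquiv.toMatrix_apply, Equiv.toPEquiv_apply, swapMat]
  by_cases h : a = swapPerm t m j l b
  · rw [if_pos h, h, swapPerm_swapPerm]; simp
  · rw [if_neg h, if_neg, zero_mul]
    intro h'
    apply h
    have : swapPerm t m j l a = b := by simpa using h'
    rw [← this, swapPerm_swapPerm]

theorem prod_sgn (l : Fin t) : ∏ b : Fin t × Fin m, sgn F l b = (-1) ^ m := by
  rw [Fintype.prod_prod_type]
  have : ∀ k : Fin t, ∏ x : Fin m, sgn F l (k, x) = if k = l then (-1 : F) ^ m else 1 := by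
    intro k
    unfold sgn
    by_cases h : k = l
    · simp [h]
    · simp [h]
  simp_rw [this]
  rw [Finset.prod_ite_eq' Finset.univ l]
  simp

theorem sign_swapPerm (j l : Fin t) (hjl : j ≠ l) :
    Equiv.Perm.sign (swapPerm t m j l) = (-1) ^ m := by
  rw [swapPerm, Equiv.Perm.sign_prodCongrLeft]
  simp [Equiv.Perm.sign_swap hjl]

theorem det_swapMat (j l : Fin t) (hjl : j ≠ l) : (swapMat F t m j l).det = 1 := by
  rw [swapMat_eq, Matrix.det_mul, Matrix.det_permutation, Matrix.det_diagonal, prod_sgn,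
    sign_swapPerm j l hjl]
  push_cast
  rw [← mul_pow]
  simp

theorem swapMat_mul_transpose (j l : Fin t) :
    swapMat F t m j l * (swapMat F t m j l)ᵀ = 1 := by
  ext a c
  rw [Matrix.mul_apply, Finset.sum_eq_single (swapPerm t m j l a)]
  · rw [Matrix.transpose_apply, swapMat, swapMat, swapPerm_swapPerm, if_pos rfl]
    by_cases h : a = c
    · subst h
      rw [if_pos rfl, sgn_mul_self, Matrix.one_apply_eq]
    · rw [if_neg (fun h' => h h'.symm), mul_zero, Matrix.one_apply_ne h]
  · intro b _ hb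
    rw [swapMat, if_neg, zero_mul]
    intro h
    apply hb
    rw [h, swapPerm_swapPerm]
  · intro h; exact absurd (Finset.mem_univ _) h

theorem swapMat_transpose_mul (j l : Fin t) :
    (swapMat F t m j l)ᵀ * swapMat F t m j l = 1 := by
  ext a c
  rw [Matrix.mul_apply, Finset.sum_eq_single (swapPerm t m j l a)]
  · rw [Matrix.transpose_apply, swapMat, swapMat, if_pos rfl]
    by_cases h : a = c
    · subst h
      rw [if_pos rfl, sgn_mul_self, Matrix.one_apply_eq]
    · rw [if_neg (fun h' => h ((swapPerm t m j l).injective h')), mul_zero, Matrix.one_apply_ne h]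
  · intro b _ hb
    rw [Matrix.transpose_apply, swapMat, if_neg hb, zero_mul]
  · intro h; exact absurd (Finset.mem_univ _) h

/-- the signed block swap in `GL` -/
def swapGL (F : Type*) [Field F] (t m : ℕ) (j l : Fin t) : GL (Fin t × Fin m) F :=
  ⟨swapMat F t m j l, (swapMat F t m j l)ᵀ, swapMat_mul_transpose j l, swapMat_transpose_mul j l⟩

theorem swapGL_val (j l : Fin t) :
    ((swapGL F t m j l : GL (Fin t × Fin m) F) : Matrix (Fin t × Fin m) (Fin t × Fin m) F) =
      swapMat F t m j l := rfl

theorem swapGL_inv_val (j l : Fin t) :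
    (((swapGL F t m j l)⁻¹ : GL (Fin t × Fin m) F) : Matrix (Fin t × Fin m) (Fin t × Fin m) F) =
      (swapMat F t m j l)ᵀ := rfl

theorem swapMat_mulVec (j l : Fin t) (x : Fin t × Fin m → F) (a : Fin t × Fin m) :
    (swapMat F t m j l *ᵥ x) a = sgn F l (swapPerm t m j l a) * x (swapPerm t m j l a) := by
  rw [Matrix.mulVec, dotProduct, Finset.sum_eq_single (swapPerm t m j l a)]
  · rw [swapMat, swapPerm_swapPerm, if_pos rfl]
  · intro b _ hb
    rw [swapMat, if_neg, zero_mul]
    intro h
    apply hb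
    rw [h, swapPerm_swapPerm]
  · intro h; exact absurd (Finset.mem_univ _) h

theorem vecMul_swapMat (j l : Fin t) (θ : Fin t × Fin m → F) (b : Fin t × Fin m) :
    (θ ᵥ* swapMat F t m j l) b = θ (swapPerm t m j l b) * sgn F l b := by
  rw [Matrix.vecMul, dotProduct, Finset.sum_eq_single (swapPerm t m j l b)]
  · rw [swapMat, if_pos rfl]
  · intro a _ ha
    rw [swapMat, if_neg ha, mul_zero]
  · intro h; exact absurd (Finset.mem_univ _) h

theorem swapGL_mem_SS (j l : Fin t) (hjl : j ≠ l) : swapGL F t m j l ∈ SS t m F := by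
  rw [SS, Subgroup.mem_inf]
  refine ⟨?_, ?_⟩
  · apply mem_decStab_of_blockMonomial _ _ (Equiv.swap j l)
    · intro a a' h
      rw [swapGL_val, swapMat, if_neg]
      intro h'
      apply h
      rw [h', swapPerm_apply]
    · intro a a' h
      rw [swapGL_inv_val, Matrix.transpose_apply, swapMat, if_neg]
      intro h'
      apply h
      rw [h', swapPerm_apply]
      simp
  · rw [mem_SL_iff, swapGL_val, det_swapMat j l hjl]

/-- **FO-SWAP**: signed block swap `j ↔ l` (det 1), the identity on the other blocks -/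
theorem exists_blockSwap (j l : Fin t) (hjl : j ≠ l) :
    ∃ s : GL (Fin t × Fin m) F, s ∈ SS t m F ∧
      (∀ k, k ≠ j → k ≠ l → ∀ x, OnBlk k x → (s : Matrix (Fin t × Fin m) (Fin t × Fin m) F) *ᵥ x = x) ∧
      (∀ x, OnBlk j x → OnBlk l ((s : Matrix (Fin t × Fin m) (Fin t × Fin m) F) *ᵥ x)) ∧
      (∀ θ, OnBlk l θ → OnBlk j (θ ᵥ* (s : Matrix (Fin t × Fin m) (Fin t × Fin m) F))) := by
  refine ⟨swapGL F t m j l, swapGL_mem_SS j l hjl, ?_, ?_, ?_⟩
  · intro k hkj hkl x hx
    ext a
    rw [swapGL_val, swapMat_mulVec]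
    by_cases ha : a.1 = k
    · have h1 : swapPerm t m j l a = a := by
        rw [swapPerm_apply, ha, Equiv.swap_apply_of_ne_of_ne hkj hkl, ← ha]
      rw [h1, sgn, if_neg (by rw [ha]; exact hkl), one_mul]
    · rw [hx a ha, hx (swapPerm t m j l a), mul_zero]
      rw [swapPerm_apply]
      intro h
      apply ha
      have : Equiv.swap j l a.1 = Equiv.swap j l k := by
        rw [Equiv.swap_apply_of_ne_of_ne hkj hkl]; exact h
      exact (Equiv.swap j l).injective this
  · intro x hx a ha
    rw [swapGL_val, swapMat_mulVec, hx (swapPerm t m j l a), mul_zero]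
    rw [swapPerm_apply]
    intro h
    apply ha
    have : Equiv.swap j l a.1 = Equiv.swap j l l := by rw [Equiv.swap_apply_right]; exact h
    exact (Equiv.swap j l).injective this
  · intro θ hθ b hb
    rw [swapGL_val, vecMul_swapMat, hθ (swapPerm t m j l b), zero_mul]
    rw [swapPerm_apply]
    intro h
    apply hb
    have : Equiv.swap j l b.1 = Equiv.swap j l j := by rw [Equiv.swap_apply_left]; exact h
    exact (Equiv.swap j l).injective this

end Cfsg.Agent.Lib.Helper3.BlkSwap
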