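import Mathlib
import Cfsg.Prelude.Def_GeometricClasses
import Cfsg.Agent.Lib.Helper13.TensorNM
import Cfsg.Agent.Lib.Helper15.MonoA
import Cfsg.Agent.Lib.Helper15.BlkA
import Cfsg.Agent.Lib.Helper10.BlkComm
import Cfsg.Agent.Lib.Helper3.BlkSwap
import Cfsg.Agent.Lib.Helper21.BlkS

/-!
# BlkMax FO-B3 : from the goal to one full transvection direction (S5634, `m ≥ 2`)
-/

set_option autoImplicit false

namespace Cfsg.Agent.Lib.Helper3.BlkB3

open Matrix Cfsg Cfsg.Geo Cfsg.Agent.Lib.Helper13.TNM Cfsg.Agent.Lib.Helper15.MonoMax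
open Cfsg.Agent.Lib.Helper15.BlkMax Cfsg.Agent.Lib.Helper10.BlkComm
open Cfsg.Agent.Lib.Helper21.BlkS

variable {t m : ℕ} {F : Type*} [Field F]

/-- restriction of a vector to block `l` -/
def restr (l : Fin t) (φ : Fin t × Fin m → F) : Fin t × Fin m → F :=
  fun a => if a.1 = l then φ a else 0

theorem restr_onBlk (l : Fin t) (φ : Fin t × Fin m → F) : OnBlk l (restr l φ) := by
  intro a ha
  rw [restr, if_neg ha]

theorem sum_restr (φ : Fin t × Fin m → F) : ∑ l, restr l φ = φ := by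
  ext a
  rw [Finset.sum_apply]
  simp only [restr]
  rw [Finset.sum_ite_eq Finset.univ a.1]
  simp

theorem dot_of_onBlk_ne {k l : Fin t} (hkl : k ≠ l) {x y : Fin t × Fin m → F} (hx : OnBlk k x)
    (hy : OnBlk l y) : x ⬝ᵥ y = 0 := by
  rw [dotProduct]
  apply Finset.sum_eq_zero
  intro a _
  by_cases ha : a.1 = k
  · rw [hy a (by rw [ha]; exact hkl), mul_zero]
  · rw [hx a ha, zero_mul]

theorem restr_dot_onBlk (k : Fin t) (φ b : Fin t × Fin m → F) (hb : OnBlk k b) :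
    restr k φ ⬝ᵥ b = φ ⬝ᵥ b := by
  rw [dotProduct, dotProduct]
  apply Finset.sum_congr rfl
  intro a _
  by_cases ha : a.1 = k
  · rw [restr, if_pos ha]
  · rw [hb a ha, mul_zero, mul_zero]

theorem single_onBlk (j : Fin t) (y : Fin m) :
    OnBlk j (Pi.single (j, y) (1 : F) : Fin t × Fin m → F) := by
  intro a ha
  rw [Pi.single_apply, if_neg]
  rintro rfl
  exact ha rfl

theorem onBlk_smul {j : Fin t} {x : Fin t × Fin m → F} (hx : OnBlk j x) (r : F) :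
    OnBlk j (r • x) := by
  intro a ha
  rw [Pi.smul_apply, hx a ha, smul_zero]

theorem onBlk_sub {j : Fin t} {x y : Fin t × Fin m → F} (hx : OnBlk j x) (hy : OnBlk j y) :
    OnBlk j (x - y) := by
  intro a ha
  rw [Pi.sub_apply, hx a ha, hy a ha, sub_zero]

/-- step 1 : axes on block `j` vanishing at `(j, y₀)` -/
theorem step1 (M : Subgroup (GL (Fin t × Fin m) F)) (hSM : SS t m F ≤ M) (k j : Fin t)
    (hkj : k ≠ j) (b : Fin t × Fin m → F) (hb : OnBlk k b) (ψ : Fin t × Fin m → F)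
    (hψb : ψ ⬝ᵥ b = 0) (hT : InTv M b ψ) (y₀ : Fin m) (hy₀ : ψ (j, y₀) ≠ 0)
    (θ' : Fin t × Fin m → F) (hθ' : OnBlk j θ') (hθ'0 : θ' (j, y₀) = 0) : InTv M b θ' := by
  set r : F := ψ (j, y₀) with hr
  have hb' : OnBlk j (Pi.single (j, y₀) (1 : F) : Fin t × Fin m → F) := single_onBlk j y₀
  have hθ'' : OnBlk j (r⁻¹ • θ') := onBlk_smul hθ' _
  have h1 : (r⁻¹ • θ') ⬝ᵥ (Pi.single (j, y₀) (1 : F) : Fin t × Fin m → F) = 0 := by
    rw [dotProduct_single, mul_one, Pi.smul_apply, hθ'0, smul_zero]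
  have hU : InTv M (Pi.single (j, y₀) (1 : F) : Fin t × Fin m → F) (r⁻¹ • θ') :=
    inTv_of_onBlk hSM j _ _ hb' hθ'' h1
  have h2 : (r⁻¹ • θ') ⬝ᵥ b = 0 := dot_of_onBlk_ne hkj.symm hθ'' hb
  have h3 := InTv.CB hT hU hψb h1 h2
  have h4 : (ψ ⬝ᵥ (Pi.single (j, y₀) (1 : F) : Fin t × Fin m → F)) • r⁻¹ • θ' = θ' := by
    rw [dotProduct_single, mul_one, smul_smul, mul_inv_cancel₀ hy₀, one_smul]
  rwa [h4] at h3

/-- step 1b : all axes on block `j` -/
theorem step1b (hm : 2 ≤ m) (M : Subgroup (GL (Fin t × Fin m) F)) (hSM : SS t m F ≤ M)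
    (k j : Fin t) (hkj : k ≠ j) (b : Fin t × Fin m → F) (hb : OnBlk k b)
    (ψ : Fin t × Fin m → F) (hψb : ψ ⬝ᵥ b = 0) (hT : InTv M b ψ) (y₀ : Fin m)
    (hy₀ : ψ (j, y₀) ≠ 0) (θ' : Fin t × Fin m → F) (hθ' : OnBlk j θ') : InTv M b θ' := by
  obtain ⟨y₁, hy₁⟩ : ∃ y₁ : Fin m, y₁ ≠ y₀ := by
    by_cases h0 : (y₀ : ℕ) = 0
    · exact ⟨⟨1, by omega⟩, fun h => by
        have := congrArg Fin.val h
        simp at this
        omega⟩
    · exact ⟨⟨0, by omega⟩, fun h => by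
        have := congrArg Fin.val h
        simp at this
        omega⟩
  have he1 : OnBlk j (Pi.single (j, y₁) (1 : F) : Fin t × Fin m → F) := single_onBlk j y₁
  have hT1 : InTv M b (Pi.single (j, y₁) (1 : F) : Fin t × Fin m → F) := by
    apply step1 M hSM k j hkj b hb ψ hψb hT y₀ hy₀ _ he1
    rw [Pi.single_apply, if_neg]
    intro h
    exact hy₁ (Prod.ext_iff.mp h).2.symm
  have he1b : (Pi.single (j, y₁) (1 : F) : Fin t × Fin m → F) ⬝ᵥ b = 0 :=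
    dot_of_onBlk_ne hkj.symm he1 hb
  -- decomposition of θ'
  have h2 : OnBlk j (θ' (j, y₀) • (Pi.single (j, y₀) (1 : F) : Fin t × Fin m → F)) :=
    onBlk_smul (single_onBlk j y₀) _
  have h1 : OnBlk j (θ' - θ' (j, y₀) • (Pi.single (j, y₀) (1 : F) : Fin t × Fin m → F)) :=
    onBlk_sub hθ' h2
  have hA : InTv M b (θ' - θ' (j, y₀) • (Pi.single (j, y₀) (1 : F) : Fin t × Fin m → F)) := by
    apply step1 M hSM k j hkj b hb ψ hψb hT y₀ hy₀ _ h1
    simp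
  have hB : InTv M b (θ' (j, y₀) • (Pi.single (j, y₀) (1 : F) : Fin t × Fin m → F)) := by
    apply step1 M hSM k j hkj b hb _ he1b hT1 y₁ (by simp) _ h2
    rw [Pi.smul_apply, Pi.single_apply, if_neg, smul_zero]
    intro h
    exact hy₁ (Prod.ext_iff.mp h).2
  have := InTv.add_axis hA hB (dot_of_onBlk_ne hkj.symm h1 hb) (dot_of_onBlk_ne hkj.symm h2 hb)
  rwa [sub_add_cancel] at this

/-- step 2 : all axes on any block `l ≠ k` -/
theorem step2 (hm : 2 ≤ m) (M : Subgroup (GL (Fin t × Fin m) F)) (hSM : SS t m F ≤ M)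
    (k j : Fin t) (hkj : k ≠ j) (b : Fin t × Fin m → F) (hb : OnBlk k b)
    (ψ : Fin t × Fin m → F) (hψb : ψ ⬝ᵥ b = 0) (hT : InTv M b ψ) (y₀ : Fin m)
    (hy₀ : ψ (j, y₀) ≠ 0) (l : Fin t) (hkl : k ≠ l) (θ : Fin t × Fin m → F) (hθ : OnBlk l θ) :
    InTv M b θ := by
  by_cases hjl : j = l
  · subst hjl
    exact step1b hm M hSM k j hkj b hb ψ hψb hT y₀ hy₀ θ hθ
  · obtain ⟨s, hsS, hfix, -, hax⟩ := Cfsg.Agent.Lib.Helper3.BlkSwap.exists_blockSwap (m := m)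
      (F := F) j l hjl
    have hsb : (s : Matrix (Fin t × Fin m) (Fin t × Fin m) F) *ᵥ b = b := hfix k hkj hkl b hb
    have hθs : OnBlk j (θ ᵥ* (s : Matrix (Fin t × Fin m) (Fin t × Fin m) F)) := hax θ hθ
    have h1 : InTv M b (θ ᵥ* (s : Matrix (Fin t × Fin m) (Fin t × Fin m) F)) :=
      step1b hm M hSM k j hkj b hb ψ hψb hT y₀ hy₀ _ hθs
    have h2 := InTv.conj h1 (dot_of_onBlk_ne hkj.symm hθs hb) (hSM hsS)
    rwa [hsb, Matrix.vecMul_vecMul, ← Units.val_mul, mul_inv_cancel, Units.val_one,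
      Matrix.vecMul_one] at h2

/-- **FO-B3** -/
theorem exists_tvIn_of_goal (hm : 2 ≤ m) (M : Subgroup (GL (Fin t × Fin m) F)) (hSM : SS t m F ≤ M)
    (hG : Goal M) : ∃ (k : Fin t) (b : Fin t × Fin m → F), b ≠ 0 ∧ OnBlk k b ∧ TvIn M b := by
  obtain ⟨k, b, ψ, hb0, hb, hψb, hnot, hT⟩ := hG
  refine ⟨k, b, hb0, hb, ?_⟩
  have hex : ∃ a : Fin t × Fin m, a.1 ≠ k ∧ ψ a ≠ 0 := by
    by_contra hcon
    apply hnot
    intro a ha
    by_contra h0
    exact hcon ⟨a, ha, h0⟩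
  obtain ⟨⟨j, y₀⟩, hj, hy₀⟩ := hex
  have hkj : k ≠ j := fun h => hj h.symm
  rw [tvIn_iff_inTv]
  intro φ hφ
  rw [← sum_restr φ]
  apply InTv.sum_axis
  · intro l _
    by_cases hkl : k = l
    · subst hkl
      exact inTv_of_onBlk hSM k b _ hb (restr_onBlk k φ) (by rw [restr_dot_onBlk k φ b hb, hφ])
    · exact step2 hm M hSM k j hkj b hb ψ hψb hT y₀ hy₀ l hkl _ (restr_onBlk l φ)
  · intro l _
    by_cases hkl : k = l
    · subst hkl
      rw [restr_dot_onBlk k φ b hb, hφ]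
    · exact dot_of_onBlk_ne (Ne.symm hkl) (restr_onBlk l φ) hb

end Cfsg.Agent.Lib.Helper3.BlkB3
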