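import Mathlib
import Cfsg.Prelude.Def_GeometricClasses
import Cfsg.Agent.Lib.Helper13.TensorNM
import Cfsg.Agent.Lib.Helper15.MonoA
import Cfsg.Agent.Lib.Helper15.BlkA
import Cfsg.Agent.Lib.Helper3.BlkSwap
import Cfsg.Agent.Lib.Helper21.BlkS
import Cfsg.Agent.Lib.Helper21.BlkTV

/-!
# BlkMax FO-B4 : one transvection direction gives all directions (S5634, `m ≥ 2`)
-/

set_option autoImplicit false

namespace Cfsg.Agent.Lib.Helper3.BlkB4

open Matrix Cfsg Cfsg.Geo Cfsg.Agent.Lib.Helper13.TNM Cfsg.Agent.Lib.Helper15.MonoMax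
open Cfsg.Agent.Lib.Helper15.BlkMax
open Cfsg.Agent.Lib.Helper21.BlkS Cfsg.Agent.Lib.Helper21.BlkTV

variable {t m : ℕ} {F : Type*} [Field F]

theorem single_onBlk' (j : Fin t) (y : Fin m) :
    OnBlk j (Pi.single (j, y) (1 : F) : Fin t × Fin m → F) := by
  intro a ha
  rw [Pi.single_apply, if_neg]
  rintro rfl
  exact ha rfl

theorem exists_ne_fin (hm : 2 ≤ m) (y₀ : Fin m) : ∃ y₁ : Fin m, y₁ ≠ y₀ := by
  by_cases h0 : (y₀ : ℕ) = 0
  · exact ⟨⟨1, by omega⟩, fun h => by
      have := congrArg Fin.val h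
      simp at this
      omega⟩
  · exact ⟨⟨0, by omega⟩, fun h => by
      have := congrArg Fin.val h
      simp at this
      omega⟩

/-- the block transvection `e_(k,x) ⊗ e*_(k,y)` (`x ≠ y`) moves `TvIn` -/
theorem tvIn_add_single (M : Subgroup (GL (Fin t × Fin m) F)) (hSM : SS t m F ≤ M) (k : Fin t)
    (x y : Fin m) (hxy : x ≠ y) (v : Fin t × Fin m → F) (hv : TvIn M v) :
    TvIn M (v (k, y) • (Pi.single (k, x) (1 : F) : Fin t × Fin m → F)) := by
  have hdot : (Pi.single (k, y) (1 : F) : Fin t × Fin m → F) ⬝ᵥ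
      (Pi.single (k, x) (1 : F) : Fin t × Fin m → F) = 0 := by
    rw [dotProduct_single, mul_one, Pi.single_apply, if_neg]
    intro h
    exact hxy (Prod.ext_iff.mp h).2
  have hU : tvGL (Pi.single (k, x) (1 : F) : Fin t × Fin m → F) (Pi.single (k, y) (1 : F)) hdot ∈
      SS t m F := tvGL_mem_SS k _ _ (single_onBlk' k x) (single_onBlk' k y) hdot
  have h1 := tvIn_map hv (hSM hU)
  rw [tvGL_val, tv_mulVec, single_dotProduct, one_mul] at h1
  have h2 := tvIn_add h1 (tvIn_smul hv (-1))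
  have h3 : v + v (k, y) • (Pi.single (k, x) (1 : F) : Fin t × Fin m → F) + (-1 : F) • v =
      v (k, y) • (Pi.single (k, x) (1 : F) : Fin t × Fin m → F) := by
    rw [neg_one_smul]; abel
  rwa [h3] at h2

/-- from one nonzero vector on block `k` to all basis vectors of block `k` -/
theorem basis_of_block (hm : 2 ≤ m) (M : Subgroup (GL (Fin t × Fin m) F)) (hSM : SS t m F ≤ M)
    (k : Fin t) (b : Fin t × Fin m → F) (hb0 : b ≠ 0) (hb : OnBlk k b) (hTv : TvIn M b)
    (x : Fin m) : TvIn M (Pi.single (k, x) (1 : F) : Fin t × Fin m → F) := by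
  obtain ⟨⟨k', x₀⟩, ha⟩ : ∃ a, b a ≠ 0 := by
    by_contra hcon
    apply hb0
    ext a
    by_contra h0
    exact hcon ⟨a, h0⟩
  have hk' : k' = k := by
    by_contra hne
    exact ha (hb (k', x₀) hne)
  subst hk'
  have key : ∀ x : Fin m, x ≠ x₀ → TvIn M (Pi.single (k', x) (1 : F) : Fin t × Fin m → F) := by
    intro x hx
    have h1 := tvIn_add_single M hSM k' x x₀ hx b hTv
    have h2 := tvIn_smul h1 (b (k', x₀))⁻¹
    rwa [smul_smul, inv_mul_cancel₀ ha, one_smul] at h2
  by_cases hx : x = x₀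
  · subst hx
    obtain ⟨x₁, hx₁⟩ := exists_ne_fin hm x
    have h1 := tvIn_add_single M hSM k' x x₁ hx₁.symm _ (key x₁ hx₁)
    rwa [Pi.single_eq_same, one_smul] at h1
  · exact key x hx

theorem tvIn_sum {ι : Type} [Fintype ι] [DecidableEq ι] {M : Subgroup (GL ι F)} {α : Type}
    (s : Finset α) (f : α → ι → F) (h : ∀ i ∈ s, TvIn M (f i)) : TvIn M (∑ i ∈ s, f i) := by
  classical
  induction s using Finset.induction_on with
  | empty => rw [Finset.sum_empty]; exact tvIn_zero
  | insert a s ha ih =>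
    rw [Finset.sum_insert ha]
    exact tvIn_add (h a (Finset.mem_insert_self a s))
      (ih (fun i hi => h i (Finset.mem_insert_of_mem hi)))

/-- **FO-B4** -/
theorem forall_tvIn (hm : 2 ≤ m) (M : Subgroup (GL (Fin t × Fin m) F)) (hSM : SS t m F ≤ M)
    (k : Fin t) (b : Fin t × Fin m → F) (hb0 : b ≠ 0) (hb : OnBlk k b) (hTv : TvIn M b) :
    ∀ x, TvIn M x := by
  have hk : ∀ x : Fin m, TvIn M (Pi.single (k, x) (1 : F) : Fin t × Fin m → F) :=
    basis_of_block hm M hSM k b hb0 hb hTv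
  have hall : ∀ a : Fin t × Fin m, TvIn M (Pi.single a (1 : F) : Fin t × Fin m → F) := by
    rintro ⟨l, y⟩
    by_cases hkl : k = l
    · subst hkl; exact hk y
    · obtain ⟨s, hsS, -, hmv, -⟩ := Cfsg.Agent.Lib.Helper3.BlkSwap.exists_blockSwap (m := m)
        (F := F) k l hkl
      have x0 : Fin m := ⟨0, by omega⟩
      have h1 : TvIn M ((s : Matrix (Fin t × Fin m) (Fin t × Fin m) F) *ᵥ
          (Pi.single (k, x0) (1 : F) : Fin t × Fin m → F)) := tvIn_map (hk x0) (hSM hsS)
      have h2 : OnBlk l ((s : Matrix (Fin t × Fin m) (Fin t × Fin m) F) *ᵥ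
          (Pi.single (k, x0) (1 : F) : Fin t × Fin m → F)) := hmv _ (single_onBlk' k x0)
      have h3 : (s : Matrix (Fin t × Fin m) (Fin t × Fin m) F) *ᵥ
          (Pi.single (k, x0) (1 : F) : Fin t × Fin m → F) ≠ 0 := by
        intro h0
        have h4 : ((s⁻¹ : GL (Fin t × Fin m) F) : Matrix (Fin t × Fin m) (Fin t × Fin m) F) *ᵥ
            ((s : Matrix (Fin t × Fin m) (Fin t × Fin m) F) *ᵥ
              (Pi.single (k, x0) (1 : F) : Fin t × Fin m → F)) = Pi.single (k, x0) (1 : F) := by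
          rw [Matrix.mulVec_mulVec, ← Units.val_mul, inv_mul_cancel, Units.val_one,
            Matrix.one_mulVec]
        rw [h0, Matrix.mulVec_zero] at h4
        have := congrFun h4 (k, x0)
        simp at this
      exact basis_of_block hm M hSM l _ h3 h2 h1 y
  intro x
  have hx : x = ∑ a, x a • (Pi.single a (1 : F) : Fin t × Fin m → F) := by
    ext c
    rw [Finset.sum_apply]
    simp [Pi.single_apply]
  rw [hx]
  exact tvIn_sum _ _ (fun a _ => tvIn_smul (hall a) (x a))

end Cfsg.Agent.Lib.Helper3.BlkB4
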