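import Mathlib
import Cfsg.Agent.Lib.Helper6.Unitary

/-!
# A unitary matrix realising multiplication by a norm-one element of a field extension (helper3)

For helper15's S2511 (FO-T1).  `K/F` finite, `|F| = q^2`, `τ` an involutive ring automorphism of `K`
inducing `a ↦ a^q` on `F`, `θ` with `τ θ * θ = 1`.  The form `B x y = tr_{K/F}(τ x * y)` is a
nondegenerate Hermitian form and multiplication by `θ` is an isometry.
-/

set_option autoImplicit false
set_option linter.unusedSectionVars false

namespace Cfsg.Agent.Lib.Helper3.UnitaryField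

open Cfsg Cfsg.Agent.Lib.Helper6 Matrix Module

variable {F : Type*} [Field F] [Fintype F] {q : ℕ}
variable {K : Type*} [Field K] [Algebra F K] [Module.Finite F K]

theorem trace_tau (τ : K →+* K)
    (hτF : ∀ a : F, τ (algebraMap F K a) = algebraMap F K (a ^ q)) (z : K) :
    Algebra.trace F K (τ z) = (Algebra.trace F K z) ^ q := by
  haveI : Finite K := Module.finite_of_finite F
  apply FaithfulSMul.algebraMap_injective F K
  rw [← hτF, FiniteField.algebraMap_trace_eq_sum_pow, FiniteField.algebraMap_trace_eq_sum_pow,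
    map_sum]
  apply Finset.sum_congr rfl
  intro i _
  rw [map_pow]

theorem tau_smul (τ : K →+* K)
    (hτF : ∀ a : F, τ (algebraMap F K a) = algebraMap F K (a ^ q)) (c : F) (x : K) :
    τ (c • x) = (c ^ q) • τ x := by
  rw [Algebra.smul_def, Algebra.smul_def, map_mul, hτF]

/-- the form `B x y = tr (τ x * y)` -/
noncomputable def trB (hF : Fintype.card F = q ^ 2) (τ : K →+* K)
    (hτF : ∀ a : F, τ (algebraMap F K a) = algebraMap F K (a ^ q)) :
    K →ₛₗ[conjQ hF] K →ₗ[F] F :=
  LinearMap.mk₂'ₛₗ (conjQ hF) (RingHom.id F) (fun x y => Algebra.trace F K (τ x * y))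
    (fun x y z => by simp only [map_add, add_mul])
    (fun c x y => by
      simp only [tau_smul τ hτF, smul_mul_assoc, map_smul, conjQ_apply])
    (fun x y z => by simp only [mul_add, map_add])
    (fun c x y => by simp only [mul_smul_comm, map_smul, RingHom.id_apply])

theorem trB_apply (hF : Fintype.card F = q ^ 2) (τ : K →+* K)
    (hτF : ∀ a : F, τ (algebraMap F K a) = algebraMap F K (a ^ q)) (x y : K) :
    trB hF τ hτF x y = Algebra.trace F K (τ x * y) := rfl

theorem exists_unitary_of_field (hF : Fintype.card F = q ^ 2) {k : ℕ}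
    (hk : Module.finrank F K = k) (τ : K →+* K) (hτ2 : ∀ x, τ (τ x) = x)
    (hτF : ∀ a : F, τ (algebraMap F K a) = algebraMap F K (a ^ q)) (θ : K)
    (hθ : τ θ * θ = 1) :
    ∃ M : Matrix (Fin k) (Fin k) F,
      (∀ x y, Cfsg.hermForm k F q (M *ᵥ x) (M *ᵥ y) = Cfsg.hermForm k F q x y) ∧
      M.det = Algebra.norm F θ ∧
      (∀ (j : ℕ) (ν : F), M ^ j = Matrix.scalar (Fin k) ν ↔ θ ^ j = algebraMap F K ν) := by
  classical
  haveI : Finite K := Module.finite_of_finite F
  set B := trB hF τ hτF with hB
  have hS : B.IsSymm := by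
    refine ⟨fun x y => ?_⟩
    rw [hB, trB_apply, trB_apply, conjQ_apply, ← trace_tau τ hτF]
    have h1 : τ (τ x * y) = τ (τ x) * τ y := map_mul τ _ _
    rw [h1, hτ2, mul_comm]
  have hN : ∀ u, (∀ v, B u v = 0) → u = 0 := by
    intro u hu
    have h1 := (traceForm_nondegenerate F K).1 (τ u)
    have h2 : τ u = 0 := by
      apply h1
      intro v
      rw [Algebra.traceForm_apply]
      exact hu v
    have := congrArg τ h2
    rwa [hτ2, map_zero] at this
  obtain ⟨φ, hφ⟩ := exists_std_herm hF B hS hN k hk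
  set g : K →ₗ[F] K := LinearMap.mulLeft F θ with hg
  have hgB : ∀ x y, B (g x) (g y) = B x y := by
    intro x y
    rw [hB, trB_apply, trB_apply, hg, LinearMap.mulLeft_apply, LinearMap.mulLeft_apply]
    have h1 : τ (θ * x) = τ θ * τ x := map_mul τ θ x
    have : τ θ * τ x * (θ * y) = (τ θ * θ) * (τ x * y) := by ring
    rw [h1, this, hθ, one_mul]
  set f : (Fin k → F) →ₗ[F] (Fin k → F) :=
    (φ : K →ₗ[F] (Fin k → F)) ∘ₗ g ∘ₗ (φ.symm : (Fin k → F) →ₗ[F] K) with hf
  refine ⟨LinearMap.toMatrix' f, ?_, ?_, ?_⟩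
  · intro x y
    rw [LinearMap.toMatrix'_mulVec, LinearMap.toMatrix'_mulVec]
    have hfx : ∀ v, f v = φ (g (φ.symm v)) := fun v => rfl
    rw [hfx, hfx, hφ, hgB, ← hφ, LinearEquiv.apply_symm_apply, LinearEquiv.apply_symm_apply]
  · rw [LinearMap.det_toMatrix', hf, LinearMap.det_conj, Algebra.norm_apply]
    rfl
  · intro j ν
    have hpow : ∀ (j : ℕ) (v : Fin k → F),
        (LinearMap.toMatrix' f) ^ j *ᵥ v = φ (θ ^ j * φ.symm v) := by
      intro j
      induction j with
      | zero => intro v; simp
      | succ j ih =>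
        intro v
        rw [pow_succ, ← Matrix.mulVec_mulVec, LinearMap.toMatrix'_mulVec]
        have hfx : f v = φ (g (φ.symm v)) := rfl
        rw [ih, hfx, LinearEquiv.symm_apply_apply, hg, LinearMap.mulLeft_apply, pow_succ,
          mul_assoc]
    constructor
    · intro h
      have h1 := hpow j (φ 1)
      rw [h, LinearEquiv.symm_apply_apply, mul_one] at h1
      have h2 : Matrix.scalar (Fin k) ν *ᵥ φ 1 = φ (ν • (1 : K)) := by
        rw [map_smul]
        ext i
        simp [Matrix.mulVec, dotProduct, Matrix.scalar_apply, Matrix.diagonal_apply]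
      rw [h2] at h1
      have := φ.injective h1
      rw [← this, Algebra.smul_def, mul_one]
    · intro h
      apply Matrix.toLin'.injective
      apply LinearMap.ext
      intro v
      rw [Matrix.toLin'_apply, Matrix.toLin'_apply, hpow, h, ← Algebra.smul_def, map_smul,
        LinearEquiv.apply_symm_apply]
      ext i
      simp [Matrix.mulVec, dotProduct, Matrix.scalar_apply, Matrix.diagonal_apply]

end Cfsg.Agent.Lib.Helper3.UnitaryField
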