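import Mathlib
import Cfsg.Prelude.Def_GeometricClasses
import Cfsg.Agent.Lib.Helper7.AschDefs
import Cfsg.Agent.Lib.Helper16.SpADefs
import Cfsg.Agent.Lib.Helper14.S5630CoreAB
import Cfsg.Agent.Lib.Helper3.ClassTwo
import Cfsg.Agent.Lib.Helper3.AschC6Count

/-!
# S5662 block SpI6 (helper3): the symplectic-type case for `Sp` - basic facts

`N ≤ Iso f` (`f` non-degenerate alternating), absolutely irreducible, commutators scalar: the scalars of `N` are `±1`,
`N` is not commutative, `-1 ∈ N`, `-1 ≠ 1` in `F`, and a prime `r` with `x ^ r` scalar for all `x ∈ N` is `2`.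
-/

set_option autoImplicit false

namespace Cfsg.Agent.Lib.Helper3.SpC6

open Matrix Cfsg.Geo Cfsg.Agent.Lib.Helper7.Asch Cfsg.Agent.Lib.Helper16.SpA Cfsg.Agent.Lib.Helper3.AschC6
open scoped commutatorElement

variable {F : Type*} [Field F] {n : ℕ} {f : (Fin n → F) → (Fin n → F) → F}

/-- a scalar isometry of a non-degenerate bilinear form has square one -/
theorem sq_eq_one_of_scalar_iso (hf : IsSymplecticForm f) (hn : 0 < n) (g : GL (Fin n) F) (hg : g ∈ Iso f) (c : F)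
    (hc : (g : Matrix (Fin n) (Fin n) F) = c • (1 : Matrix (Fin n) (Fin n) F)) : c ^ 2 = 1 := by
  let v : Fin n → F := Pi.single ⟨0, hn⟩ 1
  have hv : v ≠ 0 := by
    intro h
    have := congrFun h ⟨0, hn⟩
    simp [v] at this
  obtain ⟨⟨x, hx⟩, -⟩ := hf.nondegenerate v hv
  have h1 := hg x v
  rw [hc, Matrix.smul_mulVec, Matrix.one_mulVec, Matrix.smul_mulVec, Matrix.one_mulVec, hf.bilinear.smul_left,
    hf.bilinear.smul_right] at h1
  have h2 : (c ^ 2 - 1) * f x v = 0 := by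
    rw [sub_mul, one_mul, pow_two, mul_assoc, h1, sub_self]
  rcases mul_eq_zero.mp h2 with h | h
  · exact sub_eq_zero.mp h
  · exact absurd h hx

/-- a scalar isometry is `1` or `-1` -/
theorem eq_one_or_neg_one_of_scalar_iso (hf : IsSymplecticForm f) (hn : 0 < n) (g : GL (Fin n) F) (hg : g ∈ Iso f)
    (hs : g ∈ scalars (Fin n) F) : g = 1 ∨ g = -1 := by
  obtain ⟨c, hc⟩ := (mem_scalars_iff _).mp hs
  have h1 := sq_eq_one_of_scalar_iso hf hn g hg c hc
  have h2 : ((c : F) - 1) * ((c : F) + 1) = 0 := by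
    have : ((c : F) - 1) * ((c : F) + 1) = (c : F) ^ 2 - 1 := by ring
    rw [this, h1, sub_self]
  rcases mul_eq_zero.mp h2 with h | h
  · left
    apply Units.ext
    rw [hc, sub_eq_zero.mp h, one_smul]
    rfl
  · right
    apply Units.ext
    rw [hc, eq_neg_of_add_eq_zero_left h, Units.val_neg, neg_smul, one_smul]
    rfl

variable {N : Subgroup (GL (Fin n) F)}

/-- an absolutely irreducible group in dimension at least two is not commutative -/
theorem exists_comm_ne_one (hn : 2 ≤ n) (hN : AbsIrr N) : ∃ x ∈ N, ∃ y ∈ N, ⁅x, y⁆ ≠ 1 := by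
  by_contra hcon
  push Not at hcon
  refine Cfsg.Agent.Lib.Helper14.S5630Core.not_absIrr_of_comm hn N ?_ hN
  intro x hx y hy
  exact commutatorElement_eq_one_iff_mul_comm.mp (hcon x hx y hy)

theorem comm_mem {x y : GL (Fin n) F} (hx : x ∈ N) (hy : y ∈ N) : ⁅x, y⁆ ∈ N := by
  rw [commutatorElement_def]
  exact N.mul_mem (N.mul_mem (N.mul_mem hx hy) (N.inv_mem hx)) (N.inv_mem hy)

/-- every commutator of `N` is `1` or `-1` -/
theorem comm_eq (hf : IsSymplecticForm f) (hn : 0 < n) (hNI : N ≤ Iso f)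
    (hcomm : ∀ x ∈ N, ∀ y ∈ N, ⁅x, y⁆ ∈ scalars (Fin n) F) {x y : GL (Fin n) F} (hx : x ∈ N) (hy : y ∈ N) :
    ⁅x, y⁆ = 1 ∨ ⁅x, y⁆ = -1 :=
  eq_one_or_neg_one_of_scalar_iso hf hn _ (hNI (comm_mem hx hy)) (hcomm x hx y hy)

/-- there are `x, y ∈ N` with `⁅x, y⁆ = -1`, and `-1 ≠ 1` in `GL` -/
theorem exists_comm_eq_neg_one (hf : IsSymplecticForm f) (hn : 2 ≤ n) (hNI : N ≤ Iso f) (hN : ClassTwo N) :
    ∃ x ∈ N, ∃ y ∈ N, ⁅x, y⁆ = -1 ∧ (-1 : GL (Fin n) F) ≠ 1 := by
  obtain ⟨x, hx, y, hy, hxy⟩ := exists_comm_ne_one hn hN.absIrr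
  rcases comm_eq hf (by omega) hNI hN.comm hx hy with h | h
  · exact absurd h hxy
  · exact ⟨x, hx, y, hy, h, fun h1 => hxy (h.trans h1)⟩

theorem neg_one_mem (hf : IsSymplecticForm f) (hn : 2 ≤ n) (hNI : N ≤ Iso f) (hN : ClassTwo N) :
    (-1 : GL (Fin n) F) ∈ N := by
  obtain ⟨x, hx, y, hy, hxy, -⟩ := exists_comm_eq_neg_one hf hn hNI hN
  rw [← hxy]
  exact comm_mem hx hy

theorem neg_one_ne_one (hf : IsSymplecticForm f) (hn : 2 ≤ n) (hNI : N ≤ Iso f) (hN : ClassTwo N) :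
    (-1 : GL (Fin n) F) ≠ 1 := by
  obtain ⟨x, hx, y, hy, -, h⟩ := exists_comm_eq_neg_one hf hn hNI hN
  exact h

/-- the characteristic is not two -/
theorem two_ne_zero' (hf : IsSymplecticForm f) (hn : 2 ≤ n) (hNI : N ≤ Iso f) (hN : ClassTwo N) : (2 : F) ≠ 0 := by
  intro h2
  apply neg_one_ne_one hf hn hNI hN
  apply Units.ext
  rw [Units.val_neg, Units.val_one]
  have h3 : (-1 : F) = 1 := by
    rw [neg_eq_iff_add_eq_zero]
    rw [← h2]
    norm_num
  ext i j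
  by_cases hij : i = j
  · subst hij
    simp [h3]
  · simp [hij]

theorem neg_one_mem_scalars : (-1 : GL (Fin n) F) ∈ scalars (Fin n) F := by
  apply mem_scalars_of_eq_smul _ (-1)
  rw [Units.val_neg, Units.val_one, neg_smul, one_smul]

/-- conjugation by `x ^ k` when `x y x⁻¹ = -y` -/
theorem conj_pow_of_neg (x y : GL (Fin n) F) (h : x * y * x⁻¹ = -y) (k : ℕ) :
    x ^ k * y * (x ^ k)⁻¹ = (-1) ^ k * y := by
  induction k with
  | zero => simp
  | succ k ih =>
    have h1 : x ^ (k + 1) * y * (x ^ (k + 1))⁻¹ = x * (x ^ k * y * (x ^ k)⁻¹) * x⁻¹ := by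
      rw [pow_succ']
      group
    rw [h1, ih]
    have h2 : x * ((-1) ^ k * y) * x⁻¹ = (-1) ^ k * (x * y * x⁻¹) := by
      rcases neg_one_pow_eq_or (GL (Fin n) F) k with h3 | h3
      · rw [h3, one_mul, one_mul]
      · rw [h3, neg_one_mul, neg_one_mul, mul_neg, neg_mul]
    rw [h2, h, pow_succ]
    simp

/-- **`r = 2`** -/
theorem r_eq_two (hf : IsSymplecticForm f) (hn : 2 ≤ n) (hNI : N ≤ Iso f) (hN : ClassTwo N) (r : ℕ) (hr : r.Prime)
    (hpow : ∀ x ∈ N, x ^ r ∈ scalars (Fin n) F) : r = 2 := by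
  obtain ⟨x, hx, y, hy, hxy, hne⟩ := exists_comm_eq_neg_one hf hn hNI hN
  have h1 : x * y * x⁻¹ = -y := by
    have : x * y * x⁻¹ = ⁅x, y⁆ * y := by rw [commutatorElement_def]; group
    rw [this, hxy, neg_one_mul]
  have h2 := conj_pow_of_neg x y h1 r
  have h3 : x ^ r * y * (x ^ r)⁻¹ = y := by
    rw [← scalar_comm _ y (hpow x hx)]
    group
  rw [h3] at h2
  have h4 : ((-1 : GL (Fin n) F)) ^ r = 1 := by
    have := congrArg (fun z => z * y⁻¹) h2
    simp only [mul_inv_cancel, mul_assoc] at this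
    simpa using this.symm
  rcases hr.eq_two_or_odd' with h | h
  · exact h
  · exfalso
    rw [h.neg_one_pow] at h4
    exact hne h4

end Cfsg.Agent.Lib.Helper3.SpC6
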