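import Mathlib
import Cfsg.Prelude.Def_GeometricClasses

/-!
# S5630, block I6, HALF B: GEN-EIG (helper3)
-/

set_option autoImplicit false

namespace Cfsg.Agent.Lib.Helper3.AschC6

open Matrix Module Polynomial

variable {F : Type*} [Field F] {n : ℕ}

/-- an operator of finite order `m` on a non-trivial finite-dimensional space has an eigenvalue as soon as the field
contains a primitive `m`-th root of unity (as in helper18's HubCorRPOW) -/
theorem exists_hasEigenvalue_of_pow_eq_one' {V : Type*} [AddCommGroup V] [Module F V] [FiniteDimensional F V]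
    [Nontrivial V] {m : ℕ} (hm : 0 < m) {ζ : F}
    (hζ : IsPrimitiveRoot ζ m) (f : Module.End F V) (hf : f ^ m = 1) : ∃ μ : F, f.HasEigenvalue μ := by
  have hdvd : minpoly F f ∣ (X ^ m - C (1 : F)) := by
    apply minpoly.dvd
    simp [hf]
  have hne : (X ^ m - C (1 : F) : F[X]) ≠ 0 := X_pow_sub_C_ne_zero hm 1
  have hs : (minpoly F f).Splits := (X_pow_sub_one_splits hζ).of_dvd hne hdvd
  have hdeg : (minpoly F f).degree ≠ 0 := by
    have := minpoly.degree_pos (Algebra.IsIntegral.isIntegral (R := F) f)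
    exact this.ne'
  obtain ⟨μ, hμ⟩ := hs.exists_eval_eq_zero hdeg
  exact ⟨μ, Module.End.hasEigenvalue_of_isRoot hμ⟩

/-- a finite field with `z ∣ q - 1` has a primitive `z`-th root of unity -/
theorem exists_primitiveRoot [Fintype F] (z : ℕ) (hz : z ∣ Fintype.card F - 1) : ∃ ζ : F, IsPrimitiveRoot ζ z := by
  classical
  obtain ⟨g, hg⟩ := IsCyclic.exists_generator (α := Fˣ)
  have hord : orderOf g = Fintype.card F - 1 := by
    rw [orderOf_eq_card_of_forall_mem_zpowers hg, Nat.card_eq_fintype_card, Fintype.card_units]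
  obtain ⟨k, hk⟩ := hz
  have hq : 1 ≤ Fintype.card F - 1 := by
    have := Fintype.one_lt_card (α := F)
    omega
  have hk0 : k ≠ 0 := by
    rintro rfl
    omega
  have hz0 : z ≠ 0 := by
    rintro rfl
    omega
  have h1 : orderOf (g ^ k) = z := by
    rw [orderOf_pow_of_dvd hk0 (by rw [hord, hk]; exact Dvd.intro_left z rfl), hord, hk]
    exact Nat.mul_div_cancel _ (Nat.pos_of_ne_zero hk0)
  refine ⟨((g ^ k : Fˣ) : F), ?_⟩
  rw [IsPrimitiveRoot.coe_units_iff, ← h1]
  exact IsPrimitiveRoot.orderOf _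

/-- **GEN-EIG** a commutative group of matrices of exponent dividing `z`, `z ∣ q - 1`, has a common eigenvector -/
theorem exists_common_eigenvector [Fintype F] (hn : 0 < n) (A : Subgroup (GL (Fin n) F)) (z : ℕ)
    (hz : z ∣ Fintype.card F - 1) (hcomm : ∀ x ∈ A, ∀ y ∈ A, x * y = y * x) (hexp : ∀ x ∈ A, x ^ z = 1) :
    ∃ v : Fin n → F, v ≠ 0 ∧ ∀ a ∈ A, ∃ c : F, (a : Matrix (Fin n) (Fin n) F) *ᵥ v = c • v := by
  classical
  obtain ⟨ζ, hζ⟩ := exists_primitiveRoot (F := F) z hz
  have hz0 : 0 < z := by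
    rcases Nat.eq_zero_or_pos z with h | h
    · subst h
      have := Fintype.one_lt_card (α := F)
      have h2 := Nat.eq_zero_of_zero_dvd hz
      omega
    · exact h
  haveI : Nonempty (Fin n) := ⟨⟨0, hn⟩⟩
  let P : Submodule F (Fin n → F) → Prop := fun W =>
    W ≠ ⊥ ∧ ∀ a ∈ A, ∀ w ∈ W, (a : Matrix (Fin n) (Fin n) F) *ᵥ w ∈ W
  have hPtop : P ⊤ := ⟨top_ne_bot, fun _ _ _ _ => Submodule.mem_top⟩
  -- a member of minimal dimension
  have hex : ∃ k, ∃ W, P W ∧ finrank F W = k := ⟨_, ⊤, hPtop, rfl⟩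
  obtain ⟨W, hW, hWk⟩ := Nat.find_spec hex
  have hWmin : ∀ W', P W' → finrank F W ≤ finrank F W' := by
    intro W' hW'
    rw [hWk]
    exact Nat.find_min' hex ⟨W', hW', rfl⟩
  have hscal : ∀ a ∈ A, ∃ c : F, ∀ w ∈ W, (a : Matrix (Fin n) (Fin n) F) *ᵥ w = c • w := by
    intro a ha
    set f : Module.End F (Fin n → F) := Matrix.toLin' (a : Matrix (Fin n) (Fin n) F) with hf
    have hfW : ∀ w ∈ W, f w ∈ W := fun w hw => by
      rw [hf, Matrix.toLin'_apply]
      exact hW.2 a ha w hw
    haveI : Nontrivial W := (Submodule.nontrivial_iff_ne_bot).mpr hW.1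
    have hfz : f ^ z = 1 := by
      rw [hf, ← Matrix.toLin'_pow, ← Units.val_pow_eq_pow_val, hexp a ha, Units.val_one, Matrix.toLin'_one]
      rfl
    have hfz' : (f.restrict hfW) ^ z = 1 := by
      rw [Module.End.pow_restrict]
      ext w
      simp [hfz]
    obtain ⟨μ, hμ⟩ := exists_hasEigenvalue_of_pow_eq_one' hz0 hζ (f.restrict hfW) hfz'
    obtain ⟨w₀, hw₀⟩ := hμ.exists_hasEigenvector
    set E : Submodule F (Fin n → F) := W ⊓ Module.End.eigenspace f μ with hE
    have hPE : P E := by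
      refine ⟨?_, ?_⟩
      · intro hbot
        have h1 : (w₀ : Fin n → F) ∈ E := by
          refine Submodule.mem_inf.mpr ⟨w₀.2, ?_⟩
          rw [Module.End.mem_eigenspace_iff]
          have := hw₀.apply_eq_smul
          have h2 := congrArg (fun x : W => (x : Fin n → F)) this
          simpa using h2
        rw [hbot, Submodule.mem_bot] at h1
        exact hw₀.2 (Subtype.ext h1)
      · intro a' ha' w hw
        have hw' := Submodule.mem_inf.mp hw
        refine Submodule.mem_inf.mpr ⟨hW.2 a' ha' w hw'.1, ?_⟩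
        rw [Module.End.mem_eigenspace_iff]
        have h1 := Module.End.mem_eigenspace_iff.mp hw'.2
        rw [hf, Matrix.toLin'_apply] at h1 ⊢
        rw [Matrix.mulVec_mulVec, ← Units.val_mul, hcomm a ha a' ha', Units.val_mul, ← Matrix.mulVec_mulVec, h1,
          Matrix.mulVec_smul]
    have h1 := hWmin E hPE
    have hEW : E ≤ W := inf_le_left
    have hEq : E = W := Submodule.eq_of_le_of_finrank_le hEW h1
    refine ⟨μ, fun w hw => ?_⟩
    have hwE : w ∈ E := hEq ▸ hw
    have := Module.End.mem_eigenspace_iff.mp (Submodule.mem_inf.mp hwE).2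
    rwa [hf, Matrix.toLin'_apply] at this
  obtain ⟨v, hvW, hv0⟩ := Submodule.exists_mem_ne_zero_of_ne_bot hW.1
  exact ⟨v, hv0, fun a ha => (hscal a ha).imp (fun c hc => hc v hvW)⟩

end Cfsg.Agent.Lib.Helper3.AschC6
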