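import Mathlib
import Cfsg.Prelude.Def_GeometricClasses
import Cfsg.Agent.Lib.Helper7.AschDefs
import Cfsg.Agent.Lib.Helper16.SpADefs
import Cfsg.Agent.Lib.Helper3.SpC6Basic

/-!
# S5662 block SpI6 (helper3): the structure of `N` (`|Z(N)| = 2`, `|N| = 2^(1+2k)`, `n = 2^k`, exponent `4`, symplectic type)
-/

set_option autoImplicit false

namespace Cfsg.Agent.Lib.Helper3.SpC6

open Matrix Cfsg.Geo Cfsg.Agent.Lib.Helper7.Asch Cfsg.Agent.Lib.Helper16.SpA Cfsg.Agent.Lib.Helper3.AschC6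
open scoped commutatorElement

variable {F : Type*} [Field F] {n : ℕ} {f : (Fin n → F) → (Fin n → F) → F} {N : Subgroup (GL (Fin n) F)}

/-- every scalar of `N` is `±1` -/
theorem scalar_eq (hf : IsSymplecticForm f) (hn : 0 < n) (hNI : N ≤ Iso f) {z : GL (Fin n) F} (hz : z ∈ N)
    (hs : z ∈ scalars (Fin n) F) : z = 1 ∨ z = -1 :=
  eq_one_or_neg_one_of_scalar_iso hf hn z (hNI hz) hs

/-- `x ^ 4 = 1` on `N` -/
theorem pow_four (hf : IsSymplecticForm f) (hn : 0 < n) (hNI : N ≤ Iso f)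
    (hsq : ∀ x ∈ N, x ^ 2 ∈ scalars (Fin n) F) {x : GL (Fin n) F} (hx : x ∈ N) : x ^ 4 = 1 := by
  have h4 : x ^ 4 = (x ^ 2) ^ 2 := by rw [← pow_mul]
  rw [h4]
  rcases scalar_eq hf hn hNI (N.pow_mem hx 2) (hsq x hx) with h | h
  · rw [h, one_pow]
  · rw [h]; simp

theorem isPGroup_two (hf : IsSymplecticForm f) (hn : 0 < n) (hNI : N ≤ Iso f)
    (hsq : ∀ x ∈ N, x ^ 2 ∈ scalars (Fin n) F) : IsPGroup 2 N := by
  intro x
  refine ⟨2, ?_⟩
  apply Subtype.ext
  have := pow_four hf hn hNI hsq x.2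
  simpa using this

/-- the centre of `N` has order two -/
theorem card_center (hf : IsSymplecticForm f) (hn : 2 ≤ n) (hNI : N ≤ Iso f) (hN : ClassTwo N) :
    Nat.card (Subgroup.center N) = 2 := by
  have hm := neg_one_mem hf hn hNI hN
  have hne := neg_one_ne_one hf hn hNI hN
  rw [Nat.card_eq_two_iff]
  have h1 : (1 : N) ∈ Subgroup.center N := Subgroup.one_mem _
  have h2 : (⟨-1, hm⟩ : N) ∈ Subgroup.center N := (mem_center_iff' hN _).mpr neg_one_mem_scalars
  refine ⟨⟨1, h1⟩, ⟨⟨-1, hm⟩, h2⟩, ?_, ?_⟩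
  · intro h
    have h3 := congrArg (fun z : Subgroup.center N => ((z : N) : GL (Fin n) F)) h
    exact hne h3.symm
  · ext z
    simp only [Set.mem_insert_iff, Set.mem_singleton_iff, Set.mem_univ, iff_true]
    have h3 := (mem_center_iff' hN (z : N)).mp z.2
    rcases scalar_eq hf (by omega) hNI (z : N).2 h3 with h | h
    · left
      apply Subtype.ext
      apply Subtype.ext
      exact h
    · right
      apply Subtype.ext
      apply Subtype.ext
      exact h

variable [Fintype F]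

/-- `|N| = 2 n²` -/
theorem card_N (hf : IsSymplecticForm f) (hn : 2 ≤ n) (hNI : N ≤ Iso f) (hN : ClassTwo N) :
    Nat.card N = 2 * n ^ 2 := by
  rw [card_eq_of (linearIndependent_rep' hn hN) (span_rep' hN), card_center hf hn hNI hN]

/-- `n = 2 ^ k` and `|N| = 2 ^ (1 + 2k)` -/
theorem exists_k (hf : IsSymplecticForm f) (hn : 2 ≤ n) (hNI : N ≤ Iso f) (hN : ClassTwo N)
    (hsq : ∀ x ∈ N, x ^ 2 ∈ scalars (Fin n) F) : ∃ k : ℕ, n = 2 ^ k ∧ Nat.card N = 2 ^ (1 + 2 * k) := by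
  haveI : Fact (Nat.Prime 2) := ⟨Nat.prime_two⟩
  obtain ⟨a, ha⟩ := IsPGroup.iff_card.mp (isPGroup_two hf (by omega) hNI hsq)
  have h1 := card_N hf hn hNI hN
  rw [ha] at h1
  have h2 : n ∣ 2 ^ a := by
    rw [h1]
    exact Dvd.dvd.mul_left (dvd_pow_self n (by omega)) _
  obtain ⟨k, _, hk⟩ := (Nat.dvd_prime_pow Nat.prime_two).mp h2
  refine ⟨k, hk, ?_⟩
  rw [card_N hf hn hNI hN, hk]
  ring

/-- the exponent of `N` is four -/
theorem exponent_eq (hf : IsSymplecticForm f) (hn : 2 ≤ n) (hNI : N ≤ Iso f) (hN : ClassTwo N)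
    (hsq : ∀ x ∈ N, x ^ 2 ∈ scalars (Fin n) F) : Monoid.exponent N = 4 := by
  have hdvd : Monoid.exponent N ∣ 4 := by
    apply Monoid.exponent_dvd_of_forall_pow_eq_one
    intro x
    apply Subtype.ext
    have := pow_four hf (by omega) hNI hsq x.2
    simpa using this
  by_contra hne
  have h2 : Monoid.exponent N ∣ 2 := by
    have h4 : (4 : ℕ) = 2 ^ 2 := by norm_num
    rw [h4] at hdvd
    obtain ⟨k, hk, hk'⟩ := (Nat.dvd_prime_pow Nat.prime_two).1 hdvd
    interval_cases k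
    · rw [hk']; norm_num
    · rw [hk']; norm_num
    · exact absurd hk' (by rw [← h4]; exact hne)
  have hsq1 : ∀ x ∈ N, x * x = 1 := by
    intro x hx
    have h1 : (⟨x, hx⟩ : N) ^ Monoid.exponent N = 1 := Monoid.pow_exponent_eq_one _
    obtain ⟨t, ht⟩ := h2
    have h3 : (⟨x, hx⟩ : N) ^ 2 = 1 := by rw [ht, pow_mul, h1, one_pow]
    have h4 := congrArg (Subtype.val) h3
    simpa [pow_two] using h4
  have hcomm : ∀ x ∈ N, ∀ y ∈ N, x * y = y * x := by
    intro x hx y hy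
    have hxy := hsq1 (x * y) (N.mul_mem hx hy)
    have hx2 := hsq1 x hx
    have hy2 := hsq1 y hy
    have e1 : x * y = (x * y)⁻¹ := eq_inv_of_mul_eq_one_left hxy
    have e2 : x = x⁻¹ := eq_inv_of_mul_eq_one_left hx2
    have e3 : y = y⁻¹ := eq_inv_of_mul_eq_one_left hy2
    rw [e1, _root_.mul_inv_rev, ← e2, ← e3]
  exact Cfsg.Agent.Lib.Helper14.S5630Core.not_absIrr_of_comm hn N hcomm hN.absIrr

/-- every characteristic abelian subgroup of `N` is cyclic -/
theorem cyclic_of_char (hf : IsSymplecticForm f) (hn : 2 ≤ n) (hNI : N ≤ Iso f) (hN : ClassTwo N)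
    (H : Subgroup (GL (Fin n) F)) (hnorm : NormBy H N)
    (hmin : ∀ K : Subgroup (GL (Fin n) F), K ≤ N → NormBy H K → K ≤ scalars (Fin n) F ∨ K = N) :
    ∀ A : Subgroup N, A.Characteristic → IsMulCommutative A → IsCyclic A := by
  intro A hchar hcommA
  have hfix : ∀ (h : GL (Fin n) F) (hh : h ∈ H), ∀ x : N, x ∈ A → (⟨h * x * h⁻¹, hnorm h hh x x.2⟩ : N) ∈ A := by
    intro h hh x hx
    have hh' : h⁻¹ ∈ H := H.inv_mem hh
    let φ : N ≃* N :=
      { toFun := fun y => ⟨h * y * h⁻¹, hnorm h hh y y.2⟩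
        invFun := fun y => ⟨h⁻¹ * y * h, by simpa using hnorm h⁻¹ hh' y y.2⟩
        left_inv := fun y => by apply Subtype.ext; simp only; group
        right_inv := fun y => by apply Subtype.ext; simp only; group
        map_mul' := fun y z => by apply Subtype.ext; simp only [Subgroup.coe_mul]; group }
    have := hchar.fixed φ
    have hx' : x ∈ A.comap φ.toMonoidHom := by rw [this]; exact hx
    exact hx'
  have hA'n : NormBy H (A.map N.subtype) := by
    rintro h hh _ ⟨x, hx, rfl⟩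
    exact ⟨⟨h * x * h⁻¹, hnorm h hh x x.2⟩, hfix h hh x hx, rfl⟩
  have hA'N : A.map N.subtype ≤ N := by
    rintro _ ⟨x, _, rfl⟩
    exact x.2
  have hA'c : ∀ a ∈ A.map N.subtype, ∀ b ∈ A.map N.subtype, a * b = b * a := by
    rintro _ ⟨x, hx, rfl⟩ _ ⟨y, hy, rfl⟩
    have := hcommA.is_comm.comm (⟨x, hx⟩ : A) ⟨y, hy⟩
    have h2 := congrArg (fun z : A => ((z : N) : GL (Fin n) F)) this
    simpa using h2
  have hA'S : A.map N.subtype ≤ scalars (Fin n) F := by
    rcases hmin _ hA'N hA'n with h1 | h1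
    · exact h1
    · exfalso
      rw [h1] at hA'c
      exact Cfsg.Agent.Lib.Helper14.S5630Core.not_absIrr_of_comm hn N hA'c hN.absIrr
  have hle : A ≤ Subgroup.center N := by
    intro x hx
    exact (mem_center_iff' hN x).mpr (hA'S ⟨x, hx, rfl⟩)
  haveI : IsCyclic (Subgroup.center N) := by
    haveI : Fact (Nat.Prime 2) := ⟨Nat.prime_two⟩
    exact isCyclic_of_prime_card (p := 2) (card_center hf hn hNI hN)
  let g : A →* Subgroup.center N := Subgroup.inclusion hle
  exact isCyclic_of_injective g (Subgroup.inclusion_injective hle)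

/-- `N` is a `2`-group of symplectic type -/
theorem isSymplecticTypeGroup (hf : IsSymplecticForm f) (hn : 2 ≤ n) (hNI : N ≤ Iso f) (hN : ClassTwo N)
    (hsq : ∀ x ∈ N, x ^ 2 ∈ scalars (Fin n) F) (H : Subgroup (GL (Fin n) F)) (hnorm : NormBy H N)
    (hmin : ∀ K : Subgroup (GL (Fin n) F), K ≤ N → NormBy H K → K ≤ scalars (Fin n) F ∨ K = N) :
    IsSymplecticTypeGroup 2 N where
  prime := Nat.prime_two
  pGroup := isPGroup_two hf (by omega) hNI hsq
  cyclic_of_characteristic := cyclic_of_char hf hn hNI hN H hnorm hmin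
  exponent_eq := by
    rw [exponent_eq hf hn hNI hN hsq, Nat.gcd_self]

end Cfsg.Agent.Lib.Helper3.SpC6
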