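import Mathlib
import Cfsg.Prelude.Def_GeometricClasses
import Cfsg.Agent.Lib.Helper7.AschDefs
import Cfsg.Agent.Lib.Helper16.SpADefs
import Cfsg.Agent.Lib.Helper3.SpC6Basic
import Cfsg.Agent.Lib.Helper3.SpC6Struct
import Cfsg.Agent.Lib.Helper3.AschC6Eig

/-!
# S5662 block SpI6 (helper3): `N` is of minus type

`N ≤ Iso f` absolutely irreducible with scalar commutators, `f` non-degenerate alternating on `F^n`.  An elementary abelian
subgroup `A ≤ N` has a joint eigenvector `v`; the translates `x v` (`x ∈ N`) are joint eigenvectors of `A` whose characters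
`a ↦ sgn ⁅a, x⁆ χ(a)` are pairwise orthogonal for `f` when different.  By Dedekind there are at least `|A| / 2` different
characters, and at most `n` (independence).  If `|A| ≥ 2n` there are exactly `n`, the translates form a basis, and `v` is
orthogonal to all of them: a contradiction with non-degeneracy.
-/

set_option autoImplicit false

namespace Cfsg.Agent.Lib.Helper3.SpC6

open Matrix Cfsg.Geo Cfsg.Agent.Lib.Helper7.Asch Cfsg.Agent.Lib.Helper16.SpA Cfsg.Agent.Lib.Helper3.AschC6
open scoped commutatorElement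

variable {F : Type*} [Field F] [Fintype F] {n : ℕ} {f : (Fin n → F) → (Fin n → F) → F} {N : Subgroup (GL (Fin n) F)}

/-- the `(i, i)` entry -/
def sgn (i : Fin n) (z : GL (Fin n) F) : F := (z : Matrix (Fin n) (Fin n) F) i i

theorem sgn_one (i : Fin n) : sgn i (1 : GL (Fin n) F) = 1 := by simp [sgn]

theorem eq_sgn_smul (i : Fin n) {z : GL (Fin n) F} (hz : z ∈ scalars (Fin n) F) :
    (z : Matrix (Fin n) (Fin n) F) = sgn i z • (1 : Matrix (Fin n) (Fin n) F) := scalar_eq_entry z hz i

theorem sgn_mul (i : Fin n) {z₁ z₂ : GL (Fin n) F} (h₁ : z₁ ∈ scalars (Fin n) F) :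
    sgn i (z₁ * z₂) = sgn i z₁ * sgn i z₂ := by
  unfold sgn
  rw [Units.val_mul]
  conv_lhs => rw [scalar_eq_entry z₁ h₁ i]
  simp [Matrix.smul_mul]

theorem eq_of_sgn_eq (i : Fin n) {z₁ z₂ : GL (Fin n) F} (h₁ : z₁ ∈ scalars (Fin n) F) (h₂ : z₂ ∈ scalars (Fin n) F)
    (h : sgn i z₁ = sgn i z₂) : z₁ = z₂ := by
  apply Units.ext
  rw [eq_sgn_smul i h₁, eq_sgn_smul i h₂, h]

theorem comm_mul_right (a x y : GL (Fin n) F) (h : ⁅a, y⁆ ∈ scalars (Fin n) F) : ⁅a, x * y⁆ = ⁅a, x⁆ * ⁅a, y⁆ := by
  have h1 : ⁅a, x * y⁆ = ⁅a, x⁆ * (x * ⁅a, y⁆ * x⁻¹) := by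
    simp only [commutatorElement_def]
    group
  have h2 : x * ⁅a, y⁆ * x⁻¹ = ⁅a, y⁆ := by
    rw [scalar_comm _ x h]
    group
  rw [h1, h2]

/-- the character `x ↦ sgn ⁅a, x⁆` of `N` -/
def theta (i : Fin n) (hcomm : ∀ x ∈ N, ∀ y ∈ N, ⁅x, y⁆ ∈ scalars (Fin n) F) (a : N) : N →* F where
  toFun x := sgn i ⁅(a : GL (Fin n) F), (x : GL (Fin n) F)⁆
  map_one' := by simp [sgn]
  map_mul' x y := by
    rw [Subgroup.coe_mul, comm_mul_right _ _ _ (hcomm _ a.2 _ y.2), sgn_mul i (hcomm _ a.2 _ x.2)]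

theorem theta_apply (i : Fin n) (hcomm : ∀ x ∈ N, ∀ y ∈ N, ⁅x, y⁆ ∈ scalars (Fin n) F) (a x : N) :
    theta i hcomm a x = sgn i ⁅(a : GL (Fin n) F), (x : GL (Fin n) F)⁆ := rfl

/-- two elements of `N` with the same character differ by a sign -/
theorem eq_or_eq_neg_of_theta_eq (hf : IsSymplecticForm f) (i : Fin n) (hNI : N ≤ Iso f) (hN : ClassTwo N) (a b : N)
    (h : theta i hN.comm a = theta i hN.comm b) :
    (b : GL (Fin n) F) = (a : GL (Fin n) F) ∨ (b : GL (Fin n) F) = -(a : GL (Fin n) F) := by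
  have h1 : ∀ x : N, ⁅(a : GL (Fin n) F), (x : GL (Fin n) F)⁆ = ⁅(b : GL (Fin n) F), (x : GL (Fin n) F)⁆ := by
    intro x
    apply eq_of_sgn_eq i (hN.comm _ a.2 _ x.2) (hN.comm _ b.2 _ x.2)
    have := DFunLike.congr_fun h x
    rwa [theta_apply, theta_apply] at this
  have h2 : ∀ x : N, ((a : GL (Fin n) F)⁻¹ * (b : GL (Fin n) F)) * x = x * ((a : GL (Fin n) F)⁻¹ * (b : GL (Fin n) F)) := by
    intro x
    have h3 := h1 x
    rw [commutatorElement_def, commutatorElement_def] at h3
    have h4 : (a : GL (Fin n) F) * x * (a : GL (Fin n) F)⁻¹ = (b : GL (Fin n) F) * x * (b : GL (Fin n) F)⁻¹ := by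
      have := congrArg (fun z => z * (x : GL (Fin n) F)) h3
      simpa using this
    calc ((a : GL (Fin n) F)⁻¹ * (b : GL (Fin n) F)) * x
        = (a : GL (Fin n) F)⁻¹ * ((b : GL (Fin n) F) * x * (b : GL (Fin n) F)⁻¹) * b := by group
      _ = (a : GL (Fin n) F)⁻¹ * ((a : GL (Fin n) F) * x * (a : GL (Fin n) F)⁻¹) * b := by rw [h4]
      _ = x * ((a : GL (Fin n) F)⁻¹ * (b : GL (Fin n) F)) := by group
  have hmem : (a : GL (Fin n) F)⁻¹ * (b : GL (Fin n) F) ∈ N := N.mul_mem (N.inv_mem a.2) b.2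
  have hsc : (a : GL (Fin n) F)⁻¹ * (b : GL (Fin n) F) ∈ scalars (Fin n) F := by
    obtain ⟨c, hc⟩ := hN.absIrr.2 (((a : GL (Fin n) F)⁻¹ * (b : GL (Fin n) F) : GL (Fin n) F) :
        Matrix (Fin n) (Fin n) F) (by
      rintro s ⟨g, hg, rfl⟩
      have := h2 ⟨g, hg⟩
      rw [← Units.val_mul, ← Units.val_mul]
      exact congrArg _ this)
    exact mem_scalars_of_eq_smul _ c hc
  rcases scalar_eq hf (Fin.pos i) hNI hmem hsc with h5 | h5
  · left
    have : (b : GL (Fin n) F) = a * ((a : GL (Fin n) F)⁻¹ * b) := by group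
    rw [this, h5, mul_one]
  · right
    have : (b : GL (Fin n) F) = a * ((a : GL (Fin n) F)⁻¹ * b) := by group
    rw [this, h5, mul_neg, mul_one]

/-- the system of signs of `x ∈ N` on `A` -/
def row (i : Fin n) (A : Subgroup (GL (Fin n) F)) (x : N) : A → F :=
  fun a => sgn i ⁅(a : GL (Fin n) F), (x : GL (Fin n) F)⁆

/-- **Dedekind count**: there are at least `|A| / 2` different systems of signs -/
theorem card_le_two_mul_card_rows (hf : IsSymplecticForm f) (i : Fin n) (hNI : N ≤ Iso f) (hN : ClassTwo N)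
    (A : Subgroup (GL (Fin n) F)) (hA : A ≤ N) :
    Nat.card A ≤ 2 * Nat.card (Set.range (row (N := N) i A)) := by
  classical
  haveI : Fintype A := Fintype.ofFinite _
  haveI : Fintype N := Fintype.ofFinite _
  haveI : Fintype (Set.range (row (N := N) i A)) := Fintype.ofFinite _
  let Θ : A → (N →* F) := fun a => theta i hN.comm ⟨a, hA a.2⟩
  let T : Finset (N →* F) := Finset.univ.image Θ
  have h1 : Fintype.card A ≤ 2 * T.card := by
    rw [← Finset.card_univ]
    apply Finset.card_le_mul_card_image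
    intro t ht
    obtain ⟨a₀, -, rfl⟩ := Finset.mem_image.mp ht
    have hB : (Finset.univ : Finset Bool).card = 2 := by simp
    rw [← hB]
    apply Finset.card_le_card_of_injOn (fun a : A => decide ((a : GL (Fin n) F) = a₀))
    · intro a _
      exact Finset.mem_univ _
    · intro a ha b hb hab
      have ha' : Θ a = Θ a₀ := by simpa using ha
      have hb' : Θ b = Θ a₀ := by simpa using hb
      have e1 := eq_or_eq_neg_of_theta_eq hf i hNI hN ⟨a₀, hA a₀.2⟩ ⟨a, hA a.2⟩ ha'.symm
      have e2 := eq_or_eq_neg_of_theta_eq hf i hNI hN ⟨a₀, hA a₀.2⟩ ⟨b, hA b.2⟩ hb'.symm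
      simp only at e1 e2 hab
      apply Subtype.ext
      by_cases hc : (a : GL (Fin n) F) = a₀
      · have hd : (b : GL (Fin n) F) = a₀ := by
          have : decide ((b : GL (Fin n) F) = a₀) = true := by rw [← hab]; simpa using hc
          simpa using this
        rw [hc, hd]
      · have hd : ¬ (b : GL (Fin n) F) = a₀ := by
          intro hd
          have : decide ((a : GL (Fin n) F) = a₀) = true := by rw [hab]; simpa using hd
          exact hc (by simpa using this)
        rw [e1.resolve_left hc, e2.resolve_left hd]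
  have h2 : T.card ≤ Fintype.card (Set.range (row (N := N) i A)) := by
    have hli : LinearIndependent F (fun t : T => ((t : N →* F) : N → F)) :=
      (linearIndependent_monoidHom N F).comp (fun t : T => (t : N →* F)) Subtype.val_injective
    let π : N → Set.range (row (N := N) i A) := Set.rangeFactorization (row (N := N) i A)
    let L : (Set.range (row (N := N) i A) → F) →ₗ[F] (N → F) := LinearMap.funLeft F F π
    have hex : ∀ t : T, ∃ a : A, Θ a = (t : N →* F) := by
      intro t
      obtain ⟨a, -, ha⟩ := Finset.mem_image.mp t.2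
      exact ⟨a, ha⟩
    choose a ha using hex
    let g : T → (Set.range (row (N := N) i A) → F) := fun t φ => (φ : A → F) (a t)
    have hLg : (fun t : T => ((t : N →* F) : N → F)) = L ∘ g := by
      funext t
      funext x
      show (t : N →* F) x = g t (π x)
      rw [← ha t]
      rfl
    rw [hLg] at hli
    have hg : LinearIndependent F g := LinearIndependent.of_comp L hli
    have := hg.fintype_card_le_finrank
    rw [Module.finrank_fintype_fun_eq_card, Fintype.card_coe] at this
    exact this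
  rw [Nat.card_eq_fintype_card, Nat.card_eq_fintype_card]
  omega

/-- `a x = sgn ⁅a, x⁆ • x a` as matrices -/
theorem mul_eq_sgn_smul (i : Fin n) {a x : GL (Fin n) F} (h : ⁅a, x⁆ ∈ scalars (Fin n) F) :
    (a : Matrix (Fin n) (Fin n) F) * (x : Matrix (Fin n) (Fin n) F) =
      sgn i ⁅a, x⁆ • ((x : Matrix (Fin n) (Fin n) F) * (a : Matrix (Fin n) (Fin n) F)) := by
  have h1 : a * x = ⁅a, x⁆ * (x * a) := by
    rw [commutatorElement_def]
    group
  have h2 := congrArg (fun z : GL (Fin n) F => (z : Matrix (Fin n) (Fin n) F)) h1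
  simp only [Units.val_mul] at h2
  rw [h2, eq_sgn_smul i h, Matrix.smul_mul, Matrix.one_mul]

/-- **an elementary abelian subgroup of `N` has order less than `2n`** -/
theorem card_lt_of_elementary (hf : IsSymplecticForm f) (hn : 2 ≤ n) (hNI : N ≤ Iso f) (hN : ClassTwo N)
    (A : Subgroup (GL (Fin n) F)) (hA : A ≤ N) (hcomm : ∀ a ∈ A, ∀ b ∈ A, a * b = b * a)
    (hsq : ∀ a ∈ A, a * a = 1) : Nat.card A < 2 * n := by
  classical
  have hn0 : 0 < n := by omega
  set i : Fin n := ⟨0, hn0⟩ with hi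
  have h2 : (2 : F) ≠ 0 := two_ne_zero' hf hn hNI hN
  have hz : 2 ∣ Fintype.card F - 1 := by
    have hodd : Fintype.card F % 2 = 1 := by
      apply FiniteField.odd_card_of_char_ne_two
      intro hchar
      apply h2
      haveI : CharP F 2 := by rw [← hchar]; exact ringChar.charP F
      exact_mod_cast CharP.cast_eq_zero F 2
    omega
  obtain ⟨v, hv, hev⟩ := exists_common_eigenvector hn0 A 2 hz hcomm
    (fun x hx => by rw [pow_two]; exact hsq x hx)
  have hev' : ∀ a : A, ∃ c : F, ((a : GL (Fin n) F) : Matrix (Fin n) (Fin n) F) *ᵥ v = c • v := fun a => hev a a.2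
  choose χ hχ using hev'
  have hχ2 : ∀ a : A, χ a * χ a = 1 := by
    intro a
    have h3 : (((a : GL (Fin n) F) * (a : GL (Fin n) F) : GL (Fin n) F) : Matrix (Fin n) (Fin n) F) *ᵥ v = v := by
      rw [hsq a a.2, Units.val_one, Matrix.one_mulVec]
    rw [Units.val_mul, ← Matrix.mulVec_mulVec, hχ, Matrix.mulVec_smul, hχ, smul_smul] at h3
    have h4 : (χ a * χ a - 1) • v = 0 := by rw [sub_smul, h3, one_smul, sub_self]
    rcases smul_eq_zero.mp h4 with h5 | h5
    · exact sub_eq_zero.mp h5
    · exact absurd h5 hv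
  have hχ0 : ∀ a : A, χ a ≠ 0 := by
    intro a h0
    have := hχ2 a
    rw [h0, mul_zero] at this
    exact zero_ne_one this
  haveI : Fintype (Set.range (row (N := N) i A)) := Fintype.ofFinite _
  have hsec : ∀ φ : Set.range (row (N := N) i A), ∃ x : N, row i A x = (φ : A → F) := fun φ => φ.2
  choose x₀ hx₀ using hsec
  let φ₁ : Set.range (row (N := N) i A) := ⟨row i A 1, ⟨1, rfl⟩⟩
  let x : Set.range (row (N := N) i A) → N := fun φ => if φ = φ₁ then 1 else x₀ φ
  have hx : ∀ φ, row i A (x φ) = (φ : A → F) := by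
    intro φ
    by_cases h : φ = φ₁
    · simp only [x, if_pos h]
      rw [h]
    · simp only [x, if_neg h]
      exact hx₀ φ
  have hx1 : x φ₁ = 1 := by simp [x]
  let w : Set.range (row (N := N) i A) → (Fin n → F) :=
    fun φ => (((x φ : N) : GL (Fin n) F) : Matrix (Fin n) (Fin n) F) *ᵥ v
  have heig : ∀ (a : A) (φ : Set.range (row (N := N) i A)),
      ((a : GL (Fin n) F) : Matrix (Fin n) (Fin n) F) *ᵥ w φ = ((φ : A → F) a * χ a) • w φ := by
    intro a φ
    show ((a : GL (Fin n) F) : Matrix (Fin n) (Fin n) F) *ᵥ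
      ((((x φ : N) : GL (Fin n) F) : Matrix (Fin n) (Fin n) F) *ᵥ v) = _
    rw [Matrix.mulVec_mulVec, mul_eq_sgn_smul i (hN.comm _ (hA a.2) _ (x φ).2), Matrix.smul_mulVec,
      ← Matrix.mulVec_mulVec, hχ, Matrix.mulVec_smul, smul_smul]
    have : sgn i ⁅(a : GL (Fin n) F), ((x φ : N) : GL (Fin n) F)⁆ = (φ : A → F) a := by
      rw [← hx φ]
      rfl
    rw [this]
  have hw0 : ∀ φ, w φ ≠ 0 := by
    intro φ h0
    apply hv
    have h3 : ((((x φ : N) : GL (Fin n) F)⁻¹ : GL (Fin n) F) : Matrix (Fin n) (Fin n) F) *ᵥ w φ = v := by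
      show ((((x φ : N) : GL (Fin n) F)⁻¹ : GL (Fin n) F) : Matrix (Fin n) (Fin n) F) *ᵥ
        ((((x φ : N) : GL (Fin n) F) : Matrix (Fin n) (Fin n) F) *ᵥ v) = v
      rw [Matrix.mulVec_mulVec, ← Units.val_mul, inv_mul_cancel, Units.val_one, Matrix.one_mulVec]
    rw [← h3, h0, Matrix.mulVec_zero]
  have hli : LinearIndependent F w := by
    apply linearIndependent_of_separating
      (fun a : A => Matrix.toLin' ((a : GL (Fin n) F) : Matrix (Fin n) (Fin n) F)) w
      (fun a φ => (φ : A → F) a * χ a) hw0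
    · intro a φ
      rw [Matrix.toLin'_apply]
      exact heig a φ
    · intro φ φ' hne
      have h3 : (φ : A → F) ≠ (φ' : A → F) := fun h => hne (Subtype.ext h)
      obtain ⟨a, ha⟩ := Function.ne_iff.mp h3
      exact ⟨a, fun h4 => ha (mul_right_cancel₀ (hχ0 a) h4)⟩
  have hcardR : Fintype.card (Set.range (row (N := N) i A)) ≤ n := by
    have := hli.fintype_card_le_finrank
    simpa using this
  by_contra hge
  push Not at hge
  have hcount := card_le_two_mul_card_rows hf i hNI hN A hA
  rw [Nat.card_eq_fintype_card (α := Set.range (row (N := N) i A))] at hcount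
  have hcardR' : Fintype.card (Set.range (row (N := N) i A)) = n := by omega
  have hspan : Submodule.span F (Set.range w) = ⊤ := by
    apply hli.span_eq_top_of_card_eq_finrank'
    rw [hcardR']
    simp
  have hzero : ∀ φ, f v (w φ) = 0 := by
    intro φ
    by_cases h : φ = φ₁
    · have : w φ = v := by
        show (((x φ : N) : GL (Fin n) F) : Matrix (Fin n) (Fin n) F) *ᵥ v = v
        rw [h, hx1]
        simp
      rw [this]
      exact hf.alternating v
    · have h3 : (φ : A → F) ≠ (φ₁ : A → F) := fun h' => h (Subtype.ext h')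
      obtain ⟨a, ha⟩ := Function.ne_iff.mp h3
      have h4 : (φ₁ : A → F) a = 1 := by
        show sgn i ⁅(a : GL (Fin n) F), ((1 : N) : GL (Fin n) F)⁆ = 1
        simp [sgn]
      rw [h4] at ha
      have h5 := hNI (hA a.2) v (w φ)
      rw [heig a φ, hχ, hf.bilinear.smul_left, hf.bilinear.smul_right] at h5
      have h6 : ((φ : A → F) a - 1) * f v (w φ) = 0 := by
        have : χ a * ((φ : A → F) a * χ a * f v (w φ)) = (χ a * χ a) * ((φ : A → F) a * f v (w φ)) := by ring
        rw [this, hχ2 a, one_mul] at h5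
        rw [sub_mul, h5, one_mul, sub_self]
      rcases mul_eq_zero.mp h6 with h7 | h7
      · exact absurd (sub_eq_zero.mp h7) ha
      · exact h7
  have hall : ∀ u : Fin n → F, f v u = 0 := by
    intro u
    have hu : u ∈ Submodule.span F (Set.range w) := by rw [hspan]; trivial
    induction hu using Submodule.span_induction with
    | mem y hy =>
      obtain ⟨φ, rfl⟩ := hy
      exact hzero φ
    | zero =>
      have := hf.bilinear.smul_right 0 v 0
      rw [zero_smul, zero_mul] at this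
      exact this
    | add y z _ _ hy hz => rw [hf.bilinear.add_right, hy, hz, add_zero]
    | smul c y _ hy => rw [hf.bilinear.smul_right, hy, mul_zero]
  obtain ⟨-, ⟨u, hu⟩⟩ := hf.nondegenerate v hv
  exact hu (hall u)

/-- **minus type**: an elementary abelian subgroup of `N` has order less than `2 ^ (k + 1)` when `n ≤ 2 ^ k` -/
theorem minusType (hf : IsSymplecticForm f) (hn : 2 ≤ n) (hNI : N ≤ Iso f) (hN : ClassTwo N) (k : ℕ)
    (hk : n ≤ 2 ^ k) : IsOfMinusType k N := by
  intro A hAc hA2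
  have h1 : Nat.card (A.map N.subtype) = Nat.card A :=
    Subgroup.card_map_of_injective N.subtype_injective
  have h2 : Nat.card (A.map N.subtype) < 2 * n := by
    apply card_lt_of_elementary hf hn hNI hN
    · rintro _ ⟨x, _, rfl⟩
      exact x.2
    · rintro _ ⟨x, hx, rfl⟩ _ ⟨y, hy, rfl⟩
      have := hAc.is_comm.comm (⟨x, hx⟩ : A) ⟨y, hy⟩
      have h3 := congrArg (fun z : A => ((z : N) : GL (Fin n) F)) this
      simpa using h3
    · rintro _ ⟨x, hx, rfl⟩
      have := hA2 x hx
      have h3 := congrArg (fun z : N => (z : GL (Fin n) F)) this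
      simpa using h3
  rw [h1] at h2
  calc Nat.card A < 2 * n := h2
    _ ≤ 2 * 2 ^ k := by omega
    _ = 2 ^ (k + 1) := by ring

end Cfsg.Agent.Lib.Helper3.SpC6
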