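import Mathlib
import Cfsg.Prelude.Def_GeometricClasses
import Cfsg.Agent.Lib.Helper7.AschDefs
import Cfsg.Agent.Lib.Helper16.SpADefs
import Cfsg.Agent.Lib.Helper12.S5662SF
import Cfsg.Agent.Lib.Helper3.SpC6Basic
import Cfsg.Agent.Lib.Helper3.SpC6Struct
import Cfsg.Agent.Lib.Helper3.SpC6Minus

/-!
# S5662 block SpI6 (helper3): the symplectic-type case for `Sp` - `sp_c6` with the exact stub signature of `SpATop`
-/

set_option autoImplicit false

namespace Cfsg.Agent.Lib.Helper3.SpC6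

open Matrix Cfsg.Geo Cfsg.Agent.Lib.Helper7.Asch Cfsg.Agent.Lib.Helper16.SpA Cfsg.Agent.Lib.Helper3.AschC6
open scoped commutatorElement

variable {F : Type*} [Field F] [Fintype F] {n : ℕ} {f : (Fin n → F) → (Fin n → F) → F}

theorem le_similarityGroup {N : Subgroup (GL (Fin n) F)} (hNI : N ≤ Iso f) : N ≤ similarityGroup f := by
  intro g hg
  refine ⟨1, fun u v => ?_⟩
  rw [Units.val_one, one_mul]
  exact hNI hg u v

theorem le_subgroupNormalizer' {H N : Subgroup (GL (Fin n) F)} (hnorm : NormBy H N) : H ≤ subgroupNormalizer N := by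
  intro h hh
  unfold subgroupNormalizer
  rw [Subgroup.mem_normalizer_iff]
  intro x
  constructor
  · intro hx
    exact hnorm h hh x hx
  · intro hx
    have := hnorm h⁻¹ (H.inv_mem hh) _ hx
    simpa [mul_assoc] using this

/-- the scalars of `N` lie in every subfield -/
theorem scalar_mem_subfield (hf : IsSymplecticForm f) (hn : 0 < n) {N : Subgroup (GL (Fin n) F)} (hNI : N ≤ Iso f)
    (F₀ : Subfield F) : ∀ x ∈ N, ∀ c : F,
      (x : Matrix (Fin n) (Fin n) F) = c • (1 : Matrix (Fin n) (Fin n) F) → c ∈ F₀ := by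
  intro x hx c hc
  have h1 := sq_eq_one_of_scalar_iso hf hn x (hNI hx) c hc
  have h2 : (c - 1) * (c + 1) = 0 := by
    have : (c - 1) * (c + 1) = c ^ 2 - 1 := by ring
    rw [this, h1, sub_self]
  rcases mul_eq_zero.mp h2 with h | h
  · rw [sub_eq_zero.mp h]
    exact F₀.one_mem
  · rw [eq_neg_of_add_eq_zero_left h]
    exact F₀.neg_mem F₀.one_mem

/-- **SpI6** (general form): class 5 by descent to the prime field, or the data of class 6 -/
theorem sp_c6_data (hf : IsSymplecticForm f) (hn : 4 ≤ n) (H N : Subgroup (GL (Fin n) F)) (r : ℕ) (hHI : H ≤ Iso f)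
    (hQP : QP H) (hNH : N ≤ H) (hnorm : NormBy H N) (hNs : ¬ N ≤ scalars (Fin n) F)
    (hmin : ∀ K : Subgroup (GL (Fin n) F), K ≤ N → NormBy H K → K ≤ scalars (Fin n) F ∨ K = N) (hr : r.Prime)
    (hpow : ∀ x ∈ N, x ^ r ∈ scalars (Fin n) F) (hcomm : ∀ x ∈ N, ∀ y ∈ N, ⁅x, y⁆ ∈ scalars (Fin n) F) :
    (∃ F₀ : Subfield F, F₀ ≠ ⊤ ∧ RealisableOver F₀ (matrixSet N)) ∨
    (∃ p k : ℕ, p.Prime ∧ Odd p ∧ Fintype.card F = p ∧ IsSymplecticTypeGroup 2 N ∧ AbsIrr N ∧
      N ≤ similarityGroup f ∧ Nat.card N = 2 ^ (1 + 2 * k) ∧ Nat.card (Subgroup.center N) = 2 ∧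
      IsOfMinusType k N ∧ H ≤ subgroupNormalizer N) := by
  have hNabs : AbsIrr N := (hQP N hNH hnorm).resolve_left hNs
  have hN : ClassTwo N := ⟨hNabs, hcomm⟩
  have hNI : N ≤ Iso f := hNH.trans hHI
  have hn2 : 2 ≤ n := by omega
  have hr2 := r_eq_two hf hn2 hNI hN r hr hpow
  subst hr2
  obtain ⟨k, hk, hcard⟩ := exists_k hf hn2 hNI hN hpow
  have hreal : RealisableOver (⊥ : Subfield F) (matrixSet N) :=
    realisable_of_scalars_mem hn2 hN ⊥ (scalar_mem_subfield hf (by omega) hNI ⊥)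
  by_cases h0 : (⊥ : Subfield F) = ⊤
  · right
    obtain ⟨p, hp⟩ := CharP.exists F
    haveI : Fact p.Prime := ⟨CharP.char_is_prime F p⟩
    have hcardF : Fintype.card F = p := by
      rw [Fintype.card_eq_nat_card, ← Subfield.card_bot F p, h0]
      exact (Nat.card_congr (Subfield.topEquiv (K := F)).toEquiv).symm
    have hodd : Odd p := by
      rcases (Fact.out : p.Prime).eq_two_or_odd' with h | h
      · exfalso
        apply two_ne_zero' hf hn2 hNI hN
        subst h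
        exact_mod_cast CharP.cast_eq_zero F 2
      · exact h
    exact ⟨p, k, Fact.out, hodd, hcardF, isSymplecticTypeGroup hf hn2 hNI hN hpow H hnorm hmin, hNabs,
      le_similarityGroup hNI, hcard, card_center hf hn2 hNI hN, minusType hf hn2 hNI hN k hk.le,
      le_subgroupNormalizer' hnorm⟩
  · left
    exact ⟨⊥, h0, hreal⟩

/-- **SpI6** with the exact signature of the stub `sp_c6` of `Lib/Helper16/SpATop.lean` -/
theorem sp_c6 (hf : IsSymplecticForm f) (hn : 4 ≤ n) (H N : Subgroup (GL (Fin n) F)) (r : ℕ) (hHI : H ≤ Iso f)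
    (hH : AbsIrr H) (hQP : QP H) (hNH : N ≤ H) (hnorm : NormBy H N) (hNs : ¬ N ≤ scalars (Fin n) F)
    (hmin : ∀ K : Subgroup (GL (Fin n) F), K ≤ N → NormBy H K → K ≤ scalars (Fin n) F ∨ K = N) (hr : r.Prime)
    (hpow : ∀ x ∈ N, x ^ r ∈ scalars (Fin n) F) (hcomm : ∀ x ∈ N, ∀ y ∈ N, ⁅x, y⁆ ∈ scalars (Fin n) F) :
    InSp f H := by
  have hNabs : AbsIrr N := (hQP N hNH hnorm).resolve_left hNs
  have hNI : N ≤ Iso f := hNH.trans hHI
  rcases sp_c6_data hf hn H N r hHI hQP hNH hnorm hNs hmin hr hpow hcomm with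
    ⟨F₀, h0, hreal⟩ | ⟨p, k, hp, hpo, hcardF, hsym, habs, hsim, hcard, hZ, hminus, hnor⟩
  · exact Cfsg.Agent.Lib.Helper12.S5662SF.sp_realisable hf H N hHI hNI hNabs hnorm F₀ h0 hreal
  · exact .extraspecial N p k hsym habs hsim hp hpo hcardF hcard hZ hminus hnor

end Cfsg.Agent.Lib.Helper3.SpC6
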