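import Mathlib
import Cfsg.Prelude.Def_GeometricClasses
import Cfsg.Agent.Lib.Helper7.AschDefs
import Cfsg.Agent.Lib.Helper16.SpADefs
import Cfsg.Agent.Lib.Helper1.OEDefs
import Cfsg.Agent.Lib.Helper3.FormC6
import Cfsg.Agent.Lib.Helper3.OEC6
import Cfsg.Agent.Lib.Helper3.SpC6

/-!
# OE6: the class-6 block of the even orthogonal hub (helper3)

`H ≤ isometryGroup F Q`, `N ≤ H` normalised by `H`, absolutely irreducible, minimal among the non-scalar subgroups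
normalised by `H`, with scalar commutators and scalar `r`-th powers.  Then `r = 2`, `q` is odd, `N` is a `2`-group of
symplectic type and `H ≤ N_GL(N)`: `H` lies in a member of class 6.  (No hypothesis on the parity of `q`: `q` even is
impossible, `two_ne_zero'`.)
-/

set_option autoImplicit false

namespace Cfsg.Agent.Lib.Helper3.OE6

open Matrix Cfsg Cfsg.Geo Cfsg.Agent.Lib.Helper7.Asch Cfsg.Agent.Lib.Helper16.SpA Cfsg.Agent.Lib.Helper3.AschC6
  Cfsg.Agent.Lib.Helper3.FormC6 Cfsg.Agent.Lib.Helper1.OE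
open scoped commutatorElement

variable {F : Type*} [Field F] [Fintype F] {n : ℕ} {Q : (Fin n → F) → F}

/-- `2 ≠ 0` gives `q` odd -/
theorem odd_card_of_two_ne_zero (h2 : (2 : F) ≠ 0) : Odd (Fintype.card F) := by
  rw [← Nat.not_even_iff_odd]
  intro hev
  apply h2
  have h1 : ringChar F = 2 := FiniteField.even_card_iff_char_two.mpr (Nat.even_iff.mp hev)
  haveI : CharP F 2 := by
    rw [← h1]
    exact ringChar.charP F
  exact_mod_cast CharP.cast_eq_zero F 2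

/-- **OE6, data form**: the class-6 data of `N` -/
theorem c6_dataOE (hQ : IsNondegenerateQuadraticForm Q) (hn : 2 ≤ n) (H N : Subgroup (GL (Fin n) F)) (r : ℕ)
    (hHI : H ≤ isometryGroup F Q) (hNabs : AbsIrr N) (hNH : N ≤ H) (hnorm : NormBy H N)
    (hmin : ∀ K : Subgroup (GL (Fin n) F), K ≤ N → NormBy H K → K ≤ scalars (Fin n) F ∨ K = N) (hr : r.Prime)
    (hpow : ∀ x ∈ N, x ^ r ∈ scalars (Fin n) F) (hcomm : ∀ x ∈ N, ∀ y ∈ N, ⁅x, y⁆ ∈ scalars (Fin n) F) :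
    r = 2 ∧ Odd (Fintype.card F) ∧ IsSymplecticTypeGroup 2 N ∧ N ≤ isometryGroup F Q ∧ H ≤ subgroupNormalizer N ∧
      ∃ k : ℕ, n = 2 ^ k ∧ Nat.card N = 2 ^ (1 + 2 * k) := by
  have hb := hQ.polar_bilinear
  have hnd := hQ.nondegenerate
  have hN : ClassTwo N := ⟨hNabs, hcomm⟩
  have hNI : N ≤ Iso (QuadraticMap.polar Q) := (hNH.trans hHI).trans Cfsg.Agent.Lib.Helper3.OEC6.isometryGroup_le_iso
  have hr2 := r_eq_two hb hnd hn hNI hN r hr hpow
  subst hr2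
  exact ⟨rfl, odd_card_of_two_ne_zero (two_ne_zero' hb hnd hn hNI hN),
    isSymplecticTypeGroup hb hnd hn hNI hN hpow H hnorm hmin, hNH.trans hHI,
    Cfsg.Agent.Lib.Helper3.SpC6.le_subgroupNormalizer' hnorm, exists_k hb hnd hn hNI hN hpow⟩

/-- **OE6**: `H` lies in a member of class 6 -/
theorem c6_caseOE (hQ : IsNondegenerateQuadraticForm Q) (hn : 2 ≤ n) (H N : Subgroup (GL (Fin n) F)) (r : ℕ)
    (hHI : H ≤ isometryGroup F Q) (hNabs : AbsIrr N) (hNH : N ≤ H) (hnorm : NormBy H N)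
    (hmin : ∀ K : Subgroup (GL (Fin n) F), K ≤ N → NormBy H K → K ≤ scalars (Fin n) F ∨ K = N) (hr : r.Prime)
    (hpow : ∀ x ∈ N, x ^ r ∈ scalars (Fin n) F) (hcomm : ∀ x ∈ N, ∀ y ∈ N, ⁅x, y⁆ ∈ scalars (Fin n) F) :
    InClassOE Q H := by
  obtain ⟨_, hodd, hsym, hNI, hnor, _⟩ := c6_dataOE hQ hn H N r hHI hNabs hNH hnorm hmin hr hpow hcomm
  exact InClassOE.of_symplecticType H hHI N hodd hsym hNabs hNI hnor

/-- **OE6** with the hypotheses in the order of the `group_dichotomy` output (the shape of `sp_c6`) -/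
theorem c6_caseOE' (hQ : IsNondegenerateQuadraticForm Q) (hn : 2 ≤ n) (H N : Subgroup (GL (Fin n) F)) (r : ℕ)
    (hHI : H ≤ isometryGroup F Q) (hQP : QP H) (hNH : N ≤ H) (hnorm : NormBy H N)
    (hNs : ¬ N ≤ scalars (Fin n) F)
    (hmin : ∀ K : Subgroup (GL (Fin n) F), K ≤ N → NormBy H K → K ≤ scalars (Fin n) F ∨ K = N) (hr : r.Prime)
    (hpow : ∀ x ∈ N, x ^ r ∈ scalars (Fin n) F) (hcomm : ∀ x ∈ N, ∀ y ∈ N, ⁅x, y⁆ ∈ scalars (Fin n) F) :
    InClassOE Q H :=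
  c6_caseOE hQ hn H N r hHI ((hQP N hNH hnorm).resolve_left hNs) hNH hnorm hmin hr hpow hcomm

end Cfsg.Agent.Lib.Helper3.OE6
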