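import Mathlib
import Cfsg.Prelude.Def_GeometricClasses
import Cfsg.Agent.Lib.Helper7.AschDefs
import Cfsg.Agent.Lib.Helper3.AschC6Defs
import Cfsg.Agent.Lib.Helper3.AschC6Basic

/-!
# S5630, block I6, HALF B: R-CARDZ (helper3)
-/

set_option autoImplicit false

namespace Cfsg.Agent.Lib.Helper3.AschC6

open Matrix Cfsg.Geo Cfsg.Agent.Lib.Helper7.Asch
open scoped commutatorElement

variable {F : Type*} [Field F] {n : ℕ}

/-- the scalar matrix of a unit, as a homomorphism (its range is `scalars`) -/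
def scalHom (n : ℕ) (F : Type*) [Field F] : Fˣ →* GL (Fin n) F :=
  Units.map (Matrix.scalar (Fin n) : F →+* Matrix (Fin n) (Fin n) F).toMonoidHom

theorem scalHom_injective (hn : 0 < n) : Function.Injective (scalHom n F) := by
  haveI : Nonempty (Fin n) := ⟨⟨0, hn⟩⟩
  intro c c' h
  have h1 := congrArg (fun g : GL (Fin n) F => (g : Matrix (Fin n) (Fin n) F)) h
  simp only [scalHom, Units.coe_map, RingHom.toMonoidHom_eq_coe, MonoidHom.coe_coe] at h1
  exact Units.ext (Matrix.scalar_inj.mp h1)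

theorem mem_scalars_iff_scalHom (x : GL (Fin n) F) : x ∈ scalars (Fin n) F ↔ ∃ c, scalHom n F c = x := by
  unfold scalars
  rw [MonoidHom.mem_range]
  rfl

variable [Fintype F] {H R : Subgroup (GL (Fin n) F)} {r : ℕ}

/-- **R-CARDZ** the centre of `R` is the group of scalars of order dividing `r·gcd(2,r)` -/
theorem card_center (hn : 2 ≤ n) (hR : SympCore H R r) :
    Nat.card (Subgroup.center R) = Nat.gcd (r * Nat.gcd 2 r) (Fintype.card F - 1) := by
  have hinj := scalHom_injective (F := F) (n := n) (by omega)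
  classical
  have hcard : Nat.card Fˣ = Fintype.card F - 1 := by
    rw [Nat.card_eq_fintype_card, Fintype.card_units]
  rw [Nat.gcd_comm, ← hcard, ← IsCyclic.card_powMonoidHom_ker Fˣ (r * Nat.gcd 2 r)]
  symm
  have hmem : ∀ c : (powMonoidHom (r * Nat.gcd 2 r) : Fˣ →* Fˣ).ker, scalHom n F c ∈ R := by
    intro c
    apply hR.scal _ ((mem_scalars_iff_scalHom _).mpr ⟨c, rfl⟩)
    have := c.2
    rw [MonoidHom.mem_ker, powMonoidHom_apply] at this
    rw [← map_pow, this, map_one]
  have hcen : ∀ c : (powMonoidHom (r * Nat.gcd 2 r) : Fˣ →* Fˣ).ker,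
      (⟨scalHom n F c, hmem c⟩ : R) ∈ Subgroup.center R := by
    intro c
    rw [mem_center_iff hR]
    exact (mem_scalars_iff_scalHom _).mpr ⟨c, rfl⟩
  refine Nat.card_congr (Equiv.ofBijective (fun c => ⟨⟨scalHom n F c, hmem c⟩, hcen c⟩) ⟨?_, ?_⟩)
  · intro c c' h
    have h1 : scalHom n F c = scalHom n F c' := by
      have := congrArg (fun x : Subgroup.center R => ((x : R) : GL (Fin n) F)) h
      exact this
    exact Subtype.ext (hinj h1)
  · intro x
    have hx := (mem_center_iff hR x.1).mp x.2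
    obtain ⟨c, hc⟩ := (mem_scalars_iff_scalHom _).mp hx
    have hc1 : c ^ (r * Nat.gcd 2 r) = 1 := by
      apply hinj
      rw [map_pow, hc, map_one]
      exact hR.exp _ x.1.2
    refine ⟨⟨c, ?_⟩, ?_⟩
    · rw [MonoidHom.mem_ker, powMonoidHom_apply]
      exact hc1
    · apply Subtype.ext
      apply Subtype.ext
      exact hc

end Cfsg.Agent.Lib.Helper3.AschC6
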