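import Mathlib
import Cfsg.Prelude.Def_GeometricClasses
import Cfsg.Agent.Lib.Helper7.AschDefs
import Cfsg.Agent.Lib.Helper3.AschC6Defs
import Cfsg.Agent.Lib.Helper3.AschC6Basic

/-!
# S5630, block I6, HALF B: the monomial model, pieces MON-MAT, MON-BASIS, MON-ACT, MON-IND (helper3)
-/

set_option autoImplicit false

namespace Cfsg.Agent.Lib.Helper3.AschC6

open Matrix Cfsg.Geo Cfsg.Agent.Lib.Helper7.Asch
open scoped commutatorElement

variable {F : Type*} [Field F] {n : ℕ}

/-- **MON-MAT** from a monomial basis to a conjugating matrix -/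
theorem mon_mat (w : Fin n → Fin n → F) (hw : LinearIndependent F w) :
    ∃ B : GL (Fin n) F, ∀ (g : Matrix (Fin n) (Fin n) F) (π : Equiv.Perm (Fin n)) (d : Fin n → F),
      (∀ j, g *ᵥ w j = d j • w (π j)) →
      ∀ i j, ((B : Matrix (Fin n) (Fin n) F) * g * ((B⁻¹ : GL (Fin n) F) : Matrix (Fin n) (Fin n) F)) i j =
        if i = π j then d j else 0 := by
  have hA : IsUnit (Matrix.of w) := by
    rw [← Matrix.linearIndependent_rows_iff_isUnit]
    exact hw
  have hP : IsUnit (Matrix.of w)ᵀ := by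
    rw [Matrix.isUnit_transpose]
    exact hA
  obtain ⟨Pu, hPu⟩ := hP
  refine ⟨Pu⁻¹, ?_⟩
  intro g π d hg
  have hgP : g * (Pu : Matrix (Fin n) (Fin n) F) =
      (Pu : Matrix (Fin n) (Fin n) F) * Matrix.of (fun i j => if i = π j then d j else 0) := by
    rw [hPu]
    ext i j
    rw [Matrix.mul_apply, Matrix.mul_apply]
    have h1 := congrFun (hg j) i
    simp only [Matrix.mulVec, dotProduct, Pi.smul_apply, smul_eq_mul] at h1
    simp only [Matrix.transpose_apply, Matrix.of_apply]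
    rw [h1, Finset.sum_eq_single (π j)]
    · rw [if_pos rfl, mul_comm]
    · intro k _ hk
      rw [if_neg hk, mul_zero]
    · intro h
      exact absurd (Finset.mem_univ _) h
  intro i j
  rw [inv_inv, Matrix.mul_assoc, hgP, ← Matrix.mul_assoc, ← Units.val_mul, inv_mul_cancel, Units.val_one,
    Matrix.one_mul, Matrix.of_apply]


variable [Fintype F] {H R : Subgroup (GL (Fin n) F)} {r : ℕ}

/-- **MON-BASIS** a family of independent vectors permuted up to scalars by the irreducible `R` can be indexed by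
`Fin n`: there is a basis `w` of `F^n` with `g w_j = d_j w_{π j}` -/
theorem mon_basis (hn : 0 < n) (hR : SympCore H R r) {Q : Type*} [Fintype Q] [Nonempty Q] (w : Q → Fin n → F)
    (hw : LinearIndependent F w) (z : ℕ)
    (hact : ∀ g ∈ R, ∃ (π : Equiv.Perm Q) (d : Q → F), (∀ j, d j ^ z = 1) ∧
      ∀ j, (g : Matrix (Fin n) (Fin n) F) *ᵥ w j = d j • w (π j)) :
    ∃ w' : Fin n → Fin n → F, LinearIndependent F w' ∧
      ∀ g ∈ R, ∃ (π : Equiv.Perm (Fin n)) (d : Fin n → F), (∀ j, d j ^ z = 1) ∧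
        ∀ j, (g : Matrix (Fin n) (Fin n) F) *ᵥ w' j = d j • w' (π j) := by
  classical
  have hinv : ∀ s ∈ matrixSet R, (Submodule.span F (Set.range w)).map (Matrix.toLin' s) ≤
      Submodule.span F (Set.range w) := by
    rintro s ⟨g, hg, rfl⟩
    rw [Submodule.map_span, Submodule.span_le]
    rintro _ ⟨_, ⟨j, rfl⟩, rfl⟩
    obtain ⟨π, d, _, hgw⟩ := hact g hg
    rw [Matrix.toLin'_apply, hgw j]
    exact Submodule.smul_mem _ _ (Submodule.subset_span ⟨π j, rfl⟩)
  have htop : Submodule.span F (Set.range w) = ⊤ := by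
    rcases hR.absIrr.1 _ hinv with h | h
    · exfalso
      obtain ⟨j⟩ := ‹Nonempty Q›
      have h1 : w j ∈ Submodule.span F (Set.range w) := Submodule.subset_span ⟨j, rfl⟩
      rw [h, Submodule.mem_bot] at h1
      exact hw.ne_zero j h1
    · exact h
  have b : Module.Basis Q F (Fin n → F) := Module.Basis.mk hw (by rw [htop])
  have hcard : Fintype.card (Fin n) = Fintype.card Q := by
    rw [← Module.finrank_eq_card_basis b, Module.finrank_fin_fun, Fintype.card_fin]
  let e : Fin n ≃ Q := Fintype.equivOfCardEq hcard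
  refine ⟨w ∘ e, hw.comp e e.injective, ?_⟩
  intro g hg
  obtain ⟨π, d, hd, hgw⟩ := hact g hg
  refine ⟨e.trans (π.trans e.symm), d ∘ e, fun j => hd (e j), ?_⟩
  intro j
  simp only [Function.comp_apply, Equiv.trans_apply, Equiv.apply_symm_apply]
  exact hgw (e j)


/-- the scalar of a scalar matrix (`0` for the others) -/
noncomputable def scalOf (g : GL (Fin n) F) : F := by
  classical
  exact if h : g ∈ scalars (Fin n) F then ((Classical.choose ((mem_scalars_iff g).mp h) : Fˣ) : F) else 0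

omit [Fintype F] in
theorem scalOf_spec (g : GL (Fin n) F) (h : g ∈ scalars (Fin n) F) :
    (g : Matrix (Fin n) (Fin n) F) = scalOf g • (1 : Matrix (Fin n) (Fin n) F) := by
  unfold scalOf
  rw [dif_pos h]
  exact Classical.choose_spec ((mem_scalars_iff g).mp h)

omit [Fintype F] in
theorem eq_of_scalOf_eq (g g' : GL (Fin n) F) (h : g ∈ scalars (Fin n) F) (h' : g' ∈ scalars (Fin n) F)
    (he : scalOf g = scalOf g') : g = g' := by
  apply Units.ext
  rw [scalOf_spec g h, scalOf_spec g' h', he]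

omit [Fintype F] in
theorem pow_mulVec_eig (a : Matrix (Fin n) (Fin n) F) (v : Fin n → F) (c : F) (h : a *ᵥ v = c • v) (k : ℕ) :
    (a ^ k) *ᵥ v = c ^ k • v := by
  induction k with
  | zero => simp
  | succ k ih => rw [pow_succ, ← Matrix.mulVec_mulVec, h, Matrix.mulVec_smul, ih, smul_smul, pow_succ, mul_comm]

/-- **MON-ACT** `g ∈ R` permutes the lines `t v₀` (`t` running over representatives of `R / A`), `v₀` a common
eigenvector of `A`, up to `z`-th roots of unity -/
theorem mon_act (hR : SympCore H R r) (A : Subgroup (GL (Fin n) F)) (hAR : A ≤ R) (v₀ : Fin n → F) (hv : v₀ ≠ 0)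
    (heig : ∀ a ∈ A, ∃ c : F, (a : Matrix (Fin n) (Fin n) F) *ᵥ v₀ = c • v₀) (g : R)
    (q : R ⧸ A.subgroupOf R) :
    ∃ c : F, c ^ (r * Nat.gcd 2 r) = 1 ∧
      ((g : GL (Fin n) F) : Matrix (Fin n) (Fin n) F) *ᵥ ((((q.out : R) : GL (Fin n) F) : Matrix (Fin n) (Fin n) F) *ᵥ v₀) =
        c • (((((g • q : R ⧸ A.subgroupOf R).out : R) : GL (Fin n) F) : Matrix (Fin n) (Fin n) F) *ᵥ v₀) := by
  set t : R := q.out with ht
  set t' : R := (g • q : R ⧸ A.subgroupOf R).out with ht'
  have hq : (QuotientGroup.mk t : R ⧸ A.subgroupOf R) = q := Quotient.out_eq' q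
  have hq' : (QuotientGroup.mk t' : R ⧸ A.subgroupOf R) = g • q := Quotient.out_eq' _
  have h1 : (QuotientGroup.mk t' : R ⧸ A.subgroupOf R) = QuotientGroup.mk (g * t) := by
    rw [hq', ← hq]
    rfl
  have h2 : t'⁻¹ * (g * t) ∈ A.subgroupOf R := QuotientGroup.eq.mp h1
  rw [Subgroup.mem_subgroupOf] at h2
  obtain ⟨c, hc⟩ := heig _ h2
  have hexp := hR.exp _ (hAR h2)
  refine ⟨c, ?_, ?_⟩
  · have h3 := pow_mulVec_eig _ v₀ c hc (r * Nat.gcd 2 r)
    rw [← Units.val_pow_eq_pow_val, hexp, Units.val_one, Matrix.one_mulVec] at h3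
    by_contra hne
    have h4 : (1 - c ^ (r * Nat.gcd 2 r)) • v₀ = 0 := by
      rw [sub_smul, one_smul, ← h3, sub_self]
    rcases smul_eq_zero.mp h4 with h5 | h5
    · exact hne (sub_eq_zero.mp h5).symm
    · exact hv h5
  · have h3 : ((g : GL (Fin n) F) : Matrix (Fin n) (Fin n) F) * ((t : GL (Fin n) F) : Matrix (Fin n) (Fin n) F) =
        ((t' : GL (Fin n) F) : Matrix (Fin n) (Fin n) F) *
          (((t'⁻¹ * (g * t) : R) : GL (Fin n) F) : Matrix (Fin n) (Fin n) F) := by
      rw [← Units.val_mul, ← Units.val_mul]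
      congr 1
      simp [mul_assoc]
    rw [Matrix.mulVec_mulVec, h3, ← Matrix.mulVec_mulVec, hc, Matrix.mulVec_smul]


/-- **MON-IND** the vectors `t v₀` are linearly independent (`A` self-centralising in `R`) -/
theorem mon_ind (hR : SympCore H R r) (A : Subgroup (GL (Fin n) F)) (hAR : A ≤ R)
    (hcomm : ∀ x ∈ A, ∀ y ∈ A, x * y = y * x) (hself : ∀ t ∈ R, (∀ a ∈ A, t * a = a * t) → t ∈ A)
    (v₀ : Fin n → F) (hv : v₀ ≠ 0)
    (heig : ∀ a ∈ A, ∃ c : F, (a : Matrix (Fin n) (Fin n) F) *ᵥ v₀ = c • v₀) :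
    LinearIndependent F (fun q : R ⧸ A.subgroupOf R =>
      (((q.out : R) : GL (Fin n) F) : Matrix (Fin n) (Fin n) F) *ᵥ v₀) := by
  classical
  -- the eigenvalue of `a ∈ A` on `v₀`
  let lam : A → F := fun a => Classical.choose (heig a a.2)
  have hlam : ∀ a : A, ((a : GL (Fin n) F) : Matrix (Fin n) (Fin n) F) *ᵥ v₀ = lam a • v₀ :=
    fun a => Classical.choose_spec (heig a a.2)
  have hlam0 : ∀ a : A, lam a ≠ 0 := by
    intro a h0
    have h1 := hlam a
    rw [h0, zero_smul] at h1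
    have h2 : (((a : GL (Fin n) F)⁻¹ : GL (Fin n) F) : Matrix (Fin n) (Fin n) F) *ᵥ
        (((a : GL (Fin n) F) : Matrix (Fin n) (Fin n) F) *ᵥ v₀) = 0 := by
      rw [h1, Matrix.mulVec_zero]
    rw [Matrix.mulVec_mulVec, ← Units.val_mul, inv_mul_cancel, Units.val_one, Matrix.one_mulVec] at h2
    exact hv h2
  refine linearIndependent_of_separating (κ := A)
    (fun a => Matrix.toLin' ((a : GL (Fin n) F) : Matrix (Fin n) (Fin n) F)) _
    (fun a q => scalOf ⁅(a : GL (Fin n) F), ((q.out : R) : GL (Fin n) F)⁆ * lam a) ?_ ?_ ?_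
  · -- non-zero
    intro q h0
    have h2 : ((((q.out : R) : GL (Fin n) F)⁻¹ : GL (Fin n) F) : Matrix (Fin n) (Fin n) F) *ᵥ
        ((((q.out : R) : GL (Fin n) F) : Matrix (Fin n) (Fin n) F) *ᵥ v₀) = 0 := by
      rw [h0, Matrix.mulVec_zero]
    rw [Matrix.mulVec_mulVec, ← Units.val_mul, inv_mul_cancel, Units.val_one, Matrix.one_mulVec] at h2
    exact hv h2
  · -- eigenvectors
    intro a q
    set t : GL (Fin n) F := ((q.out : R) : GL (Fin n) F) with ht
    have htR : t ∈ R := (q.out : R).2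
    have hsc : ⁅(a : GL (Fin n) F), t⁆ ∈ scalars (Fin n) F := hR.comm _ (hAR a.2) _ htR
    have h1 : (a : GL (Fin n) F) * t = ⁅(a : GL (Fin n) F), t⁆ * (t * (a : GL (Fin n) F)) := by
      rw [commutatorElement_def]
      group
    rw [Matrix.toLin'_apply, Matrix.mulVec_mulVec, ← Units.val_mul, h1, Units.val_mul, scalOf_spec _ hsc,
      Units.val_mul, Matrix.smul_mul, Matrix.one_mul, Matrix.smul_mulVec, ← Matrix.mulVec_mulVec, hlam a,
      Matrix.mulVec_smul, smul_smul]
  · -- separation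
    intro q q' hqq'
    by_contra hall
    push Not at hall
    apply hqq'
    set t : R := q.out with ht
    set t' : R := q'.out with ht'
    have hq : (QuotientGroup.mk t : R ⧸ A.subgroupOf R) = q := Quotient.out_eq' q
    have hq' : (QuotientGroup.mk t' : R ⧸ A.subgroupOf R) = q' := Quotient.out_eq' q'
    rw [← hq, ← hq']
    apply QuotientGroup.eq.mpr
    rw [Subgroup.mem_subgroupOf]
    apply hself _ (R.mul_mem (R.inv_mem t.2) t'.2)
    intro a ha
    have h1 := hall ⟨a, ha⟩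
    have h2 : scalOf ⁅a, (t : GL (Fin n) F)⁆ = scalOf ⁅a, (t' : GL (Fin n) F)⁆ :=
      mul_right_cancel₀ (hlam0 ⟨a, ha⟩) h1
    have h3 : ⁅a, (t : GL (Fin n) F)⁆ = ⁅a, (t' : GL (Fin n) F)⁆ :=
      eq_of_scalOf_eq _ _ (hR.comm _ (hAR ha) _ t.2) (hR.comm _ (hAR ha) _ t'.2) h2
    rw [commutatorElement_def, commutatorElement_def] at h3
    -- a t a⁻¹ t⁻¹ = a t' a⁻¹ t'⁻¹
    have h4 : (t : GL (Fin n) F) * a⁻¹ * (t : GL (Fin n) F)⁻¹ = (t' : GL (Fin n) F) * a⁻¹ * (t' : GL (Fin n) F)⁻¹ := by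
      have := congrArg (fun x => a⁻¹ * x) h3
      simpa [mul_assoc] using this
    have h5 : a⁻¹ * ((t : GL (Fin n) F)⁻¹ * (t' : GL (Fin n) F)) = ((t : GL (Fin n) F)⁻¹ * (t' : GL (Fin n) F)) * a⁻¹ := by
      have := congrArg (fun x => (t : GL (Fin n) F)⁻¹ * x * (t' : GL (Fin n) F)) h4
      simpa [mul_assoc] using this
    show ((t⁻¹ * t' : R) : GL (Fin n) F) * a = a * ((t⁻¹ * t' : R) : GL (Fin n) F)
    rw [Subgroup.coe_mul, Subgroup.coe_inv]
    have h6 := congrArg (fun x => a * x * a) h5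
    simp only [mul_assoc, mul_inv_cancel_left, inv_mul_cancel, mul_one] at h6
    rw [mul_assoc]
    exact h6

end Cfsg.Agent.Lib.Helper3.AschC6
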