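import Mathlib
import Cfsg.Prelude.Def_GeometricClasses
import Cfsg.Agent.Lib.Helper7.AschDefs
import Cfsg.Agent.Lib.Helper7.AschWrap
import Cfsg.Agent.Lib.Helper7.AschCore
import Cfsg.Agent.Lib.Helper3.AschC6Defs
import Cfsg.Agent.Lib.Helper3.AschC6Basic
import Cfsg.Agent.Lib.Helper3.AschC6Count
import Cfsg.Agent.Lib.Helper3.AschC6CardZ
import Cfsg.Agent.Lib.Helper3.AschC6Mon
import Cfsg.Agent.Lib.Helper3.AschC6Eig
import Cfsg.Agent.Lib.Helper12.S5630I6BForm
import Cfsg.Agent.Lib.Helper16.S5630I6BTau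
import Cfsg.Agent.Lib.Helper19.S5630I6BRep
import Cfsg.Agent.Lib.Helper26.S5630I6BGen

/-!
# S5630, block I6, HALF B (helper3): `exits : 3 ≤ n → (∀ F₀ ≠ ⊤, ¬ RealModScal F₀ H) → SympCore H R r → InClass H`

Assembly of the pieces of notes/S5630I6BSkel_helper3.lean.txt.
-/

set_option autoImplicit false

namespace Cfsg.Agent.Lib.Helper3.AschC6

open Matrix Cfsg.Geo Cfsg.Agent.Lib.Helper7.Asch
open Cfsg.Agent.Lib.Helper12.S5630I6BForm Cfsg.Agent.Lib.Helper16.S5630I6BTau
open Cfsg.Agent.Lib.Helper19.S5630I6B Cfsg.Agent.Lib.Helper26.S5630I6BGen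
open scoped commutatorElement

variable {F : Type*} [Field F] {n : ℕ}

variable [Fintype F] {H R : Subgroup (GL (Fin n) F)} {r : ℕ}

theorem card_quot (hn : 2 ≤ n) (hR : SympCore H R r) : Nat.card (R ⧸ Subgroup.center R) = n ^ 2 :=
  card_quot_of (linearIndependent_rep hn hR) (span_rep hR)

theorem card_eq (hn : 2 ≤ n) (hR : SympCore H R r) : Nat.card R = Nat.card (Subgroup.center R) * n ^ 2 :=
  card_eq_of (linearIndependent_rep hn hR) (span_rep hR)

theorem n_eq_pow (hn : 2 ≤ n) (hR : SympCore H R r) : ∃ m : ℕ, 1 ≤ m ∧ n = r ^ m :=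
  n_eq_pow_of hn hR (linearIndependent_rep hn hR) (span_rep hR)

theorem exists_tau (hn : 2 ≤ n) (hR : SympCore H R r) (hr2 : r = 2) (h4 : ¬ 4 ∣ Fintype.card F - 1) :
    ∃ τ : Matrix (Fin n) (Fin n) F →ₗ[F] Matrix (Fin n) (Fin n) F,
      ∀ g ∈ R, τ (g : Matrix (Fin n) (Fin n) F) = ((g⁻¹ : GL (Fin n) F) : Matrix (Fin n) (Fin n) F) :=
  exists_tau_of hn hR hr2 h4 (linearIndependent_rep hn hR) (span_rep hR)

/-- **MON** the monomial model (assembly, real) -/
theorem exists_monomial (hn : 2 ≤ n) (hR : SympCore H R r) (hz : r * Nat.gcd 2 r ∣ Fintype.card F - 1) :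
    ∃ B : GL (Fin n) F, ∀ g ∈ R, IsMonoRoot (r * Nat.gcd 2 r)
      ((B : Matrix (Fin n) (Fin n) F) * (g : Matrix (Fin n) (Fin n) F) *
        ((B⁻¹ : GL (Fin n) F) : Matrix (Fin n) (Fin n) F)) := by
  obtain ⟨A, hAR, hcomm, hself⟩ := exists_maxAbelian R
  obtain ⟨v₀, hv, heig⟩ := exists_common_eigenvector (by omega) A _ hz hcomm (fun x hx => hR.exp x (hAR hx))
  haveI : Fintype (R ⧸ A.subgroupOf R) := Fintype.ofFinite _
  have hw := mon_ind hR A hAR hcomm hself v₀ hv heig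
  have hact : ∀ g ∈ R, ∃ (π : Equiv.Perm (R ⧸ A.subgroupOf R)) (d : (R ⧸ A.subgroupOf R) → F),
      (∀ j, d j ^ (r * Nat.gcd 2 r) = 1) ∧
      ∀ j, (g : Matrix (Fin n) (Fin n) F) *ᵥ
        ((((j.out : R) : GL (Fin n) F) : Matrix (Fin n) (Fin n) F) *ᵥ v₀) =
        d j • ((((((π j).out : R) : GL (Fin n) F) : Matrix (Fin n) (Fin n) F) *ᵥ v₀)) := by
    intro g hg
    refine ⟨MulAction.toPerm (⟨g, hg⟩ : R),
      fun j => Classical.choose (mon_act hR A hAR v₀ hv heig ⟨g, hg⟩ j), ?_, ?_⟩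
    · intro j
      exact (Classical.choose_spec (mon_act hR A hAR v₀ hv heig ⟨g, hg⟩ j)).1
    · intro j
      exact (Classical.choose_spec (mon_act hR A hAR v₀ hv heig ⟨g, hg⟩ j)).2
  obtain ⟨w', hw', hact'⟩ := mon_basis (by omega) hR _ hw _ hact
  obtain ⟨B, hB⟩ := mon_mat w' hw'
  refine ⟨B, fun g hg => ?_⟩
  obtain ⟨π, d, hd, hgw⟩ := hact' g hg
  exact ⟨π, d, hd, hB g π d hgw⟩

/-! ## Assembly (real) -/

theorem exists_char_card (F : Type*) [Field F] [Fintype F] :
    ∃ p e : ℕ, p.Prime ∧ CharP F p ∧ Fintype.card F = p ^ e ∧ 0 < e := by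
  obtain ⟨p, hc⟩ := CharP.exists F
  have := hc
  obtain ⟨k, hp, hk⟩ := FiniteField.card F p
  exact ⟨p, k, hp, hc, hk, k.pos⟩

/-- a set of matrices which are monomial over `μ_z` after conjugation by `B` is realisable over every subfield
containing `μ_z` -/
theorem realisable_of_monomial (R : Subgroup (GL (Fin n) F)) (z : ℕ) (B : GL (Fin n) F)
    (hB : ∀ g ∈ R, IsMonoRoot z ((B : Matrix (Fin n) (Fin n) F) * (g : Matrix (Fin n) (Fin n) F) *
        ((B⁻¹ : GL (Fin n) F) : Matrix (Fin n) (Fin n) F)))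
    (F₀ : Subfield F) (h0 : ∀ c : F, c ^ z = 1 → c ∈ F₀) : RealisableOver F₀ (matrixSet R) := by
  refine ⟨B, ?_⟩
  rintro s ⟨g, hg, rfl⟩ i j
  obtain ⟨π, d, hd, hM⟩ := hB g hg
  rw [hM i j]
  split_ifs
  · exact h0 _ (hd j)
  · exact F₀.zero_mem

theorem one_le_card_sub_one (F : Type*) [Field F] [Fintype F] : 1 ≤ Fintype.card F - 1 := by
  have := Fintype.one_lt_card (α := F)
  omega

/-- the field is minimal for `z = r·gcd(2,r)` when `z ∣ q - 1` -/
theorem minimal_field (hn : 3 ≤ n) (hsub : ∀ F₀ : Subfield F, F₀ ≠ ⊤ → ¬ RealModScal F₀ H)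
    (hR : SympCore H R r) (hz : r * Nat.gcd 2 r ∣ Fintype.card F - 1) (p e : ℕ) (hp : p.Prime)
    (hc : CharP F p) (hq : Fintype.card F = p ^ e) : IsMinimalFieldFor (r * Nat.gcd 2 r) p e F := by
  refine ⟨hp, hc, hq, by rw [← hq]; exact hz, ?_⟩
  intro d hd0 hde hzd
  have hlt : p ^ d < Fintype.card F := by
    rw [hq]
    exact Nat.pow_lt_pow_right hp.one_lt hde
  obtain ⟨F₀, hF0, hfix⟩ := exists_subfield_pow p d hp hc hd0 hlt
  obtain ⟨B, hB⟩ := exists_monomial (by omega) hR hz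
  have hroots : ∀ c : F, c ^ (r * Nat.gcd 2 r) = 1 → c ∈ F₀ := by
    intro c hc1
    apply hfix
    obtain ⟨k, hk⟩ := hzd
    have h1 : 1 ≤ p ^ d := Nat.one_le_pow _ _ hp.pos
    have h2 : p ^ d = (p ^ d - 1) + 1 := by omega
    rw [h2, pow_succ, hk, pow_mul, hc1, one_pow, one_mul]
  have hreal := realisable_of_monomial R _ B hB F₀ hroots
  exact hsub F₀ hF0 (realModScal_of_normalizes H R hR.norm hR.absIrr F₀ hreal)

theorem le_subgroupNormalizer (hR : SympCore H R r) : H ≤ subgroupNormalizer R := by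
  intro h hh
  unfold subgroupNormalizer
  rw [Subgroup.mem_normalizer_iff]
  intro x
  constructor
  · intro hx
    exact hR.norm h hh x hx
  · intro hx
    have := hR.norm h⁻¹ (H.inv_mem hh) _ hx
    simpa [mul_assoc] using this

theorem r_ne_p (hn : 2 ≤ n) (hR : SympCore H R r) (p e : ℕ) (hp : p.Prime) (hq : Fintype.card F = p ^ e)
    (he : 0 < e) : r ≠ p := by
  intro hrp
  have h1 := r_dvd_card_sub_one hn hR
  rw [hq, hrp] at h1
  have h2 : p ∣ p ^ e := dvd_pow_self p (by omega)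
  have h3 : 1 ≤ p ^ e := Nat.one_le_pow _ _ hp.pos
  have h4 : p ∣ p ^ e - (p ^ e - 1) := Nat.dvd_sub h2 h1
  have h5 : p ^ e - (p ^ e - 1) = 1 := by omega
  rw [h5] at h4
  exact hp.one_lt.ne' (Nat.dvd_one.mp h4)

/-- **EXIT-C6** -/
theorem linearSymplecticTypeData (hn : 3 ≤ n) (hR : SympCore H R r) (p e : ℕ) (he0 : 0 < e)
    (hmin : IsMinimalFieldFor (r * Nat.gcd 2 r) p e F) (he : Odd e) : IsLinearSymplecticTypeData r R := by
  obtain ⟨hp, hc, hq, hz, hmin'⟩ := hmin
  have hzq : r * Nat.gcd 2 r ∣ Fintype.card F - 1 := by rw [hq]; exact hz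
  have hcen : Nat.card (Subgroup.center R) = r * Nat.gcd 2 r := by
    rw [card_center (by omega) hR]
    exact Nat.gcd_eq_left hzq
  obtain ⟨m, hm1, hnm⟩ := n_eq_pow (by omega) hR
  have hcard := card_eq (by omega) hR
  have hrp := r_ne_p (by omega) hR p e hp hq he0
  refine ⟨hR.sympType, hR.absIrr, p, e, hrp, ?_, ?_⟩
  · rw [hcen]
    exact ⟨hp, hc, hq, hz, hmin'⟩
  · rcases hR.prime.eq_two_or_odd' with h2 | hodd
    · right
      left
      subst h2
      have hg : Nat.gcd 2 2 = 2 := rfl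
      rw [hg] at hz hmin' hcen
      have he1 : e = 1 := e_eq_one_of_four p e hz hmin' he
      have hm2 : 2 ≤ m := by
        by_contra hlt
        have : m = 1 := by omega
        subst this
        omega
      refine ⟨rfl, he1, hcen, ?_, m, ?_⟩
      · rw [Fintype.card_fin, hnm]
        calc 4 = 2 ^ 2 := rfl
          _ ≤ 2 ^ m := Nat.pow_le_pow_right (by omega) hm2
      · rw [hcard, hcen, hnm]
        ring
    · left
      have hg : Nat.gcd 2 r = 1 := by
        rw [Nat.coprime_comm.mp ((Nat.coprime_primes hR.prime Nat.prime_two).mpr ?_)]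
        rintro rfl
        exact absurd hodd (by decide)
      rw [hg, mul_one] at hcen
      refine ⟨hodd, he, hcen, m, hm1, ?_⟩
      rw [hcard, hcen, hnm]
      ring

/-- **EXIT-U** -/
theorem exit_unitary (hn : 3 ≤ n) (hR : SympCore H R r) (hz : r * Nat.gcd 2 r ∣ Fintype.card F - 1) (p e : ℕ)
    (he0 : 0 < e) (hmin : IsMinimalFieldFor (r * Nat.gcd 2 r) p e F) (he : ¬ Odd e) : InClass H := by
  obtain ⟨hp, hc, hq, hzp, hmin'⟩ := hmin
  rw [Nat.not_odd_iff_even] at he
  obtain ⟨k, hk⟩ := he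
  have hk2 : e = 2 * k := by omega
  have hk0 : 0 < k := by omega
  subst hk2
  obtain ⟨σ, hne, hinv, hσ⟩ := exists_sigma p k hp hc hk0 hq
  have hdvd : r * Nat.gcd 2 r ∣ p ^ k + 1 :=
    dvd_pow_add_one r p k hR.prime hzp (hmin' k hk0 (by omega))
  have hσz : ∀ c : F, c ^ (r * Nat.gcd 2 r) = 1 → c * σ c = 1 := by
    intro c hc1
    obtain ⟨j, hj⟩ := hdvd
    rw [hσ, ← pow_succ', hj, pow_mul, hc1, one_pow]
  obtain ⟨B, hB⟩ := exists_monomial (by omega) hR hz
  have hf := isUnitaryForm_stdHerm σ hne hinv B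
  have hfix : FixesForm (matrixSet R) (stdHerm σ (B : Matrix (Fin n) (Fin n) F)) := by
    rintro s ⟨g, hg, rfl⟩ u v
    exact stdHerm_of_isMonoRoot σ _ hσz B g (hB g hg) u v
  refine InClass.of_unitary H σ _ hf hn ?_
  intro h hh
  exact mem_similarityGroup_of_normalizes_unitary R hR.absIrr σ _ hf hfix h (fun x hx => hR.norm h hh x hx)

/-- **EXIT-B** -/
theorem exit_bilinear (hn : 3 ≤ n) (hR : SympCore H R r) (hr2 : r = 2) (h4 : ¬ 4 ∣ Fintype.card F - 1) :
    InClass H := by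
  have h2q : 2 ∣ Fintype.card F - 1 := hr2 ▸ r_dvd_card_sub_one (by omega) hR
  have hodd : Odd (Fintype.card F) := by
    have := one_le_card_sub_one F
    obtain ⟨k, hk⟩ := h2q
    exact ⟨k, by omega⟩
  have h2 : (2 : F) ≠ 0 := by
    intro h20
    have hch : ringChar F = 2 := by
      have : ringChar F ∣ 2 := (ringChar.spec F 2).mp (by exact_mod_cast h20)
      rcases (Nat.dvd_prime Nat.prime_two).mp this with h | h
      · exact absurd h (CharP.ringChar_ne_one)
      · exact h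
    have := FiniteField.even_card_iff_char_two.mp hch
    rw [Nat.odd_iff] at hodd
    omega
  obtain ⟨τ, hτ⟩ := exists_tau (by omega) hR hr2 h4
  obtain ⟨G, hG⟩ := exists_gram_of_tau R hR.absIrr τ hτ
  rcases transpose_eq_or_eq_neg R hR.absIrr G hG with hs | hs
  · have hQ := isNondegenerateQuadraticForm_gram h2 G hs
    have hfix : FixesQuadForm (matrixSet R) (fun v : Fin n → F => gramForm (G : Matrix (Fin n) (Fin n) F) v v) := by
      rintro s ⟨g, hg, rfl⟩ v
      exact gramForm_mulVec _ _ (hG g hg) v v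
    refine InClass.of_quadratic H _ hQ hodd hn ?_
    intro h hh
    exact mem_quadSimilarityGroup_of_normalizes R hR.absIrr _ hQ hodd hfix h (fun x hx => hR.norm h hh x hx)
  · have hf := isSymplecticForm_gram h2 G hs
    have hfix : FixesForm (matrixSet R) (gramForm (G : Matrix (Fin n) (Fin n) F)) := by
      rintro s ⟨g, hg, rfl⟩ u v
      exact gramForm_mulVec _ _ (hG g hg) u v
    have hev : Even n := even_of_isSymplecticForm _ hf
    have h4n : 4 ≤ n := by
      obtain ⟨k, hk⟩ := hev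
      omega
    refine InClass.of_symplectic H _ hf hev h4n ?_
    intro h hh
    exact mem_similarityGroup_of_normalizes R hR.absIrr _ hf.bilinear hf.nondegenerate hfix h
      (fun x hx => hR.norm h hh x hx)

/-- **HALF B of block I6** -/
theorem exits (hn : 3 ≤ n) (hsub : ∀ F₀ : Subfield F, F₀ ≠ ⊤ → ¬ RealModScal F₀ H) (hR : SympCore H R r) :
    InClass H := by
  obtain ⟨p, e, hp, hc, hq, he0⟩ := exists_char_card F
  by_cases hz : r * Nat.gcd 2 r ∣ Fintype.card F - 1
  · have hmin := minimal_field hn hsub hR hz p e hp hc hq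
    by_cases he : Odd e
    · exact InClass.of_symplecticType H r R (linearSymplecticTypeData hn hR p e he0 hmin he)
        (le_subgroupNormalizer hR)
    · exact exit_unitary hn hR hz p e he0 hmin he
  · have hrq := r_dvd_card_sub_one (by omega) hR
    have hr2 : r = 2 := by
      by_contra hne
      have hg : Nat.gcd 2 r = 1 := by
        rw [Nat.coprime_comm.mp ((Nat.coprime_primes hR.prime Nat.prime_two).mpr hne)]
      rw [hg, mul_one] at hz
      exact hz hrq
    subst hr2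
    exact exit_bilinear hn hR rfl (by simpa using hz)

end Cfsg.Agent.Lib.Helper3.AschC6
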