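import Mathlib
import Cfsg.Prelude.Def_GeometricClasses
import Cfsg.Agent.Lib.Helper7.AschDefs
import Cfsg.Agent.Lib.Helper3.AschC6B

/-!
# Symplectic-type groups: the class-6 data in a form reusable by the form hubs S5662 / S5663 / S5673 (helper3)

`c6_core`: for `R` with `SympCore H R r`, `z = r·gcd(2,r) ∣ q - 1` and `R` realisable over no proper subfield:
`F` is the minimal field for `|Z(R)| = z`, `n = r^m`, `|R| = z·r^(2m)`, `r ≠ p`.
-/

set_option autoImplicit false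

namespace Cfsg.Agent.Lib.Helper3.AschC6

open Matrix Cfsg.Geo Cfsg.Agent.Lib.Helper7.Asch
open Cfsg.Agent.Lib.Helper26.S5630I6BGen Cfsg.Agent.Lib.Helper16.S5630I6BTau
open scoped commutatorElement

variable {F : Type*} [Field F] [Fintype F] {n : ℕ} {H R : Subgroup (GL (Fin n) F)} {r : ℕ}

/-- the field is minimal for `z = r·gcd(2,r)` when `z ∣ q - 1` and `R` is realisable over no proper subfield -/
theorem minimal_field' (hn : 2 ≤ n) (hreal : ∀ F₀ : Subfield F, F₀ ≠ ⊤ → ¬ RealisableOver F₀ (matrixSet R))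
    (hR : SympCore H R r) (hz : r * Nat.gcd 2 r ∣ Fintype.card F - 1) (p e : ℕ) (hp : p.Prime)
    (hc : CharP F p) (hq : Fintype.card F = p ^ e) : IsMinimalFieldFor (r * Nat.gcd 2 r) p e F := by
  refine ⟨hp, hc, hq, by rw [← hq]; exact hz, ?_⟩
  intro d hd0 hde hzd
  have hlt : p ^ d < Fintype.card F := by
    rw [hq]
    exact Nat.pow_lt_pow_right hp.one_lt hde
  obtain ⟨F₀, hF0, hfix⟩ := exists_subfield_pow p d hp hc hd0 hlt
  obtain ⟨B, hB⟩ := exists_monomial hn hR hz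
  have hroots : ∀ c : F, c ^ (r * Nat.gcd 2 r) = 1 → c ∈ F₀ := by
    intro c hc1
    apply hfix
    obtain ⟨k, hk⟩ := hzd
    have h1 : 1 ≤ p ^ d := Nat.one_le_pow _ _ hp.pos
    have h2 : p ^ d = (p ^ d - 1) + 1 := by omega
    rw [h2, pow_succ, hk, pow_mul, hc1, one_pow, one_mul]
  exact hreal F₀ hF0 (realisable_of_monomial R _ B hB F₀ hroots)

/-- **the class-6 data** (for all hubs) -/
theorem c6_core (hn : 2 ≤ n) (hreal : ∀ F₀ : Subfield F, F₀ ≠ ⊤ → ¬ RealisableOver F₀ (matrixSet R))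
    (hR : SympCore H R r) (hz : r * Nat.gcd 2 r ∣ Fintype.card F - 1) :
    ∃ p e m : ℕ, 0 < e ∧ r ≠ p ∧ IsMinimalFieldFor (Nat.card (Subgroup.center R)) p e F ∧
      Nat.card (Subgroup.center R) = r * Nat.gcd 2 r ∧ 1 ≤ m ∧ n = r ^ m ∧
      Nat.card R = (r * Nat.gcd 2 r) * r ^ (2 * m) := by
  obtain ⟨p, e, hp, hc, hq, he0⟩ := exists_char_card F
  have hmin := minimal_field' hn hreal hR hz p e hp hc hq
  have hcen : Nat.card (Subgroup.center R) = r * Nat.gcd 2 r := by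
    rw [card_center hn hR]
    exact Nat.gcd_eq_left hz
  obtain ⟨m, hm1, hnm⟩ := n_eq_pow hn hR
  have hcard := card_eq hn hR
  refine ⟨p, e, m, he0, r_ne_p hn hR p e hp hq he0, by rw [hcen]; exact hmin, hcen, hm1, hnm, ?_⟩
  rw [hcard, hcen, hnm]
  ring

/-- when `z ∤ q - 1`: `r = 2`, `q ≡ 3 (4)`, the centre of `R` is `±1`, `|R| = 2 n²`, `n = 2^m` -/
theorem c6_core_two (hn : 2 ≤ n) (hR : SympCore H R r) (hz : ¬ r * Nat.gcd 2 r ∣ Fintype.card F - 1) :
    r = 2 ∧ ¬ 4 ∣ Fintype.card F - 1 ∧ Odd (Fintype.card F) ∧ Nat.card (Subgroup.center R) = 2 ∧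
      ∃ m : ℕ, 1 ≤ m ∧ n = 2 ^ m ∧ Nat.card R = 2 ^ (1 + 2 * m) := by
  have hrq := r_dvd_card_sub_one hn hR
  have hr2 : r = 2 := by
    by_contra hne
    have hg : Nat.gcd 2 r = 1 := by
      rw [Nat.coprime_comm.mp ((Nat.coprime_primes hR.prime Nat.prime_two).mpr hne)]
    rw [hg, mul_one] at hz
    exact hz hrq
  subst hr2
  have h4 : ¬ 4 ∣ Fintype.card F - 1 := by simpa using hz
  have hodd : Odd (Fintype.card F) := by
    have := one_le_card_sub_one F
    obtain ⟨k, hk⟩ := hrq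
    exact ⟨k, by omega⟩
  have hcen : Nat.card (Subgroup.center R) = 2 := by
    rw [card_center hn hR]
    have hg : Nat.gcd 2 2 = 2 := rfl
    rw [hg]
    have h1 : Nat.gcd 4 (Fintype.card F - 1) ∣ 4 := Nat.gcd_dvd_left _ _
    have h2 : 2 ∣ Nat.gcd 4 (Fintype.card F - 1) := Nat.dvd_gcd (by norm_num) hrq
    have h3 : Nat.gcd 4 (Fintype.card F - 1) ≠ 4 := by
      intro h
      exact h4 (h ▸ Nat.gcd_dvd_right _ _)
    have h5 : Nat.gcd 4 (Fintype.card F - 1) ≤ 4 := Nat.le_of_dvd (by norm_num) h1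
    interval_cases hg' : Nat.gcd 4 (Fintype.card F - 1) <;> simp_all
  obtain ⟨m, hm1, hnm⟩ := n_eq_pow hn hR
  have hcard := card_eq hn hR
  refine ⟨rfl, h4, hodd, hcen, m, hm1, hnm, ?_⟩
  rw [hcard, hcen, hnm]
  ring

end Cfsg.Agent.Lib.Helper3.AschC6
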