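import Mathlib

/-!
The "model lemma" hypotheses of helper27's S2861 farm-out, their transport along an isomorphism,
and the case where `Y` has order 2 (valid in every group).
-/

set_option autoImplicit false

namespace Cfsg.Agent.Lib.Helper3.SzModel

/-- the common hypotheses of the model lemmas -/
structure Hyp {X : Type*} [Group X] (q : ℕ) (Y B V : Subgroup X) : Prop where
  yexp : ∀ a ∈ Y, a ^ 2 = 1
  ycard : Nat.card Y = q
  gen : Subgroup.normalClosure (Y : Set X) = ⊤
  yb : Y ≤ B
  bn : B ≤ Subgroup.normalizer (Y : Set X)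
  max : ∀ P : Subgroup X, Y ≤ P → P ≠ ⊤ → P ≤ B
  vb : V ≤ B
  vn : ∀ b ∈ B, ∀ v ∈ V, b * v * b⁻¹ ∈ V
  vexp : ∀ a ∈ V, a ^ 2 = 1
  v1 : V ≠ ⊥

section Transport

variable {X X' : Type*} [Group X] [Group X']

theorem map_eq_top (e : X ≃* X') {P : Subgroup X} (h : P.map e.toMonoidHom = ⊤) : P = ⊤ := by
  rw [eq_top_iff]
  intro x _
  have h1 : e x ∈ P.map e.toMonoidHom := by rw [h]; exact Subgroup.mem_top _
  obtain ⟨y, hy, hyx⟩ := h1
  have : y = x := e.injective hyx
  rwa [this] at hy

/-- transport of the hypotheses along an isomorphism -/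
theorem Hyp.map {q : ℕ} {Y B V : Subgroup X} (h : Hyp q Y B V) (e : X ≃* X') :
    Hyp q (Y.map e.toMonoidHom) (B.map e.toMonoidHom) (V.map e.toMonoidHom) where
  yexp := by
    rintro _ ⟨y, hy, rfl⟩
    have := h.yexp y hy
    change (e y) ^ 2 = 1
    rw [← map_pow, this, map_one]
  ycard := by
    rw [← h.ycard]
    exact (Nat.card_congr (Y.equivMapOfInjective e.toMonoidHom e.injective).toEquiv).symm
  gen := by
    have h1 := Subgroup.map_normalClosure (Y : Set X) e.toMonoidHom e.surjective
    rw [h.gen] at h1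
    have h2 : (⊤ : Subgroup X).map e.toMonoidHom = ⊤ := by
      rw [← MonoidHom.range_eq_map, MonoidHom.range_eq_top]
      exact e.surjective
    rw [h2] at h1
    rw [h1]
    congr 1
  yb := Subgroup.map_mono h.yb
  bn := by
    rintro _ ⟨b, hb, rfl⟩
    have hbn := h.bn hb
    rw [Subgroup.mem_normalizer_iff] at hbn ⊢
    intro z
    obtain ⟨x, rfl⟩ := e.surjective z
    constructor
    · rintro ⟨y, hy, hyx⟩
      have : y = x := e.injective hyx
      subst this
      exact ⟨b * y * b⁻¹, (hbn y).1 hy, by simp⟩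
    · rintro ⟨y, hy, hyx⟩
      have h3 : y = b * x * b⁻¹ := by
        apply e.injective
        have hyx' : e y = e b * e x * (e b)⁻¹ := hyx
        rw [hyx']
        simp
      rw [h3] at hy
      exact ⟨x, (hbn x).2 hy, rfl⟩
  max := by
    intro P hYP hP
    have h1 : Y ≤ P.comap e.toMonoidHom := by
      intro y hy
      exact hYP ⟨y, hy, rfl⟩
    have h2 : P.comap e.toMonoidHom ≠ ⊤ := by
      intro htop
      apply hP
      rw [eq_top_iff]
      intro z _
      obtain ⟨x, rfl⟩ := e.surjective z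
      have : x ∈ P.comap e.toMonoidHom := by rw [htop]; exact Subgroup.mem_top _
      exact this
    have h3 := h.max _ h1 h2
    intro z hz
    obtain ⟨x, rfl⟩ := e.surjective z
    exact ⟨x, h3 hz, rfl⟩
  vb := Subgroup.map_mono h.vb
  vn := by
    rintro _ ⟨b, hb, rfl⟩ _ ⟨v, hv, rfl⟩
    exact ⟨b * v * b⁻¹, h.vn b hb v hv, by simp⟩
  vexp := by
    rintro _ ⟨y, hy, rfl⟩
    have := h.vexp y hy
    change (e y) ^ 2 = 1
    rw [← map_pow, this, map_one]
  v1 := by
    intro hbot
    apply h.v1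
    rw [eq_bot_iff]
    intro v hv
    have : e v ∈ V.map e.toMonoidHom := ⟨v, hv, rfl⟩
    rw [hbot, Subgroup.mem_bot] at this
    rw [Subgroup.mem_bot]
    exact e.injective (this.trans (map_one e).symm)

/-- the conclusion pulls back -/
theorem eq_of_map_eq (e : X ≃* X') {V Y : Subgroup X}
    (h : V.map e.toMonoidHom = Y.map e.toMonoidHom) : V = Y :=
  Subgroup.map_injective e.injective h

end Transport

section CardTwo

variable {X : Type*} [Group X]

/-- an involution inverts its product with another involution -/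
theorem dihedral_swap {t s : X} (ht : t ^ 2 = 1) (hs : s ^ 2 = 1) (k : ℤ) :
    t * (t * s) ^ k = (t * s) ^ (-k) * t := by
  have hti : t⁻¹ = t := by
    rw [inv_eq_iff_mul_eq_one, ← pow_two]; exact ht
  have hsi : s⁻¹ = s := by
    rw [inv_eq_iff_mul_eq_one, ← pow_two]; exact hs
  have hconj : t * (t * s) * t⁻¹ = (t * s)⁻¹ := by
    rw [mul_inv_rev, hti, hsi, ← mul_assoc, ← pow_two, ht, one_mul]
  have hconjz : t * (t * s) ^ k * t⁻¹ = (t * s) ^ (-k) := by
    rw [← conj_zpow, hconj, inv_zpow, zpow_neg]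
  rw [← hconjz]
  group

/-- elements of the group generated by two involutions -/
theorem mem_dihedral {t s : X} (ht : t ^ 2 = 1) (hs : s ^ 2 = 1) (x : X)
    (hx : x ∈ Subgroup.closure ({t, s} : Set X)) :
    ∃ k : ℤ, x = (t * s) ^ k ∨ x = (t * s) ^ k * t := by
  have hti : t⁻¹ = t := by
    rw [inv_eq_iff_mul_eq_one, ← pow_two]; exact ht
  have hsi : s⁻¹ = s := by
    rw [inv_eq_iff_mul_eq_one, ← pow_two]; exact hs
  -- `t` inverts `r = t * s`
  have hconj : t * (t * s) * t⁻¹ = (t * s)⁻¹ := by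
    rw [mul_inv_rev, hti, hsi, ← mul_assoc, ← pow_two, ht, one_mul]
  have hconjz : ∀ k : ℤ, t * (t * s) ^ k * t⁻¹ = (t * s) ^ (-k) := by
    intro k
    rw [← conj_zpow, hconj, inv_zpow, zpow_neg]
  have hswap : ∀ k : ℤ, t * (t * s) ^ k = (t * s) ^ (-k) * t := by
    intro k
    have := hconjz k
    rw [← this]
    group
  induction hx using Subgroup.closure_induction with
  | mem y hy =>
    rcases hy with rfl | hy
    · exact ⟨0, Or.inr (by simp)⟩
    · rw [Set.mem_singleton_iff] at hy
      subst hy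
      refine ⟨-1, Or.inr ?_⟩
      rw [zpow_neg, zpow_one, mul_inv_rev, hti, hsi, mul_assoc, ← pow_two, ht, mul_one]
  | one => exact ⟨0, Or.inl (by simp)⟩
  | mul a b _ _ iha ihb =>
    obtain ⟨k, hk | hk⟩ := iha <;> obtain ⟨l, hl | hl⟩ := ihb
    · exact ⟨k + l, Or.inl (by rw [hk, hl, zpow_add])⟩
    · exact ⟨k + l, Or.inr (by rw [hk, hl, zpow_add, mul_assoc])⟩
    · refine ⟨k - l, Or.inr ?_⟩
      rw [hk, hl, mul_assoc, hswap, ← mul_assoc, ← zpow_add, sub_eq_add_neg]
    · refine ⟨k - l, Or.inl ?_⟩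
      rw [hk, hl, mul_assoc, ← mul_assoc t, hswap, mul_assoc, ← pow_two, ht, mul_one, ← zpow_add,
        sub_eq_add_neg]
  | inv a _ iha =>
    obtain ⟨k, hk | hk⟩ := iha
    · exact ⟨-k, Or.inl (by rw [hk, zpow_neg])⟩
    · refine ⟨k, Or.inr ?_⟩
      rw [hk, mul_inv_rev, hti, ← zpow_neg, hswap, neg_neg]

/-- the model lemma when `Y` has order 2: true in every group -/
theorem of_card_two {Y B V : Subgroup X} (h : Hyp 2 Y B V) : V = Y := by
  haveI : Finite Y := Nat.finite_of_card_ne_zero (by rw [h.ycard]; norm_num)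
  -- the generator
  obtain ⟨t, htY, ht1⟩ : ∃ t ∈ Y, t ≠ 1 := by
    by_contra hcon
    push Not at hcon
    have : Y = ⊥ := by
      rw [eq_bot_iff]
      intro y hy
      rw [Subgroup.mem_bot]
      exact hcon y hy
    have h2 := h.ycard
    rw [this, Subgroup.card_bot] at h2
    omega
  have ht2 : t ^ 2 = 1 := h.yexp t htY
  have hot : orderOf t = 2 := orderOf_eq_prime ht2 ht1
  have hYz : Subgroup.zpowers t = Y := by
    apply Subgroup.eq_of_le_of_card_ge
    · rw [Subgroup.zpowers_le]; exact htY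
    · rw [Nat.card_zpowers, hot, h.ycard]
  have hYmem : ∀ y ∈ Y, y = 1 ∨ y = t := by
    intro y hy
    rw [← hYz] at hy
    obtain ⟨k, rfl⟩ := Subgroup.mem_zpowers_iff.mp hy
    rcases Int.emod_two_eq_zero_or_one k with hk | hk
    · left
      have : k = 2 * (k / 2) := by omega
      rw [this, zpow_mul]
      have h3 : t ^ (2 : ℤ) = 1 := by
        have : t ^ (2 : ℤ) = t ^ (2 : ℕ) := by norm_cast
        rw [this, ht2]
      rw [h3, one_zpow]
    · right
      have : k = 2 * (k / 2) + 1 := by omega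
      rw [this, zpow_add, zpow_mul, zpow_one]
      have h3 : t ^ (2 : ℤ) = 1 := by
        have : t ^ (2 : ℤ) = t ^ (2 : ℕ) := by norm_cast
        rw [this, ht2]
      rw [h3, one_zpow, one_mul]
  -- elements of `B` commute with `t`
  have hBt : ∀ b ∈ B, b * t * b⁻¹ = t := by
    intro b hb
    have hbn := h.bn hb
    rw [Subgroup.mem_normalizer_iff] at hbn
    have h3 := (hbn t).1 htY
    rcases hYmem _ h3 with h4 | h4
    · exfalso
      apply ht1
      have : t = b⁻¹ * (b * t * b⁻¹) * b := by group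
      rw [this, h4]; group
    · exact h4
  -- it suffices to show `B ≤ Y`
  suffices hBY : B ≤ Y by
    apply le_antisymm (h.vb.trans hBY)
    obtain ⟨v, hvV, hv1⟩ : ∃ v ∈ V, v ≠ 1 := by
      by_contra hcon
      push Not at hcon
      apply h.v1
      rw [eq_bot_iff]
      intro y hy
      rw [Subgroup.mem_bot]
      exact hcon y hy
    have hvt : v = t := by
      rcases hYmem v (hBY (h.vb hvV)) with h5 | h5
      · exact absurd h5 hv1
      · exact h5
    rw [← hYz, Subgroup.zpowers_le, ← hvt]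
    exact hvV
  have hti : t⁻¹ = t := by
    rw [inv_eq_iff_mul_eq_one, ← pow_two]; exact ht2
  by_cases hall : ∀ g : X, Commute (g * t * g⁻¹) t
  · -- all conjugates of `t` commute with `t`: `t` is central and `Y = ⊤`
    have hcen : Subgroup.normalClosure (Y : Set X) ≤ Subgroup.centralizer ({t} : Set X) := by
      unfold Subgroup.normalClosure
      rw [Subgroup.closure_le]
      intro a ha
      obtain ⟨y, hy, hconj⟩ := Group.mem_conjugatesOfSet_iff.mp ha
      obtain ⟨g, hg⟩ := isConj_iff.mp hconj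
      rw [SetLike.mem_coe, Subgroup.mem_centralizer_iff]
      intro z hz
      rw [Set.mem_singleton_iff] at hz
      subst hz
      rcases hYmem y hy with h5 | h5
      · rw [← hg, h5]; simp
      · rw [← hg, h5]
        exact (hall g).eq.symm
    rw [h.gen] at hcen
    have hcentral : ∀ g : X, g * t * g⁻¹ = t := by
      intro g
      have : g ∈ Subgroup.centralizer ({t} : Set X) := hcen (Subgroup.mem_top g)
      have h5 := Subgroup.mem_centralizer_iff.mp this t rfl
      rw [← h5, mul_inv_cancel_right]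
    have hYtop : Y = ⊤ := by
      rw [← h.gen]
      apply le_antisymm Subgroup.le_normalClosure
      unfold Subgroup.normalClosure
      rw [Subgroup.closure_le]
      intro a ha
      obtain ⟨y, hy, hconj⟩ := Group.mem_conjugatesOfSet_iff.mp ha
      obtain ⟨g, hg⟩ := isConj_iff.mp hconj
      rw [SetLike.mem_coe, ← hg]
      rcases hYmem y hy with h5 | h5
      · rw [h5]; simp
      · rw [h5, hcentral g]; exact htY
    rw [hYtop]
    exact le_top
  · push Not at hall
    obtain ⟨g, hg⟩ := hall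
    obtain ⟨s, hsdef⟩ : ∃ s, s = g * t * g⁻¹ := ⟨_, rfl⟩
    rw [← hsdef] at hg
    have hs2 : s ^ 2 = 1 := by
      rw [hsdef, conj_pow, ht2]; group
    have hPtop : Subgroup.closure ({t, s} : Set X) = ⊤ := by
      by_contra hP
      have hYP : Y ≤ Subgroup.closure ({t, s} : Set X) := by
        rw [← hYz, Subgroup.zpowers_le]
        exact Subgroup.subset_closure (Set.mem_insert _ _)
      have hsB : s ∈ B := h.max _ hYP hP (Subgroup.subset_closure (Set.mem_insert_of_mem _ rfl))
      apply hg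
      have := hBt s hsB
      exact (mul_inv_eq_iff_eq_mul.mp this)
    have hmem : ∀ x : X, ∃ k : ℤ, x = (t * s) ^ k ∨ x = (t * s) ^ k * t := by
      intro x
      apply mem_dihedral ht2 hs2
      rw [hPtop]
      exact Subgroup.mem_top x
    have hsw := dihedral_swap ht2 hs2
    have hs_eq : s = (t * s) ^ (-1 : ℤ) * t := by
      have hsi : s⁻¹ = s := by
        rw [inv_eq_iff_mul_eq_one, ← pow_two]; exact hs2
      rw [zpow_neg, zpow_one, mul_inv_rev, hti, hsi, mul_assoc, ← pow_two, ht2, mul_one]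
    obtain ⟨r, hr⟩ : ∃ r, r = t * s := ⟨_, rfl⟩
    rw [← hr] at hs_eq
    simp only [← hr] at hmem hsw
    have htt : t * t = 1 := by rw [← pow_two]; exact ht2
    -- conjugating `t` by `r ^ k`
    have hconjr : ∀ k : ℤ, r ^ k * t * (r ^ k)⁻¹ = r ^ (2 * k) * t := by
      intro k
      rw [← zpow_neg, mul_assoc, hsw, neg_neg, ← mul_assoc, ← zpow_add, two_mul]
    have hconjrt : ∀ k : ℤ, (r ^ k * t) * t * (r ^ k * t)⁻¹ = r ^ (2 * k) * t := by
      intro k
      rw [mul_inv_rev, hti, ← hconjr k]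
      calc r ^ k * t * t * (t * (r ^ k)⁻¹) = r ^ k * (t * t) * t * (r ^ k)⁻¹ := by group
        _ = r ^ k * t * (r ^ k)⁻¹ := by rw [htt, mul_one]
    -- `r` has odd order
    obtain ⟨j, hj⟩ : ∃ j : ℤ, r ^ (2 * j + 1) = 1 := by
      obtain ⟨j, hj | hj⟩ := hmem g
      · refine ⟨j, ?_⟩
        have h6 : s = r ^ (2 * j) * t := by
          rw [hsdef, hj]; exact hconjr j
        have h7 : r ^ (-1 : ℤ) = r ^ (2 * j) := mul_right_cancel (hs_eq.symm.trans h6)
        rw [zpow_add, ← h7, zpow_one, zpow_neg, zpow_one, inv_mul_cancel]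
      · refine ⟨j, ?_⟩
        have h6 : s = r ^ (2 * j) * t := by
          rw [hsdef, hj]; exact hconjrt j
        have h7 : r ^ (-1 : ℤ) = r ^ (2 * j) := mul_right_cancel (hs_eq.symm.trans h6)
        rw [zpow_add, ← h7, zpow_one, zpow_neg, zpow_one, inv_mul_cancel]
    have hkill : ∀ k : ℤ, r ^ (2 * k) = 1 → r ^ k = 1 := by
      intro k hk
      have : k = (2 * j + 1) * k + (2 * k) * (-j) := by ring
      rw [this, zpow_add, zpow_mul, zpow_mul r (2 * k), hj, hk, one_zpow, one_zpow, one_mul]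
    intro b hb
    have hbt := hBt b hb
    obtain ⟨k, hk | hk⟩ := hmem b
    · have h6 : r ^ (2 * k) * t = t := by
        rw [← hconjr k, ← hk, hbt]
      have h7 : r ^ (2 * k) = 1 := mul_right_cancel (h6.trans (one_mul t).symm)
      rw [hk, hkill k h7]
      exact Y.one_mem
    · have h6 : r ^ (2 * k) * t = t := by
        rw [← hconjrt k, ← hk, hbt]
      have h7 : r ^ (2 * k) = 1 := mul_right_cancel (h6.trans (one_mul t).symm)
      rw [hk, hkill k h7, one_mul]
      exact htY

end CardTwo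

end Cfsg.Agent.Lib.Helper3.SzModel
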