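import Cfsg.Agent.Lib.Helper18.ONM.Conj

/-!
# S2052-[LIFT-I] (helper3): normalised lifts for a kernel of exponent 2

`σ : Γ →* P` onto the O'Nan group with central kernel of exponent `2`, all lifts of `a` involutions.  Then all
lifts of involutions conjugate to `a` are involutions (`conjI`), so the squares, the relators of commuting pairs
and `(c d)^8` hold for arbitrary lifts of the generators.  Seven successive corrections of the lifts by central
elements (the values of the relators `(a b)^3`, `(b c)^3`, `(d e)^3`, `(e f)^3`, `R6`, `r2`, `R5`) make the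
remaining relators of `exactI` exact; each correction multiplies the value of a word by the correcting element
to the power of the number of occurrences of the corrected generators (`evc_tw`), and these numbers are even for
the relators established before.
-/

set_option autoImplicit false
set_option maxRecDepth 100000
set_option linter.unusedVariables false

namespace Cfsg.Agent.Lib.Helper18.ONM

open Cfsg Cfsg.Agent.Helper4.TC

namespace H3LiftI

variable {Γ : Type} [Group Γ]

/-! ### the letters -/

theorem gl0 (g : Gen → Γ) : gl g (dec 0) = g .g := rfl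
theorem gl1 (g : Gen → Γ) : gl g (dec 1) = (g .g)⁻¹ := rfl
theorem gl2 (g : Gen → Γ) : gl g (dec 2) = g .a := rfl
theorem gl3 (g : Gen → Γ) : gl g (dec 3) = (g .a)⁻¹ := rfl
theorem gl4 (g : Gen → Γ) : gl g (dec 4) = g .b := rfl
theorem gl5 (g : Gen → Γ) : gl g (dec 5) = (g .b)⁻¹ := rfl
theorem gl6 (g : Gen → Γ) : gl g (dec 6) = g .c := rfl
theorem gl7 (g : Gen → Γ) : gl g (dec 7) = (g .c)⁻¹ := rfl
theorem gl8 (g : Gen → Γ) : gl g (dec 8) = g .d := rfl
theorem gl9 (g : Gen → Γ) : gl g (dec 9) = (g .d)⁻¹ := rfl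
theorem gl10 (g : Gen → Γ) : gl g (dec 10) = g .e := rfl
theorem gl11 (g : Gen → Γ) : gl g (dec 11) = (g .e)⁻¹ := rfl
theorem gl12 (g : Gen → Γ) : gl g (dec 12) = g .f := rfl
theorem gl13 (g : Gen → Γ) : gl g (dec 13) = (g .f)⁻¹ := rfl

/-! ### corrections by a central involution -/

/-- the number of letters of a code word whose generator lies in `S` -/
def cnt (S : Gen → Bool) : List ℕ → ℕ
  | [] => 0
  | c :: u => cnt S u + (if S (dec c).1 = true then 1 else 0)

/-- multiply the lifts of the generators in `S` by `s` -/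
def tw (g : Gen → Γ) (S : Gen → Bool) (s : Γ) : Gen → Γ :=
  fun x => if S x = true then g x * s else g x

theorem gl_tw (g : Gen → Γ) (S : Gen → Bool) (s : Γ) (hs : ∀ y : Γ, y * s = s * y)
    (hss : s * s = 1) (l : Letter Gen) :
    gl (tw g S s) l = gl g l * (if S l.1 = true then s else 1) := by
  rcases l with ⟨x, b⟩
  have hsi : s⁻¹ = s := inv_eq_of_mul_eq_one_left hss
  unfold gl tw
  cases hS : S x
  · cases b
    · simp only [Bool.false_eq_true, if_false, mul_one]
    · simp only [Bool.false_eq_true, if_false, if_true, mul_one]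
  · cases b
    · simp only [if_true, Bool.false_eq_true, if_false, mul_inv_rev, hsi]
      exact (hs _).symm
    · simp only [if_true]

theorem evc_tw (g : Gen → Γ) (S : Gen → Bool) (s : Γ) (hs : ∀ y : Γ, y * s = s * y)
    (hss : s * s = 1) (b : List ℕ) :
    evc (tw g S s) dec b = evc g dec b * s ^ cnt S b := by
  induction b with
  | nil => simp only [evc_nil, cnt, pow_zero, mul_one]
  | cons c u ih =>
    have hcomm : ∀ (n : ℕ) (y : Γ), y * s ^ n = s ^ n * y := fun n y =>
      ((show Commute y s from hs y).pow_right n)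
    rw [evc_cons, evc_cons, ih, gl_tw g S s hs hss, cnt]
    cases hS : S (dec c).1
    · simp only [Bool.false_eq_true, if_false, mul_one, add_zero]
      rw [mul_assoc, ← hcomm, mul_assoc]
    · simp only [if_true]
      rw [pow_succ, mul_assoc, mul_assoc, ← mul_assoc (s ^ cnt S u), ← hcomm, mul_assoc]

theorem pow_of_sq (s : Γ) (hss : s * s = 1) (n : ℕ) : s ^ n = s ^ (n % 2) := by
  conv_lhs => rw [← Nat.div_add_mod n 2]
  rw [pow_add, pow_mul, pow_two, hss, one_pow, one_mul]

theorem evc_tw_even (g : Gen → Γ) (S : Gen → Bool) (s : Γ) (hs : ∀ y : Γ, y * s = s * y)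
    (hss : s * s = 1) (b : List ℕ) (hb : cnt S b % 2 = 0) :
    evc (tw g S s) dec b = evc g dec b := by
  rw [evc_tw g S s hs hss, pow_of_sq s hss, hb, pow_zero, mul_one]

theorem evc_tw_odd (g : Gen → Γ) (S : Gen → Bool) (s : Γ) (hs : ∀ y : Γ, y * s = s * y)
    (hss : s * s = 1) (b : List ℕ) (hb : cnt S b % 2 = 1) (hv : evc g dec b = s) :
    evc (tw g S s) dec b = 1 := by
  rw [evc_tw g S s hs hss, pow_of_sq s hss, hb, pow_one, hv, hss]

/-! ### the setting -/

section Setting

variable (σ : Γ →* P)

/-- one correction step -/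
theorem step (hP : RelPOK) (hc : σ.ker ≤ Subgroup.center Γ) (hexp : ∀ z ∈ σ.ker, z ^ 2 = 1)
    (g : Gen → Γ) (hg : ∀ x, σ (g x) = PresentedGroup.of x) (S : Gen → Bool) (b : List ℕ)
    (hb : b ∈ relP) (hodd : cnt S b % 2 = 1) :
    ∃ g' : Gen → Γ, (∀ x, σ (g' x) = PresentedGroup.of x) ∧ evc g' dec b = 1 ∧
      ∀ b' : List ℕ, cnt S b' % 2 = 0 → evc g' dec b' = evc g dec b' := by
  have hker : evc g dec b ∈ σ.ker := by
    rw [MonoidHom.mem_ker, Schur.map_evc]
    have : (fun x => σ (g x)) = PresentedGroup.of := funext hg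
    rw [this]
    exact hP b hb
  have hs : ∀ y : Γ, y * evc g dec b = evc g dec b * y := Subgroup.mem_center_iff.mp (hc hker)
  have hss : evc g dec b * evc g dec b = 1 := by
    have := hexp _ hker
    rwa [pow_two] at this
  refine ⟨tw g S (evc g dec b), ?_, ?_, ?_⟩
  · intro x
    unfold tw
    split_ifs
    · rw [map_mul, hg, MonoidHom.mem_ker.mp hker, mul_one]
    · exact hg x
  · exact evc_tw_odd g S _ hs hss b hodd rfl
  · intro b' hb'
    exact evc_tw_even g S _ hs hss b' hb'

/-- lifts of conjugates of `a` are involutions -/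
theorem sq_of_conj (hs : Function.Surjective σ)
    (hsq : ∀ γ : Γ, σ γ = PresentedGroup.of Cfsg.Spor.ON.Gen.a → γ ^ 2 = 1) (γ : Γ) (U : P)
    (h : σ γ = U * PresentedGroup.of Cfsg.Spor.ON.Gen.a * U⁻¹) : γ * γ = 1 := by
  obtain ⟨u, rfl⟩ := hs U
  have h1 : σ (u⁻¹ * γ * u) = PresentedGroup.of Cfsg.Spor.ON.Gen.a := by
    rw [map_mul, map_mul, map_inv, h]
    group
  have h2 := hsq _ h1
  have h3 : (u⁻¹ * γ * u) ^ 2 = u⁻¹ * (γ * γ) * u := by
    rw [pow_two]; group
  rw [h3] at h2
  have h4 : γ * γ = u * (u⁻¹ * (γ * γ) * u) * u⁻¹ := by group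
  rw [h4, h2]
  group

/-- the words of `conjI` evaluate to involutions for all lifts -/
theorem sq_conjI (hconj : ConjOK) (hs : Function.Surjective σ)
    (hsq : ∀ γ : Γ, σ γ = PresentedGroup.of Cfsg.Spor.ON.Gen.a → γ ^ 2 = 1)
    (g : Gen → Γ) (hg : ∀ x, σ (g x) = PresentedGroup.of x) (w u : List ℕ) (hw : (w, u) ∈ conjI) :
    evc g dec w * evc g dec w = 1 := by
  apply sq_of_conj σ hs hsq _ (evc (PresentedGroup.of (rels := RP)) dec u)
  rw [Schur.map_evc]
  have : (fun x => σ (g x)) = PresentedGroup.of := funext hg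
  rw [this]
  exact hconj (w, u) hw

end Setting

/-! ### group identities -/

theorem comm_of_sq {x y : Γ} (h : y * x * (y * x) = 1) : x * y * x * y = 1 := by
  have h1 : x * y * x * y = x * (y * x * (y * x)) * x⁻¹ := by group
  rw [h1, h, mul_one, mul_inv_cancel]

theorem comm_of_sq' {x y : Γ} (h : y * x * (y * x) = 1) : y * x * y * x = 1 := by
  rw [← h]; group

theorem ord3_swap {x y : Γ} (h : x * y * x * y * x * y = 1) : y * x * y * x * y * x = 1 := by
  have h1 : y * x * y * x * y * x = y * (x * y * x * y * x * y) * y⁻¹ := by group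
  rw [h1, h, mul_one, mul_inv_cancel]

/-- `(c d)^8 = 1` and `(d c)^8 = 1` from the value `W` of `r2` -/
theorem ord8 {A F C D W : Γ} (hC : C * C = 1) (hD : D * D = 1) (hA : A * A = 1) (hF : F * F = 1)
    (hAF : F * A * (F * A) = 1) (hWc : ∀ y : Γ, y * W = W * y) (hWW : W * W = 1)
    (hW : A * F * D⁻¹ * C⁻¹ * D⁻¹ * C⁻¹ * D⁻¹ * C⁻¹ * D⁻¹ * C⁻¹ = W) :
    C * D * C * D * C * D * C * D * C * D * C * D * C * D * C * D = 1 ∧
      D * C * D * C * D * C * D * C * D * C * D * C * D * C * D * C = 1 := by
  have hCi : C⁻¹ = C := inv_eq_of_mul_eq_one_left hC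
  have hDi : D⁻¹ = D := inv_eq_of_mul_eq_one_left hD
  have hAi : A⁻¹ = A := inv_eq_of_mul_eq_one_left hA
  have hFi : F⁻¹ = F := inv_eq_of_mul_eq_one_left hF
  rw [hCi, hDi] at hW
  -- `Y = (d c)^4 = F A W`
  have hY : D * C * D * C * D * C * D * C = F * A * W := by
    have : D * C * D * C * D * C * D * C = F⁻¹ * A⁻¹ * (A * F * D * C * D * C * D * C * D * C) := by
      group
    rw [this, hW, hFi, hAi]
  have hYY : D * C * D * C * D * C * D * C * (D * C * D * C * D * C * D * C) = 1 := by
    rw [hY]
    have : F * A * W * (F * A * W) = F * A * (W * (F * A)) * W := by group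
    rw [this, ← hWc (F * A)]
    have : F * A * (F * A * W) * W = F * A * (F * A) * (W * W) := by group
    rw [this, hAF, hWW, mul_one]
  have hX : C * D * C * D * C * D * C * D = (D * C * D * C * D * C * D * C)⁻¹ := by
    rw [eq_inv_iff_mul_eq_one]
    have : C * D * C * D * C * D * C * D * (D * C * D * C * D * C * D * C) =
        C * (D * (C * (D * (C * (D * (C * (D * D) * C) * D) * C) * D) * C) * D) * C := by group
    rw [this, hD, mul_one, hC, mul_one, hD, mul_one, hC, mul_one, hD, mul_one, hC, mul_one, hD,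
      mul_one, hC]
  constructor
  · have : C * D * C * D * C * D * C * D * C * D * C * D * C * D * C * D =
        C * D * C * D * C * D * C * D * (C * D * C * D * C * D * C * D) := by group
    rw [this, hX, ← mul_inv_rev, hYY, inv_one]
  · have : D * C * D * C * D * C * D * C * D * C * D * C * D * C * D * C =
        D * C * D * C * D * C * D * C * (D * C * D * C * D * C * D * C) := by group
    rw [this, hYY]

/-! ### the sets of generators to be corrected -/

def Sa : Gen → Bool := fun x => match x with | .a => true | _ => false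
def Sc : Gen → Bool := fun x => match x with | .c => true | _ => false
def Sd : Gen → Bool := fun x => match x with | .d => true | _ => false
def Sf : Gen → Bool := fun x => match x with | .f => true | _ => false
def Sabc : Gen → Bool := fun x => match x with | .a => true | .b => true | .c => true | _ => false
def Sdef : Gen → Bool := fun x => match x with | .d => true | .e => true | .f => true | _ => false
def Sg : Gen → Bool := fun x => match x with | .g => true | _ => false

def wAB : List ℕ := [4, 2, 4, 2, 4, 2]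
def wBC : List ℕ := [6, 4, 6, 4, 6, 4]
def wDE : List ℕ := [10, 8, 10, 8, 10, 8]
def wEF : List ℕ := [12, 10, 12, 10, 12, 10]

theorem wAB_mem : wAB ∈ relP := by decide
theorem wBC_mem : wBC ∈ relP := by decide
theorem wDE_mem : wDE ∈ relP := by decide
theorem wEF_mem : wEF ∈ relP := by decide
theorem r2_mem : r2 ∈ relP := by decide
theorem R5_mem : R5 ∈ relP := by decide
theorem R6_mem : R6 ∈ relP := by decide

end H3LiftI

open H3LiftI in
/-- [LIFT-I] kernel of exponent 2 in which the lifts of `a` are involutions: suitably normalised lifts satisfy `exactI` -/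
theorem exists_lifts_I (hP : RelPOK) (hconj : ConjOK)
    {Γ : Type} [Group Γ] [Finite Γ] (σ : Γ →* P) (hs : Function.Surjective σ)
    (hc : σ.ker ≤ Subgroup.center Γ) (hexp : ∀ z ∈ σ.ker, z ^ 2 = 1)
    (hsq : ∀ γ : Γ, σ γ = PresentedGroup.of Cfsg.Spor.ON.Gen.a → γ ^ 2 = 1) :
    ∃ g : Gen → Γ, (∀ x, σ (g x) = PresentedGroup.of x) ∧ ∀ b ∈ exactI, evc g dec b = 1 := by
  classical
  -- arbitrary lifts
  have hex : ∀ x : Gen, ∃ y : Γ, σ y = PresentedGroup.of x := fun x => hs _
  choose g0 hg0 using hex
  -- the seven corrections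
  obtain ⟨g1, hg1, hAB1, hp1⟩ := step σ hP hc hexp g0 hg0 Sa wAB wAB_mem (by decide)
  obtain ⟨g2, hg2, hBC2, hp2⟩ := step σ hP hc hexp g1 hg1 Sc wBC wBC_mem (by decide)
  have hAB2 : evc g2 dec wAB = 1 := by rw [hp2 wAB (by decide), hAB1]
  obtain ⟨g3, hg3, hDE3, hp3⟩ := step σ hP hc hexp g2 hg2 Sd wDE wDE_mem (by decide)
  have hAB3 : evc g3 dec wAB = 1 := by rw [hp3 wAB (by decide), hAB2]
  have hBC3 : evc g3 dec wBC = 1 := by rw [hp3 wBC (by decide), hBC2]
  obtain ⟨g4, hg4, hEF4, hp4⟩ := step σ hP hc hexp g3 hg3 Sf wEF wEF_mem (by decide)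
  have hAB4 : evc g4 dec wAB = 1 := by rw [hp4 wAB (by decide), hAB3]
  have hBC4 : evc g4 dec wBC = 1 := by rw [hp4 wBC (by decide), hBC3]
  have hDE4 : evc g4 dec wDE = 1 := by rw [hp4 wDE (by decide), hDE3]
  obtain ⟨g5, hg5, hR65, hp5⟩ := step σ hP hc hexp g4 hg4 Sabc R6 R6_mem (by decide)
  have hAB5 : evc g5 dec wAB = 1 := by rw [hp5 wAB (by decide), hAB4]
  have hBC5 : evc g5 dec wBC = 1 := by rw [hp5 wBC (by decide), hBC4]
  have hDE5 : evc g5 dec wDE = 1 := by rw [hp5 wDE (by decide), hDE4]
  have hEF5 : evc g5 dec wEF = 1 := by rw [hp5 wEF (by decide), hEF4]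
  obtain ⟨g6, hg6, hr26, hp6⟩ := step σ hP hc hexp g5 hg5 Sdef r2 r2_mem (by decide)
  have hAB6 : evc g6 dec wAB = 1 := by rw [hp6 wAB (by decide), hAB5]
  have hBC6 : evc g6 dec wBC = 1 := by rw [hp6 wBC (by decide), hBC5]
  have hDE6 : evc g6 dec wDE = 1 := by rw [hp6 wDE (by decide), hDE5]
  have hEF6 : evc g6 dec wEF = 1 := by rw [hp6 wEF (by decide), hEF5]
  have hR66 : evc g6 dec R6 = 1 := by rw [hp6 R6 (by decide), hR65]
  obtain ⟨g, hg, hR5, hp7⟩ := step σ hP hc hexp g6 hg6 Sg R5 R5_mem (by decide)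
  have hAB : evc g dec wAB = 1 := by rw [hp7 wAB (by decide), hAB6]
  have hBC : evc g dec wBC = 1 := by rw [hp7 wBC (by decide), hBC6]
  have hDE : evc g dec wDE = 1 := by rw [hp7 wDE (by decide), hDE6]
  have hEF : evc g dec wEF = 1 := by rw [hp7 wEF (by decide), hEF6]
  have hR6 : evc g dec R6 = 1 := by rw [hp7 R6 (by decide), hR66]
  have hr2 : evc g dec r2 = 1 := by rw [hp7 r2 (by decide), hr26]
  refine ⟨g, hg, ?_⟩
  -- the involutions
  have hI : ∀ w ∈ conjI.map Prod.fst, evc g dec w * evc g dec w = 1 := by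
    intro w hw
    obtain ⟨p, hp, rfl⟩ := List.mem_map.mp hw
    exact sq_conjI σ hconj hs hsq g hg p.1 p.2 hp
  have hA : g .a * g .a = 1 := by
    have := hsq (g .a) (hg .a)
    rwa [pow_two] at this
  have hB : g .b * g .b = 1 := by
    have := hI [4] (by decide)
    simpa only [evc_cons, evc_nil, one_mul, gl4] using this
  have hC : g .c * g .c = 1 := by
    have := hI [6] (by decide)
    simpa only [evc_cons, evc_nil, one_mul, gl6] using this
  have hD : g .d * g .d = 1 := by
    have := hI [8] (by decide)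
    simpa only [evc_cons, evc_nil, one_mul, gl8] using this
  have hE : g .e * g .e = 1 := by
    have := hI [10] (by decide)
    simpa only [evc_cons, evc_nil, one_mul, gl10] using this
  have hF : g .f * g .f = 1 := by
    have := hI [12] (by decide)
    simpa only [evc_cons, evc_nil, one_mul, gl12] using this
  have hAC : g .c * g .a * (g .c * g .a) = 1 := by
    have := hI [2, 6] (by decide)
    simpa only [evc_cons, evc_nil, one_mul, gl2, gl6] using this
  have hAD : g .d * g .a * (g .d * g .a) = 1 := by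
    have := hI [2, 8] (by decide)
    simpa only [evc_cons, evc_nil, one_mul, gl2, gl8] using this
  have hAE : g .e * g .a * (g .e * g .a) = 1 := by
    have := hI [2, 10] (by decide)
    simpa only [evc_cons, evc_nil, one_mul, gl2, gl10] using this
  have hAF : g .f * g .a * (g .f * g .a) = 1 := by
    have := hI [2, 12] (by decide)
    simpa only [evc_cons, evc_nil, one_mul, gl2, gl12] using this
  have hBD : g .d * g .b * (g .d * g .b) = 1 := by
    have := hI [4, 8] (by decide)
    simpa only [evc_cons, evc_nil, one_mul, gl4, gl8] using this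
  have hBE : g .e * g .b * (g .e * g .b) = 1 := by
    have := hI [4, 10] (by decide)
    simpa only [evc_cons, evc_nil, one_mul, gl4, gl10] using this
  have hBF : g .f * g .b * (g .f * g .b) = 1 := by
    have := hI [4, 12] (by decide)
    simpa only [evc_cons, evc_nil, one_mul, gl4, gl12] using this
  have hCE : g .e * g .c * (g .e * g .c) = 1 := by
    have := hI [6, 10] (by decide)
    simpa only [evc_cons, evc_nil, one_mul, gl6, gl10] using this
  have hCF : g .f * g .c * (g .f * g .c) = 1 := by
    have := hI [6, 12] (by decide)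
    simpa only [evc_cons, evc_nil, one_mul, gl6, gl12] using this
  have hDF : g .f * g .d * (g .f * g .d) = 1 := by
    have := hI [8, 12] (by decide)
    simpa only [evc_cons, evc_nil, one_mul, gl8, gl12] using this
  -- the relators of order three
  have hAB' : g .a * g .b * g .a * g .b * g .a * g .b = 1 := by
    simpa only [wAB, evc_cons, evc_nil, one_mul, gl2, gl4] using hAB
  have hBC' : g .b * g .c * g .b * g .c * g .b * g .c = 1 := by
    simpa only [wBC, evc_cons, evc_nil, one_mul, gl4, gl6] using hBC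
  have hDE' : g .d * g .e * g .d * g .e * g .d * g .e = 1 := by
    simpa only [wDE, evc_cons, evc_nil, one_mul, gl8, gl10] using hDE
  have hEF' : g .e * g .f * g .e * g .f * g .e * g .f = 1 := by
    simpa only [wEF, evc_cons, evc_nil, one_mul, gl10, gl12] using hEF
  -- `(c d)^8`
  have hr2' : g .a * g .f * (g .d)⁻¹ * (g .c)⁻¹ * (g .d)⁻¹ * (g .c)⁻¹ * (g .d)⁻¹ * (g .c)⁻¹ *
      (g .d)⁻¹ * (g .c)⁻¹ = 1 := by
    simpa only [r2, evc_cons, evc_nil, one_mul, gl2, gl12, gl7, gl9] using hr2
  obtain ⟨hCD8, hDC8⟩ := ord8 hC hD hA hF hAF (fun y => by rw [mul_one, one_mul]) (mul_one 1) hr2'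
  -- all the relators
  intro b hb
  unfold exactI at hb
  rcases List.mem_append.mp hb with hb | hb
  · unfold coxL at hb
    simp only [List.mem_cons, List.not_mem_nil, or_false] at hb
    rcases hb with rfl | rfl | rfl | rfl | rfl | rfl | rfl | rfl | rfl | rfl | rfl | rfl | rfl | rfl |
      rfl | rfl | rfl | rfl | rfl | rfl | rfl | rfl | rfl | rfl | rfl | rfl | rfl | rfl | rfl | rfl |
      rfl | rfl | rfl | rfl | rfl | rfl
    all_goals simp only [evc_cons, evc_nil, one_mul, gl2, gl4, gl6, gl8, gl10, gl12]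
    · exact hA
    · exact hAB'
    · exact comm_of_sq hAC
    · exact comm_of_sq hAD
    · exact comm_of_sq hAE
    · exact comm_of_sq hAF
    · exact ord3_swap hAB'
    · exact hB
    · exact hBC'
    · exact comm_of_sq hBD
    · exact comm_of_sq hBE
    · exact comm_of_sq hBF
    · exact comm_of_sq' hAC
    · exact ord3_swap hBC'
    · exact hC
    · exact hCD8
    · exact comm_of_sq hCE
    · exact comm_of_sq hCF
    · exact comm_of_sq' hAD
    · exact comm_of_sq' hBD
    · exact hDC8
    · exact hD
    · exact hDE'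
    · exact comm_of_sq hDF
    · exact comm_of_sq' hAE
    · exact comm_of_sq' hBE
    · exact comm_of_sq' hCE
    · exact ord3_swap hDE'
    · exact hE
    · exact hEF'
    · exact comm_of_sq' hAF
    · exact comm_of_sq' hBF
    · exact comm_of_sq' hCF
    · exact comm_of_sq' hDF
    · exact ord3_swap hEF'
    · exact hF
  · simp only [List.mem_cons, List.not_mem_nil, or_false] at hb
    rcases hb with rfl | rfl | rfl
    · exact hr2
    · exact hR5
    · exact hR6

end Cfsg.Agent.Lib.Helper18.ONM
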