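import Mathlib
import Cfsg.Agent.Lib.Helper3.CardSL
import Cfsg.Agent.Lib.Helper6.AutPSL9
import Cfsg.Agent.S0265

/-!
# A group with a normal `PSL₂(p)` of index two and trivial centraliser is `PGL₂(p)` (helper3)
-/

set_option autoImplicit false
set_option linter.unusedVariables false
set_option linter.unusedSectionVars false
set_option linter.style.longLine false

namespace Cfsg.Agent.Lib.Helper3.PP1

open Cfsg.Agent.Lib.Helper6.AutPSL

theorem cPbar_injective {F : Type*} [Field F] :
    Function.Injective (cPbar (ι := Fin 2) (F := F)) := by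
  intro x y h
  obtain ⟨g, rfl⟩ := QuotientGroup.mk_surjective x
  obtain ⟨g', rfl⟩ := QuotientGroup.mk_surjective y
  rw [cPbar_mk, cPbar_mk] at h
  have h2 : (cP g * fP (1 : RingAut F) : MulAut (Matrix.ProjectiveSpecialLinearGroup (Fin 2) F)) =
      cP g' * fP (1 : RingAut F) := by rw [h]
  obtain ⟨-, h3⟩ := decomp_unique (by rw [Fintype.card_fin]) g g' 1 1 h2
  exact (QuotientGroup.eq.mpr h3).symm

theorem pgl_of_normal_psl {G : Type*} [Group G] [Finite G] (p : ℕ) [Fact p.Prime]
    (N : Subgroup G) [N.Normal]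
    (e : N ≃* Matrix.ProjectiveSpecialLinearGroup (Fin 2) (ZMod p))
    (hcent : ∀ c : G, (∀ n ∈ N, c * n = n * c) → c = 1)
    (hcard : Nat.card G = p * (p ^ 2 - 1)) :
    Nonempty (G ≃* Matrix.ProjGenLinGroup (Fin 2) (ZMod p)) := by
  classical
  have hcF : Fintype.card (ZMod p) = p ^ 1 := by rw [ZMod.card, pow_one]
  have hA := card_aut_two (F := ZMod p) hcF le_rfl
  rw [one_mul] at hA
  have hPGL : Nat.card (GL (Fin 2) (ZMod p) ⧸ Subgroup.center (GL (Fin 2) (ZMod p))) =
      p * (p ^ 2 - 1) := by
    have h1 := Cfsg.Agent.S0265.result (F := ZMod p) 2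
    have h2 : Nat.card (Matrix.ProjGenLinGroup (Fin 2) (ZMod p)) =
        Nat.card (GL (Fin 2) (ZMod p) ⧸ Subgroup.center (GL (Fin 2) (ZMod p))) := rfl
    rw [← h2, h1, Cfsg.Agent.Lib.Helper3.CardSL.card_SL2, ZMod.card]
  haveI : Finite (MulAut (Matrix.ProjectiveSpecialLinearGroup (Fin 2) (ZMod p))) := by
    apply Nat.finite_of_card_ne_zero
    rw [hA, hPGL]
    have := (Fact.out : p.Prime).two_le
    have h3 : 0 < p ^ 2 - 1 := by
      have : 4 ≤ p ^ 2 := by nlinarith
      omega
    positivity
  let φ : G →* MulAut (Matrix.ProjectiveSpecialLinearGroup (Fin 2) (ZMod p)) :=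
    (MulAut.congr e).toMonoidHom.comp (MulAut.conjNormal (H := N))
  have hφinj : Function.Injective φ := by
    rw [injective_iff_map_eq_one]
    intro c hc
    have h1 : (MulAut.congr e) (MulAut.conjNormal (H := N) c) = 1 := hc
    have h2 : MulAut.conjNormal (H := N) c = 1 := by
      have := (MulAut.congr e).injective (h1.trans (map_one _).symm)
      exact this
    apply hcent
    intro n hn
    have h3 := congrArg (fun f : MulAut N => ((f ⟨n, hn⟩ : N) : G)) h2
    simp only [MulAut.conjNormal_apply, MulAut.one_apply] at h3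
    calc c * n = (c * n * c⁻¹) * c := by group
      _ = n * c := by rw [h3]
  have hφbij : Function.Bijective φ :=
    hφinj.bijective_of_nat_card_le (by rw [hA, hPGL, hcard])
  have hcbij : Function.Bijective (cPbar (ι := Fin 2) (F := ZMod p)) :=
    cPbar_injective.bijective_of_nat_card_le (by rw [hA])
  exact ⟨(MulEquiv.ofBijective φ hφbij).trans (MulEquiv.ofBijective _ hcbij).symm⟩

end Cfsg.Agent.Lib.Helper3.PP1
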