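import Mathlib

/-!
# Helper3: a sharply 3-transitive group whose two-point stabiliser has an invariant subgroup of
index two is not simple (S0344).
-/

set_option autoImplicit false

namespace Cfsg.Agent.Lib.Helper3.Sharp3

section NotSimple

variable {G Ω : Type*} [Group G] [MulAction G Ω]

/-- The data: `K` the regular normal subgroup of `G_a`, `H = G_{a,b}`, `H₁ ≤ H` of index two. -/
structure Setup (a b : Ω) (K H H₁ : Subgroup G) : Prop where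
  hab : a ≠ b
  hKa : ∀ τ ∈ K, τ • a = a
  hKreg : ∀ x : Ω, x ≠ a → ∃ τ ∈ K, τ • b = x
  hKfix : ∀ τ ∈ K, τ ≠ 1 → ∀ x : Ω, τ • x = x → x = a
  hKn : ∀ g : G, g • a = a → ∀ τ ∈ K, g * τ * g⁻¹ ∈ K
  hmem : ∀ g : G, g ∈ H ↔ g • a = a ∧ g • b = b
  hHtrans : ∀ x y : Ω, x ≠ a → x ≠ b → y ≠ a → y ≠ b → ∃ h ∈ H, h • x = y
  hH₁ : H₁ ≤ H
  hidx : ∀ x ∈ H, ∀ y ∈ H, (x * y ∈ H₁ ↔ (x ∈ H₁ ↔ y ∈ H₁))

/-- An element interchanging `a` and `b`, normalising `H₁`, with square in `H₁`. -/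
structure Swapper (a b : Ω) (H₁ : Subgroup G) (w : G) : Prop where
  hwa : w • a = b
  hwb : w • b = a
  hw2 : w * w ∈ H₁
  hwH₁ : ∀ h ∈ H₁, w * h * w⁻¹ ∈ H₁
  hwH₁' : ∀ h ∈ H₁, w⁻¹ * h * w ∈ H₁

namespace Setup

variable {a b : Ω} {K H H₁ : Subgroup G} (S : Setup a b K H H₁)
include S

omit S in
theorem sinj (g : G) {r t : Ω} (e : g • r = g • t) : r = t := MulAction.injective g e

theorem inv_mem_iff {x : G} (hx : x ∈ H) : x⁻¹ ∈ H₁ ↔ x ∈ H₁ := by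
  have := S.hidx x hx x⁻¹ (H.inv_mem hx)
  rw [mul_inv_cancel] at this
  exact (this.1 H₁.one_mem).symm

theorem two_out {x y : G} (hx : x ∈ H) (hy : y ∈ H) (hx' : x ∉ H₁) (hy' : y ∉ H₁) :
    x * y ∈ H₁ :=
  (S.hidx x hx y hy).2 ⟨fun h => absurd h hx', fun h => absurd h hy'⟩

theorem conj_mem {k x : G} (hk : k ∈ H) (hx : x ∈ H₁) : k * x * k⁻¹ ∈ H₁ := by
  by_cases hk' : k ∈ H₁
  · exact H₁.mul_mem (H₁.mul_mem hk' hx) (H₁.inv_mem hk')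
  · have h1 : k * x ∉ H₁ := by
      intro h
      exact hk' (((S.hidx k hk x (S.hH₁ hx)).1 h).2 hx)
    have h2 : k⁻¹ ∉ H₁ := fun h => hk' ((S.inv_mem_iff hk).1 h)
    exact S.two_out (H.mul_mem hk (S.hH₁ hx)) (H.inv_mem hk) h1 h2

theorem HK {h τ : G} (hh : h ∈ H) (hτ : τ ∈ K) : h * τ * h⁻¹ ∈ K :=
  S.hKn h ((S.hmem h).1 hh).1 τ hτ

theorem HK' {h τ : G} (hh : h ∈ H) (hτ : τ ∈ K) : h⁻¹ * τ * h ∈ K := by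
  have := S.HK (H.inv_mem hh) hτ
  rwa [inv_inv] at this

theorem K_inter_H {τ : G} (hτ : τ ∈ K) (hτH : τ ∈ H) : τ = 1 := by
  by_contra h1
  exact S.hab.symm (S.hKfix τ hτ h1 b ((S.hmem τ).1 hτH).2)

/-- `K` acts regularly: an element of `K` is determined by the image of `b`. -/
theorem K_ext {τ τ' : G} (hτ : τ ∈ K) (hτ' : τ' ∈ K) (h : τ • b = τ' • b) : τ = τ' := by
  have h1 : τ'⁻¹ * τ = 1 := by
    by_contra hne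
    apply S.hab.symm
    apply S.hKfix _ (K.mul_mem (K.inv_mem hτ') hτ) hne b
    rw [mul_smul, h, inv_smul_smul]
  exact (inv_mul_eq_one.1 h1).symm

theorem B_decomp {g : G} (hg : g • a = a) : ∃ τ ∈ K, ∃ h ∈ H, g = τ * h := by
  have hgb : g • b ≠ a := by
    intro h
    exact S.hab (sinj g (hg.trans h.symm))
  obtain ⟨τ, hτ, hτb⟩ := S.hKreg _ hgb
  refine ⟨τ, hτ, τ⁻¹ * g, (S.hmem _).2 ⟨?_, ?_⟩, by group⟩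
  · rw [mul_smul, hg, inv_smul_eq_iff, S.hKa τ hτ]
  · rw [mul_smul, ← hτb, inv_smul_smul]

theorem bruhat {w : G} (W : Swapper a b H₁ w) {g : G} (hg : g • a ≠ a) :
    ∃ τ₁ ∈ K, ∃ h ∈ H, ∃ τ₂ ∈ K, g = τ₁ * h * w * τ₂ := by
  obtain ⟨τ₁, hτ₁, hτ₁b⟩ := S.hKreg _ hg
  have hg' : g⁻¹ • a ≠ a := by
    intro h
    apply hg
    rw [← h, smul_inv_smul, h]
  obtain ⟨σ, hσ, hσb⟩ := S.hKreg _ hg'
  refine ⟨τ₁, hτ₁, τ₁⁻¹ * g * σ * w⁻¹, (S.hmem _).2 ⟨?_, ?_⟩, σ⁻¹, K.inv_mem hσ, by group⟩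
  · have hw : w⁻¹ • a = b := by rw [inv_smul_eq_iff, W.hwb]
    rw [mul_smul, mul_smul, mul_smul, hw, hσb, smul_inv_smul, inv_smul_eq_iff, S.hKa τ₁ hτ₁]
  · have hw : w⁻¹ • b = a := by rw [inv_smul_eq_iff, W.hwa]
    rw [mul_smul, mul_smul, mul_smul, hw, S.hKa σ hσ, ← hτ₁b, inv_smul_smul]

theorem swap_conj_mem_H {w : G} (W : Swapper a b H₁ w) {k : G} (hk : k ∈ H) :
    w * k * w⁻¹ ∈ H ∧ w⁻¹ * k * w ∈ H := by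
  obtain ⟨hka, hkb⟩ := (S.hmem k).1 hk
  have hw1 : w⁻¹ • a = b := by rw [inv_smul_eq_iff, W.hwb]
  have hw2 : w⁻¹ • b = a := by rw [inv_smul_eq_iff, W.hwa]
  constructor
  · rw [S.hmem]
    constructor
    · rw [mul_smul, mul_smul, hw1, hkb, W.hwb]
    · rw [mul_smul, mul_smul, hw2, hka, W.hwa]
  · rw [S.hmem]
    constructor
    · rw [mul_smul, mul_smul, W.hwa, hkb, hw2]
    · rw [mul_smul, mul_smul, W.hwb, hka, hw1]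

omit S in
theorem swap_conj_mem_iff {w : G} (W : Swapper a b H₁ w) (k : G) :
    w * k * w⁻¹ ∈ H₁ ↔ k ∈ H₁ := by
  constructor
  · intro h
    have := W.hwH₁' _ h
    have e : w⁻¹ * (w * k * w⁻¹) * w = k := by group
    rwa [e] at this
  · exact W.hwH₁ k

/-- `H` acts transitively on `K ∖ 1` by conjugation. -/
theorem K_trans {τ₀ τ : G} (hτ₀ : τ₀ ∈ K) (hτ₀1 : τ₀ ≠ 1) (hτ : τ ∈ K) (hτ1 : τ ≠ 1) :
    ∃ k ∈ H, k * τ₀ * k⁻¹ = τ := by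
  have hne : ∀ σ ∈ K, σ ≠ 1 → σ • b ≠ a ∧ σ • b ≠ b := by
    intro σ hσ hσ1
    constructor
    · intro h
      apply S.hab
      apply sinj σ
      rw [S.hKa σ hσ, h]
    · intro h
      exact S.hab.symm (S.hKfix σ hσ hσ1 b h)
  obtain ⟨h1, h2⟩ := hne τ₀ hτ₀ hτ₀1
  obtain ⟨h3, h4⟩ := hne τ hτ hτ1
  obtain ⟨k, hk, hkx⟩ := S.hHtrans _ _ h1 h2 h3 h4
  refine ⟨k, hk, ?_⟩
  apply S.K_ext (S.HK hk hτ₀) hτ
  have hkb : k⁻¹ • b = b := by rw [inv_smul_eq_iff, ((S.hmem k).1 hk).2]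
  rw [mul_smul, mul_smul, hkb, hkx]

end Setup

/-- The Bruhat-type relation we need for every non-identity element of `K`. -/
def R4 (K H₁ : Subgroup G) (w : G) : Prop :=
  ∀ τ ∈ K, τ ≠ 1 → ∃ τ₁ ∈ K, ∃ h ∈ H₁, ∃ τ₂ ∈ K, w * τ * w = τ₁ * h * w * τ₂

namespace Setup

variable {a b : Ω} {K H H₁ : Subgroup G} (S : Setup a b K H H₁)
include S

theorem propagate {w : G} (W : Swapper a b H₁ w) {τ₀ τ₁ h₀ τ₂ : G} (hτ₀ : τ₀ ∈ K) (hτ₀1 : τ₀ ≠ 1)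
    (hτ₁ : τ₁ ∈ K) (hh₀ : h₀ ∈ H) (hτ₂ : τ₂ ∈ K) (h0 : w * τ₀ * w = τ₁ * h₀ * w * τ₂)
    {τ : G} (hτ : τ ∈ K) (hτ1 : τ ≠ 1) :
    ∃ σ₁ ∈ K, ∃ h ∈ H, ∃ σ₂ ∈ K, w * τ * w = σ₁ * h * w * σ₂ ∧ (h ∈ H₁ ↔ h₀ ∈ H₁) := by
  obtain ⟨k, hk, hkτ⟩ := S.K_trans hτ₀ hτ₀1 hτ hτ1
  obtain ⟨hk', hk''⟩ := S.swap_conj_mem_H W hk
  refine ⟨(w * k * w⁻¹) * τ₁ * (w * k * w⁻¹)⁻¹, S.HK hk' hτ₁, (w * k * w⁻¹) * h₀ * k⁻¹,
    H.mul_mem (H.mul_mem hk' hh₀) (H.inv_mem hk), (w⁻¹ * k * w) * τ₂ * (w⁻¹ * k * w)⁻¹,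
    S.HK hk'' hτ₂, ?_, ?_⟩
  · calc w * τ * w = (w * k * w⁻¹) * (w * τ₀ * w) * (w⁻¹ * k * w)⁻¹ := by rw [← hkτ]; group
      _ = _ := by rw [h0]; group
  · have e1 := S.hidx _ hk' _ hh₀
    have e2 := S.hidx _ (H.mul_mem hk' hh₀) _ (H.inv_mem hk)
    have e3 := S.inv_mem_iff hk
    have e4 := swap_conj_mem_iff W k
    rw [e2, e1, e3, e4]
    tauto

theorem exists_R4 {s : G} (W : Swapper a b H₁ s) {k₀ : G} (hk₀ : k₀ ∈ H) (hk₀' : k₀ ∉ H₁)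
    {τ₀ : G} (hτ₀ : τ₀ ∈ K) (hτ₀1 : τ₀ ≠ 1) :
    ∃ w : G, Swapper a b H₁ w ∧ R4 K H₁ w := by
  have hne : ∀ σ ∈ K, σ ≠ 1 → σ • b ≠ b := by
    intro σ hσ hσ1 h
    exact S.hab.symm (S.hKfix σ hσ hσ1 b h)
  have hmove : (s * τ₀ * s) • a ≠ a := by
    rw [mul_smul, mul_smul, W.hwa]
    intro h
    rw [← W.hwb] at h
    exact hne τ₀ hτ₀ hτ₀1 (sinj s h)
  obtain ⟨τ₁, hτ₁, h₀, hh₀, τ₂, hτ₂, h0⟩ := S.bruhat W hmove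
  by_cases hh₀' : h₀ ∈ H₁
  · refine ⟨s, W, ?_⟩
    intro τ hτ hτ1
    obtain ⟨σ₁, hσ₁, h, _, σ₂, hσ₂, e, hiff⟩ := S.propagate W hτ₀ hτ₀1 hτ₁ hh₀ hτ₂ h0 hτ hτ1
    exact ⟨σ₁, hσ₁, h, hiff.2 hh₀', σ₂, hσ₂, e⟩
  · obtain ⟨hk₀a, hk₀b⟩ := (S.hmem k₀).1 hk₀
    obtain ⟨hk', -⟩ := S.swap_conj_mem_H W hk₀
    have hk'n : s * k₀ * s⁻¹ ∉ H₁ := fun h => hk₀' ((swap_conj_mem_iff W k₀).1 h)
    have hkk' : k₀ * (s * k₀ * s⁻¹) ∈ H₁ := S.two_out hk₀ hk' hk₀' hk'n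
    have hk₀inv : k₀⁻¹ ∉ H₁ := fun h => hk₀' ((S.inv_mem_iff hk₀).1 h)
    have W' : Swapper a b H₁ (k₀ * s) := by
      constructor
      · rw [mul_smul, W.hwa, hk₀b]
      · rw [mul_smul, W.hwb, hk₀a]
      · have e : k₀ * s * (k₀ * s) = k₀ * (s * k₀ * s⁻¹) * (s * s) := by group
        rw [e]
        exact H₁.mul_mem hkk' W.hw2
      · intro h hh
        have e : k₀ * s * h * (k₀ * s)⁻¹ = k₀ * (s * h * s⁻¹) * k₀⁻¹ := by group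
        rw [e]
        exact S.conj_mem hk₀ (W.hwH₁ h hh)
      · intro h hh
        have e : (k₀ * s)⁻¹ * h * (k₀ * s) = s⁻¹ * (k₀⁻¹ * h * k₀⁻¹⁻¹) * s := by group
        rw [e]
        exact W.hwH₁' _ (S.conj_mem (H.inv_mem hk₀) hh)
    refine ⟨k₀ * s, W', ?_⟩
    intro τ hτ hτ1
    have hτ' : k₀⁻¹ * τ * k₀ ∈ K := S.HK' hk₀ hτ
    have hτ'1 : k₀⁻¹ * τ * k₀ ≠ 1 := by
      intro h
      apply hτ1
      have : τ = k₀ * (k₀⁻¹ * τ * k₀) * k₀⁻¹ := by group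
      rw [this, h]; group
    obtain ⟨σ₁, hσ₁, h, hh, σ₂, hσ₂, e, hiff⟩ :=
      S.propagate W hτ₀ hτ₀1 hτ₁ hh₀ hτ₂ h0 hτ' hτ'1
    have hhn : h ∉ H₁ := fun hc => hh₀' (hiff.1 hc)
    refine ⟨(k₀ * (s * k₀ * s⁻¹)) * σ₁ * (k₀ * (s * k₀ * s⁻¹))⁻¹,
      S.HK (H.mul_mem hk₀ hk') hσ₁, (k₀ * (s * k₀ * s⁻¹)) * (h * k₀⁻¹),
      H₁.mul_mem hkk' (S.two_out hh (H.inv_mem hk₀) hhn hk₀inv), σ₂, hσ₂, ?_⟩
    calc k₀ * s * τ * (k₀ * s) = k₀ * (s * k₀ * s⁻¹) * (s * (k₀⁻¹ * τ * k₀) * s) := by group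
      _ = _ := by rw [e]; group

end Setup

/-- membership in `B₁ = K H₁` -/
def InB₁ (K H₁ : Subgroup G) (g : G) : Prop := ∃ τ ∈ K, ∃ h ∈ H₁, g = τ * h

/-- membership in `B₁ ∪ B₁ w K` -/
def InS (K H₁ : Subgroup G) (w g : G) : Prop :=
  InB₁ K H₁ g ∨ ∃ β, InB₁ K H₁ β ∧ ∃ τ ∈ K, g = β * w * τ

namespace Setup

variable {a b : Ω} {K H H₁ : Subgroup G} (S : Setup a b K H H₁)
include S

theorem inB₁_mul_K {g τ : G} (hg : InB₁ K H₁ g) (hτ : τ ∈ K) : InB₁ K H₁ (g * τ) := by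
  obtain ⟨τ₁, hτ₁, h, hh, rfl⟩ := hg
  refine ⟨τ₁ * (h * τ * h⁻¹), K.mul_mem hτ₁ (S.HK (S.hH₁ hh) hτ), h, hh, by group⟩

omit S in
theorem inB₁_mul_H₁ {g h : G} (hg : InB₁ K H₁ g) (hh : h ∈ H₁) : InB₁ K H₁ (g * h) := by
  obtain ⟨τ₁, hτ₁, h₁, hh₁, rfl⟩ := hg
  exact ⟨τ₁, hτ₁, h₁ * h, H₁.mul_mem hh₁ hh, by group⟩

theorem inS_mul_K {w g τ : G} (hg : InS K H₁ w g) (hτ : τ ∈ K) : InS K H₁ w (g * τ) := by
  rcases hg with hg | ⟨β, hβ, τ', hτ', rfl⟩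
  · exact Or.inl (S.inB₁_mul_K hg hτ)
  · exact Or.inr ⟨β, hβ, τ' * τ, K.mul_mem hτ' hτ, by group⟩

theorem inS_mul_H₁ {w g h : G} (W : Swapper a b H₁ w) (hg : InS K H₁ w g) (hh : h ∈ H₁) :
    InS K H₁ w (g * h) := by
  rcases hg with hg | ⟨β, hβ, τ', hτ', rfl⟩
  · exact Or.inl (inB₁_mul_H₁ hg hh)
  · exact Or.inr ⟨β * (w * h * w⁻¹), inB₁_mul_H₁ hβ (W.hwH₁ h hh), h⁻¹ * τ' * h,
      S.HK' (S.hH₁ hh) hτ', by group⟩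

theorem inS_mul_w {w g : G} (W : Swapper a b H₁ w) (hR : R4 K H₁ w) (hg : InS K H₁ w g) :
    InS K H₁ w (g * w) := by
  rcases hg with hg | ⟨β, hβ, τ', hτ', rfl⟩
  · exact Or.inr ⟨g, hg, 1, K.one_mem, by group⟩
  · by_cases hτ'1 : τ' = 1
    · left
      rw [hτ'1]
      have e : β * w * 1 * w = β * (w * w) := by group
      rw [e]
      exact inB₁_mul_H₁ hβ W.hw2
    · obtain ⟨τ₁, hτ₁, h, hh, τ₂, hτ₂, e⟩ := hR τ' hτ' hτ'1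
      right
      refine ⟨β * τ₁ * h, inB₁_mul_H₁ (S.inB₁_mul_K hβ hτ₁) hh, τ₂, hτ₂, ?_⟩
      calc β * w * τ' * w = β * (w * τ' * w) := by group
        _ = β * τ₁ * h * w * τ₂ := by rw [e]; group

theorem inS_mul {w x y : G} (W : Swapper a b H₁ w) (hR : R4 K H₁ w) (hx : InS K H₁ w x)
    (hy : InS K H₁ w y) : InS K H₁ w (x * y) := by
  rcases hy with ⟨τ, hτ, h, hh, rfl⟩ | ⟨β, ⟨τ, hτ, h, hh, rfl⟩, τ', hτ', rfl⟩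
  · have := S.inS_mul_H₁ W (S.inS_mul_K hx hτ) hh
    rwa [mul_assoc] at this
  · have := S.inS_mul_K (S.inS_mul_w W hR (S.inS_mul_H₁ W (S.inS_mul_K hx hτ) hh)) hτ'
    have e : x * (τ * h * w * τ') = x * τ * h * w * τ' := by group
    rwa [e]

omit S in
theorem inS_one (w : G) : InS K H₁ w 1 := Or.inl ⟨1, K.one_mem, 1, H₁.one_mem, by group⟩

theorem inS_conj {w k₀ g : G} (W : Swapper a b H₁ w) (hk₀ : k₀ ∈ H) (hk₀' : k₀ ∉ H₁)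
    (hg : InS K H₁ w g) : InS K H₁ w (k₀ * g * k₀⁻¹) := by
  have hB : ∀ β, InB₁ K H₁ β → InB₁ K H₁ (k₀ * β * k₀⁻¹) := by
    rintro _ ⟨τ, hτ, h, hh, rfl⟩
    exact ⟨k₀ * τ * k₀⁻¹, S.HK hk₀ hτ, k₀ * h * k₀⁻¹, S.conj_mem hk₀ hh, by group⟩
  rcases hg with hg | ⟨β, hβ, τ', hτ', rfl⟩
  · exact Or.inl (hB g hg)
  · obtain ⟨hk', -⟩ := S.swap_conj_mem_H W hk₀
    have hk'n : w * k₀ * w⁻¹ ∉ H₁ := fun h => hk₀' ((swap_conj_mem_iff W k₀).1 h)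
    have hk'inv : (w * k₀ * w⁻¹)⁻¹ ∉ H₁ := fun h => hk'n ((S.inv_mem_iff hk').1 h)
    have h1 : k₀ * (w * k₀ * w⁻¹)⁻¹ ∈ H₁ := S.two_out hk₀ (H.inv_mem hk') hk₀' hk'inv
    right
    refine ⟨(k₀ * β * k₀⁻¹) * (k₀ * (w * k₀ * w⁻¹)⁻¹), inB₁_mul_H₁ (hB β hβ) h1,
      k₀ * τ' * k₀⁻¹, S.HK hk₀ hτ', by group⟩

theorem inS_or {w k₀ : G} (W : Swapper a b H₁ w) (hk₀ : k₀ ∈ H) (hk₀' : k₀ ∉ H₁) (g : G) :
    InS K H₁ w g ∨ InS K H₁ w (k₀⁻¹ * g) := by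
  have hk₀inv : k₀⁻¹ ∉ H₁ := fun h => hk₀' ((S.inv_mem_iff hk₀).1 h)
  by_cases hg : g • a = a
  · obtain ⟨τ, hτ, h, hh, rfl⟩ := S.B_decomp hg
    by_cases hh' : h ∈ H₁
    · exact Or.inl (Or.inl ⟨τ, hτ, h, hh', rfl⟩)
    · right
      left
      exact ⟨k₀⁻¹ * τ * k₀, S.HK' hk₀ hτ, k₀⁻¹ * h, S.two_out (H.inv_mem hk₀) hh hk₀inv hh',
        by group⟩
  · obtain ⟨τ₁, hτ₁, h, hh, τ₂, hτ₂, rfl⟩ := S.bruhat W hg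
    by_cases hh' : h ∈ H₁
    · exact Or.inl (Or.inr ⟨τ₁ * h, ⟨τ₁, hτ₁, h, hh', rfl⟩, τ₂, hτ₂, rfl⟩)
    · right
      right
      exact ⟨(k₀⁻¹ * τ₁ * k₀) * (k₀⁻¹ * h), ⟨k₀⁻¹ * τ₁ * k₀, S.HK' hk₀ hτ₁, k₀⁻¹ * h,
        S.two_out (H.inv_mem hk₀) hh hk₀inv hh', rfl⟩, τ₂, hτ₂, by group⟩

theorem not_inS {w k₀ : G} (W : Swapper a b H₁ w) (hk₀ : k₀ ∈ H) (hk₀' : k₀ ∉ H₁) :
    ¬ InS K H₁ w k₀ := by
  rintro (⟨τ, hτ, h, hh, e⟩ | ⟨β, ⟨τ, hτ, h, hh, rfl⟩, τ', hτ', e⟩)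
  · have hτH : τ ∈ H := by
      have : τ = k₀ * h⁻¹ := by rw [e]; group
      rw [this]
      exact H.mul_mem hk₀ (H.inv_mem (S.hH₁ hh))
    have := S.K_inter_H hτ hτH
    rw [this, one_mul] at e
    exact hk₀' (e ▸ hh)
  · have h1 : k₀ • a = a := ((S.hmem k₀).1 hk₀).1
    rw [e, mul_smul, mul_smul, mul_smul, S.hKa τ' hτ', W.hwa, ((S.hmem h).1 (S.hH₁ hh)).2] at h1
    apply S.hab
    apply sinj τ
    rw [S.hKa τ hτ, h1]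

/-- **Lemma A.** -/
theorem exists_normal [Finite G] {w k₀ τ₀ : G} (W : Swapper a b H₁ w) (hR : R4 K H₁ w)
    (hk₀ : k₀ ∈ H) (hk₀' : k₀ ∉ H₁) (hτ₀ : τ₀ ∈ K) (hτ₀1 : τ₀ ≠ 1) :
    ∃ N : Subgroup G, N.Normal ∧ N ≠ ⊥ ∧ N ≠ ⊤ := by
  have hpow : ∀ (x : G), InS K H₁ w x → ∀ n : ℕ, InS K H₁ w (x ^ n) := by
    intro x hx n
    induction n with
    | zero => rw [pow_zero]; exact inS_one w
    | succ n ih => rw [pow_succ]; exact S.inS_mul W hR ih hx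
  let N : Subgroup G :=
    { carrier := {g | InS K H₁ w g}
      mul_mem' := fun hx hy => S.inS_mul W hR hx hy
      one_mem' := inS_one w
      inv_mem' := by
        intro x hx
        have h1 : x⁻¹ = x ^ (orderOf x - 1) := by
          have : x ^ (orderOf x - 1) * x = 1 := by
            rw [← pow_succ, Nat.sub_add_cancel (orderOf_pos x), pow_orderOf_eq_one]
          exact (eq_inv_of_mul_eq_one_left this).symm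
        show InS K H₁ w x⁻¹
        rw [h1]
        exact hpow x hx _ }
  have hN : ∀ g, g ∈ N ↔ InS K H₁ w g := fun g => Iff.rfl
  refine ⟨N, ?_, ?_, ?_⟩
  · constructor
    intro n hn g
    rcases S.inS_or W hk₀ hk₀' g with hg | hg
    · exact N.mul_mem (N.mul_mem ((hN g).2 hg) hn) (N.inv_mem ((hN g).2 hg))
    · have h1 : (k₀⁻¹ * g) * n * (k₀⁻¹ * g)⁻¹ ∈ N :=
        N.mul_mem (N.mul_mem ((hN _).2 hg) hn) (N.inv_mem ((hN _).2 hg))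
      have h2 := S.inS_conj W hk₀ hk₀' ((hN _).1 h1)
      have e : k₀ * ((k₀⁻¹ * g) * n * (k₀⁻¹ * g)⁻¹) * k₀⁻¹ = g * n * g⁻¹ := by group
      rw [e] at h2
      exact (hN _).2 h2
  · intro hbot
    have : τ₀ ∈ N := (hN τ₀).2 (Or.inl ⟨τ₀, hτ₀, 1, H₁.one_mem, by group⟩)
    rw [hbot, Subgroup.mem_bot] at this
    exact hτ₀1 this
  · intro htop
    have : k₀ ∈ N := by rw [htop]; trivial
    exact S.not_inS W hk₀ hk₀' ((hN k₀).1 this)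

/-- A group with such a configuration is not simple. -/
theorem not_simple [Finite G] {s k₀ τ₀ : G} (W : Swapper a b H₁ s)
    (hk₀ : k₀ ∈ H) (hk₀' : k₀ ∉ H₁) (hτ₀ : τ₀ ∈ K) (hτ₀1 : τ₀ ≠ 1) :
    ∃ N : Subgroup G, N.Normal ∧ N ≠ ⊥ ∧ N ≠ ⊤ := by
  obtain ⟨w, W', hR⟩ := S.exists_R4 W hk₀ hk₀' hτ₀ hτ₀1
  exact S.exists_normal W' hR hk₀ hk₀' hτ₀ hτ₀1

end Setup

end NotSimple

end Cfsg.Agent.Lib.Helper3.Sharp3
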