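import Mathlib

/-!
# Helper3: general lemmas for the index-two subgroup of a sharply 3-transitive group (S0729)

* `exists_invariant_index_two`: a group with a subgroup of index 2 and an involutory automorphism
  has an invariant subgroup of index 2.
* `centralizes_of_relIndex_two`, `centralizes_cyclic_two`, `centralizes_quaternion`:
  odd-order elements normalising cyclic / large quaternion 2-groups centralise them.
* `q8_conj_ne`, `q8_cube_centralizes`: the quaternion group of order 8.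
* `commutator_centralizes_cyclic_normal`.
-/

set_option autoImplicit false

namespace Cfsg.Agent.Lib.Helper3.Sharp3

section Inv2

variable {X : Type*} [Group X]

theorem index_ker_eq_two (f : X →* Multiplicative (ZMod 2)) (hf : ∃ x, f x ≠ 1) :
    f.ker.index = 2 := by
  rw [Subgroup.index_ker]
  obtain ⟨x, hx⟩ := hf
  have hcard : Nat.card (Multiplicative (ZMod 2)) = 2 := by
    rw [Nat.card_eq_fintype_card]
    rfl
  have h1 : Nat.card ↥f.range ∣ 2 := by
    have := Subgroup.card_subgroup_dvd_card f.range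
    rwa [hcard] at this
  have h2 : Nat.card ↥f.range ≠ 1 := by
    intro h
    rw [Subgroup.card_eq_one] at h
    have : f x ∈ f.range := ⟨x, rfl⟩
    rw [h, Subgroup.mem_bot] at this
    exact hx this
  rcases (Nat.dvd_prime Nat.prime_two).1 h1 with h | h
  · exact absurd h h2
  · exact h

theorem z2_mul_self (a : Multiplicative (ZMod 2)) : a * a = 1 := by
  revert a
  decide

theorem z2_mul_eq_one_iff (a b : Multiplicative (ZMod 2)) : a * b = 1 ↔ a = b := by
  revert a b
  decide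

theorem exists_invariant_index_two [Finite X] (τ : X ≃* X) (hτ : ∀ x, τ (τ x) = x)
    (hY : ∃ Y : Subgroup X, Y.index = 2) :
    ∃ Y : Subgroup X, Y.index = 2 ∧ ∀ y ∈ Y, τ y ∈ Y := by
  classical
  obtain ⟨Y, hYi⟩ := hY
  let g : X →* Multiplicative (ZMod 2) :=
    { toFun := fun x => if x ∈ Y then 1 else Multiplicative.ofAdd (1 : ZMod 2)
      map_one' := by
        rw [if_pos Y.one_mem]
      map_mul' := by
        intro a b
        have h := Subgroup.mul_mem_iff_of_index_two hYi (a := a) (b := b)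
        by_cases ha : a ∈ Y <;> by_cases hb : b ∈ Y
        · rw [if_pos ha, if_pos hb, if_pos (h.2 (iff_of_true ha hb)), mul_one]
        · have : ¬ a * b ∈ Y := fun hab => hb ((h.1 hab).1 ha)
          rw [if_pos ha, if_neg hb, if_neg this, one_mul]
        · have : ¬ a * b ∈ Y := fun hab => ha ((h.1 hab).2 hb)
          rw [if_neg ha, if_pos hb, if_neg this, mul_one]
        · rw [if_neg ha, if_neg hb, if_pos (h.2 (iff_of_false ha hb))]
          exact (z2_mul_self _).symm }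
  have hg : ∀ x, g x = if x ∈ Y then 1 else Multiplicative.ofAdd (1 : ZMod 2) := fun x => rfl
  have hgne : ∃ x, g x ≠ 1 := by
    have hne : Y ≠ ⊤ := by
      intro h
      rw [h, Subgroup.index_top] at hYi
      omega
    obtain ⟨x, hx⟩ : ∃ x, x ∉ Y := by
      by_contra hcon
      push Not at hcon
      exact hne (eq_top_iff.2 (fun x _ => hcon x))
    refine ⟨x, ?_⟩
    rw [hg, if_neg hx]
    decide
  by_cases hfix : ∀ x, g (τ x) = g x
  · refine ⟨g.ker, index_ker_eq_two g hgne, ?_⟩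
    intro y hy
    rw [MonoidHom.mem_ker] at hy ⊢
    rw [hfix, hy]
  · push Not at hfix
    obtain ⟨x₀, hx₀⟩ := hfix
    let f : X →* Multiplicative (ZMod 2) := g * g.comp τ.toMonoidHom
    have hf : ∀ x, f x = g x * g (τ x) := fun x => rfl
    refine ⟨f.ker, index_ker_eq_two f ⟨x₀, ?_⟩, ?_⟩
    · rw [hf]
      intro h
      rw [z2_mul_eq_one_iff] at h
      exact hx₀ h.symm
    · intro y hy
      rw [MonoidHom.mem_ker] at hy ⊢
      rw [hf] at hy ⊢
      rw [hτ, mul_comm]
      exact hy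

end Inv2

section OddAut

variable {Y : Type*} [Group Y]

theorem conj_pow_mem (T : Subgroup Y) (g : Y) (hgT : ∀ t ∈ T, g * t * g⁻¹ ∈ T) (k : ℕ) :
    ∀ t ∈ T, g ^ k * t * (g ^ k)⁻¹ ∈ T := by
  induction k with
  | zero =>
    intro t ht
    simpa using ht
  | succ k ih =>
    intro t ht
    have h1 : g ^ (k + 1) * t * (g ^ (k + 1))⁻¹ = g * (g ^ k * t * (g ^ k)⁻¹) * g⁻¹ := by
      rw [pow_succ']
      group
    rw [h1]
    exact hgT _ (ih t ht)

theorem conj_inv_mem (T : Subgroup Y) (g : Y) (hfin : 0 < orderOf g)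
    (hgT : ∀ t ∈ T, g * t * g⁻¹ ∈ T) : ∀ t ∈ T, g⁻¹ * t * g ∈ T := by
  intro t ht
  have h := conj_pow_mem T g hgT (orderOf g - 1) t ht
  have h1 : g ^ (orderOf g - 1) = g⁻¹ := by
    have : g ^ (orderOf g - 1) * g = 1 := by
      rw [← pow_succ, Nat.sub_add_cancel hfin, pow_orderOf_eq_one]
    exact eq_inv_of_mul_eq_one_left this
  rw [h1, inv_inv] at h
  exact h

/-- If an odd-order element `g` normalises `T`, centralises a `2`-subgroup `T₁` of index two in
`T`, then it centralises `T`. -/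
theorem centralizes_of_relIndex_two (T T₁ : Subgroup Y) (hidx : T₁.relIndex T = 2)
    (h2 : ∀ t ∈ T₁, ∃ k : ℕ, t ^ (2 ^ k) = 1)
    (g : Y) (hodd : Odd (orderOf g))
    (hgT : ∀ t ∈ T, g * t * g⁻¹ ∈ T) (hc : ∀ t ∈ T₁, g * t * g⁻¹ = t) :
    ∀ t ∈ T, g * t * g⁻¹ = t := by
  intro t ht
  by_cases ht1 : t ∈ T₁
  · exact hc t ht1
  · have hgt : g * t * g⁻¹ ∈ T := hgT t ht
    have hgt1 : g * t * g⁻¹ ∉ T₁ := by
      intro h
      have h3 := hc _ h
      have h4 : g * t * g⁻¹ = t := by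
        have : g * (g * t * g⁻¹) * g⁻¹ = g * t * g⁻¹ := h3
        calc g * t * g⁻¹ = g⁻¹ * (g * (g * t * g⁻¹) * g⁻¹) * g := by group
          _ = g⁻¹ * (g * t * g⁻¹) * g := by rw [this]
          _ = t := by group
      rw [h4] at h
      exact ht1 h
    -- the commutator lies in `T₁`
    have hmul := Subgroup.mul_mem_iff_of_index_two (H := T₁.subgroupOf T) hidx
      (a := ⟨g * t * g⁻¹, hgt⟩) (b := ⟨t⁻¹, T.inv_mem ht⟩)
    have hc1 : g * t * g⁻¹ * t⁻¹ ∈ T₁ := by
      have : (⟨g * t * g⁻¹, hgt⟩ : ↥T) * ⟨t⁻¹, T.inv_mem ht⟩ ∈ T₁.subgroupOf T := by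
        rw [hmul]
        constructor
        · intro h
          exact absurd (Subgroup.mem_subgroupOf.1 h) hgt1
        · intro h
          have := Subgroup.mem_subgroupOf.1 h
          exact absurd (by simpa using T₁.inv_mem this) ht1
      exact Subgroup.mem_subgroupOf.1 this
    obtain ⟨c, hcdef⟩ : ∃ c, c = g * t * g⁻¹ * t⁻¹ := ⟨_, rfl⟩
    rw [← hcdef] at hc1
    have hgtc : g * t * g⁻¹ = c * t := by
      rw [hcdef]
      group
    have hpow : ∀ j : ℕ, g ^ j * t * (g ^ j)⁻¹ = c ^ j * t := by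
      intro j
      induction j with
      | zero => simp
      | succ j ih =>
        have h1 : g ^ (j + 1) * t * (g ^ (j + 1))⁻¹ = g * (g ^ j * t * (g ^ j)⁻¹) * g⁻¹ := by
          rw [pow_succ']
          group
        have h2 : g * (c ^ j * t) * g⁻¹ = (g * c ^ j * g⁻¹) * (g * t * g⁻¹) := by group
        rw [h1, ih, h2, hc _ (T₁.pow_mem hc1 j), hgtc, ← mul_assoc, ← pow_succ]
    have h5 := hpow (orderOf g)
    rw [pow_orderOf_eq_one, one_mul, inv_one, mul_one] at h5
    have h6 : c ^ orderOf g = 1 := by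
      have : c ^ orderOf g * t = 1 * t := by rw [one_mul]; exact h5.symm
      exact mul_right_cancel this
    obtain ⟨k, hk⟩ := h2 c hc1
    have h7 : orderOf c ∣ Nat.gcd (orderOf g) (2 ^ k) :=
      Nat.dvd_gcd (orderOf_dvd_of_pow_eq_one h6) (orderOf_dvd_of_pow_eq_one hk)
    have h8 : Nat.gcd (orderOf g) (2 ^ k) = 1 := by
      apply Nat.Coprime.pow_right
      exact (Nat.coprime_two_left.2 hodd).symm
    rw [h8] at h7
    have h9 : c = 1 := orderOf_eq_one_iff.1 (Nat.dvd_one.1 h7)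
    rw [hgtc, h9, one_mul]

/-- An odd-order element normalising a cyclic `2`-group centralises it. -/
theorem centralizes_cyclic_two [Finite Y] (T : Subgroup Y) (hcyc : IsCyclic T) (h2 : IsPGroup 2 T)
    (g : Y) (hodd : Odd (orderOf g)) (hgT : ∀ t ∈ T, g * t * g⁻¹ ∈ T) :
    ∀ t ∈ T, g * t * g⁻¹ = t := by
  have hfin : 0 < orderOf g := hodd.pos
  have hgT' := conj_inv_mem T g hfin hgT
  have hgN : g ∈ Subgroup.normalizer (T : Set Y) := by
    rw [Subgroup.mem_normalizer_iff]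
    intro h
    constructor
    · exact hgT h
    · intro hh
      have := hgT' _ hh
      have e : g⁻¹ * (g * h * g⁻¹) * g = h := by group
      rwa [e] at this
  haveI : (T.subgroupOf (Subgroup.normalizer (T : Set Y))).Normal := Subgroup.normal_in_normalizer
  let ψ : ↥(Subgroup.normalizer (T : Set Y)) →* MulAut ↥(T.subgroupOf (Subgroup.normalizer (T : Set Y))) := MulAut.conjNormal
  let eT : ↥(T.subgroupOf (Subgroup.normalizer (T : Set Y))) ≃* ↥T := Subgroup.subgroupOfEquivOfLe Subgroup.le_normalizer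
  haveI : IsCyclic ↥(T.subgroupOf (Subgroup.normalizer (T : Set Y))) :=
    isCyclic_of_surjective eT.symm eT.symm.surjective
  have hcard : Nat.card (MulAut ↥(T.subgroupOf (Subgroup.normalizer (T : Set Y)))) =
      Nat.totient (Nat.card ↥(T.subgroupOf (Subgroup.normalizer (T : Set Y)))) := IsCyclic.card_mulAut _
  obtain ⟨k, hk⟩ := IsPGroup.iff_card.1 h2
  have hcardT' : Nat.card ↥(T.subgroupOf (Subgroup.normalizer (T : Set Y))) = 2 ^ k := by
    rw [Nat.card_congr eT.toEquiv, hk]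
  have htot : ∃ j, Nat.totient (2 ^ k) = 2 ^ j := by
    cases k with
    | zero => exact ⟨0, by simp⟩
    | succ k =>
      refine ⟨k, ?_⟩
      rw [Nat.totient_prime_pow_succ Nat.prime_two]
      simp
  obtain ⟨j, hj⟩ := htot
  obtain ⟨α, hα⟩ : ∃ α, α = ψ ⟨g, hgN⟩ := ⟨_, rfl⟩
  have h1 : orderOf α ∣ orderOf g := by
    have := orderOf_map_dvd ψ (⟨g, hgN⟩ : ↥(Subgroup.normalizer (T : Set Y)))
    rwa [Subgroup.orderOf_mk, ← hα] at this
  have h2' : orderOf α ∣ 2 ^ j := by
    rw [← hj, ← hcardT', ← hcard]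
    exact orderOf_dvd_natCard α
  have h3 : orderOf α = 1 := by
    have := Nat.dvd_gcd h1 h2'
    have hc : Nat.gcd (orderOf g) (2 ^ j) = 1 :=
      Nat.Coprime.pow_right j (Nat.coprime_two_left.2 hodd).symm
    rw [hc] at this
    exact Nat.dvd_one.1 this
  have h4 : α = 1 := orderOf_eq_one_iff.1 h3
  intro t ht
  have h5 : ((α ⟨⟨t, Subgroup.le_normalizer ht⟩, Subgroup.mem_subgroupOf.2 ht⟩ :
      ↥(T.subgroupOf (Subgroup.normalizer (T : Set Y)))) : ↥(Subgroup.normalizer (T : Set Y))) = ⟨t, Subgroup.le_normalizer ht⟩ := by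
    rw [h4]
    rfl
  rw [hα] at h5
  have h6 := congrArg Subtype.val h5
  exact h6

/-- Commutators centralise cyclic normal subgroups. -/
theorem commutator_centralizes_cyclic_normal (Z : Subgroup Y) [Z.Normal] (hZ : IsCyclic Z)
    (a b : Y) : ∀ c ∈ Z, (a * b * a⁻¹ * b⁻¹) * c * (a * b * a⁻¹ * b⁻¹)⁻¹ = c := by
  let ψ : Y →* MulAut ↥Z := MulAut.conjNormal
  have hcomm : ∀ α β : MulAut ↥Z, α * β = β * α := by
    intro α β
    apply (IsCyclic.mulAutMulEquiv ↥Z).injective
    rw [map_mul, map_mul, mul_comm]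
  have h1 : ψ (a * b * a⁻¹ * b⁻¹) = 1 := by
    rw [map_mul, map_mul, map_mul, map_inv, map_inv, hcomm (ψ a) (ψ b), mul_assoc (ψ b),
      mul_inv_cancel, mul_one, mul_inv_cancel]
  intro c hc
  have h2 : ((ψ (a * b * a⁻¹ * b⁻¹) ⟨c, hc⟩ : ↥Z) : Y) = c := by
    rw [h1]
    rfl
  exact h2

theorem orderOf_conj' (g t : Y) : orderOf (g * t * g⁻¹) = orderOf t := by
  have := (MulAut.conj g).orderOf_eq t
  rwa [MulAut.conj_apply] at this

theorem conj_zpowers_mem (g t : Y) (h : g * t * g⁻¹ ∈ Subgroup.zpowers t) :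
    ∀ x ∈ Subgroup.zpowers t, g * x * g⁻¹ ∈ Subgroup.zpowers t := by
  intro x hx
  obtain ⟨k, rfl⟩ := Subgroup.mem_zpowers_iff.1 hx
  have e : g * t ^ k * g⁻¹ = (g * t * g⁻¹) ^ k := by
    rw [conj_zpow]
  rw [e]
  exact Subgroup.zpow_mem _ h k

theorem relIndex_eq_two_of_card (T T₁ : Subgroup Y) [Finite T] (hle : T₁ ≤ T) (m : ℕ) (hm : 0 < m)
    (h1 : Nat.card T₁ = m) (h2 : Nat.card T = 2 * m) : T₁.relIndex T = 2 := by
  have h := Subgroup.card_mul_index (T₁.subgroupOf T)
  rw [Nat.card_congr (Subgroup.subgroupOfEquivOfLe hle).toEquiv, h1, h2] at h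
  have h3 : m * (T₁.subgroupOf T).index = m * 2 := by rw [h, mul_comm]
  exact Nat.eq_of_mul_eq_mul_left hm h3

/-- An odd-order element normalising a generalized quaternion group of order at least 16
centralises it. -/
theorem centralizes_quaternion [Finite Y] (T : Subgroup Y) (n : ℕ) (hn : 2 ≤ n)
    (e : ↥T ≃* QuaternionGroup (2 ^ n)) (g : Y) (hodd : Odd (orderOf g))
    (hgT : ∀ t ∈ T, g * t * g⁻¹ ∈ T) : ∀ t ∈ T, g * t * g⁻¹ = t := by
  haveI : NeZero (2 ^ n) := ⟨by positivity⟩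
  have h4n : 4 ≤ 2 ^ n := by
    calc 4 = 2 ^ 2 := by norm_num
      _ ≤ 2 ^ n := Nat.pow_le_pow_right (by norm_num) hn
  obtain ⟨t₀, ht₀⟩ : ∃ t₀ : ↥T, e t₀ = QuaternionGroup.a 1 := ⟨e.symm _, e.apply_symm_apply _⟩
  have hord : orderOf t₀ = 2 * 2 ^ n := by
    rw [← e.orderOf_eq t₀, ht₀, QuaternionGroup.orderOf_a_one]
  have hord' : orderOf (t₀ : Y) = 2 * 2 ^ n := by
    rw [Subgroup.orderOf_coe]
    exact hord
  have hT₁le : Subgroup.zpowers (t₀ : Y) ≤ T := (Subgroup.zpowers_le).2 t₀.2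
  have hcardT : Nat.card ↥T = 2 * (2 * 2 ^ n) := by
    rw [Nat.card_congr e.toEquiv, Nat.card_eq_fintype_card, QuaternionGroup.card]
    ring
  have hgt₀ : g * t₀ * g⁻¹ ∈ Subgroup.zpowers (t₀ : Y) := by
    have hmem := hgT _ t₀.2
    obtain ⟨w, hw⟩ : ∃ w, w = e ⟨g * t₀ * g⁻¹, hmem⟩ := ⟨_, rfl⟩
    have hwo : orderOf w = 2 * 2 ^ n := by
      rw [hw, e.orderOf_eq, ← Subgroup.orderOf_coe]
      show orderOf (g * (t₀ : Y) * g⁻¹) = _
      rw [orderOf_conj', hord']
    cases w with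
    | a i =>
      have h1 : (QuaternionGroup.a i : QuaternionGroup (2 ^ n)) = (QuaternionGroup.a 1) ^ i.val := by
        rw [QuaternionGroup.a_one_pow, ZMod.natCast_zmod_val]
      have h2 : (⟨g * t₀ * g⁻¹, hmem⟩ : ↥T) = t₀ ^ i.val := by
        apply e.injective
        rw [← hw, map_pow, ht₀, h1]
      have h3 : g * (t₀ : Y) * g⁻¹ = (t₀ : Y) ^ i.val := by
        have := congrArg Subtype.val h2
        rwa [Subgroup.coe_pow] at this
      rw [h3]
      exact Subgroup.pow_mem _ (Subgroup.mem_zpowers _) _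
    | xa i =>
      rw [QuaternionGroup.orderOf_xa] at hwo
      omega
  have hinv := conj_zpowers_mem g (t₀ : Y) hgt₀
  have hcyc : IsCyclic ↥(Subgroup.zpowers (t₀ : Y)) := inferInstance
  have h2T : ∀ t ∈ T, t ^ (2 ^ (n + 2)) = 1 := by
    intro t ht
    have h := pow_card_eq_one' (G := ↥T) (x := ⟨t, ht⟩)
    rw [hcardT] at h
    have h' := congrArg Subtype.val h
    rw [Subgroup.coe_pow, Subgroup.coe_one] at h'
    have e2 : 2 ^ (n + 2) = 2 * (2 * 2 ^ n) := by ring
    rw [e2]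
    exact h'
  have hP : IsPGroup 2 ↥(Subgroup.zpowers (t₀ : Y)) := by
    intro x
    refine ⟨n + 2, ?_⟩
    apply Subtype.ext
    rw [Subgroup.coe_pow, Subgroup.coe_one]
    exact h2T _ (hT₁le x.2)
  have hc := centralizes_cyclic_two (Subgroup.zpowers (t₀ : Y)) hcyc hP g hodd hinv
  have hidx : (Subgroup.zpowers (t₀ : Y)).relIndex T = 2 := by
    apply relIndex_eq_two_of_card T _ hT₁le (2 * 2 ^ n) (by positivity) _ hcardT
    rw [Nat.card_zpowers, hord']
  exact centralizes_of_relIndex_two T _ hidx (fun t ht => ⟨n + 2, h2T t (hT₁le ht)⟩) g hodd hgT hc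

end OddAut

section Q8

variable {Y : Type*} [Group Y] [Finite Y]

/-- the class of an element of order 4 of the quaternion group: its cyclic subgroup -/
def cls : QuaternionGroup 2 → Fin 3
  | .a _ => 0
  | .xa i => if i.val % 2 = 0 then 1 else 2

theorem q8_pow_four : ∀ w : QuaternionGroup 2, w ^ 4 = 1 := by decide

theorem q8_cls : ∀ w w' : QuaternionGroup 2, w * w ≠ 1 → w' * w' ≠ 1 → cls w = cls w' →
    (w' = w ∨ w' = w⁻¹) := by decide

theorem q8_sq : ∀ w w' : QuaternionGroup 2, w * w = 1 → w ≠ 1 → w' * w' ≠ 1 → w = w' * w' := by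
  decide

theorem fin3_aux : ∀ c₀ c₁ c₂ c₃ : Fin 3, c₁ ≠ c₀ → c₂ ≠ c₁ → c₂ ≠ c₀ → c₃ ≠ c₂ → c₃ ≠ c₁ →
    c₃ = c₀ := by decide

theorem q8_card (T : Subgroup Y) (e : ↥T ≃* QuaternionGroup 2) : Nat.card ↥T = 8 := by
  rw [Nat.card_congr e.toEquiv, Nat.card_eq_fintype_card, QuaternionGroup.card]

theorem q8_orderOf (T : Subgroup Y) (e : ↥T ≃* QuaternionGroup 2) (u : Y) (hu : u ∈ T)
    (huu : u * u ≠ 1) : orderOf u = 4 := by
  have h4 : u ^ 4 = 1 := by
    have h := q8_pow_four (e ⟨u, hu⟩)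
    rw [← map_pow] at h
    have h' : (⟨u, hu⟩ : ↥T) ^ 4 = 1 := e.injective (by rw [h, map_one])
    have h'' := congrArg Subtype.val h'
    rwa [Subgroup.coe_pow, Subgroup.coe_one] at h''
  have h2 : u ^ 2 ≠ 1 := by rwa [pow_two]
  have hd : orderOf u ∣ 4 := orderOf_dvd_of_pow_eq_one h4
  have h3 : orderOf u ∣ 2 ^ 2 := by norm_num; exact hd
  obtain ⟨k, hk, hk'⟩ := (Nat.dvd_prime_pow Nat.prime_two).1 h3
  interval_cases k
  · exfalso
    apply h2
    rw [pow_zero] at hk'
    rw [orderOf_eq_one_iff.1 hk', one_pow]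
  · exfalso
    apply h2
    rw [pow_one] at hk'
    rw [← hk']
    exact pow_orderOf_eq_one u
  · rw [hk']
    norm_num

/-- An odd-order element normalising but not centralising a quaternion group of order 8 fixes none
of its cyclic subgroups of order 4. -/
theorem q8_conj_ne (T : Subgroup Y) (e : ↥T ≃* QuaternionGroup 2) (g : Y)
    (hodd : Odd (orderOf g)) (hgT : ∀ t ∈ T, g * t * g⁻¹ ∈ T) (hnc : ∃ t ∈ T, g * t * g⁻¹ ≠ t) :
    ∀ u ∈ T, u * u ≠ 1 → g * u * g⁻¹ ≠ u ∧ g * u * g⁻¹ ≠ u⁻¹ := by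
  intro u hu huu
  by_contra hcon
  have hmem : g * u * g⁻¹ ∈ Subgroup.zpowers u := by
    by_cases h1 : g * u * g⁻¹ = u
    · rw [h1]
      exact Subgroup.mem_zpowers u
    · have h2 : g * u * g⁻¹ = u⁻¹ := by
        by_contra h2
        exact hcon ⟨h1, h2⟩
      rw [h2]
      exact Subgroup.inv_mem _ (Subgroup.mem_zpowers u)
  have hinv := conj_zpowers_mem g u hmem
  have hle : Subgroup.zpowers u ≤ T := (Subgroup.zpowers_le).2 hu
  have hcardT := q8_card T e
  have h2T : ∀ t ∈ T, t ^ (2 ^ 3) = 1 := by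
    intro t ht
    have h := pow_card_eq_one' (G := ↥T) (x := ⟨t, ht⟩)
    rw [hcardT] at h
    have h' := congrArg Subtype.val h
    rwa [Subgroup.coe_pow, Subgroup.coe_one] at h'
  have hP : IsPGroup 2 ↥(Subgroup.zpowers u) := by
    intro x
    refine ⟨3, ?_⟩
    apply Subtype.ext
    rw [Subgroup.coe_pow, Subgroup.coe_one]
    exact h2T _ (hle x.2)
  have hc := centralizes_cyclic_two (Subgroup.zpowers u) inferInstance hP g hodd hinv
  have hidx : (Subgroup.zpowers u).relIndex T = 2 := by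
    apply relIndex_eq_two_of_card T _ hle 4 (by norm_num) _ hcardT
    rw [Nat.card_zpowers, q8_orderOf T e u hu huu]
  obtain ⟨t, ht, hne⟩ := hnc
  exact hne (centralizes_of_relIndex_two T _ hidx (fun t ht => ⟨3, h2T t (hle ht)⟩) g hodd hgT hc t ht)

omit [Finite Y] in
theorem conj_eq_iff_mem_centralizer (T : Subgroup Y) (g : Y) :
    (∀ t ∈ T, g * t * g⁻¹ = t) ↔ g ∈ Subgroup.centralizer (T : Set Y) := by
  rw [Subgroup.mem_centralizer_iff]
  constructor
  · intro h t ht
    have := h t ht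
    calc t * g = (g * t * g⁻¹) * g := by rw [this]
      _ = g * t := by group
  · intro h t ht
    have := h t ht
    calc g * t * g⁻¹ = (t * g) * g⁻¹ := by rw [this]
      _ = t := by group

omit [Finite Y] in
theorem centralizes_of_pow (T : Subgroup Y) (g : Y) (k : ℕ) (hk : Nat.Coprime k (orderOf g))
    (hc : ∀ t ∈ T, g ^ k * t * (g ^ k)⁻¹ = t) : ∀ t ∈ T, g * t * g⁻¹ = t := by
  rw [conj_eq_iff_mem_centralizer] at hc ⊢
  obtain ⟨m, hm⟩ := exists_pow_eq_self_of_coprime hk
  rw [← hm]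
  exact Subgroup.pow_mem _ hc m

/-- The cube of an odd-order element normalising a quaternion group of order 8 centralises it. -/
theorem q8_cube_centralizes (T : Subgroup Y) (e : ↥T ≃* QuaternionGroup 2) (g : Y)
    (hodd : Odd (orderOf g)) (hgT : ∀ t ∈ T, g * t * g⁻¹ ∈ T) :
    ∀ t ∈ T, g ^ 3 * t * (g ^ 3)⁻¹ = t := by
  by_cases hc : ∀ t ∈ T, g * t * g⁻¹ = t
  · rw [conj_eq_iff_mem_centralizer] at hc ⊢
    exact Subgroup.pow_mem _ hc 3
  · push Not at hc
    have hnc2 : ∃ t ∈ T, g ^ 2 * t * (g ^ 2)⁻¹ ≠ t := by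
      by_contra hcon
      push Not at hcon
      obtain ⟨t, ht, hne⟩ := hc
      exact hne (centralizes_of_pow T g 2 (Nat.coprime_two_left.2 hodd) hcon t ht)
    have hodd2 : Odd (orderOf (g ^ 2)) := Odd.of_dvd_nat hodd (orderOf_pow_dvd 2)
    have hodd3 : Odd (orderOf (g ^ 3)) := Odd.of_dvd_nat hodd (orderOf_pow_dvd 3)
    have hgT2 := conj_pow_mem T g hgT 2
    have hgT3 := conj_pow_mem T g hgT 3
    have P1 := q8_conj_ne T e g hodd hgT hc
    have P2 := q8_conj_ne T e (g ^ 2) hodd2 hgT2 hnc2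
    have hsq : ∀ (x u : Y), u * u ≠ 1 → (x * u * x⁻¹) * (x * u * x⁻¹) ≠ 1 := by
      intro x u hu h
      apply hu
      have e1 : (x * u * x⁻¹) * (x * u * x⁻¹) = x * (u * u) * x⁻¹ := by group
      rw [e1] at h
      calc u * u = x⁻¹ * (x * (u * u) * x⁻¹) * x := by group
        _ = 1 := by rw [h]; group
    -- classes
    have hcls : ∀ (a b : Y) (ha : a ∈ T) (hb : b ∈ T), a * a ≠ 1 → b * b ≠ 1 →
        cls (e ⟨a, ha⟩) = cls (e ⟨b, hb⟩) → b = a ∨ b = a⁻¹ := by
      intro a b ha hb haa hbb h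
      have h1 : e ⟨a, ha⟩ * e ⟨a, ha⟩ ≠ 1 := by
        intro h'
        apply haa
        rw [← map_mul] at h'
        have := e.injective (h'.trans (map_one e).symm)
        exact congrArg Subtype.val this
      have h2 : e ⟨b, hb⟩ * e ⟨b, hb⟩ ≠ 1 := by
        intro h'
        apply hbb
        rw [← map_mul] at h'
        have := e.injective (h'.trans (map_one e).symm)
        exact congrArg Subtype.val this
      rcases q8_cls _ _ h1 h2 h with h3 | h3
      · left
        exact congrArg Subtype.val (e.injective h3)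
      · right
        rw [← map_inv] at h3
        exact congrArg Subtype.val (e.injective h3)
    have key : ∀ u ∈ T, u * u ≠ 1 → g ^ 3 * u * (g ^ 3)⁻¹ = u := by
      intro u hu huu
      have hu1 : g * u * g⁻¹ ∈ T := hgT u hu
      have hu2 : g ^ 2 * u * (g ^ 2)⁻¹ ∈ T := hgT2 u hu
      have hu3 : g ^ 3 * u * (g ^ 3)⁻¹ ∈ T := hgT3 u hu
      have huu1 := hsq g u huu
      have huu2 := hsq (g ^ 2) u huu
      have huu3 := hsq (g ^ 3) u huu
      have e21 : g ^ 2 * u * (g ^ 2)⁻¹ = g * (g * u * g⁻¹) * g⁻¹ := by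
        rw [pow_two]
        group
      have e32 : g ^ 3 * u * (g ^ 3)⁻¹ = g * (g ^ 2 * u * (g ^ 2)⁻¹) * g⁻¹ := by
        rw [pow_succ' g 2]
        group
      have e31 : g ^ 3 * u * (g ^ 3)⁻¹ = g ^ 2 * (g * u * g⁻¹) * (g ^ 2)⁻¹ := by
        rw [pow_succ g 2]
        group
      have c10 : cls (e ⟨g * u * g⁻¹, hu1⟩) ≠ cls (e ⟨u, hu⟩) := by
        intro h
        rcases hcls _ _ hu hu1 huu huu1 h.symm with h' | h'
        · exact (P1 u hu huu).1 h'
        · exact (P1 u hu huu).2 h'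
      have c21 : cls (e ⟨g ^ 2 * u * (g ^ 2)⁻¹, hu2⟩) ≠ cls (e ⟨g * u * g⁻¹, hu1⟩) := by
        intro h
        rcases hcls _ _ hu1 hu2 huu1 huu2 h.symm with h' | h'
        · rw [e21] at h'
          exact (P1 _ hu1 huu1).1 h'
        · rw [e21] at h'
          exact (P1 _ hu1 huu1).2 h'
      have c20 : cls (e ⟨g ^ 2 * u * (g ^ 2)⁻¹, hu2⟩) ≠ cls (e ⟨u, hu⟩) := by
        intro h
        rcases hcls _ _ hu hu2 huu huu2 h.symm with h' | h'
        · exact (P2 u hu huu).1 h'
        · exact (P2 u hu huu).2 h'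
      have c32 : cls (e ⟨g ^ 3 * u * (g ^ 3)⁻¹, hu3⟩) ≠ cls (e ⟨g ^ 2 * u * (g ^ 2)⁻¹, hu2⟩) := by
        intro h
        rcases hcls _ _ hu2 hu3 huu2 huu3 h.symm with h' | h'
        · rw [e32] at h'
          exact (P1 _ hu2 huu2).1 h'
        · rw [e32] at h'
          exact (P1 _ hu2 huu2).2 h'
      have c31 : cls (e ⟨g ^ 3 * u * (g ^ 3)⁻¹, hu3⟩) ≠ cls (e ⟨g * u * g⁻¹, hu1⟩) := by
        intro h
        rcases hcls _ _ hu1 hu3 huu1 huu3 h.symm with h' | h'
        · rw [e31] at h'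
          exact (P2 _ hu1 huu1).1 h'
        · rw [e31] at h'
          exact (P2 _ hu1 huu1).2 h'
      have c30 := fin3_aux _ _ _ _ c10 c21 c20 c32 c31
      have hmem : g ^ 3 * u * (g ^ 3)⁻¹ ∈ Subgroup.zpowers u := by
        rcases hcls _ _ hu hu3 huu huu3 c30.symm with h' | h'
        · rw [h']
          exact Subgroup.mem_zpowers u
        · rw [h']
          exact Subgroup.inv_mem _ (Subgroup.mem_zpowers u)
      have hinv := conj_zpowers_mem (g ^ 3) u hmem
      have hle : Subgroup.zpowers u ≤ T := (Subgroup.zpowers_le).2 hu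
      have hcardT := q8_card T e
      have hP : IsPGroup 2 ↥(Subgroup.zpowers u) := by
        intro x
        refine ⟨3, ?_⟩
        have h := pow_card_eq_one' (G := ↥T) (x := ⟨x, hle x.2⟩)
        rw [hcardT] at h
        apply Subtype.ext
        have h' := congrArg Subtype.val h
        rw [Subgroup.coe_pow, Subgroup.coe_one] at h' ⊢
        exact h'
      exact centralizes_cyclic_two (Subgroup.zpowers u) inferInstance hP (g ^ 3) hodd3 hinv u
        (Subgroup.mem_zpowers u)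
    -- an element of order 4
    obtain ⟨u₀, hu₀⟩ : ∃ u₀ : ↥T, e u₀ = QuaternionGroup.a 1 := ⟨e.symm _, e.apply_symm_apply _⟩
    have hu₀sq : (u₀ : Y) * u₀ ≠ 1 := by
      intro h
      have h1 : u₀ * u₀ = 1 := Subtype.ext h
      have h2 := congrArg e h1
      rw [map_mul, map_one, hu₀] at h2
      revert h2
      decide
    intro t ht
    by_cases htt : t * t = 1
    · by_cases ht1 : t = 1
      · rw [ht1]
        group
      · have h1 : e ⟨t, ht⟩ * e ⟨t, ht⟩ = 1 := by
          rw [← map_mul]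
          have : (⟨t, ht⟩ : ↥T) * ⟨t, ht⟩ = 1 := Subtype.ext htt
          rw [this, map_one]
        have h2 : e ⟨t, ht⟩ ≠ 1 := by
          intro h
          apply ht1
          have := e.injective (h.trans (map_one e).symm)
          exact congrArg Subtype.val this
        have h3 : e u₀ * e u₀ ≠ 1 := by
          rw [hu₀]
          decide
        have h4 := q8_sq _ _ h1 h2 h3
        rw [← map_mul] at h4
        have h5 : t = (u₀ : Y) * u₀ := congrArg Subtype.val (e.injective h4)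
        have h6 := key u₀ u₀.2 hu₀sq
        rw [h5]
        calc g ^ 3 * ((u₀ : Y) * u₀) * (g ^ 3)⁻¹
            = (g ^ 3 * u₀ * (g ^ 3)⁻¹) * (g ^ 3 * u₀ * (g ^ 3)⁻¹) := by group
          _ = (u₀ : Y) * u₀ := by rw [h6]
    · exact key t ht htt

end Q8

end Cfsg.Agent.Lib.Helper3.Sharp3
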