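import Mathlib
import Cfsg.Agent.Lib.Helper3.Sharp3A
import Cfsg.Agent.Lib.Helper10.UniqueOrderP
import Cfsg.Agent.S0071

/-!
# Helper3: a group with a unique involution and no normal 2-complement contains a quaternion
group of order 8 on which an element of odd order (divisible by 3) acts nontrivially.
-/

set_option autoImplicit false

namespace Cfsg.Agent.Lib.Helper3.Sharp3

open Cfsg.Agent.Lib.Helper10

variable {Y : Type*} [Group Y]

theorem pgroup_two_pow (T : Subgroup Y) (h2 : IsPGroup 2 T) :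
    ∀ t ∈ T, ∃ k : ℕ, t ^ (2 ^ k) = 1 := by
  intro t ht
  obtain ⟨k, hk⟩ := h2 ⟨t, ht⟩
  refine ⟨k, ?_⟩
  have := congrArg Subtype.val hk
  simpa using this

/-- A `2`-subgroup of a group with unique involution, normalised but not centralised by an
element of odd order, is quaternion of order 8. -/
theorem q8_of_odd_noncentralizing [Finite Y] (hu : UniqueOrderP 2 Y) (T : Subgroup Y)
    (h2T : IsPGroup 2 T) (g : Y) (hodd : Odd (orderOf g)) (hgT : ∀ t ∈ T, g * t * g⁻¹ ∈ T)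
    (hnc : ¬ ∀ t ∈ T, g * t * g⁻¹ = t) : Nonempty (↥T ≃* QuaternionGroup 2) := by
  haveI : Fact (Nat.Prime 2) := ⟨Nat.prime_two⟩
  have huT : UniqueOrderP 2 ↥T := hu.subgroup T
  rcases isCyclic_or_quaternion_of_uniqueOrderP h2T huT with hc | ⟨-, n, ⟨e⟩⟩
  · exact absurd (centralizes_cyclic_two T hc h2T g hodd hgT) hnc
  · rcases Nat.lt_or_ge n 2 with hn | hn
    · interval_cases n
      · have hc : IsCyclic ↥T := by
          haveI : IsCyclic (QuaternionGroup (2 ^ 0)) := QuaternionGroup.quaternionGroup_one_isCyclic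
          exact isCyclic_of_surjective e.symm e.symm.surjective
        exact absurd (centralizes_cyclic_two T hc h2T g hodd hgT) hnc
      · exact ⟨e⟩
    · exact absurd (centralizes_quaternion T n hn e g hodd hgT) hnc

/-- **L1.** -/
theorem exists_q8_of_no_normal_complement [Finite Y]
    (hu : UniqueOrderP 2 Y) (Q : Sylow 2 Y)
    (hno : ¬ ∃ N : Subgroup Y, N.Normal ∧ N.IsComplement' (Q : Subgroup Y)) :
    ∃ (T : Subgroup Y) (g : Y), T ≤ Q ∧ Nonempty (↥T ≃* QuaternionGroup 2) ∧ Odd (orderOf g) ∧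
      (∀ t ∈ T, g * t * g⁻¹ ∈ T) ∧ (¬ ∀ t ∈ T, g * t * g⁻¹ = t) ∧ 3 ∣ orderOf g := by
  haveI : Fact (Nat.Prime 2) := ⟨Nat.prime_two⟩
  rw [Cfsg.Agent.S0071.result Q] at hno
  push Not at hno
  obtain ⟨T, hTQ, g, hgN, hcop, hgC⟩ := hno
  have hodd : Odd (orderOf g) := by
    rw [← Nat.coprime_two_left]
    exact hcop.symm
  have hgT : ∀ t ∈ T, g * t * g⁻¹ ∈ T := by
    intro t ht
    exact ((Subgroup.mem_normalizer_iff.1 hgN) t).1 ht
  have hnc : ¬ ∀ t ∈ T, g * t * g⁻¹ = t := by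
    intro h
    exact hgC ((conj_eq_iff_mem_centralizer T g).1 h)
  have h2T : IsPGroup 2 T := Q.isPGroup'.to_le hTQ
  have key : Nonempty (↥T ≃* QuaternionGroup 2) :=
    q8_of_odd_noncentralizing hu T h2T g hodd hgT hnc
  obtain ⟨e⟩ := key
  refine ⟨T, g, hTQ, ⟨e⟩, hodd, hgT, hnc, ?_⟩
  by_contra h3
  have hcop3 : Nat.Coprime 3 (orderOf g) := (Nat.Prime.coprime_iff_not_dvd Nat.prime_three).2 h3
  exact hnc (centralizes_of_pow T g 3 hcop3 (q8_cube_centralizes T e g hodd hgT))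

end Cfsg.Agent.Lib.Helper3.Sharp3
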