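import Mathlib
import Cfsg.Agent.Lib.Helper3.Sharp3A
import Cfsg.Agent.Lib.Helper3.Sharp3B
import Cfsg.Agent.Lib.Helper10.UniqueOrderP
import Cfsg.Agent.S2910

/-!
# Helper3: the structural core for S0729.

A finite group with a unique involution, cyclic odd Sylow subgroups, at most one subgroup of
order 3 and no subgroup of index 2 has a normal quaternion subgroup `T` of order 8 with
`|Y| = 12 u`, `3 ∣ u`, `u ∣ |C_Y(T)|`.
-/

set_option autoImplicit false

namespace Cfsg.Agent.Lib.Helper3.Sharp3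

open Cfsg.Agent.Lib.Helper10

variable {Y : Type*} [Group Y]

/-- A normal subgroup of `2`-power index `> 1` yields a subgroup of index two. -/
theorem exists_index_two_of_normal_index_pow [Finite Y] (N : Subgroup Y) [N.Normal] (k : ℕ)
    (hN : N.index = 2 ^ (k + 1)) : ∃ Y₀ : Subgroup Y, Y₀.index = 2 := by
  haveI : Fact (Nat.Prime 2) := ⟨Nat.prime_two⟩
  have hcard : Nat.card (Y ⧸ N) = 2 ^ (k + 1) := by
    rw [← hN]
    rfl
  obtain ⟨K, hK⟩ := Sylow.exists_subgroup_card_pow_prime (G := Y ⧸ N) 2 (n := k)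
    (by rw [hcard, pow_succ]; exact Dvd.intro _ rfl)
  have hidx : K.index = 2 := by
    have h := Subgroup.card_mul_index K
    rw [hK, hcard, pow_succ] at h
    exact Nat.eq_of_mul_eq_mul_left (by positivity) h
  refine ⟨K.comap (QuotientGroup.mk' N), ?_⟩
  rw [Subgroup.index_comap_of_surjective K (QuotientGroup.mk'_surjective N), hidx]

/-- Elements of order coprime to the index of a normal subgroup lie in it. -/
theorem mem_of_coprime_index (W : Subgroup Y) [W.Normal] (t : Y)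
    (h : Nat.Coprime W.index (orderOf t)) : t ∈ W := by
  obtain ⟨m, hm⟩ := exists_pow_eq_self_of_coprime h
  rw [← hm]
  exact Subgroup.pow_mem _ (Subgroup.pow_index_mem W t) m

theorem q8_third : ∀ w w' : QuaternionGroup 2, w * w ≠ 1 → w' * w' ≠ 1 → w' ≠ w → w' ≠ w⁻¹ →
    (w' * w⁻¹) * (w' * w⁻¹) ≠ 1 ∧ w' * w⁻¹ ≠ w ∧ w' * w⁻¹ ≠ w⁻¹ ∧ w' * w⁻¹ ≠ w' ∧
      w' * w⁻¹ ≠ w'⁻¹ := by
  decide

theorem q8_gen : ∀ w w' : QuaternionGroup 2, w * w ≠ 1 → w' * w' ≠ 1 → w' ≠ w → w' ≠ w⁻¹ →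
    ∀ x : QuaternionGroup 2, x = 1 ∨ x = w ∨ x = w * w ∨ x = w * w * w ∨ x = w' ∨ x = w * w' ∨
      x = w * w * w' ∨ x = w * w * w * w' := by
  decide

theorem q8_third' (T : Subgroup Y) (e : ↥T ≃* QuaternionGroup 2) (u u' : Y) (hu : u ∈ T)
    (hu' : u' ∈ T) (huu : u * u ≠ 1) (huu' : u' * u' ≠ 1) (h1 : u' ≠ u) (h2 : u' ≠ u⁻¹) :
    (u' * u⁻¹) * (u' * u⁻¹) ≠ 1 ∧ u' * u⁻¹ ≠ u ∧ u' * u⁻¹ ≠ u⁻¹ := by
  have key := q8_third (e ⟨u, hu⟩) (e ⟨u', hu'⟩)
    (fun h => huu (by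
      rw [← map_mul] at h
      have h' := e.injective (h.trans (map_one e).symm)
      exact congrArg Subtype.val h'))
    (fun h => huu' (by
      rw [← map_mul] at h
      have h' := e.injective (h.trans (map_one e).symm)
      exact congrArg Subtype.val h'))
    (fun h => h1 (congrArg Subtype.val (e.injective h)))
    (fun h => h2 (by
      rw [← map_inv] at h
      exact congrArg Subtype.val (e.injective h)))
  obtain ⟨k1, k2, k3, -, -⟩ := key
  refine ⟨fun h => k1 ?_, fun h => k2 ?_, fun h => k3 ?_⟩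
  · have h' : (⟨u', hu'⟩ * (⟨u, hu⟩ : ↥T)⁻¹) * (⟨u', hu'⟩ * (⟨u, hu⟩ : ↥T)⁻¹) = 1 :=
      Subtype.ext h
    have := congrArg e h'
    simpa only [map_mul, map_inv, map_one] using this
  · have h' : (⟨u', hu'⟩ * (⟨u, hu⟩ : ↥T)⁻¹) = ⟨u, hu⟩ := Subtype.ext h
    have := congrArg e h'
    simpa only [map_mul, map_inv, map_one] using this
  · have h' : (⟨u', hu'⟩ * (⟨u, hu⟩ : ↥T)⁻¹) = (⟨u, hu⟩ : ↥T)⁻¹ := Subtype.ext h
    have := congrArg e h'
    simpa only [map_mul, map_inv, map_one] using this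

theorem q8_gen' (T : Subgroup Y) (e : ↥T ≃* QuaternionGroup 2) (u u' : Y) (hu : u ∈ T)
    (hu' : u' ∈ T) (huu : u * u ≠ 1) (huu' : u' * u' ≠ 1) (h1 : u' ≠ u) (h2 : u' ≠ u⁻¹)
    (S : Subgroup Y) (hS : u ∈ S) (hS' : u' ∈ S) : T ≤ S := by
  have key := q8_gen (e ⟨u, hu⟩) (e ⟨u', hu'⟩)
    (fun h => huu (by
      rw [← map_mul] at h
      have h' := e.injective (h.trans (map_one e).symm)
      exact congrArg Subtype.val h'))
    (fun h => huu' (by
      rw [← map_mul] at h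
      have h' := e.injective (h.trans (map_one e).symm)
      exact congrArg Subtype.val h'))
    (fun h => h1 (congrArg Subtype.val (e.injective h)))
    (fun h => h2 (by
      rw [← map_inv] at h
      exact congrArg Subtype.val (e.injective h)))
  intro x hx
  have hk := key (e ⟨x, hx⟩)
  simp only [← map_mul, ← map_one e, e.apply_eq_iff_eq] at hk
  rcases hk with h | h | h | h | h | h | h | h <;>
    (have h' := congrArg Subtype.val h
     simp only [Subgroup.coe_mul, Subgroup.coe_one] at h'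
     rw [h'])
  · exact S.one_mem
  · exact hS
  · exact S.mul_mem hS hS
  · exact S.mul_mem (S.mul_mem hS hS) hS
  · exact hS'
  · exact S.mul_mem hS hS'
  · exact S.mul_mem (S.mul_mem hS hS) hS'
  · exact S.mul_mem (S.mul_mem (S.mul_mem hS hS) hS) hS'

/-- If `g` (odd order) normalises and does not centralise the quaternion group `T`, then `T` is
generated by the commutators `[g, u]`, `u ∈ T`. -/
theorem q8_commutator_le (T : Subgroup Y) [Finite Y] (e : ↥T ≃* QuaternionGroup 2) (g : Y)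
    (hodd : Odd (orderOf g)) (hgT : ∀ t ∈ T, g * t * g⁻¹ ∈ T) (hnc : ∃ t ∈ T, g * t * g⁻¹ ≠ t)
    (S : Subgroup Y) (hS : ∀ u ∈ T, g * u * g⁻¹ * u⁻¹ ∈ S) : T ≤ S := by
  have hconj := q8_conj_ne T e g hodd hgT hnc
  have hsq : ∀ u : Y, u * u ≠ 1 → (g * u * g⁻¹) * (g * u * g⁻¹) ≠ 1 := by
    intro u hu h
    apply hu
    have : g * (u * u) * g⁻¹ = 1 := by
      rw [← h]; group
    have h2 : u * u = g⁻¹ * (g * (u * u) * g⁻¹) * g := by group
    rw [h2, this]; group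
  obtain ⟨u₁, hu₁T, hu₁⟩ : ∃ u₁ ∈ T, u₁ * u₁ ≠ 1 := by
    refine ⟨(e.symm (QuaternionGroup.a 1) : ↥T), (e.symm (QuaternionGroup.a 1)).2, ?_⟩
    intro h
    have h' : e.symm (QuaternionGroup.a 1) * e.symm (QuaternionGroup.a 1) = 1 := Subtype.ext h
    rw [← map_mul, ← map_one e.symm, e.symm.apply_eq_iff_eq] at h'
    revert h'
    decide
  have hu₂T := hgT u₁ hu₁T
  obtain ⟨h1, h2⟩ := hconj u₁ hu₁T hu₁
  obtain ⟨k1, k2, k3⟩ := q8_third' T e u₁ _ hu₁T hu₂T hu₁ (hsq u₁ hu₁) h1 h2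
  have hc₁T : g * u₁ * g⁻¹ * u₁⁻¹ ∈ T := T.mul_mem hu₂T (T.inv_mem hu₁T)
  set c₁ := g * u₁ * g⁻¹ * u₁⁻¹ with hc₁
  have hc₁S : c₁ ∈ S := hS u₁ hu₁T
  have hdT := hgT c₁ hc₁T
  obtain ⟨h1', h2'⟩ := hconj c₁ hc₁T k1
  obtain ⟨k1', k2', k3'⟩ := q8_third' T e c₁ _ hc₁T hdT k1 (hsq c₁ k1) h1' h2'
  have hc₂T : g * c₁ * g⁻¹ * c₁⁻¹ ∈ T := T.mul_mem hdT (T.inv_mem hc₁T)
  exact q8_gen' T e c₁ _ hc₁T hc₂T k1 k1' k2' k3' S hc₁S (hS c₁ hc₁T)

/-- The unique subgroup of order 3 of a group without subgroups of index 2 is central. -/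
theorem order_three_central [Finite Y]
    (h3 : ∀ A B : Subgroup Y, Nat.card A = 3 → Nat.card B = 3 → A = B)
    (hno2 : ¬ ∃ Y₀ : Subgroup Y, Y₀.index = 2) (x : Y) (hx : orderOf x = 3) :
    x ∈ Subgroup.center Y := by
  set A : Subgroup Y := Subgroup.zpowers x with hA
  have hcardA : Nat.card A = 3 := by rw [hA, Nat.card_zpowers, hx]
  haveI hAn : A.Normal := by
    constructor
    intro n hn y
    have h1 : Nat.card (A.map (MulAut.conj y).toMonoidHom) = 3 := by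
      rw [← hcardA]
      exact Nat.card_congr (A.equivMapOfInjective _ (MulAut.conj y).injective).symm.toEquiv
    have h2 := h3 _ _ h1 hcardA
    rw [← h2]
    exact ⟨n, hn, by simp [MulAut.conj_apply]⟩
  haveI : IsCyclic ↥A := by rw [hA]; infer_instance
  have hcardAut : Nat.card (MulAut ↥A) = 2 := by
    rw [IsCyclic.card_mulAut, hcardA]
    rfl
  let ψ : Y →* MulAut ↥A := MulAut.conjNormal
  have hidx : ψ.ker.index ∣ 2 := by
    rw [Subgroup.index_ker, ← hcardAut]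
    exact Subgroup.card_subgroup_dvd_card _
  have hidx1 : ψ.ker.index = 1 := by
    rcases (Nat.dvd_prime Nat.prime_two).1 hidx with h | h
    · exact h
    · exact absurd ⟨_, h⟩ hno2
  rw [Subgroup.index_eq_one] at hidx1
  rw [Subgroup.mem_center_iff]
  intro y
  have hy : y ∈ ψ.ker := by rw [hidx1]; trivial
  rw [MonoidHom.mem_ker] at hy
  have h4 : ((ψ y ⟨x, Subgroup.mem_zpowers x⟩ : ↥A) : Y) = x := by rw [hy]; rfl
  have h5 : y * x * y⁻¹ = x := h4
  calc y * x = (y * x * y⁻¹) * y := by group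
    _ = x * y := by rw [h5]

/-- Coprime action on a series: if `t` (with `t ^ k = 1`) centralises `D`, moves `m` within its
`D`-coset, and `D` has no nontrivial elements killed by `k`, then `t` centralises `m`. -/
theorem centralizes_of_series (t m : Y) (D : Subgroup Y) (k : ℕ) (hk : t ^ k = 1)
    (hd : t * m * t⁻¹ * m⁻¹ ∈ D) (hc : ∀ d ∈ D, t * d * t⁻¹ = d)
    (hcop : ∀ d ∈ D, d ^ k = 1 → d = 1) : t * m * t⁻¹ = m := by
  obtain ⟨d, hdd⟩ : ∃ d, d = t * m * t⁻¹ * m⁻¹ := ⟨_, rfl⟩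
  rw [← hdd] at hd
  have hpow : ∀ j : ℕ, t ^ j * m * (t ^ j)⁻¹ = d ^ j * m := by
    intro j
    induction j with
    | zero => simp
    | succ j ih =>
      have e1 : t ^ (j + 1) * m * (t ^ (j + 1))⁻¹ = t * (t ^ j * m * (t ^ j)⁻¹) * t⁻¹ := by
        rw [pow_succ']; group
      rw [e1, ih]
      have e2 : t * (d ^ j * m) * t⁻¹ = (t * d ^ j * t⁻¹) * (t * m * t⁻¹) := by group
      rw [e2, hc _ (D.pow_mem hd j)]
      have e3 : t * m * t⁻¹ = d * m := by rw [hdd]; group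
      rw [e3, pow_succ, mul_assoc]
  have h1 := hpow k
  rw [hk] at h1
  simp only [one_mul, inv_one, mul_one] at h1
  have h2 : d ^ k = 1 := by
    have : d ^ k * m = 1 * m := by rw [← h1, one_mul]
    exact mul_right_cancel this
  have h3 := hcop d hd h2
  calc t * m * t⁻¹ = d * m := by rw [hdd]; group
    _ = m := by rw [h3, one_mul]

/-- In a group with a normal Z-subgroup `M`, commutators centralise `⁅M, M⁆` and act trivially on
`M / ⁅M, M⁆`. -/
theorem commutator_acts_trivially [Finite Y] (M : Subgroup Y) [M.Normal] (hZ : IsZGroup ↥M)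
    (a b : Y) :
    (∀ d ∈ ⁅M, M⁆, (a * b * a⁻¹ * b⁻¹) * d * (a * b * a⁻¹ * b⁻¹)⁻¹ = d) ∧
    (∀ m ∈ M, (a * b * a⁻¹ * b⁻¹) * m * (a * b * a⁻¹ * b⁻¹)⁻¹ * m⁻¹ ∈ ⁅M, M⁆) := by
  haveI hDn : (⁅M, M⁆ : Subgroup Y).Normal := Subgroup.commutator_normal M M
  have hmap := Subgroup.map_subtype_commutator M
  have hDc : IsCyclic ↥(⁅M, M⁆ : Subgroup Y) := by
    haveI := IsZGroup.isCyclic_commutator ↥M
    rw [← hmap]
    exact isCyclic_of_surjective _ (MonoidHom.subgroupMap_surjective M.subtype (commutator ↥M))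
  refine ⟨commutator_centralizes_cyclic_normal _ hDc a b, ?_⟩
  -- the quotient
  set D : Subgroup Y := ⁅M, M⁆ with hD
  let π : Y →* Y ⧸ D := QuotientGroup.mk' D
  set Z : Subgroup (Y ⧸ D) := M.map π with hZdef
  haveI hZn : Z.Normal := Subgroup.Normal.map inferInstance π (QuotientGroup.mk'_surjective D)
  have hZc : IsCyclic ↥Z := by
    haveI := IsZGroup.isCyclic_abelianization (G := ↥M)
    let φ : ↥M →* ↥Z := π.subgroupMap M
    have hφ : Function.Surjective φ := MonoidHom.subgroupMap_surjective π M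
    have hker : commutator ↥M ≤ φ.ker := by
      intro x hx
      rw [MonoidHom.mem_ker]
      apply Subtype.ext
      show π (x : Y) = 1
      have hxD : (x : Y) ∈ D := by
        rw [← hmap]
        exact Subgroup.mem_map_of_mem M.subtype hx
      exact (QuotientGroup.eq_one_iff _).2 hxD
    let φ' : Abelianization ↥M →* ↥Z := QuotientGroup.lift (commutator ↥M) φ hker
    have hφ' : Function.Surjective φ' := by
      intro z
      obtain ⟨m, hm⟩ := hφ z
      exact ⟨QuotientGroup.mk m, hm⟩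
    exact isCyclic_of_surjective φ' hφ'
  intro m hm
  have key := commutator_centralizes_cyclic_normal Z hZc (π a) (π b) (π m)
    (Subgroup.mem_map_of_mem π hm)
  have key' : π ((a * b * a⁻¹ * b⁻¹) * m * (a * b * a⁻¹ * b⁻¹)⁻¹) = π m := by
    rw [map_mul, map_mul, map_inv, map_mul, map_mul, map_mul, map_inv, map_inv]
    exact key
  have h4 := (QuotientGroup.eq (s := D)).1 key'.symm
  have h5 := D.inv_mem h4
  have e : (m⁻¹ * ((a * b * a⁻¹ * b⁻¹) * m * (a * b * a⁻¹ * b⁻¹)⁻¹))⁻¹ =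
      ((a * b * a⁻¹ * b⁻¹) * m * (a * b * a⁻¹ * b⁻¹)⁻¹)⁻¹ * m := by group
  rw [e] at h5
  -- conjugate: x⁻¹ m ∈ D ⇒ x m⁻¹ ... use normality
  have h6 := hDn.conj_mem _ h5 ((a * b * a⁻¹ * b⁻¹) * m * (a * b * a⁻¹ * b⁻¹)⁻¹)
  have h7 := D.inv_mem h6
  have e2 : ((a * b * a⁻¹ * b⁻¹) * m * (a * b * a⁻¹ * b⁻¹)⁻¹ *
      (((a * b * a⁻¹ * b⁻¹) * m * (a * b * a⁻¹ * b⁻¹)⁻¹)⁻¹ * m) *
      ((a * b * a⁻¹ * b⁻¹) * m * (a * b * a⁻¹ * b⁻¹)⁻¹)⁻¹)⁻¹ =
      (a * b * a⁻¹ * b⁻¹) * m * (a * b * a⁻¹ * b⁻¹)⁻¹ * m⁻¹ := by group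
  rw [e2] at h7
  exact h7

/-- The unique involution is central. -/
theorem unique_involution_central (hu : UniqueOrderP 2 Y) (z : Y) (hz : z ^ 2 = 1) (hz1 : z ≠ 1) :
    z ∈ Subgroup.center Y := by
  rw [Subgroup.mem_center_iff]
  intro y
  have h1 : (y * z * y⁻¹) ^ 2 = 1 := by
    rw [conj_pow, hz]; group
  have h2 := hu z (y * z * y⁻¹) hz hz1 h1
  obtain ⟨k, hk⟩ := Subgroup.mem_zpowers_iff.1 h2
  have h3 : y * z * y⁻¹ = 1 ∨ y * z * y⁻¹ = z := by
    rcases Int.even_or_odd' k with ⟨j, hj | hj⟩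
    · left
      rw [← hk, hj, zpow_mul, zpow_ofNat, hz, one_zpow]
    · right
      rw [← hk, hj, zpow_add, zpow_mul, zpow_ofNat, hz, one_zpow, one_mul, zpow_one]
  rcases h3 with h3 | h3
  · exfalso
    apply hz1
    calc z = y⁻¹ * (y * z * y⁻¹) * y := by group
      _ = 1 := by rw [h3]; group
  · calc y * z = (y * z * y⁻¹) * y := by group
      _ = z * y := by rw [h3]

theorem pow_mem_of_coprime (S : Subgroup Y) (x : Y) (m n : ℕ) (hm : x ^ m ∈ S) (hn : x ^ n ∈ S)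
    (hc : Nat.Coprime m n) : x ∈ S := by
  obtain ⟨a, b, hab⟩ := (Nat.isCoprime_iff_coprime.2 hc)
  have h1 : x = (x ^ m) ^ a * (x ^ n) ^ b := by
    rw [← zpow_natCast x m, ← zpow_natCast x n, ← zpow_mul, ← zpow_mul, ← zpow_add,
      mul_comm (m : ℤ), mul_comm (n : ℤ), hab, zpow_one]
  rw [h1]
  exact S.mul_mem (S.zpow_mem hm a) (S.zpow_mem hn b)

theorem exists_normal_three_complement [Finite Y]
    (h3 : ∀ A B : Subgroup Y, Nat.card A = 3 → Nat.card B = 3 → A = B)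
    (hno2 : ¬ ∃ Y₀ : Subgroup Y, Y₀.index = 2) (hdiv : 3 ∣ Nat.card Y) :
    ∃ (P : Sylow 3 Y) (W : Subgroup Y), W.Normal ∧ W.IsComplement' (P : Subgroup Y) := by
  haveI : Fact (Nat.Prime 3) := ⟨Nat.prime_three⟩
  have P₀ : Sylow 3 Y := default
  have hZ : Cfsg.omegaOne 3 (P₀ : Subgroup Y) ≤ Subgroup.center Y := by
    unfold Cfsg.omegaOne
    rw [Subgroup.closure_le]
    rintro x ⟨-, hx3⟩
    by_cases hx1 : x = 1
    · rw [hx1]; exact Subgroup.one_mem _
    · exact order_three_central h3 hno2 x (orderOf_eq_prime hx3 hx1)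
  exact (Cfsg.Agent.S2910.result (by norm_num) hdiv P₀ hZ).1

/-- A group with a unique involution and order prime to 3 has a normal 2-complement. -/
theorem normal_two_complement_of_three_prime {X : Type*} [Group X] [Finite X]
    (hu : UniqueOrderP 2 X) (hcop : Nat.Coprime (Nat.card X) 3) (Q : Sylow 2 X) :
    ∃ M : Subgroup X, M.Normal ∧ M.IsComplement' (Q : Subgroup X) := by
  by_contra hno
  obtain ⟨T, g, -, -, -, -, -, h3g⟩ := exists_q8_of_no_normal_complement hu Q hno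
  have h1 : 3 ∣ Nat.card X := h3g.trans (orderOf_dvd_natCard g)
  have h2 : 3 ∣ Nat.gcd (Nat.card X) 3 := Nat.dvd_gcd h1 dvd_rfl
  rw [hcop] at h2
  norm_num at h2

/-- Odd order subgroups of a group with cyclic odd Sylow subgroups are Z-groups. -/
theorem isZGroup_of_odd [Finite Y]
    (hcyc : ∀ p : ℕ, p.Prime → p ≠ 2 → ∀ P : Sylow p Y, IsCyclic P)
    (M : Subgroup Y) (hodd : Odd (Nat.card M)) : IsZGroup ↥M := by
  constructor
  intro p hp P'
  haveI : Fact p.Prime := ⟨hp⟩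
  by_cases hp2 : p = 2
  · subst hp2
    obtain ⟨n, hn⟩ := IsPGroup.exists_card_eq P'.2
    have hdvd : Nat.card ↥(P' : Subgroup ↥M) ∣ Nat.card ↥M := Subgroup.card_subgroup_dvd_card _
    have hn0 : n = 0 := by
      by_contra hn0
      have h2 : 2 ∣ Nat.card ↥M := by
        refine Dvd.dvd.trans ?_ hdvd
        rw [hn]
        exact dvd_pow_self 2 hn0
      exact (Nat.not_even_iff_odd.2 hodd) (even_iff_two_dvd.2 h2)
    rw [hn0, pow_zero] at hn
    haveI : Subsingleton ↥(P' : Subgroup ↥M) := (Nat.card_eq_one_iff_unique.1 hn).1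
    exact isCyclic_of_subsingleton
  · set R : Subgroup Y := (P' : Subgroup ↥M).map M.subtype with hR
    have hRp : IsPGroup p ↥R := P'.2.map M.subtype
    obtain ⟨S, hS⟩ := hRp.exists_le_sylow
    haveI := hcyc p hp hp2 S
    haveI : IsCyclic ↥R := Subgroup.isCyclic_of_le hS
    let ε : ↥(P' : Subgroup ↥M) ≃* ↥R :=
      (P' : Subgroup ↥M).equivMapOfInjective M.subtype M.subtype_injective
    exact isCyclic_of_surjective ε.symm ε.symm.surjective

/-- The quaternion group `T`, acted on nontrivially by an odd-order element, centralises every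
normal Z-subgroup of odd order. -/
theorem q8_centralizes_zgroup [Finite Y] (T : Subgroup Y) (e : ↥T ≃* QuaternionGroup 2) (g : Y)
    (hodd : Odd (orderOf g)) (hgT : ∀ t ∈ T, g * t * g⁻¹ ∈ T) (hnc : ∃ t ∈ T, g * t * g⁻¹ ≠ t)
    (M : Subgroup Y) [hMn : M.Normal] (hZ : IsZGroup ↥M) (hMo : Odd (Nat.card M)) :
    ∀ t ∈ T, ∀ m ∈ M, t * m * t⁻¹ = m := by
  haveI hDn : (⁅M, M⁆ : Subgroup Y).Normal := Subgroup.commutator_normal M M
  have hDM : (⁅M, M⁆ : Subgroup Y) ≤ M := Subgroup.commutator_le_right M M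
  -- S₁
  have h1 : T ≤ Subgroup.centralizer ((⁅M, M⁆ : Subgroup Y) : Set Y) := by
    apply q8_commutator_le T e g hodd hgT hnc
    intro u _
    rw [← conj_eq_iff_mem_centralizer]
    exact (commutator_acts_trivially M hZ g u).1
  -- S₂
  let S₂ : Subgroup Y :=
    { carrier := {y | ∀ m ∈ M, y * m * y⁻¹ * m⁻¹ ∈ (⁅M, M⁆ : Subgroup Y)}
      one_mem' := by
        intro m _
        simp only [one_mul, inv_one, mul_one, mul_inv_cancel]
        exact Subgroup.one_mem _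
      mul_mem' := by
        intro y y' hy hy' m hm
        have e1 : y * y' * m * (y * y')⁻¹ * m⁻¹ =
            (y * (y' * m * y'⁻¹ * m⁻¹) * y⁻¹) * (y * m * y⁻¹ * m⁻¹) := by group
        rw [e1]
        exact Subgroup.mul_mem _ (hDn.conj_mem _ (hy' m hm) y) (hy m hm)
      inv_mem' := by
        intro y hy m hm
        have hm' : y⁻¹ * m * y ∈ M := by
          have := hMn.conj_mem m hm y⁻¹
          rwa [inv_inv] at this
        have h := Subgroup.inv_mem _ (hy _ hm')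
        have e1 : (y * (y⁻¹ * m * y) * y⁻¹ * (y⁻¹ * m * y)⁻¹)⁻¹ = y⁻¹ * m * y⁻¹⁻¹ * m⁻¹ := by
          group
        rw [e1] at h
        exact h }
  have h2 : T ≤ S₂ := by
    apply q8_commutator_le T e g hodd hgT hnc
    intro u _
    exact (commutator_acts_trivially M hZ g u).2
  have hcardT := q8_card T e
  intro t ht m hm
  apply centralizes_of_series t m (⁅M, M⁆ : Subgroup Y) 8
  · have h := pow_card_eq_one' (G := ↥T) (x := ⟨t, ht⟩)
    rw [hcardT] at h
    have h' := congrArg Subtype.val h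
    rwa [Subgroup.coe_pow, Subgroup.coe_one] at h'
  · exact h2 ht m hm
  · intro d hd
    exact (conj_eq_iff_mem_centralizer _ t).2 (h1 ht) d hd
  · intro d hd hd8
    have ho1 : orderOf d ∣ 8 := orderOf_dvd_of_pow_eq_one hd8
    have ho2 : orderOf d ∣ Nat.card M := Subgroup.orderOf_dvd_natCard M (hDM hd)
    have ho3 : Nat.Coprime 8 (Nat.card M) := by
      have : Nat.Coprime 2 (Nat.card M) := Nat.coprime_two_left.2 hMo
      exact Nat.Coprime.pow_left 3 this
    have := Nat.dvd_gcd ho1 ho2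
    rw [ho3] at this
    exact orderOf_eq_one_iff.1 (Nat.dvd_one.1 this)

/-- Decomposition of elements of `W` along a complement. -/
theorem complement_decomp (W : Subgroup Y) (Q M : Subgroup ↥W) (hc : M.IsComplement' Q) :
    ∀ w ∈ W, ∃ q ∈ Q.map W.subtype, ∃ m ∈ M.map W.subtype, w = q * m := by
  intro w hw
  obtain ⟨x, hx, -⟩ := (Subgroup.isComplement'_def.1 hc.symm).existsUnique ⟨w, hw⟩
  refine ⟨((x.1 : ↥W) : Y), Subgroup.mem_map_of_mem W.subtype x.1.2, ((x.2 : ↥W) : Y),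
    Subgroup.mem_map_of_mem W.subtype x.2.2, ?_⟩
  have := congrArg Subtype.val hx
  simpa using this.symm

theorem frattini_q8 [Finite Y] (hu : UniqueOrderP 2 Y) (W : Subgroup Y) [W.Normal]
    (Q_W : Sylow 2 ↥W) (M : Subgroup ↥W) (hMc : M.IsComplement' (Q_W : Subgroup ↥W))
    (T : Subgroup Y) (e : ↥T ≃* QuaternionGroup 2)
    (hTQ : T ≤ (Q_W : Subgroup ↥W).map W.subtype)
    (g : Y) (hodd : Odd (orderOf g)) (hgT : ∀ t ∈ T, g * t * g⁻¹ ∈ T)
    (hnc : ¬ ∀ t ∈ T, g * t * g⁻¹ = t)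
    (hTM : ∀ t ∈ T, ∀ m ∈ M.map W.subtype, t * m * t⁻¹ = m) :
    T = (Q_W : Subgroup ↥W).map W.subtype := by
  haveI : Fact (Nat.Prime 2) := ⟨Nat.prime_two⟩
  set Q₀ : Subgroup Y := (Q_W : Subgroup ↥W).map W.subtype with hQ₀
  have hfr := Sylow.normalizer_sup_eq_top Q_W
  rw [← hQ₀] at hfr
  have hg : g ∈ (Subgroup.normalizer (Q₀ : Set Y) ⊔ W : Subgroup Y) := by rw [hfr]; trivial
  rw [← SetLike.mem_coe, Subgroup.mul_normal, Set.mem_mul] at hg
  obtain ⟨n, hn, w, hw, hnw⟩ := hg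
  obtain ⟨q, hq, m₀, hm₀, hwqm⟩ := complement_decomp W (Q_W : Subgroup ↥W) M hMc w hw
  set g₁ := n * q with hg₁
  have hgg : g = g₁ * m₀ := by rw [← hnw, hwqm, hg₁, mul_assoc]
  have hg₁N : g₁ ∈ Subgroup.normalizer (Q₀ : Set Y) :=
    Subgroup.mul_mem _ hn (Subgroup.le_normalizer hq)
  -- g₁ acts on T like g
  have hact : ∀ t ∈ T, g₁ * t * g₁⁻¹ = g * t * g⁻¹ := by
    intro t ht
    have h1 := hTM t ht m₀ hm₀
    have h2 : m₀ * t * m₀⁻¹ = t := by
      calc m₀ * t * m₀⁻¹ = (t * m₀ * t⁻¹) * t * m₀⁻¹ := by rw [h1]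
        _ = t := by group
    rw [hgg]
    calc g₁ * t * g₁⁻¹ = g₁ * (m₀ * t * m₀⁻¹) * g₁⁻¹ := by rw [h2]
      _ = g₁ * m₀ * t * (g₁ * m₀)⁻¹ := by group
  have hg₁T : ∀ t ∈ T, g₁ * t * g₁⁻¹ ∈ T := by
    intro t ht
    rw [hact t ht]
    exact hgT t ht
  have hcube : g₁ ^ 3 ∈ Subgroup.centralizer (T : Set Y) := by
    rw [← conj_eq_iff_mem_centralizer]
    intro t ht
    have h0 := q8_cube_centralizes T e g hodd hgT t ht
    have e1 : g₁ ^ 3 * t * (g₁ ^ 3)⁻¹ = g₁ * (g₁ * (g₁ * t * g₁⁻¹) * g₁⁻¹) * g₁⁻¹ := by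
      rw [pow_succ, pow_two]; group
    rw [e1, hact t ht, hact _ (hgT t ht), hact _ (hgT _ (hgT t ht))]
    have e2 : g * (g * (g * t * g⁻¹) * g⁻¹) * g⁻¹ = g ^ 3 * t * (g ^ 3)⁻¹ := by
      rw [pow_succ, pow_two]; group
    rw [e2, h0]
  have ho : orderOf g₁ ≠ 0 := (orderOf_pos g₁).ne'
  obtain ⟨k, o', ho', hko⟩ := Nat.exists_eq_two_pow_mul_odd ho
  set g₂ := g₁ ^ (2 ^ k) with hg₂
  have hg₂odd : Odd (orderOf g₂) := by
    rw [hg₂, orderOf_pow_of_dvd (by positivity) (by rw [hko]; exact Dvd.intro _ rfl), hko,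
      Nat.mul_div_cancel_left _ (by positivity)]
    exact ho'
  have hg₂N : g₂ ∈ Subgroup.normalizer (Q₀ : Set Y) := Subgroup.pow_mem _ hg₁N _
  have hg₂Q : ∀ x ∈ Q₀, g₂ * x * g₂⁻¹ ∈ Q₀ := by
    intro x hx
    exact ((Subgroup.mem_normalizer_iff.1 hg₂N) x).1 hx
  have hg₂nc : ¬ ∀ x ∈ Q₀, g₂ * x * g₂⁻¹ = x := by
    intro hall
    have h1 : g₁ ^ (2 ^ k) ∈ Subgroup.centralizer (T : Set Y) := by
      rw [← conj_eq_iff_mem_centralizer]
      intro t ht
      exact hall t (hTQ ht)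
    have h2 : g₁ ∈ Subgroup.centralizer (T : Set Y) :=
      pow_mem_of_coprime _ g₁ (2 ^ k) 3 h1 hcube (Nat.Coprime.pow_left k (by norm_num))
    rw [← conj_eq_iff_mem_centralizer] at h2
    apply hnc
    intro t ht
    rw [← hact t ht]
    exact h2 t ht
  have hQ₀p : IsPGroup 2 ↥Q₀ := Q_W.2.map W.subtype
  obtain ⟨e'⟩ := q8_of_odd_noncentralizing hu Q₀ hQ₀p g₂ hg₂odd hg₂Q hg₂nc
  apply Subgroup.eq_of_le_of_card_ge hTQ
  rw [q8_card T e, q8_card Q₀ e']

/-- `W = M₀ × Q₀` with `Q₀` quaternion centralising the odd-order group `M₀`: `Q₀` is normal in the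
whole group. -/
theorem q8_normal [Finite Y] (W : Subgroup Y) [hWn : W.Normal] (Q₀ M₀ : Subgroup Y)
    (hW : ∀ w ∈ W, ∃ q ∈ Q₀, ∃ m ∈ M₀, w = q * m) (hQW : Q₀ ≤ W)
    (e : ↥Q₀ ≃* QuaternionGroup 2) (hMo : Odd (Nat.card M₀))
    (hTM : ∀ t ∈ Q₀, ∀ m ∈ M₀, t * m * t⁻¹ = m) : Q₀.Normal := by
  constructor
  intro t ht y
  obtain ⟨q, hq, m, hm, hqm⟩ := hW _ (hWn.conj_mem t (hQW ht) y)
  have hcard := q8_card Q₀ e
  have h8 : ∀ x ∈ Q₀, x ^ 8 = 1 := by
    intro x hx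
    have h := pow_card_eq_one' (G := ↥Q₀) (x := ⟨x, hx⟩)
    rw [hcard] at h
    have h' := congrArg Subtype.val h
    rwa [Subgroup.coe_pow, Subgroup.coe_one] at h'
  have hcomm : Commute q m := by
    have := hTM q hq m hm
    show q * m = m * q
    calc q * m = (q * m * q⁻¹) * q := by group
      _ = m * q := by rw [this]
  have h1 : (y * t * y⁻¹) ^ 8 = 1 := by
    rw [conj_pow, h8 t ht]; group
  rw [hqm, hcomm.mul_pow, h8 q hq, one_mul] at h1
  have ho1 : orderOf m ∣ 8 := orderOf_dvd_of_pow_eq_one h1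
  have ho2 : orderOf m ∣ Nat.card M₀ := Subgroup.orderOf_dvd_natCard M₀ hm
  have ho3 : Nat.Coprime 8 (Nat.card M₀) := by
    have : Nat.Coprime 2 (Nat.card M₀) := Nat.coprime_two_left.2 hMo
    exact Nat.Coprime.pow_left 3 this
  have := Nat.dvd_gcd ho1 ho2
  rw [ho3] at this
  have hm1 : m = 1 := orderOf_eq_one_iff.1 (Nat.dvd_one.1 this)
  rw [hqm, hm1, mul_one]
  exact hq

/-- **The structural core.** -/
theorem core [Finite Y] (hu : UniqueOrderP 2 Y) (heven : Even (Nat.card Y))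
    (hcyc : ∀ p : ℕ, p.Prime → p ≠ 2 → ∀ P : Sylow p Y, IsCyclic P)
    (h3 : ∀ A B : Subgroup Y, Nat.card A = 3 → Nat.card B = 3 → A = B)
    (hno2 : ¬ ∃ Y₀ : Subgroup Y, Y₀.index = 2) :
    ∃ (T : Subgroup Y) (u : ℕ), Nonempty (↥T ≃* QuaternionGroup 2) ∧ T.Normal ∧
      Nat.card Y = 12 * u ∧ 3 ∣ u ∧ u ∣ Nat.card (Subgroup.centralizer (T : Set Y)) := by
  haveI : Fact (Nat.Prime 2) := ⟨Nat.prime_two⟩
  haveI : Fact (Nat.Prime 3) := ⟨Nat.prime_three⟩
  -- Step A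
  have Q : Sylow 2 Y := default
  have h2dvd : 2 ∣ Nat.card Y := even_iff_two_dvd.1 heven
  have hnoQ : ¬ ∃ N : Subgroup Y, N.Normal ∧ N.IsComplement' (Q : Subgroup Y) := by
    rintro ⟨N, hN, hc⟩
    haveI := hN
    obtain ⟨k, hk⟩ := IsPGroup.exists_card_eq Q.2
    have hidx : N.index = 2 ^ k := by rw [hc.symm.index_eq_card]; exact hk
    have hk0 : k ≠ 0 := by
      rintro rfl
      have := Q.dvd_card_of_dvd_card h2dvd
      rw [hk, pow_zero] at this
      norm_num at this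
    obtain ⟨k', rfl⟩ := Nat.exists_eq_succ_of_ne_zero hk0
    exact hno2 (exists_index_two_of_normal_index_pow N k' hidx)
  -- Step B
  obtain ⟨T, g, -, ⟨e⟩, hodd, hgT, hnc, h3g⟩ := exists_q8_of_no_normal_complement hu Q hnoQ
  have hnc' : ∃ t ∈ T, g * t * g⁻¹ ≠ t := by
    push Not at hnc
    exact hnc
  have hcardT := q8_card T e
  have hT8 : ∀ t ∈ T, t ^ 8 = 1 := by
    intro t ht
    have h := pow_card_eq_one' (G := ↥T) (x := ⟨t, ht⟩)
    rw [hcardT] at h
    have h' := congrArg Subtype.val h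
    rwa [Subgroup.coe_pow, Subgroup.coe_one] at h'
  -- Step C
  have h3dvd : 3 ∣ Nat.card Y := h3g.trans (orderOf_dvd_natCard g)
  obtain ⟨P, W, hWn, hWc⟩ := exists_normal_three_complement h3 hno2 h3dvd
  haveI := hWn
  obtain ⟨m, hm⟩ := IsPGroup.exists_card_eq P.2
  have hWidx : W.index = 3 ^ m := by rw [hWc.symm.index_eq_card]; exact hm
  have hm0 : m ≠ 0 := by
    rintro rfl
    have := P.dvd_card_of_dvd_card h3dvd
    rw [hm, pow_zero] at this
    norm_num at this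
  have hcopW : Nat.Coprime (Nat.card W) 3 := by
    have h1 := P.card_coprime_index
    rw [hWc.index_eq_card, hm] at h1
    exact (Nat.Coprime.coprime_dvd_left (dvd_pow_self 3 hm0) h1).symm
  -- Step D
  have hTW : T ≤ W := by
    intro t ht
    apply mem_of_coprime_index W t
    rw [hWidx]
    have ho : orderOf t ∣ 8 := orderOf_dvd_of_pow_eq_one (hT8 t ht)
    exact Nat.Coprime.coprime_dvd_right ho (Nat.Coprime.pow_left m (by norm_num))
  -- Step E
  have hT2 : IsPGroup 2 ↥T := IsPGroup.of_card (n := 3) (by rw [hcardT]; norm_num)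
  have hTW2 : IsPGroup 2 ↥(T.subgroupOf W) := hT2.comap_of_injective W.subtype W.subtype_injective
  obtain ⟨Q_W, hQ_W⟩ := hTW2.exists_le_sylow
  obtain ⟨M, hMn, hMc⟩ := normal_two_complement_of_three_prime (hu.subgroup W) hcopW Q_W
  haveI := hMn
  set M₀ : Subgroup Y := M.map W.subtype with hM₀
  set Q₀ : Subgroup Y := (Q_W : Subgroup ↥W).map W.subtype with hQ₀
  have hTQ₀ : T ≤ Q₀ := by
    intro t ht
    have : (⟨t, hTW ht⟩ : ↥W) ∈ (Q_W : Subgroup ↥W) := hQ_W (Subgroup.mem_subgroupOf.2 ht)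
    exact ⟨⟨t, hTW ht⟩, this, rfl⟩
  have hcM : Nat.card M₀ = Nat.card M := Subgroup.card_map_of_injective W.subtype_injective
  have hcQ : Nat.card Q₀ = Nat.card (Q_W : Subgroup ↥W) :=
    Subgroup.card_map_of_injective W.subtype_injective
  have hMQ : Nat.card M * Nat.card (Q_W : Subgroup ↥W) = Nat.card W := hMc.card_mul_card
  have h2Q : 2 ∣ Nat.card (Q_W : Subgroup ↥W) := by
    have h1 : Nat.card ↥(T.subgroupOf W) ∣ Nat.card (Q_W : Subgroup ↥W) :=
      Subgroup.card_dvd_of_le hQ_W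
    rw [Nat.card_congr (Subgroup.subgroupOfEquivOfLe hTW).toEquiv, hcardT] at h1
    exact Dvd.dvd.trans (by norm_num) h1
  have hMo' : Odd (Nat.card M) := by
    have h1 := Q_W.card_coprime_index
    rw [hMc.index_eq_card] at h1
    rw [← Nat.coprime_two_left]
    exact Nat.Coprime.coprime_dvd_left h2Q h1
  have hMo : Odd (Nat.card M₀) := by rw [hcM]; exact hMo'
  obtain ⟨j, hj⟩ := IsPGroup.exists_card_eq Q_W.2
  have hMidx : M.index = 2 ^ j := by rw [hMc.symm.index_eq_card]; exact hj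
  haveI hM₀n : M₀.Normal := by
    constructor
    intro x hx y
    obtain ⟨m', hm', rfl⟩ := hx
    have hyW : y * (W.subtype m') * y⁻¹ ∈ W := hWn.conj_mem _ m'.2 y
    have hmem : (⟨y * (W.subtype m') * y⁻¹, hyW⟩ : ↥W) ∈ M := by
      apply mem_of_coprime_index M
      rw [hMidx, Subgroup.orderOf_mk, orderOf_conj']
      have ho : orderOf (W.subtype m') ∣ Nat.card M := by
        rw [Subgroup.coe_subtype, Subgroup.orderOf_coe]
        have := Subgroup.orderOf_dvd_natCard M hm'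
        exact this
      have hc2 : Nat.Coprime 2 (Nat.card M) := Nat.coprime_two_left.2 hMo'
      exact Nat.Coprime.coprime_dvd_right ho (Nat.Coprime.pow_left j hc2)
    exact ⟨_, hmem, rfl⟩
  -- Step F, G
  have hZ : IsZGroup ↥M₀ := isZGroup_of_odd hcyc M₀ hMo
  have hTM := q8_centralizes_zgroup T e g hodd hgT hnc' M₀ hZ hMo
  -- Step H
  have hTeq : T = Q₀ := frattini_q8 hu W Q_W M hMc T e hTQ₀ g hodd hgT hnc hTM
  -- Step I
  have hTn : T.Normal := by
    apply q8_normal W T M₀ _ hTW e hMo hTM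
    rw [hTeq]
    exact complement_decomp W (Q_W : Subgroup ↥W) M hMc
  -- Step J
  have hcardY : Nat.card Y = Nat.card M₀ * 8 * 3 ^ m := by
    rw [← hWc.card_mul_card, ← hMQ, hm, hcM, ← hcQ, ← hTeq, hcardT]
  have hgC3 : g ^ 3 ∈ Subgroup.centralizer (T : Set Y) := by
    rw [← conj_eq_iff_mem_centralizer]
    exact q8_cube_centralizes T e g hodd hgT
  have hm2 : 2 ≤ m := by
    by_contra hlt
    have hm1 : m = 1 := by omega
    obtain ⟨m', hm'⟩ := h3g
    have hm'0 : m' ≠ 0 := by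
      rintro rfl
      rw [mul_zero] at hm'
      exact (orderOf_pos g).ne' hm'
    have hx3 : orderOf (g ^ m') = 3 := by
      rw [orderOf_pow_of_dvd hm'0 (by rw [hm']; exact Dvd.intro_left _ rfl), hm',
        Nat.mul_div_cancel _ (Nat.pos_of_ne_zero hm'0)]
    have hcop : Nat.Coprime m' 3 := by
      rw [Nat.coprime_comm, Nat.Prime.coprime_iff_not_dvd Nat.prime_three]
      rintro ⟨m'', rfl⟩
      have h9 : 9 ∣ Nat.card Y := by
        refine Dvd.dvd.trans ?_ (orderOf_dvd_natCard g)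
        rw [hm']
        exact ⟨m'', by ring⟩
      rw [← hWc.card_mul_card, hm, hm1, pow_one] at h9
      have h3W : 3 ∣ Nat.card W := by
        have : (3 * 3) ∣ Nat.card W * 3 := by norm_num; exact h9
        exact Nat.dvd_of_mul_dvd_mul_right (by norm_num) this
      have := Nat.dvd_gcd h3W (dvd_refl 3)
      rw [hcopW] at this
      norm_num at this
    have hxc : g ^ m' ∈ Subgroup.centralizer (T : Set Y) :=
      Subgroup.center_le_centralizer _ (order_three_central h3 hno2 _ hx3)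
    have hgc := pow_mem_of_coprime _ g m' 3 hxc hgC3 hcop
    rw [← conj_eq_iff_mem_centralizer] at hgc
    exact hnc hgc
  obtain ⟨m₁, rfl⟩ : ∃ m₁, m = m₁ + 2 := ⟨m - 2, by omega⟩
  refine ⟨T, Nat.card M₀ * 2 * 3 ^ (m₁ + 1), ⟨e⟩, hTn, ?_, ?_, ?_⟩
  · rw [hcardY]; ring
  · exact Dvd.dvd.mul_left (dvd_pow_self 3 (by omega)) _
  · -- divisibility
    have hd1 : Nat.card M₀ ∣ Nat.card (Subgroup.centralizer (T : Set Y)) := by
      apply Subgroup.card_dvd_of_le
      intro x hx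
      rw [Subgroup.mem_centralizer_iff]
      intro t ht
      have := hTM t ht x hx
      calc t * x = (t * x * t⁻¹) * t := by group
        _ = x * t := by rw [this]
    have hd2 : 2 ∣ Nat.card (Subgroup.centralizer (T : Set Y)) := by
      obtain ⟨z, hz⟩ := exists_prime_orderOf_dvd_card' (G := Y) 2 h2dvd
      have hz1 : z ≠ 1 := by
        rintro rfl
        rw [orderOf_one] at hz
        norm_num at hz
      have hz2 : z ^ 2 = 1 := by rw [← hz]; exact pow_orderOf_eq_one z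
      have hzc := Subgroup.center_le_centralizer (T : Set Y)
        (unique_involution_central hu z hz2 hz1)
      rw [← hz]
      exact Subgroup.orderOf_dvd_natCard _ hzc
    have hd3 : 3 ^ (m₁ + 1) ∣ Nat.card (Subgroup.centralizer (T : Set Y)) := by
      haveI := hcyc 3 Nat.prime_three (by norm_num) P
      obtain ⟨x₀, hx₀⟩ := IsCyclic.exists_generator (α := ↥(P : Subgroup Y))
      have ho : orderOf (x₀ : Y) = 3 ^ (m₁ + 2) := by
        rw [Subgroup.orderOf_coe, orderOf_eq_card_of_forall_mem_zpowers hx₀, hm]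
      have hxodd : Odd (orderOf (x₀ : Y)) := by
        rw [ho]
        exact Odd.pow (by decide)
      have hxT : ∀ t ∈ T, (x₀ : Y) * t * (x₀ : Y)⁻¹ ∈ T := fun t ht => hTn.conj_mem t ht _
      have hxc : (x₀ : Y) ^ 3 ∈ Subgroup.centralizer (T : Set Y) := by
        rw [← conj_eq_iff_mem_centralizer]
        exact q8_cube_centralizes T e _ hxodd hxT
      have ho3 : orderOf ((x₀ : Y) ^ 3) = 3 ^ (m₁ + 1) := by
        rw [orderOf_pow_of_dvd (by norm_num) (by rw [ho]; exact dvd_pow_self 3 (by omega)), ho,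
          pow_succ 3 (m₁ + 1), Nat.mul_div_cancel _ (by norm_num)]
      rw [← ho3]
      exact Subgroup.orderOf_dvd_natCard _ hxc
    have hcM3 : Nat.Coprime (Nat.card M₀) 3 := by
      have : Nat.card M₀ ∣ Nat.card W := by
        rw [hcM, ← hMQ]
        exact Dvd.intro _ rfl
      exact Nat.Coprime.coprime_dvd_left this hcopW
    have hcM2 : Nat.Coprime (Nat.card M₀) 2 := (Nat.coprime_two_left.2 hMo).symm
    have h12 := Nat.Coprime.mul_dvd_of_dvd_of_dvd hcM2 hd1 hd2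
    have hc23 : Nat.Coprime (Nat.card M₀ * 2) (3 ^ (m₁ + 1)) := by
      apply Nat.Coprime.pow_right
      exact Nat.Coprime.mul_left hcM3 (by norm_num)
    exact Nat.Coprime.mul_dvd_of_dvd_of_dvd hc23 h12 hd3

end Cfsg.Agent.Lib.Helper3.Sharp3
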