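import Mathlib

/-!
# Helper3: the arithmetic of a quaternion group acting on an elementary abelian group (S0729).

If `Q₈ ≅ T ≤ Y` acts on the finite abelian group `A` of odd prime exponent with the central
involution inverting `A`, then `|A| = q₀²` is a square and any subgroup `C` of `Y` centralising `T`
and acting freely on `A ∖ 0` has order dividing `q₀ - 1`.
-/

set_option autoImplicit false

namespace Cfsg.Agent.Lib.Helper3.Sharp3

/-- an action with one fixed point, free elsewhere -/
theorem card_eq_one_add_of_semiregular' {G X : Type*} [Group G] [Finite G] [MulAction G X]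
    [Finite X] (x₀ : X) (hfix : ∀ g : G, g • x₀ = x₀)
    (hfree : ∀ (g : G) (x : X), g ≠ 1 → g • x = x → x = x₀) :
    ∃ t : ℕ, Nat.card X = 1 + t * Nat.card G := by
  classical
  have := Fintype.ofFinite G
  have := Fintype.ofFinite X
  have : ∀ g : G, Fintype (MulAction.fixedBy X g) := fun g => Fintype.ofFinite _
  have := Fintype.ofFinite (MulAction.orbitRel.Quotient G X)
  have hB := MulAction.sum_card_fixedBy_eq_card_orbits_mul_card_group G X
  have h1 : ∀ g : G, g ≠ 1 → Fintype.card (MulAction.fixedBy X g) = 1 := by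
    intro g hg
    rw [Fintype.card_eq_one_iff]
    exact ⟨⟨x₀, hfix g⟩, fun x => Subtype.ext (hfree g x.1 hg x.2)⟩
  have h0 : Fintype.card (MulAction.fixedBy X (1 : G)) = Fintype.card X := by
    apply Fintype.card_congr
    exact
      { toFun := fun x => x.1
        invFun := fun x => ⟨x, by simp⟩
        left_inv := fun x => rfl
        right_inv := fun x => rfl }
  rw [← Finset.add_sum_erase Finset.univ _ (Finset.mem_univ (1 : G)), h0,
    Finset.sum_congr rfl (fun g hg => h1 g (Finset.ne_of_mem_erase hg)), Finset.sum_const,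
    Finset.card_erase_of_mem (Finset.mem_univ _), Finset.card_univ, smul_eq_mul, mul_one] at hB
  have hΩ : 1 ≤ Fintype.card (MulAction.orbitRel.Quotient G X) :=
    Fintype.card_pos_iff.mpr ⟨Quotient.mk'' x₀⟩
  have hG : 1 ≤ Fintype.card G := Fintype.card_pos
  refine ⟨Fintype.card (MulAction.orbitRel.Quotient G X) - 1, ?_⟩
  rw [Nat.card_eq_fintype_card, Nat.card_eq_fintype_card]
  obtain ⟨s, hs⟩ := Nat.exists_eq_add_of_le hΩ
  rw [hs] at hB ⊢
  have : 1 + s - 1 = s := by omega
  rw [this]
  have h3 : (1 + s) * Fintype.card G = Fintype.card G + s * Fintype.card G := by ring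
  omega

section Ring

variable {R : Type*} [Ring R]

/-- The idempotent trick: if `V² = V'² = -1`, `V'V = -VV'` and `a² + b² + 1 = 0` then
`w = aV + bV'` squares to one and anticommutes with `VV'`. -/
theorem w_sq (V V' : R) (a b : ℕ) (hVV : V * V = -1) (hV'V' : V' * V' = -1)
    (hanti : V' * V = -(V * V')) (hab : ((a * a + b * b + 1 : ℕ) : R) = 0) :
    (a • V + b • V') * (a • V + b • V') = 1 := by
  have h1 : (a • V + b • V') * (a • V + b • V') = -((a * a + b * b) • (1 : R)) := by
    simp only [add_mul, mul_add, smul_mul_assoc, mul_smul_comm, hVV, hV'V', hanti]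
    module
  rw [h1, nsmul_one]
  have h2 : ((a * a + b * b : ℕ) : R) + 1 = 0 := by
    rw [← hab]
    simp only [Nat.cast_add, Nat.cast_mul, Nat.cast_one]
  exact (neg_eq_of_add_eq_zero_right h2)

theorem w_anti (V V' : R) (a b : ℕ) (hVV : V * V = -1) (hV'V' : V' * V' = -1)
    (hanti : V' * V = -(V * V')) :
    (V * V') * (a • V + b • V') = -((a • V + b • V') * (V * V')) := by
  have e1 : V * V' * V = V' := by
    rw [mul_assoc, hanti, mul_neg, ← mul_assoc, hVV, neg_mul, one_mul, neg_neg]
  have e2 : V * V' * V' = -V := by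
    rw [mul_assoc, hV'V', mul_neg, mul_one]
  have e3 : V * (V * V') = -V' := by
    rw [← mul_assoc, hVV, neg_mul, one_mul]
  have e4 : V' * (V * V') = V := by
    rw [← mul_assoc, hanti, neg_mul, mul_assoc, hV'V', mul_neg, mul_one, neg_neg]
  simp only [add_mul, mul_add, smul_mul_assoc, mul_smul_comm, e1, e2, e3, e4]
  module

end Ring

section Karith

variable {A : Type*} [AddCommGroup A] {Y : Type*} [Group Y] [DistribMulAction Y A]

theorem q8_rels : (QuaternionGroup.xa 0 * QuaternionGroup.xa 0 : QuaternionGroup 2) =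
      QuaternionGroup.a 1 * QuaternionGroup.a 1 ∧
    (QuaternionGroup.a 1 * QuaternionGroup.a 1 : QuaternionGroup 2) *
      (QuaternionGroup.a 1 * QuaternionGroup.a 1) = 1 ∧
    (QuaternionGroup.a 1 * QuaternionGroup.a 1 : QuaternionGroup 2) ≠ 1 ∧
    (QuaternionGroup.xa 0 * QuaternionGroup.a 1 : QuaternionGroup 2) =
      (QuaternionGroup.a 1 * QuaternionGroup.a 1) * (QuaternionGroup.a 1 * QuaternionGroup.xa 0) := by
  decide

theorem karith [Finite A] (p : ℕ) [Fact p.Prime] (hp2 : p ≠ 2)
    (hp : ∀ x : A, p • x = 0)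
    (T : Subgroup Y) (e : ↥T ≃* QuaternionGroup 2)
    (hz : ∀ z ∈ T, z * z = 1 → z ≠ 1 → ∀ x : A, z • x = -x)
    (C : Subgroup Y) [Finite C] (hC : ∀ c ∈ C, ∀ t ∈ T, c * t = t * c)
    (hfree : ∀ c ∈ C, c ≠ 1 → ∀ x : A, c • x = x → x = 0) :
    ∃ q₀ : ℕ, Nat.card A = q₀ * q₀ ∧ ∃ j : ℕ, q₀ = 1 + j * Nat.card C := by
  have hpp : p.Prime := Fact.out
  -- the quaternion generators
  obtain ⟨tv, htv⟩ : ∃ tv : ↥T, e tv = QuaternionGroup.a 1 := ⟨e.symm _, e.apply_symm_apply _⟩
  obtain ⟨tv', htv'⟩ : ∃ tv' : ↥T, e tv' = QuaternionGroup.xa 0 := ⟨e.symm _, e.apply_symm_apply _⟩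
  obtain ⟨q1, q2, q3, q4⟩ := q8_rels
  have r1 : tv' * tv' = tv * tv := by
    apply e.injective; rw [map_mul, map_mul, htv, htv']; exact q1
  have r2 : (tv * tv) * (tv * tv) = 1 := by
    apply e.injective; rw [map_mul, map_mul, htv, map_one]; exact q2
  have r3 : tv * tv ≠ 1 := by
    intro h
    apply q3
    rw [← htv, ← map_mul, h, map_one]
  have r4 : tv' * tv = (tv * tv) * (tv * tv') := by
    apply e.injective; simp only [map_mul, htv, htv']; exact q4
  set v : Y := (tv : Y) with hv
  set v' : Y := (tv' : Y) with hv'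
  have r1' : v' * v' = v * v := congrArg Subtype.val r1
  have r2' : (v * v) * (v * v) = 1 := congrArg Subtype.val r2
  have r3' : v * v ≠ 1 := fun h => r3 (Subtype.ext h)
  have r4' : v' * v = (v * v) * (v * v') := congrArg Subtype.val r4
  have hvT : v ∈ T := tv.2
  have hv'T : v' ∈ T := tv'.2
  -- the representation
  let ρ : Y →* AddMonoid.End A := DistribMulAction.toAddMonoidEnd Y A
  have hρ : ∀ (y : Y) (x : A), ρ y x = y • x := fun _ _ => rfl
  have hρz : ρ (v * v) = -1 := by
    ext x
    rw [hρ]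
    exact hz _ (T.mul_mem hvT hvT) r2' r3' x
  set V : AddMonoid.End A := ρ v with hV
  set V' : AddMonoid.End A := ρ v' with hV'
  have hVV : V * V = -1 := by rw [hV, ← map_mul]; exact hρz
  have hV'V' : V' * V' = -1 := by rw [hV', ← map_mul, r1']; exact hρz
  have hanti : V' * V = -(V * V') := by
    rw [hV, hV', ← map_mul, r4', map_mul, hρz, map_mul, neg_mul, one_mul]
  -- the numbers a, b
  obtain ⟨a, b, -, -, hab⟩ := Nat.sq_add_sq_modEq p (p - 1)
  have hdvd : p ∣ a * a + b * b + 1 := by
    have h1 := Nat.ModEq.add_right 1 hab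
    have h2 : p - 1 + 1 = p := Nat.sub_add_cancel hpp.one_le
    rw [h2, pow_two, pow_two] at h1
    exact (Nat.modEq_zero_iff_dvd).1 (h1.trans (Nat.modEq_zero_iff_dvd.2 dvd_rfl))
  have hpR : ((p : ℕ) : AddMonoid.End A) = 0 := by
    ext x
    rw [AddMonoid.End.natCast_apply]
    exact hp x
  have habR : ((a * a + b * b + 1 : ℕ) : AddMonoid.End A) = 0 := by
    obtain ⟨k, hk⟩ := hdvd
    rw [hk, Nat.cast_mul, hpR, zero_mul]
  set w : AddMonoid.End A := a • V + b • V' with hw
  have hww : w * w = 1 := w_sq V V' a b hVV hV'V' hanti habR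
  set U : AddMonoid.End A := V * V' with hU
  have hUw : U * w = -(w * U) := w_anti V V' a b hVV hV'V' hanti
  have hUinj : Function.Injective U := by
    intro x y hxy
    have h1 : ρ (v * v')⁻¹ * U = 1 := by
      rw [hU, hV, hV', ← map_mul, ← map_mul, inv_mul_cancel, map_one]
    have h2 : (ρ (v * v')⁻¹ * U) x = (ρ (v * v')⁻¹ * U) y := by
      show ρ (v * v')⁻¹ (U x) = ρ (v * v')⁻¹ (U y)
      rw [hxy]
    rw [h1] at h2
    exact h2
  -- the eigenspaces
  set φp : A →+ A := (1 + w : AddMonoid.End A) with hφp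
  set φm : A →+ A := (1 - w : AddMonoid.End A) with hφm
  have hφp_apply : ∀ x, φp x = x + w x := fun _ => rfl
  have hφm_apply : ∀ x, φm x = x - w x := fun _ => rfl
  have hw2 : ∀ x, w (w x) = x := by
    intro x
    have : (w * w) x = x := by rw [hww]; rfl
    exact this
  have hUw' : ∀ x, U (w x) = -(w (U x)) := by
    intro x
    have : (U * w) x = (-(w * U)) x := by rw [hUw]
    exact this
  have hmemp : ∀ x, x ∈ φp.ker ↔ w x = -x := by
    intro x
    rw [AddMonoidHom.mem_ker, hφp_apply]
    constructor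
    · intro h
      exact (neg_eq_of_add_eq_zero_right h).symm
    · intro h
      rw [h, add_neg_cancel]
  have hmemm : ∀ x, x ∈ φm.ker ↔ w x = x := by
    intro x
    rw [AddMonoidHom.mem_ker, hφm_apply, sub_eq_zero]
    exact eq_comm
  have hrange : φp.range = φm.ker := by
    ext y
    rw [hmemm, AddMonoidHom.mem_range]
    constructor
    · rintro ⟨x, rfl⟩
      rw [hφp_apply, map_add, hw2, add_comm]
    · intro hy
      obtain ⟨h, hh⟩ : ∃ h, p + 1 = 2 * h := by
        have hodd : Odd p := hpp.odd_of_ne_two hp2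
        obtain ⟨k, hk⟩ := hodd
        exact ⟨k + 1, by omega⟩
      refine ⟨h • y, ?_⟩
      have h1 : h • y + h • y = (p + 1) • y := by rw [hh, two_mul, add_nsmul]
      rw [hφp_apply, map_nsmul, hy, h1, add_nsmul, hp y, zero_add, one_nsmul]
  have hcardA : Nat.card A = Nat.card φp.ker * Nat.card φm.ker := by
    rw [← AddSubgroup.card_mul_index φp.ker, AddSubgroup.index_ker, hrange]
  have hU_mp : ∀ x, x ∈ φm.ker → U x ∈ φp.ker := by
    intro x hx
    rw [hmemm] at hx
    rw [hmemp]
    have := hUw' x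
    rw [hx] at this
    exact neg_eq_iff_eq_neg.1 this.symm
  have hU_pm : ∀ x, x ∈ φp.ker → U x ∈ φm.ker := by
    intro x hx
    rw [hmemp] at hx
    rw [hmemm]
    have := hUw' x
    rw [hx, map_neg] at this
    exact (neg_injective this).symm
  have hcardeq : Nat.card φp.ker = Nat.card φm.ker := by
    apply le_antisymm
    · apply Nat.card_le_card_of_injective (fun x : φp.ker => (⟨U x, hU_pm x x.2⟩ : φm.ker))
      intro x y hxy
      exact Subtype.ext (hUinj (congrArg Subtype.val hxy))
    · apply Nat.card_le_card_of_injective (fun x : φm.ker => (⟨U x, hU_mp x x.2⟩ : φp.ker))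
      intro x y hxy
      exact Subtype.ext (hUinj (congrArg Subtype.val hxy))
  refine ⟨Nat.card φm.ker, by rw [hcardA, hcardeq], ?_⟩
  -- the action of C
  have hcw : ∀ c ∈ C, ρ c * w = w * ρ c := by
    intro c hc
    have h1 : ρ c * V = V * ρ c := by rw [hV, ← map_mul, ← map_mul, hC c hc v hvT]
    have h2 : ρ c * V' = V' * ρ c := by rw [hV', ← map_mul, ← map_mul, hC c hc v' hv'T]
    rw [hw]
    simp only [add_mul, mul_add, smul_mul_assoc, mul_smul_comm, h1, h2]
  have hcmem : ∀ c ∈ C, ∀ x ∈ φm.ker, c • x ∈ φm.ker := by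
    intro c hc x hx
    rw [hmemm] at hx ⊢
    have h1 : (w * ρ c) x = (ρ c * w) x := by rw [hcw c hc]
    have h2 : w (c • x) = c • (w x) := h1
    rw [h2, hx]
  letI : MulAction ↥C ↥φm.ker :=
    { smul := fun c x => ⟨(c : Y) • (x : A), hcmem c c.2 x x.2⟩
      one_smul := fun x => Subtype.ext (one_smul Y (x : A))
      mul_smul := fun c c' x => Subtype.ext (mul_smul (c : Y) (c' : Y) (x : A)) }
  have hsm : ∀ (c : ↥C) (x : ↥φm.ker), ((c • x : ↥φm.ker) : A) = (c : Y) • (x : A) := fun _ _ => rfl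
  obtain ⟨j, hj⟩ := card_eq_one_add_of_semiregular' (G := ↥C) (X := ↥φm.ker) 0
    (fun c => Subtype.ext (by rw [hsm]; simp))
    (fun c x hc hx => by
      have h1 : (c : Y) • (x : A) = x := by rw [← hsm, hx]
      have h2 := hfree c c.2 (fun h => hc (Subtype.ext h)) x h1
      exact Subtype.ext h2)
  exact ⟨j, hj⟩

end Karith

end Cfsg.Agent.Lib.Helper3.Sharp3
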