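import Mathlib
import Cfsg.Agent.Lib.Helper3.Sharp3C
import Cfsg.Agent.Lib.Helper3.Sharp3D
import Cfsg.Agent.Lib.Helper1.FpfSylow

/-!
# Helper3: a Frobenius complement `H` acting regularly on `K ∖ 1`, of even order, with at most one
subgroup of order 3, has a subgroup of index 2 (S0729).
-/

set_option autoImplicit false

namespace Cfsg.Agent.Lib.Helper3.Sharp3

open Cfsg.Agent.Lib.Helper10

variable {Γ : Type*} [Group Γ]

/-- A fixed-point-free involution inverts. -/
theorem fpf_involution_inverts [Finite Γ] (K : Subgroup Γ) [hKn : K.Normal] (t : Γ)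
    (ht : t * t = 1) (hft : ∀ k ∈ K, t * k = k * t → k = 1) :
    (∀ k ∈ K, t * k * t⁻¹ = k⁻¹) ∧ (∀ k ∈ K, ∀ k' ∈ K, k * k' = k' * k) := by
  let φ : ↥K ≃* ↥K := MulAut.conjNormal t
  have hφa : ∀ k : ↥K, ((φ k : ↥K) : Γ) = t * k * t⁻¹ := fun k => rfl
  have hφ : MonoidHom.FixedPointFree φ := by
    intro k hk
    have h1 : t * (k : Γ) * t⁻¹ = k := by rw [← hφa, hk]
    apply Subtype.ext
    apply hft k k.2
    calc t * (k : Γ) = (t * k * t⁻¹) * t := by group
      _ = k * t := by rw [h1]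
  have h2 : Function.Involutive φ := by
    intro k
    apply Subtype.ext
    rw [hφa, hφa]
    have : t⁻¹ = t := inv_eq_of_mul_eq_one_left ht
    calc t * (t * (k : Γ) * t⁻¹) * t⁻¹ = (t * t) * k * (t⁻¹ * t⁻¹) := by group
      _ = k := by rw [this, ht, one_mul, mul_one]
  constructor
  · intro k hk
    have := congrFun (hφ.coe_eq_inv_of_involutive h2) ⟨k, hk⟩
    have h3 := congrArg Subtype.val this
    rw [hφa] at h3
    exact h3
  · intro k hk k' hk'
    have := hφ.commute_all_of_involutive h2 ⟨k, hk⟩ ⟨k', hk'⟩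
    exact congrArg Subtype.val this

/-- A group acting freely by conjugation on `K ∖ 1` of the same size acts transitively. -/
theorem conj_transitive_of_free [Finite Γ] (K H : Subgroup Γ) [hKn : K.Normal]
    (hf : ∀ h ∈ H, h ≠ 1 → ∀ k ∈ K, h * k = k * h → k = 1)
    (hcard : Nat.card H + 1 = Nat.card K) (k₀ : Γ) (hk₀ : k₀ ∈ K) (hk₀1 : k₀ ≠ 1) :
    ∀ k ∈ K, k ≠ 1 → ∃ h ∈ H, h * k₀ * h⁻¹ = k := by
  classical
  let f : ↥H → {k : ↥K // k ≠ 1} := fun h =>
    ⟨⟨(h : Γ) * k₀ * (h : Γ)⁻¹, hKn.conj_mem k₀ hk₀ h⟩, by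
      intro h1
      apply hk₀1
      have h2 : (h : Γ) * k₀ * (h : Γ)⁻¹ = 1 := congrArg Subtype.val h1
      calc k₀ = (h : Γ)⁻¹ * ((h : Γ) * k₀ * (h : Γ)⁻¹) * h := by group
        _ = 1 := by rw [h2]; group⟩
  have hfinj : Function.Injective f := by
    intro h h' hh
    have h1 : (h : Γ) * k₀ * (h : Γ)⁻¹ = (h' : Γ) * k₀ * (h' : Γ)⁻¹ :=
      congrArg (fun x => ((x : ↥K) : Γ)) (congrArg Subtype.val hh)
    by_contra hne
    have h2 : ((h' : Γ)⁻¹ * h) ≠ 1 := by
      intro h3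
      apply hne
      apply Subtype.ext
      have : (h : Γ) = h' * ((h' : Γ)⁻¹ * h) := by group
      rw [this, h3, mul_one]
    apply hk₀1
    apply hf _ (H.mul_mem (H.inv_mem h'.2) h.2) h2 k₀ hk₀
    calc (h' : Γ)⁻¹ * h * k₀ = (h' : Γ)⁻¹ * ((h : Γ) * k₀ * (h : Γ)⁻¹) * h := by group
      _ = k₀ * ((h' : Γ)⁻¹ * h) := by rw [h1]; group
  have hcard' : Nat.card {k : ↥K // k ≠ 1} ≤ Nat.card ↥H := by
    have h1 : Nat.card {k : ↥K // k ≠ 1} = Nat.card ↥K - 1 := by
      haveI := Fintype.ofFinite ↥K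
      rw [Nat.card_eq_fintype_card, Fintype.card_subtype_compl, Fintype.card_subtype_eq,
        Nat.card_eq_fintype_card]
    rw [h1]
    omega
  have hbij := Function.Injective.bijective_of_nat_card_le hfinj hcard'
  intro k hk hk1
  obtain ⟨h, hh⟩ := hbij.2 ⟨⟨k, hk⟩, fun h => hk1 (congrArg Subtype.val h)⟩
  refine ⟨h, h.2, ?_⟩
  exact congrArg (fun x => ((x : ↥K) : Γ)) (congrArg Subtype.val hh)

theorem arith_contra (u q₀ j cC : ℕ) (hu0 : 0 < u) (hcard : 12 * u + 1 = q₀ * q₀) (h3 : 3 ∣ u) (hu : u ∣ cC)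
    (hq : q₀ = 1 + j * cC) : False := by
  obtain ⟨u', rfl⟩ := h3
  obtain ⟨i, rfl⟩ := hu
  subst hq
  have e1 : 1 + j * (3 * u' * i) = 1 + (j * i) * (3 * u') := by ring
  rw [e1] at hcard
  generalize j * i = n at hcard
  have hu1 : 1 ≤ u' := by omega
  have h4 : u' * 12 = u' * (2 * n + 3 * n * n * u') := by linarith
  have h5 : 12 = 2 * n + 3 * n * n * u' := Nat.eq_of_mul_eq_mul_left hu1 h4
  have hn2 : n ≤ 6 := by
    have : 0 ≤ 3 * n * n * u' := Nat.zero_le _
    omega
  interval_cases n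
  · omega
  · omega
  · omega
  · omega
  · nlinarith
  · nlinarith
  · nlinarith

theorem partB [Finite Γ] (K H : Subgroup Γ) [hKn : K.Normal]
    (hfpf : ∀ h ∈ H, h ≠ 1 → K ⊓ Subgroup.centralizer {h} = ⊥)
    (hcard : Nat.card H + 1 = Nat.card K) (heven : Even (Nat.card H))
    (h3 : ∀ A B : Subgroup ↥H, Nat.card A = 3 → Nat.card B = 3 → A = B) :
    ∃ Y₀ : Subgroup ↥H, Y₀.index = 2 := by
  by_contra hno2
  haveI : Fact (Nat.Prime 2) := ⟨Nat.prime_two⟩
  have hf : ∀ h ∈ H, h ≠ 1 → ∀ k ∈ K, h * k = k * h → k = 1 := by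
    intro h hh h1 k hk hc
    have hmem : k ∈ K ⊓ Subgroup.centralizer {h} := by
      refine Subgroup.mem_inf.2 ⟨hk, ?_⟩
      rw [Subgroup.mem_centralizer_singleton_iff]
      exact hc.symm
    rw [hfpf h hh h1] at hmem
    exact Subgroup.mem_bot.1 hmem
  have hcardH : 0 < Nat.card H := Nat.card_pos
  have hK : K ≠ ⊥ := by
    intro h
    rw [h, Subgroup.card_bot] at hcard
    omega
  obtain ⟨k₁, hk₁, hk₁1⟩ : ∃ k₁ ∈ K, k₁ ≠ 1 := by
    by_contra hcon
    push Not at hcon
    exact hK ((Subgroup.eq_bot_iff_forall K).2 hcon)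
  -- an involution
  obtain ⟨t₀, ht₀⟩ := exists_prime_orderOf_dvd_card' (G := ↥H) 2 (even_iff_two_dvd.1 heven)
  have hinvall : ∀ s ∈ H, s * s = 1 → s ≠ 1 → ∀ k ∈ K, s * k * s⁻¹ = k⁻¹ := by
    intro s hs hss hs1
    exact (fpf_involution_inverts K s hss (hf s hs hs1)).1
  have ht₀1 : (t₀ : Γ) ≠ 1 := by
    intro h
    have : t₀ = 1 := Subtype.ext h
    rw [this, orderOf_one] at ht₀
    norm_num at ht₀
  have ht₀2 : (t₀ : Γ) * t₀ = 1 := by
    have := pow_orderOf_eq_one t₀
    rw [ht₀, pow_two] at this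
    exact congrArg Subtype.val this
  have hKc : ∀ k ∈ K, ∀ k' ∈ K, k * k' = k' * k :=
    (fpf_involution_inverts K (t₀ : Γ) ht₀2 (hf _ t₀.2 ht₀1)).2
  -- the prime
  have hcardK2 : Nat.card K ≠ 1 := by omega
  set p := Nat.minFac (Nat.card K) with hp
  have hpp : p.Prime := Nat.minFac_prime hcardK2
  haveI : Fact p.Prime := ⟨hpp⟩
  have hpK : p ∣ Nat.card K := Nat.minFac_dvd _
  have hp2 : p ≠ 2 := by
    intro h2
    rw [h2] at hpK
    have : Even (Nat.card K) := even_iff_two_dvd.2 hpK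
    rw [← hcard] at this
    exact (Nat.not_even_iff_odd.2 (Even.add_one heven)) this
  obtain ⟨k₀, hk₀⟩ := exists_prime_orderOf_dvd_card' (G := ↥K) p hpK
  have hk₀1 : (k₀ : Γ) ≠ 1 := by
    intro h
    have : k₀ = 1 := Subtype.ext h
    rw [this, orderOf_one] at hk₀
    exact hpp.one_lt.ne hk₀
  have hk₀p : (k₀ : Γ) ^ p = 1 := by
    have := pow_orderOf_eq_one k₀
    rw [hk₀] at this
    have h' := congrArg Subtype.val this
    rwa [Subgroup.coe_pow, Subgroup.coe_one] at h'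
  have hexp : ∀ k ∈ K, k ^ p = 1 := by
    intro k hk
    by_cases hk1 : k = 1
    · rw [hk1, one_pow]
    · obtain ⟨h, -, rfl⟩ := conj_transitive_of_free K H hf hcard k₀ k₀.2 hk₀1 k hk hk1
      rw [conj_pow, hk₀p]; group
  -- unique involution
  have hu : UniqueOrderP 2 ↥H := by
    intro x y hx hx1 hy
    by_cases hy1 : y = 1
    · rw [hy1]; exact Subgroup.one_mem _
    · have hx2 : (x : Γ) * x = 1 := by
        rw [pow_two] at hx; exact congrArg Subtype.val hx
      have hy2 : (y : Γ) * y = 1 := by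
        rw [pow_two] at hy; exact congrArg Subtype.val hy
      have hx1' : (x : Γ) ≠ 1 := fun h => hx1 (Subtype.ext h)
      have hy1' : (y : Γ) ≠ 1 := fun h => hy1 (Subtype.ext h)
      have hxy : (x : Γ) * y = 1 := by
        by_contra hne
        apply hk₁1
        apply hf _ (H.mul_mem x.2 y.2) hne k₁ hk₁
        have h1 := hinvall y y.2 hy2 hy1' k₁ hk₁
        have h2 := hinvall x x.2 hx2 hx1' k₁⁻¹ (K.inv_mem hk₁)
        rw [inv_inv] at h2
        calc (x : Γ) * y * k₁ = x * ((y : Γ) * k₁ * (y : Γ)⁻¹) * (x : Γ)⁻¹ * (x * y) := by group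
          _ = k₁ * (x * y) := by rw [h1, h2]
      have hyx : y = x := by
        apply Subtype.ext
        calc (y : Γ) = ((x : Γ) * x) * y := by rw [hx2, one_mul]
          _ = x * ((x : Γ) * y) := by group
          _ = x := by rw [hxy, mul_one]
      rw [hyx]
      exact Subgroup.mem_zpowers x
  -- odd Sylow subgroups are cyclic
  have hcyc : ∀ p' : ℕ, p'.Prime → p' ≠ 2 → ∀ P : Sylow p' ↥H, IsCyclic P := by
    intro p' hp' hp'2 P
    haveI : Fact p'.Prime := ⟨hp'⟩
    rcases isCyclic_or_quaternion_of_uniqueOrderP P.2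
      (Cfsg.Agent.Lib.Helper1.uniqueOrderP_sylow_of_fpf K H hK hfpf p' P) with h | ⟨h, -⟩
    · exact h
    · exact absurd h hp'2
  -- the core
  obtain ⟨T, u, ⟨e⟩, hTn, hcardH12, h3u, hudvd⟩ := core hu heven hcyc h3 hno2
  -- the action
  letI instK : CommGroup ↥K :=
    { (inferInstance : Group ↥K) with
      mul_comm := fun a b => Subtype.ext (hKc a a.2 b b.2) }
  letI instA : DistribMulAction ↥H (Additive ↥K) :=
    { smul := fun h x => Additive.ofMul
        ⟨(h : Γ) * ((Additive.toMul x : ↥K) : Γ) * (h : Γ)⁻¹, hKn.conj_mem _ (Additive.toMul x).2 _⟩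
      one_smul := fun x => by
        apply Additive.toMul.injective
        apply Subtype.ext
        show ((1 : ↥H) : Γ) * ((Additive.toMul x : ↥K) : Γ) * ((1 : ↥H) : Γ)⁻¹ = _
        rw [Subgroup.coe_one]; group
      mul_smul := fun h h' x => by
        apply Additive.toMul.injective
        apply Subtype.ext
        show ((h * h' : ↥H) : Γ) * ((Additive.toMul x : ↥K) : Γ) * ((h * h' : ↥H) : Γ)⁻¹ =
          (h : Γ) * ((h' : Γ) * ((Additive.toMul x : ↥K) : Γ) * (h' : Γ)⁻¹) * (h : Γ)⁻¹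
        rw [Subgroup.coe_mul]; group
      smul_zero := fun h => by
        apply Additive.toMul.injective
        apply Subtype.ext
        show (h : Γ) * ((1 : ↥K) : Γ) * (h : Γ)⁻¹ = ((1 : ↥K) : Γ)
        rw [Subgroup.coe_one]; group
      smul_add := fun h x y => by
        apply Additive.toMul.injective
        apply Subtype.ext
        show (h : Γ) * ((Additive.toMul x * Additive.toMul y : ↥K) : Γ) * (h : Γ)⁻¹ =
          ((h : Γ) * ((Additive.toMul x : ↥K) : Γ) * (h : Γ)⁻¹) *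
            ((h : Γ) * ((Additive.toMul y : ↥K) : Γ) * (h : Γ)⁻¹)
        rw [Subgroup.coe_mul]; group }
  have hsm : ∀ (h : ↥H) (x : Additive ↥K),
      ((Additive.toMul (h • x) : ↥K) : Γ) = (h : Γ) * ((Additive.toMul x : ↥K) : Γ) * (h : Γ)⁻¹ :=
    fun _ _ => rfl
  obtain ⟨q₀, hq₀, j, hj⟩ := karith (A := Additive ↥K) (Y := ↥H) p hp2
    (by
      intro x
      apply Additive.toMul.injective
      apply Subtype.ext
      show ((Additive.toMul x ^ p : ↥K) : Γ) = ((1 : ↥K) : Γ)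
      rw [Subgroup.coe_pow, Subgroup.coe_one]
      exact hexp _ (Additive.toMul x).2)
    T e
    (by
      intro z hz hzz hz1 x
      apply Additive.toMul.injective
      apply Subtype.ext
      rw [hsm]
      show _ = (((Additive.toMul x)⁻¹ : ↥K) : Γ)
      rw [Subgroup.coe_inv]
      exact hinvall z z.2 (congrArg Subtype.val hzz) (fun h => hz1 (Subtype.ext h)) _
        (Additive.toMul x).2)
    (Subgroup.centralizer (T : Set ↥H))
    (by
      intro c hc t ht
      exact ((Subgroup.mem_centralizer_iff.1 hc) t ht).symm)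
    (by
      intro c _ hc1 x hx
      have h1 := hsm c x
      rw [hx] at h1
      have h2 : ((Additive.toMul x : ↥K) : Γ) = 1 := by
        apply hf c c.2 (fun h => hc1 (Subtype.ext h)) _ (Additive.toMul x).2
        calc (c : Γ) * ((Additive.toMul x : ↥K) : Γ) =
            ((c : Γ) * ((Additive.toMul x : ↥K) : Γ) * (c : Γ)⁻¹) * c := by group
          _ = ((Additive.toMul x : ↥K) : Γ) * c := by rw [← h1]
      apply Additive.toMul.injective
      apply Subtype.ext
      exact h2)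
  have hcA : Nat.card (Additive ↥K) = Nat.card ↥K := rfl
  rw [hcA, ← hcard, hcardH12] at hq₀
  have hu0 : 0 < u := by
    rw [hcardH12] at hcardH
    omega
  exact arith_contra u q₀ j _ hu0 hq₀ h3u hudvd hj

end Cfsg.Agent.Lib.Helper3.Sharp3
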