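import Mathlib
import Cfsg.Agent.S0729
import Cfsg.Agent.Lib.Helper3.Sharp3F

/-!
# Helper3: a finite sharply 3-transitive group of even degree at least 4 is not simple.
-/

set_option autoImplicit false

namespace Cfsg.Agent.Lib.Helper3.Sharp3

open MulAction

variable {G Ω : Type*} [Group G] [MulAction G Ω]

theorem sharp3_four_not_simple [Finite G] [Fintype Ω] [DecidableEq Ω] [FaithfulSMul G Ω]
    (h3 : IsMultiplyPretransitive G Ω 3) (hsharp : ∀ t : Fin 3 ↪ Ω, stabilizer G t = ⊥)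
    (h4 : Fintype.card Ω = 4) : ∃ N : Subgroup G, N.Normal ∧ N ≠ ⊥ ∧ N ≠ ⊤ := by
  haveI : Nontrivial Ω := by
    rw [← Fintype.one_lt_card_iff_nontrivial, h4]
    norm_num
  obtain ⟨x₀⟩ : Nonempty (Fin 3 ↪ Ω) :=
    Function.Embedding.nonempty_of_card_le (by rw [Fintype.card_fin, h4]; norm_num)
  have hbij : Function.Bijective (fun g : G => g • x₀) := by
    constructor
    · intro g g' hgg
      have hgg : g • x₀ = g' • x₀ := hgg
      have h1 : g'⁻¹ * g ∈ stabilizer G x₀ := by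
        rw [mem_stabilizer_iff, mul_smul, hgg, inv_smul_smul]
      rw [hsharp, Subgroup.mem_bot] at h1
      exact (inv_mul_eq_one.1 h1).symm
    · intro y
      exact h3.exists_smul_eq x₀ y
  have hcardG : Nat.card G = 24 := by
    rw [Nat.card_congr (Equiv.ofBijective _ hbij), Nat.card_eq_fintype_card,
      Fintype.card_embedding_eq, Fintype.card_fin, h4]
    rfl
  let ρ₀ : G →* Equiv.Perm Ω := MulAction.toPermHom G Ω
  have hinj : Function.Injective ρ₀ := MulAction.toPerm_injective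
  have hsurj : Function.Surjective ρ₀ := by
    have hle : Nat.card (Equiv.Perm Ω) ≤ Nat.card G := by
      rw [hcardG, Nat.card_eq_fintype_card, Fintype.card_perm, h4]
      rfl
    exact (Function.Injective.bijective_of_nat_card_le hinj hle).2
  refine ⟨(alternatingGroup Ω).comap ρ₀, inferInstance, ?_, ?_⟩
  · intro h
    have h1 := Subgroup.index_comap_of_surjective (alternatingGroup Ω) hsurj
    rw [h, Subgroup.index_bot, hcardG, alternatingGroup.index_eq_two] at h1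
    norm_num at h1
  · intro h
    have h1 := Subgroup.index_comap_of_surjective (alternatingGroup Ω) hsurj
    rw [h, Subgroup.index_top, alternatingGroup.index_eq_two] at h1
    norm_num at h1

theorem sharp3_six_not_simple [Finite G] [Fintype Ω] [DecidableEq Ω] [FaithfulSMul G Ω]
    (h3 : IsMultiplyPretransitive G Ω 3) (hsharp : ∀ t : Fin 3 ↪ Ω, stabilizer G t = ⊥)
    (heven : Even (Fintype.card Ω)) (h6 : 6 ≤ Fintype.card Ω) :
    ∃ N : Subgroup G, N.Normal ∧ N ≠ ⊥ ∧ N ≠ ⊤ := by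
  have sinj' : ∀ (g : G) {r t : Ω}, g • r = g • t → r = t := fun g r t e => MulAction.injective g e
  -- three points
  obtain ⟨a, b, c, hab, hac, hbc⟩ : ∃ a b c : Ω, a ≠ b ∧ a ≠ c ∧ b ≠ c := by
    obtain ⟨x₀⟩ : Nonempty (Fin 3 ↪ Ω) :=
      Function.Embedding.nonempty_of_card_le (by rw [Fintype.card_fin]; omega)
    refine ⟨x₀ 0, x₀ 1, x₀ 2, ?_, ?_, ?_⟩ <;>
    · intro h
      have := x₀.injective h
      revert this
      decide
  have hthird : ∀ x y : Ω, ∃ z : Ω, z ≠ x ∧ z ≠ y := by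
    intro x y
    by_contra hne
    push Not at hne
    have hsub : (Finset.univ : Finset Ω) ⊆ {x, y} := by
      intro z _
      by_cases hzx : z = x
      · simp [hzx]
      · simp [hne z hzx]
    have h1 := Finset.card_le_card hsub
    have h2 : ({x, y} : Finset Ω).card ≤ 2 := Finset.card_le_two
    rw [Finset.card_univ] at h1
    omega
  have h2t : ∀ x y z w : Ω, x ≠ y → z ≠ w → ∃ g : G, g • x = z ∧ g • y = w := by
    intro x y z w hxy hzw
    obtain ⟨r, hrx, hry⟩ := hthird x y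
    obtain ⟨r', hrz, hrw⟩ := hthird z w
    obtain ⟨g, h1, h2, -⟩ := Cfsg.Agent.S0728.trans3 h3 hxy hry.symm hrx.symm hzw hrw.symm hrz.symm
    exact ⟨g, h1, h2⟩
  have h3pt : ∀ g : G, ∀ x y z : Ω, x ≠ y → y ≠ z → x ≠ z → g • x = x → g • y = y → g • z = z →
      g = 1 := by
    intro g x y z hxy hyz hxz h1 h2 h3'
    exact Cfsg.Agent.S0728.fix3 hsharp hxy hyz hxz g h1 h2 h3'
  obtain ⟨s, hsa, hsb, hsc⟩ := Cfsg.Agent.S0728.trans3 h3 hab hbc hac hab.symm hac hbc
  have hss : s * s = 1 := by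
    apply h3pt _ a b c hab hbc hac
    · rw [mul_smul, hsa, hsb]
    · rw [mul_smul, hsb, hsa]
    · rw [mul_smul, hsc, hsc]
  have hsinv : s⁻¹ = s := inv_eq_of_mul_eq_one_left hss
  set H : Subgroup G := stabilizer G a ⊓ stabilizer G b with hH
  have hmem : ∀ g : G, g ∈ H ↔ g • a = a ∧ g • b = b := by
    intro g
    rw [hH, Subgroup.mem_inf, mem_stabilizer_iff, mem_stabilizer_iff]
  -- transport to a permutation group
  let ρ₀ : G →* Equiv.Perm Ω := MulAction.toPermHom G Ω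
  have hinj : Function.Injective ρ₀ := MulAction.toPerm_injective
  let ρ : G ≃* ↥ρ₀.range := MonoidHom.ofInjective hinj
  have hρ : ∀ (g : G) (x : Ω), (ρ g) • x = g • x := fun g x => rfl
  have hρe : ∀ (g : G) (x : Fin 3 ↪ Ω), (ρ g) • x = g • x := by
    intro g x
    ext i
    rfl
  have h3' : IsMultiplyPretransitive ρ₀.range Ω 3 := by
    constructor
    intro x y
    obtain ⟨g, hg⟩ := h3.exists_smul_eq x y
    exact ⟨ρ g, by rw [hρe, hg]⟩
  have hsharp' : ∀ x : Fin 3 ↪ Ω, stabilizer ρ₀.range x = ⊥ := by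
    intro x
    rw [Subgroup.eq_bot_iff_forall]
    intro g' hg'
    obtain ⟨g, rfl⟩ := ρ.surjective g'
    rw [mem_stabilizer_iff] at hg'
    have : g ∈ stabilizer G x := by
      rw [mem_stabilizer_iff, ← hρe]
      exact hg'
    rw [hsharp, Subgroup.mem_bot] at this
    rw [this, map_one]
  obtain ⟨N', hN'le, -, hN'idx, hN's⟩ := Cfsg.Agent.S0729.result heven h6 ρ₀.range h3' hsharp'
    hab hac hbc (ρ s) (by rw [hρ, hsa]) (by rw [hρ, hsb]) (by rw [hρ, hsc])
  set H' : Subgroup ρ₀.range := stabilizer ρ₀.range a ⊓ stabilizer ρ₀.range b with hH'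
  have hmem' : ∀ g : G, ρ g ∈ H' ↔ g ∈ H := by
    intro g
    rw [hH', Subgroup.mem_inf, mem_stabilizer_iff, mem_stabilizer_iff, hρ, hρ, hmem]
  set H₁ : Subgroup G := N'.comap (ρ : G →* ↥ρ₀.range) with hH₁
  have hmem₁ : ∀ g : G, g ∈ H₁ ↔ ρ g ∈ N' := fun g => Iff.rfl
  have hH₁le : H₁ ≤ H := fun g hg => (hmem' g).1 (hN'le ((hmem₁ g).1 hg))
  have hidx' : (N'.subgroupOf H').index = 2 := hN'idx
  have hidx : ∀ x ∈ H, ∀ y ∈ H, (x * y ∈ H₁ ↔ (x ∈ H₁ ↔ y ∈ H₁)) := by
    intro x hx y hy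
    have key := Subgroup.mul_mem_iff_of_index_two hidx'
      (a := (⟨ρ x, (hmem' x).2 hx⟩ : ↥H')) (b := (⟨ρ y, (hmem' y).2 hy⟩ : ↥H'))
    rw [Subgroup.mem_subgroupOf, Subgroup.mem_subgroupOf, Subgroup.mem_subgroupOf] at key
    rw [hmem₁, hmem₁, hmem₁, map_mul]
    exact key
  obtain ⟨k₀, hk₀, hk₀'⟩ : ∃ k₀ ∈ H, k₀ ∉ H₁ := by
    by_contra hcon
    push Not at hcon
    have htop : N'.subgroupOf H' = ⊤ := by
      rw [Subgroup.eq_top_iff']
      intro y
      obtain ⟨g, hg⟩ := ρ.surjective (y : ↥ρ₀.range)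
      have hgH : g ∈ H := (hmem' g).1 (hg ▸ y.2)
      rw [Subgroup.mem_subgroupOf, ← hg]
      exact (hmem₁ g).1 (hcon g hgH)
    rw [htop, Subgroup.index_top] at hidx'
    norm_num at hidx'
  -- the kernel
  obtain ⟨h₁, hh₁, hh₁1⟩ : ∃ h₁ : G, h₁ ∈ H ∧ h₁ ≠ 1 := by
    refine ⟨k₀, hk₀, ?_⟩
    rintro rfl
    exact hk₀' H₁.one_mem
  obtain ⟨F, hFle, hFn, hreg, -⟩ := Cfsg.Agent.Helper29.ZassHalf.exists_regular_normal
    hab h2t h3pt inferInstance H hmem hh₁ hh₁1
  have hFfix := Cfsg.Agent.Lib.Helper3.ZassAb.kernel_fix F hreg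
  have hFcard := Cfsg.Agent.Lib.Helper3.ZassAb.kernel_card hab F hFle hreg
  obtain ⟨τ₀, hτ₀, hτ₀1⟩ : ∃ τ₀ ∈ F, τ₀ ≠ 1 := by
    have hcard1 : 1 < Nat.card F := by omega
    haveI : Nontrivial ↥F := (Finite.one_lt_card_iff_nontrivial).1 hcard1
    obtain ⟨x, hx⟩ := exists_ne (1 : ↥F)
    exact ⟨x, x.2, fun h => hx (Subtype.ext h)⟩
  have S : Setup a b F H H₁ :=
    { hab := hab
      hKa := fun τ hτ => hFle hτ
      hKreg := by
        intro x hx
        obtain ⟨u, hu, -⟩ := hreg b x hab.symm hx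
        exact ⟨u, u.2, hu⟩
      hKfix := hFfix
      hKn := by
        intro g hg τ hτ
        have h1 : (⟨τ, hFle hτ⟩ : ↥(stabilizer G a)) ∈ F.subgroupOf (stabilizer G a) :=
          Subgroup.mem_subgroupOf.2 hτ
        have h2 := hFn.conj_mem _ h1 ⟨g, hg⟩
        exact Subgroup.mem_subgroupOf.1 h2
      hmem := hmem
      hHtrans := by
        intro x y hxa hxb hya hyb
        obtain ⟨g, h1, h2, h3''⟩ := Cfsg.Agent.S0728.trans3 h3 hab hxb.symm hxa.symm hab hyb.symm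
          hya.symm
        exact ⟨g, (hmem g).2 ⟨h1, h2⟩, h3''⟩
      hH₁ := hH₁le
      hidx := hidx }
  have W : Swapper a b H₁ s :=
    { hwa := hsa
      hwb := hsb
      hw2 := by rw [hss]; exact H₁.one_mem
      hwH₁ := by
        intro h hh
        rw [hmem₁, map_mul, map_mul, map_inv]
        exact hN's _ ((hmem₁ h).1 hh)
      hwH₁' := by
        intro h hh
        have := hN's _ ((hmem₁ h).1 hh)
        rw [hsinv, hmem₁, map_mul, map_mul]
        rw [← map_inv, hsinv] at this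
        exact this }
  exact S.not_simple W hk₀ hk₀' hτ₀ hτ₀1

/-- A finite sharply 3-transitive group of even degree at least 4 is not simple. -/
theorem sharp3_even_not_simple [Finite G] [Fintype Ω] [DecidableEq Ω] [FaithfulSMul G Ω]
    (h3 : IsMultiplyPretransitive G Ω 3) (hsharp : ∀ t : Fin 3 ↪ Ω, stabilizer G t = ⊥)
    (heven : Even (Fintype.card Ω)) (h4 : 4 ≤ Fintype.card Ω) :
    ∃ N : Subgroup G, N.Normal ∧ N ≠ ⊥ ∧ N ≠ ⊤ := by
  by_cases h6 : 6 ≤ Fintype.card Ω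
  · exact sharp3_six_not_simple h3 hsharp heven h6
  · apply sharp3_four_not_simple h3 hsharp
    obtain ⟨r, hr⟩ := heven
    omega

end Cfsg.Agent.Lib.Helper3.Sharp3
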