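import Mathlib
import Cfsg.Agent.Lib.Helper3.PP1A
import Cfsg.Agent.Lib.Helper3.PP1D
import Cfsg.Agent.Lib.Helper3.PP1E
import Cfsg.Agent.Lib.Helper3.Sharp3G

/-!
# Degree `p + 1`, order `(p+1) p d`: the sharply 3-transitive case (helper3)
-/

set_option autoImplicit false
set_option linter.unusedVariables false
set_option linter.unusedSectionVars false
set_option linter.style.longLine false

namespace Cfsg.Agent.Lib.Helper3.PP1

open MulAction

variable {G Ω : Type*} [Group G] [MulAction G Ω] {p d : ℕ}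

theorem Ker.exists_ne_one {a : Ω} {P : Subgroup G} (K : Ker p a P) (hp : 2 ≤ p) :
    ∃ u ∈ P, u ≠ 1 := by
  haveI : Finite P := Nat.finite_of_card_ne_zero (by rw [K.card]; omega)
  have h1 : 1 < Nat.card P := by rw [K.card]; omega
  haveI : Nontrivial P := Finite.one_lt_card_iff_nontrivial.1 h1
  obtain ⟨u, hu⟩ := exists_ne (1 : P)
  exact ⟨u.1, u.2, fun h => hu (Subtype.ext h)⟩

theorem Ker.le_of_mem (hp : p.Prime) {a : Ω} {P : Subgroup G} (K : Ker p a P) {N : Subgroup G}
    {u : G} (hu : u ∈ P) (hu1 : u ≠ 1) (huN : u ∈ N) : P ≤ N := by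
  haveI : Fact (Nat.card P).Prime := ⟨by rw [K.card]; exact hp⟩
  rcases (N.subgroupOf P).eq_bot_or_eq_top_of_prime_card with h | h
  · exfalso
    have h1 : (⟨u, hu⟩ : P) ∈ N.subgroupOf P := Subgroup.mem_subgroupOf.2 huN
    rw [h, Subgroup.mem_bot] at h1
    exact hu1 (congrArg Subtype.val h1)
  · intro v hv
    have h1 : (⟨v, hv⟩ : P) ∈ N.subgroupOf P := by
      rw [h]
      exact Subgroup.mem_top _
    exact Subgroup.mem_subgroupOf.1 h1

theorem Hyp.mem_ker_of_order (H : Hyp G Ω p d) {a : Ω} {P : Subgroup G} (K : Ker p a P) {s : G}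
    (hs : orderOf s = p) (hsa : s • a = a) : s ∈ P := by
  haveI := H.finiteG
  obtain ⟨u, hu, hu1⟩ := K.exists_ne_one H.two_le
  have h1 : orderOf u = p := by
    have h2 : orderOf u ∣ p := by
      rw [← K.card]
      have := orderOf_dvd_natCard (⟨u, hu⟩ : P)
      rwa [Subgroup.orderOf_mk] at this
    rcases (Nat.dvd_prime H.prime).1 h2 with h3 | h3
    · exact absurd (orderOf_eq_one_iff.1 h3) hu1
    · exact h3
  have h4 := H.order_p_mem h1 hs (K.fix u hu) hsa
  exact (Subgroup.zpowers_le.2 hu) h4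

theorem Hyp.three_le (H : Hyp G Ω p d) : 3 ≤ Nat.card Ω := by
  rw [H.cardΩ]
  have := H.two_le
  omega

theorem Hyp.exists_ne (H : Hyp G Ω p d) (a : Ω) : ∃ b : Ω, b ≠ a := by
  haveI := H.finiteΩ
  haveI : Nontrivial Ω := Finite.one_lt_card_iff_nontrivial.1 (by have := H.three_le; omega)
  exact _root_.exists_ne a

theorem Hyp.exists_third (H : Hyp G Ω p d) (a b : Ω) : ∃ c : Ω, c ≠ a ∧ c ≠ b := by
  classical
  haveI := H.finiteΩ
  by_contra hcon
  push Not at hcon
  have h1 : (Set.univ : Set Ω) ⊆ {a, b} := by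
    intro c _
    by_cases hc : c = a
    · left; exact hc
    · right; exact hcon c hc
  have h2 := Set.ncard_le_ncard h1 (Set.toFinite _)
  rw [Set.ncard_univ] at h2
  have h3 : ({a, b} : Set Ω).ncard ≤ 2 := by
    have := Set.ncard_insert_le a ({b} : Set Ω)
    rw [Set.ncard_singleton] at this
    exact this
  have := H.three_le
  omega

/-- an element of the stabiliser of `a` commuting with a non-identity element of the kernel lies
in the kernel. -/
theorem Hyp.centralizer_ker (H : Hyp G Ω p d) {a : Ω} {P : Subgroup G} (K : Ker p a P) {n : G}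
    (hna : n • a = a) {u : G} (hu : u ∈ P) (hu1 : u ≠ 1) (hc : n * u = u * n) : n ∈ P := by
  haveI : Fact (Nat.card P).Prime := ⟨by rw [K.card]; exact H.prime⟩
  let C : Subgroup P :=
    { carrier := {v | n * (v : G) = (v : G) * n}
      one_mem' := by
        show n * ((1 : P) : G) = ((1 : P) : G) * n
        rw [Subgroup.coe_one, mul_one, one_mul]
      mul_mem' := by
        intro v w hv hw
        show n * ((v * w : P) : G) = ((v * w : P) : G) * n
        have hv' : n * (v : G) = (v : G) * n := hv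
        have hw' : n * (w : G) = (w : G) * n := hw
        rw [Subgroup.coe_mul, ← mul_assoc, hv', mul_assoc, hw', mul_assoc]
      inv_mem' := by
        intro v hv
        show n * ((v⁻¹ : P) : G) = ((v⁻¹ : P) : G) * n
        have hv' : n * (v : G) = (v : G) * n := hv
        rw [Subgroup.coe_inv]
        calc n * (v : G)⁻¹ = (v : G)⁻¹ * ((v : G) * n) * (v : G)⁻¹ := by group
          _ = (v : G)⁻¹ * (n * (v : G)) * (v : G)⁻¹ := by rw [hv']
          _ = (v : G)⁻¹ * n := by group }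
  have hCtop : C = ⊤ := by
    rcases C.eq_bot_or_eq_top_of_prime_card with h | h
    · exfalso
      have h1 : (⟨u, hu⟩ : P) ∈ C := hc
      rw [h, Subgroup.mem_bot] at h1
      exact hu1 (congrArg Subtype.val h1)
    · exact h
  have hcomm : ∀ v ∈ P, n * v = v * n := by
    intro v hv
    have h1 : (⟨v, hv⟩ : P) ∈ C := by
      rw [hCtop]
      exact Subgroup.mem_top _
    exact h1
  obtain ⟨b, hb⟩ := H.exists_ne a
  have hnb : n • b ≠ a := by
    intro h
    rw [← hna] at h
    exact hb (MulAction.injective n h)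
  obtain ⟨w, hw, -⟩ := K.reg b (n • b) hb hnb
  have hall : ∀ y : Ω, ((w : G)⁻¹ * n) • y = y := by
    intro y
    rw [mul_smul, inv_smul_eq_iff]
    by_cases hy : y = a
    · rw [hy, hna, K.fix _ w.2]
    · obtain ⟨v, hv, -⟩ := K.reg b y hb hy
      rw [← hv, ← mul_smul, hcomm _ v.2, mul_smul, ← hw, ← mul_smul, ← mul_smul,
        K.comm _ v.2 _ w.2]
  have h1 := H.faith _ hall
  have h2 : n = w := by
    calc n = (w : G) * ((w : G)⁻¹ * n) := by group
      _ = w := by rw [h1, mul_one]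
  rw [h2]
  exact w.2

/-- in the absence of a regular normal subgroup, every non-trivial normal subgroup contains all
kernels. -/
theorem Hyp.ker_le_normal (H : Hyp G Ω p d) (hnoreg : ¬ HasRegNormal G Ω) (N : Subgroup G)
    (hN : N.Normal) (hNbot : N ≠ ⊥) {a : Ω} {P : Subgroup G} (K : Ker p a P) : P ≤ N := by
  -- `N` is transitive
  obtain ⟨⟨n₀, hn₀N⟩, hn₀1⟩ := (Subgroup.ne_bot_iff_exists_ne_one).1 hNbot
  have hn₀1' : n₀ ≠ 1 := fun h => hn₀1 (Subtype.ext h)
  obtain ⟨x₀, hx₀⟩ : ∃ x : Ω, n₀ • x ≠ x := by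
    by_contra hcon
    push Not at hcon
    exact hn₀1' (H.faith n₀ hcon)
  have hNt : ∀ x y : Ω, ∃ r ∈ N, r • x = y := by
    intro x y
    by_cases hxy : x = y
    · exact ⟨1, N.one_mem, by rw [one_smul, hxy]⟩
    · obtain ⟨g, hg1, hg2⟩ := H.twoTrans x₀ (n₀ • x₀) x y (Ne.symm hx₀) hxy
      refine ⟨g * n₀ * g⁻¹, hN.conj_mem n₀ hn₀N g, ?_⟩
      rw [mul_smul, mul_smul, ← hg1, inv_smul_smul, hg2]
  -- some non-identity element of `N` fixes a point
  have hex : ∃ r ∈ N, r ≠ 1 ∧ ∃ x : Ω, r • x = x := by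
    by_contra hcon
    push Not at hcon
    apply hnoreg
    refine ⟨N, hN, hNt, fun r hr x hx => ?_⟩
    by_contra hr1
    exact hcon r hr hr1 x hx
  obtain ⟨r, hrN, hr1, x, hrx⟩ := hex
  obtain ⟨g, hg⟩ := H.trans x a
  obtain ⟨n, hn⟩ : ∃ n : G, n = g * r * g⁻¹ := ⟨_, rfl⟩
  have hnN : n ∈ N := by rw [hn]; exact hN.conj_mem r hrN g
  have hn1 : n ≠ 1 := by
    intro h
    apply hr1
    have : r = g⁻¹ * n * g := by rw [hn]; group
    rw [this, h]
    group
  have hna : n • a = a := by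
    rw [hn, mul_smul, mul_smul, ← hg, inv_smul_smul, hrx]
  obtain ⟨u, hu, hu1⟩ := K.exists_ne_one H.two_le
  by_cases hc : n * u = u * n
  · have hnP := H.centralizer_ker K hna hu hu1 hc
    exact K.le_of_mem H.prime hnP hn1 hnN
  · have h1 : n * u * n⁻¹ * u⁻¹ ∈ P := mul_mem (K.norm n hna u hu) (inv_mem hu)
    have h2 : n * u * n⁻¹ * u⁻¹ ∈ N := by
      have : n * u * n⁻¹ * u⁻¹ = n * (u * n⁻¹ * u⁻¹) := by group
      rw [this]
      exact mul_mem hnN (hN.conj_mem _ (inv_mem hnN) u)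
    have h3 : n * u * n⁻¹ * u⁻¹ ≠ 1 := by
      intro h
      apply hc
      calc n * u = (n * u * n⁻¹ * u⁻¹) * (u * n) := by group
        _ = u * n := by rw [h, one_mul]
    exact K.le_of_mem H.prime h1 h3 h2

/-- a group generated by its elements of order `p` that has a regular normal subgroup is sharply
doubly transitive. -/
theorem Hyp.d_one_of_regNormal (H : Hyp G Ω p d)
    (hgen : ∀ S : Subgroup G, (∀ x : G, orderOf x = p → x ∈ S) → S = ⊤)
    (hreg : HasRegNormal G Ω) : d = 1 := by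
  haveI := H.finiteΩ
  haveI := H.finiteG
  have hp2 := H.two_le
  obtain ⟨M, hMn, hMt, hMs⟩ := hreg
  obtain ⟨a⟩ : Nonempty Ω := by
    have : 0 < Nat.card Ω := by rw [H.cardΩ]; omega
    exact (Nat.card_pos_iff.1 this).1
  obtain ⟨P, K⟩ := H.exists_ker a
  have htop : M ⊔ P = ⊤ := by
    apply hgen
    intro x hx
    obtain ⟨b, hxb, -⟩ := H.exists_unique_fixed x hx
    obtain ⟨m, hm, hma⟩ := hMt a b
    have h1 : orderOf (m⁻¹ * x * m) = p := by
      have := (MulAut.conj m⁻¹).orderOf_eq x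
      rw [MulAut.conj_apply, inv_inv] at this
      rw [this, hx]
    have h2 : (m⁻¹ * x * m) • a = a := by
      rw [mul_smul, mul_smul, hma, hxb, ← hma, inv_smul_smul]
    have h3 := H.mem_ker_of_order K h1 h2
    have h4 : x = m * (m⁻¹ * x * m) * m⁻¹ := by group
    rw [h4]
    have hmM : m ∈ M ⊔ P := Subgroup.mem_sup_left hm
    exact mul_mem (mul_mem hmM (Subgroup.mem_sup_right h3)) (inv_mem hmM)
  -- count
  have hcM : Nat.card M = p + 1 := by
    rw [← H.cardΩ]
    apply Nat.card_congr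
    refine Equiv.ofBijective (fun m : M => (m : G) • a) ⟨?_, ?_⟩
    · intro m m' h
      have h1 : ((m' : G)⁻¹ * (m : G)) • a = a := by
        rw [mul_smul]
        have h' : (m : G) • a = (m' : G) • a := h
        rw [h', inv_smul_smul]
      have h2 := hMs _ (mul_mem (inv_mem m'.2) m.2) a h1
      apply Subtype.ext
      calc (m : G) = (m' : G) * ((m' : G)⁻¹ * (m : G)) := by group
        _ = m' := by rw [h2, mul_one]
    · intro y
      obtain ⟨m, hm, hmy⟩ := hMt a y
      exact ⟨⟨m, hm⟩, hmy⟩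
  have hsurj : Function.Surjective (fun x : M × P => (x.1 : G) * (x.2 : G)) := by
    intro g
    have hg : g ∈ M ⊔ P := by rw [htop]; exact Subgroup.mem_top g
    rw [← SetLike.mem_coe, Subgroup.normal_mul, Set.mem_mul] at hg
    obtain ⟨m, hm, u, hu, rfl⟩ := hg
    exact ⟨(⟨m, hm⟩, ⟨u, hu⟩), rfl⟩
  have hle := Nat.card_le_card_of_surjective _ hsurj
  rw [Nat.card_prod, hcM, K.card, H.cardG] at hle
  have hdpos := H.dpos
  by_contra hd1
  have hd2 : 2 ≤ d := by omega
  have : (p + 1) * p * 2 ≤ (p + 1) * p * d := Nat.mul_le_mul_left _ hd2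
  have hpos : 0 < (p + 1) * p := by positivity
  omega

/-- **Sharply 3-transitive case**: the group is `PGL₂(p)`. -/
theorem Hyp.sharp3_case (H : Hyp G Ω p d) (hp2 : p ≠ 2) (hnoreg : ¬ HasRegNormal G Ω)
    (hd : d = p - 1) (h3 : IsMultiplyPretransitive G Ω 3)
    (hsharp : ∀ t : Fin 3 ↪ Ω, stabilizer G t = ⊥) :
    Nonempty (G ≃* Matrix.ProjGenLinGroup (Fin 2) (ZMod p)) := by
  classical
  haveI := H.finiteΩ
  haveI := H.finiteG
  haveI : Fact p.Prime := ⟨H.prime⟩
  have hp := H.prime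
  have hp2' := H.two_le
  have hp3 : 3 ≤ p := by omega
  letI : Fintype Ω := Fintype.ofFinite Ω
  have hcΩ : Fintype.card Ω = p + 1 := by
    rw [← Nat.card_eq_fintype_card]
    exact H.cardΩ
  haveI hfaith : FaithfulSMul G Ω := by
    constructor
    intro g g' h
    have h5 : ∀ x : Ω, (g'⁻¹ * g) • x = x := by
      intro x
      rw [mul_smul, h x, inv_smul_smul]
    have h6 := H.faith _ h5
    calc g = g' * (g'⁻¹ * g) := by group
      _ = g' := by rw [h6, mul_one]
  have heven : Even (Fintype.card Ω) := by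
    rw [hcΩ]
    obtain ⟨j, hj⟩ := hp.odd_of_ne_two hp2
    exact ⟨j + 1, by omega⟩
  obtain ⟨N, hNn, hNbot, hNtop⟩ :=
    Cfsg.Agent.Lib.Helper3.Sharp3.sharp3_even_not_simple h3 hsharp heven (by omega)
  obtain ⟨a⟩ : Nonempty Ω := by
    have : 0 < Nat.card Ω := by rw [H.cardΩ]; omega
    exact (Nat.card_pos_iff.1 this).1
  obtain ⟨P, K⟩ := H.exists_ker a
  have hPN : P ≤ N := H.ker_le_normal hnoreg N hNn hNbot K
  obtain ⟨N₁, hN₁def⟩ : ∃ N₁ : Subgroup G, N₁ = Subgroup.normalClosure (P : Set G) := ⟨_, rfl⟩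
  have hN₁n : N₁.Normal := by rw [hN₁def]; exact Subgroup.normalClosure_normal
  have hPN₁ : P ≤ N₁ := by rw [hN₁def]; exact Subgroup.le_normalClosure
  have hN₁N : N₁ ≤ N := by
    rw [hN₁def]
    haveI := hNn
    exact Subgroup.normalClosure_le_normal hPN
  have hN₁top : N₁ ≠ ⊤ := by
    intro h
    rw [h] at hN₁N
    exact hNtop (top_le_iff.1 hN₁N)
  have hN₁bot : N₁ ≠ ⊥ := by
    obtain ⟨u, hu, hu1⟩ := K.exists_ne_one hp2'
    intro h
    have := hPN₁ hu
    rw [h, Subgroup.mem_bot] at this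
    exact hu1 this
  have hall : ∀ (x : Ω) (P' : Subgroup G), Ker p x P' → P' ≤ N₁ :=
    fun x P' K' => H.ker_le_normal hnoreg N₁ hN₁n hN₁bot K'
  -- the stabiliser in `N₁`
  obtain ⟨d', hd'⟩ : ∃ d', Nat.card (stabilizer N₁ a) = p * d' := by
    have h1 : Nat.card P ∣ Nat.card (stabilizer N₁ a) := by
      let f : P →* stabilizer N₁ a :=
        { toFun := fun u => ⟨⟨u.1, hPN₁ u.2⟩, mem_stabilizer_iff.2 (K.fix u.1 u.2)⟩
          map_one' := rfl
          map_mul' := fun _ _ => rfl }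
      apply Subgroup.card_dvd_of_injective f
      intro u v h
      apply Subtype.ext
      exact congrArg (fun z : stabilizer N₁ a => ((z : N₁) : G)) h
    rw [K.card] at h1
    exact h1
  have hN₁t : ∀ x y : Ω, ∃ g : N₁, g • x = y := by
    intro x y
    by_cases hxy : x = y
    · exact ⟨1, by rw [one_smul, hxy]⟩
    · obtain ⟨c, hcx, hcy⟩ := H.exists_third x y
      obtain ⟨P', K'⟩ := H.exists_ker c
      obtain ⟨u, hu, -⟩ := K'.reg x y (Ne.symm hcx) (Ne.symm hcy)
      exact ⟨⟨u.1, hall c P' K' u.2⟩, hu⟩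
  have hcX : Nat.card N₁ = (p + 1) * p * d' := by
    haveI : IsPretransitive N₁ Ω := ⟨hN₁t⟩
    have h1 := Subgroup.card_mul_index (stabilizer N₁ a)
    rw [MulAction.index_stabilizer_of_transitive, H.cardΩ, hd'] at h1
    rw [← h1]
    ring
  have hd'le : d' ≤ d := by
    have h1 := Subgroup.card_le_card_group N₁
    rw [hcX, H.cardG] at h1
    exact Nat.le_of_mul_le_mul_left h1 (by positivity)
  have HX : Hyp N₁ Ω p d' := by
    refine ⟨fun g hg => ?_, hN₁t, hp, H.cardΩ, hcX, lt_of_le_of_lt hd'le H.lt⟩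
    apply Subtype.ext
    exact H.faith g.1 hg
  -- `N₁` is generated by its elements of order `p`
  have hgen : ∀ S : Subgroup N₁, (∀ x : N₁, orderOf x = p → x ∈ S) → S = ⊤ := by
    intro S hS
    have h0 : Subgroup.closure (Group.conjugatesOfSet (P : Set G)) ≤ S.map N₁.subtype := by
      rw [Subgroup.closure_le]
      intro y hy
      rw [Group.mem_conjugatesOfSet_iff] at hy
      obtain ⟨u, hu, huy⟩ := hy
      obtain ⟨c, hc⟩ := isConj_iff.1 huy
      have hyN : y ∈ N₁ := by
        rw [← hc]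
        exact hN₁n.conj_mem u (hPN₁ hu) c
      by_cases hu1 : u = 1
      · have : y = 1 := by rw [← hc, hu1]; group
        rw [this]
        exact Subgroup.one_mem _
      · have h1 : orderOf u = p := by
          have h2 : orderOf u ∣ p := by
            rw [← K.card]
            have := orderOf_dvd_natCard (⟨u, hu⟩ : P)
            rwa [Subgroup.orderOf_mk] at this
          rcases (Nat.dvd_prime hp).1 h2 with h3 | h3
          · exact absurd (orderOf_eq_one_iff.1 h3) hu1
          · exact h3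
        have h2 : orderOf y = p := by
          have := (MulAut.conj c).orderOf_eq u
          rw [MulAut.conj_apply, hc] at this
          rw [this, h1]
        have h3 : orderOf (⟨y, hyN⟩ : N₁) = p := by rw [Subgroup.orderOf_mk, h2]
        exact Subgroup.mem_map.2 ⟨⟨y, hyN⟩, hS _ h3, rfl⟩
    have h1 : N₁ ≤ S.map N₁.subtype := by
      have : N₁ = Subgroup.closure (Group.conjugatesOfSet (P : Set G)) := hN₁def
      intro y hy
      apply h0
      rw [← this]
      exact hy
    rw [eq_top_iff]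
    intro x _
    obtain ⟨s, hs, hsx⟩ := Subgroup.mem_map.1 (h1 x.2)
    have : s = x := Subtype.ext hsx
    rw [← this]
    exact hs
  have hd'1 : d' ≠ 1 := by
    intro h
    rw [h] at HX
    obtain ⟨R, hR, hRt⟩ := exists_kernel_of_d_one HX
    apply hnoreg
    refine ⟨R.map N₁.subtype, ⟨?_⟩, ?_, ?_⟩
    · intro r hr g
      obtain ⟨r₀, hr₀, rfl⟩ := Subgroup.mem_map.1 hr
      have hmem : g * (r₀ : G) * g⁻¹ ∈ N₁ := hN₁n.conj_mem _ r₀.2 g
      refine Subgroup.mem_map.2 ⟨⟨_, hmem⟩, ?_, rfl⟩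
      rw [hR] at hr₀ ⊢
      rcases hr₀ with h1 | h1
      · left
        apply Subtype.ext
        show g * (r₀ : G) * g⁻¹ = 1
        rw [h1, Subgroup.coe_one]
        group
      · right
        intro x hx
        apply h1 (g⁻¹ • x)
        have hx' : (g * (r₀ : G) * g⁻¹) • x = x := hx
        show (r₀ : G) • g⁻¹ • x = g⁻¹ • x
        rw [mul_smul, mul_smul] at hx'
        rw [eq_inv_smul_iff]
        exact hx'
    · intro x y
      obtain ⟨r, hr, hrxy⟩ := hRt x y
      exact ⟨r.1, Subgroup.mem_map.2 ⟨r, hr, rfl⟩, hrxy⟩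
    · intro r hr x hx
      obtain ⟨r₀, hr₀, rfl⟩ := Subgroup.mem_map.1 hr
      rcases (hR r₀).1 hr₀ with h1 | h1
      · rw [h1]
        rfl
      · exact absurd hx (h1 x)
  have hnoreg' : ¬ HasRegNormal N₁ Ω := fun h => hd'1 (HX.d_one_of_regNormal hgen h)
  have hcardG : Nat.card G = p * (p ^ 2 - 1) := by
    rw [H.cardG, hd]
    obtain ⟨m, hm⟩ : ∃ m, p = m + 1 := ⟨p - 1, by omega⟩
    rw [hm, Nat.add_sub_cancel]
    have e1 : (m + 1) ^ 2 - 1 = m * (m + 2) := by
      have h1 : (m + 1) ^ 2 = m * (m + 2) + 1 := by ring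
      rw [h1, Nat.add_sub_cancel]
    rw [e1]
    ring
  rcases zass_case HX hp2 hnoreg' with ⟨hd'p, -, -⟩ | ⟨hd'2, ⟨e⟩⟩
  · exfalso
    apply hN₁top
    rw [← Subgroup.card_eq_iff_eq_top, hcX, H.cardG, hd'p, hd]
  · haveI := hN₁n
    refine pgl_of_normal_psl p N₁ e ?_ hcardG
    intro c hc
    apply H.faith
    intro x
    obtain ⟨P', K'⟩ := H.exists_ker x
    obtain ⟨u, hu, hu1⟩ := K'.exists_ne_one hp2'
    by_contra hcx
    have h1 : u • (c • x) = c • x := by
      rw [← mul_smul, ← hc u (hall x P' K' hu), mul_smul, K'.fix u hu]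
    exact hu1 (K'.eq_one_of_fix hu hcx h1)

end Cfsg.Agent.Lib.Helper3.PP1
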