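import Mathlib
import Cfsg.Agent.Lib.Helper3.PP1A
import Cfsg.Agent.Lib.Helper29.SharpThree

/-!
# Degree `p + 1`, order `(p+1) p d`: the case `p = 2` (helper3)
-/

set_option autoImplicit false
set_option linter.unusedVariables false
set_option linter.unusedSectionVars false
set_option linter.style.longLine false

namespace Cfsg.Agent.Lib.Helper3.PP1

open MulAction Cfsg.Agent.Helper29.SharpThree

variable {G Ω : Type*} [Group G] [MulAction G Ω] {d : ℕ}

theorem Hyp.case_two (H : Hyp G Ω 2 d) :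
    d = 1 ∧ Nonempty (G ≃* Matrix.ProjGenLinGroup (Fin 2) (ZMod 2)) := by
  classical
  haveI := H.finiteΩ
  haveI := H.finiteG
  have hd1 : d = 1 := by
    have h1 := H.dpos
    have h2 := H.lt
    omega
  refine ⟨hd1, ?_⟩
  have hcover : ∀ a' b' c' : Ω, a' ≠ b' → a' ≠ c' → b' ≠ c' → ∀ x : Ω, x = a' ∨ x = b' ∨ x = c' := by
    intro a' b' c' hab hac hbc x
    by_contra hcon
    push Not at hcon
    obtain ⟨h1, h2, h3⟩ := hcon
    have h4 : ({x, a', b', c'} : Set Ω).ncard = 4 := by
      rw [Set.ncard_insert_of_notMem, Set.ncard_insert_of_notMem, Set.ncard_insert_of_notMem,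
        Set.ncard_singleton]
      · simp only [Set.mem_singleton_iff]; exact hbc
      · simp only [Set.mem_insert_iff, Set.mem_singleton_iff, not_or]; exact ⟨hab, hac⟩
      · simp only [Set.mem_insert_iff, Set.mem_singleton_iff, not_or]; exact ⟨h1, h2, h3⟩
    have h5 := Set.ncard_le_card ({x, a', b', c'} : Set Ω)
    rw [h4, H.cardΩ] at h5
    omega
  have hT3 : T3 G Ω := by
    intro a b c a' b' c' hab hac hbc hab' hac' hbc'
    obtain ⟨g, hga, hgb⟩ := H.twoTrans a b a' b' hab hab'
    refine ⟨g, hga, hgb, ?_⟩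
    rcases hcover a' b' c' hab' hac' hbc' (g • c) with h | h | h
    · exfalso
      rw [← hga] at h
      exact hac (MulAction.injective g h).symm
    · exfalso
      rw [← hgb] at h
      exact hbc (MulAction.injective g h).symm
    · exact h
  have hS3 : S3 G Ω := by
    intro g a b c hab hac hbc ha hb hc
    exact H.three_fix g a b c hab hbc hac ha hb hc
  have hΩ : Nat.card Ω = 2 ^ 1 + 1 := by rw [H.cardΩ]; norm_num
  have hcard : 2 ^ 1 * ((2 ^ 1) ^ 2 - 1) ≤ Nat.card G := by
    rw [H.cardG, hd1]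
    norm_num
  have hF : Fintype.card (ZMod 2) = 2 ^ 1 := by rw [ZMod.card, pow_one]
  haveI : Fact (Nat.Prime 2) := ⟨Nat.prime_two⟩
  obtain ⟨e⟩ := main (G := G) (Ω := Ω) 1 hΩ le_rfl hT3 hS3 hcard (F := ZMod 2) hF
  have hbij : Function.Bijective
      (Matrix.ProjectiveSpecialLinearGroup.toPGL (n := Fin 2) (R := ZMod 2)) := by
    refine ⟨Matrix.ProjectiveSpecialLinearGroup.toPGL_injective,
      Matrix.ProjectiveSpecialLinearGroup.toPGL_surj_of_roots ?_⟩
    intro r
    obtain ⟨s, hs⟩ := FiniteField.isSquare_of_char_two (ringChar.eq (ZMod 2) 2) (r : ZMod 2)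
    have hs0 : s ≠ 0 := by
      rintro rfl
      rw [mul_zero] at hs
      exact r.ne_zero hs
    refine ⟨Units.mk0 s hs0, ?_⟩
    apply Units.ext
    rw [Fintype.card_fin, Units.val_pow_eq_pow_val, Units.val_mk0, pow_two]
    exact hs.symm
  exact ⟨e.trans (MulEquiv.ofBijective _ hbij)⟩

end Cfsg.Agent.Lib.Helper3.PP1
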