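import Mathlib
import Cfsg.Prelude.Def_TwoFusion
import Cfsg.Agent.Lib.Helper19.S3313Defs

/-!
# S3313 FO-F : fusion bookkeeping (architect helper19)
-/

set_option autoImplicit false
open Cfsg

namespace Cfsg.Agent.Lib.Helper3.S3313F

open Cfsg.Agent.Lib.Helper19.S3313

variable {G : Type*} [Group G] [Finite G] {z t : G} {Q K V B : Subgroup G}

omit [Finite G] in
theorem mem_centralizer_singleton {a x : G} :
    x ∈ Subgroup.centralizer ({a} : Set G) ↔ x * a = a * x := by
  rw [Subgroup.mem_centralizer_iff]
  constructor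
  · intro h; exact (h a rfl).symm
  · intro h y hy
    rw [Set.mem_singleton_iff] at hy
    subst hy
    exact h.symm

/-- FO-F1: an involution of `C(z)` is conjugate to `z` iff it lies in `Q`. -/
theorem mem_Q_iff (h : HJ z t Q K V B) (x : G) (hx : orderOf x = 2) (hxz : x * z = z * x) :
    x ∈ Q ↔ IsConj x z := by
  constructor
  · intro hxQ; exact h.hQz x hxQ hx
  · intro hc
    by_contra hxQ
    have := h.hCz x (mem_centralizer_singleton.mpr hxz) hx hxQ
    exact h.hzt (hc.symm.trans this)

/-- FO-F2: an involution of `C(z)` is conjugate to `t` iff it does not lie in `Q`. -/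
theorem not_mem_Q_iff (h : HJ z t Q K V B) (x : G) (hx : orderOf x = 2) (hxz : x * z = z * x) :
    x ∉ Q ↔ IsConj x t := by
  constructor
  · intro hxQ; exact h.hCz x (mem_centralizer_singleton.mpr hxz) hx hxQ
  · intro hc hxQ
    have := h.hQz x hxQ hx
    exact h.hzt (this.symm.trans hc)

/-- FO-F3: an involution of `C(t)` is conjugate to `z` iff it lies in `B`. -/
theorem mem_B_iff (h : HJ z t Q K V B) (x : G) (hx : orderOf x = 2) (hxt : x * t = t * x) :
    x ∈ B ↔ IsConj x z := by
  constructor
  · intro hxB; exact h.hBz x hxB hx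
  · intro hc
    by_contra hxB
    have := h.hCt x (mem_centralizer_singleton.mpr hxt) hx hxB
    exact h.hzt (hc.symm.trans this)

end Cfsg.Agent.Lib.Helper3.S3313F
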