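import Mathlib
import Cfsg.Prelude.Def_TwoFusion
import Cfsg.Agent.Lib.Helper19.S3313Defs
import Cfsg.Agent.Lib.Helper3.S3313F

/-!
# S3313 FO-Zd : `C(v) ∩ C(z)` for `v ~ t` in `C(z)` (architect helper19)
-/

set_option autoImplicit false
open Cfsg

namespace Cfsg.Agent.Lib.Helper3.S3313Zd

open Cfsg.Agent.Lib.Helper19.S3313 Cfsg.Agent.Lib.Helper3.S3313F

variable {G : Type*} [Group G] [Finite G] {z t : G} {Q K V B : Subgroup G}

/-- FO-A5b for the subgroup `B` (an explicit hypothesis; it is `a5_centralizer` at `A := ↥B`) -/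
def A5bHyp (B : Subgroup G) : Prop :=
  ∀ x : B, orderOf x = 2 →
    Nat.card (Subgroup.centralizer ({x} : Set B)) = 4 ∧
      ∀ y ∈ Subgroup.centralizer ({x} : Set B), y ^ 2 = 1

/-- `A5bHyp B` from FO-A5b (`a5_centralizer`) instantiated at `A := ↥B` -/
theorem a5bHyp_of (h : HJ z t Q K V B)
    (H : ∀ (_ : B ≃* alternatingGroup (Fin 5)) (x : B), orderOf x = 2 →
      Nat.card (Subgroup.centralizer ({x} : Set B)) = 4 ∧
        ∀ y ∈ Subgroup.centralizer ({x} : Set B), y ^ 2 = 1) : A5bHyp B := by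
  intro x hx
  obtain ⟨e⟩ := h.BA5
  exact H e x hx

/-- the centralizer of an involution `z'` of `B` inside `B`, as a subgroup of `G` -/
theorem card_CB (_h : HJ z t Q K V B) (hA : A5bHyp B) (z' : G) (hz'B : z' ∈ B) (hz' : orderOf z' = 2) :
    Nat.card (B ⊓ Subgroup.centralizer ({z'} : Set G) : Subgroup G) = 4 ∧
      ∀ y ∈ B ⊓ Subgroup.centralizer ({z'} : Set G), y ^ 2 = 1 := by
  have hx : orderOf (⟨z', hz'B⟩ : B) = 2 := by
    rw [← hz']
    exact (Subgroup.orderOf_mk z' hz'B)
  obtain ⟨h4, h2⟩ := hA ⟨z', hz'B⟩ hx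
  have heq : (Subgroup.centralizer ({(⟨z', hz'B⟩ : B)} : Set B)) =
      (Subgroup.centralizer ({z'} : Set G)).subgroupOf B := by
    ext y
    rw [Subgroup.mem_subgroupOf, mem_centralizer_singleton, mem_centralizer_singleton]
    constructor
    · intro hy
      have := congrArg Subtype.val hy
      simpa using this
    · intro hy
      apply Subtype.ext
      simpa using hy
  constructor
  · rw [heq] at h4
    rw [← h4, inf_comm]
    have : ((Subgroup.centralizer ({z'} : Set G)) ⊓ B).subgroupOf B =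
        (Subgroup.centralizer ({z'} : Set G)).subgroupOf B := Subgroup.inf_subgroupOf_right _ _
    rw [← this]
    exact (Nat.card_congr (Subgroup.subgroupOfEquivOfLe inf_le_right).toEquiv).symm
  · intro y hy
    rw [Subgroup.mem_inf] at hy
    have hyc : (⟨y, hy.1⟩ : B) ∈ Subgroup.centralizer ({(⟨z', hz'B⟩ : B)} : Set B) := by
      rw [heq, Subgroup.mem_subgroupOf]
      exact hy.2
    have := h2 _ hyc
    have h3 := congrArg Subtype.val this
    simpa using h3


omit [Finite G] in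
/-- elements of `V ⊔ B` are products when `V` and `B` commute -/
theorem exists_mul_of_mem_sup {V B : Subgroup G} (hcomm : ∀ a ∈ V, ∀ b ∈ B, a * b = b * a)
    {x : G} (hx : x ∈ V ⊔ B) : ∃ a ∈ V, ∃ b ∈ B, x = a * b := by
  let S : Subgroup G :=
    { carrier := {x | ∃ a ∈ V, ∃ b ∈ B, x = a * b}
      mul_mem' := by
        rintro _ _ ⟨a, ha, b, hb, rfl⟩ ⟨a', ha', b', hb', rfl⟩
        refine ⟨a * a', V.mul_mem ha ha', b * b', B.mul_mem hb hb', ?_⟩
        calc a * b * (a' * b') = a * (b * a') * b' := by group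
          _ = a * (a' * b) * b' := by rw [hcomm a' ha' b hb]
          _ = a * a' * (b * b') := by group
      one_mem' := ⟨1, V.one_mem, 1, B.one_mem, by simp⟩
      inv_mem' := by
        rintro _ ⟨a, ha, b, hb, rfl⟩
        refine ⟨a⁻¹, V.inv_mem ha, b⁻¹, B.inv_mem hb, ?_⟩
        rw [mul_inv_rev, hcomm a⁻¹ (V.inv_mem ha) b⁻¹ (B.inv_mem hb)] }
  have hle : V ⊔ B ≤ S := by
    apply sup_le
    · intro a ha; exact ⟨a, ha, 1, B.one_mem, by simp⟩
    · intro b hb; exact ⟨1, V.one_mem, b, hb, by simp⟩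
  exact hle hx

/-- the structure of `C(t) ∩ C(z')` for an involution `z'` of `B` -/
theorem inter_struct_t (h : HJ z t Q K V B) (hA : A5bHyp B) (z' : G) (hz'B : z' ∈ B) (hz' : orderOf z' = 2) :
    Nat.card (Subgroup.centralizer ({t} : Set G) ⊓ Subgroup.centralizer ({z'} : Set G) : Subgroup G) = 16 ∧
    (∀ a ∈ Subgroup.centralizer ({t} : Set G) ⊓ Subgroup.centralizer ({z'} : Set G), a ^ 2 = 1) ∧
    Nat.card {a : G // a ∈ Subgroup.centralizer ({t} : Set G) ⊓ Subgroup.centralizer ({z'} : Set G) ∧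
      IsConj a z} = 3 := by
  obtain ⟨hVle, hBle, hcomm, hVB, hsup⟩ := h.hVB
  obtain ⟨hCB4, hCB2⟩ := card_CB h hA z' hz'B hz'
  have hz1 : z ≠ 1 := by
    intro h1
    have := h.hz
    rw [h1, orderOf_one] at this
    omega
  -- every element of `X` is a product
  have hdec : ∀ x ∈ Subgroup.centralizer ({t} : Set G) ⊓ Subgroup.centralizer ({z'} : Set G),
      ∃ a ∈ V, ∃ b ∈ B ⊓ Subgroup.centralizer ({z'} : Set G), x = a * b := by
    intro x hx
    rw [Subgroup.mem_inf] at hx
    obtain ⟨a, ha, b, hb, rfl⟩ := exists_mul_of_mem_sup hcomm (hsup ▸ hx.1)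
    refine ⟨a, ha, b, ?_, rfl⟩
    rw [Subgroup.mem_inf, mem_centralizer_singleton]
    refine ⟨hb, ?_⟩
    have h1 := mem_centralizer_singleton.mp hx.2
    have h2 : a * z' = z' * a := hcomm a ha z' hz'B
    have h3 : a * (b * z') = a * (z' * b) := by
      calc a * (b * z') = a * b * z' := by group
        _ = z' * (a * b) := h1
        _ = (z' * a) * b := by group
        _ = (a * z') * b := by rw [h2]
        _ = a * (z' * b) := by group
    exact mul_left_cancel h3
  refine ⟨?_, ?_, ?_⟩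
  · -- cardinality 16
    have hequiv : (V × (B ⊓ Subgroup.centralizer ({z'} : Set G) : Subgroup G)) ≃
        (Subgroup.centralizer ({t} : Set G) ⊓ Subgroup.centralizer ({z'} : Set G) : Subgroup G) := by
      refine Equiv.ofBijective (fun p => ⟨(p.1 : G) * (p.2 : G), ?_⟩) ⟨?_, ?_⟩
      · rw [Subgroup.mem_inf]
        have hb := Subgroup.mem_inf.mp p.2.2
        refine ⟨(Subgroup.centralizer ({t} : Set G)).mul_mem (hVle p.1.2) (hBle hb.1), ?_⟩
        refine (Subgroup.centralizer ({z'} : Set G)).mul_mem ?_ hb.2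
        rw [mem_centralizer_singleton]
        exact hcomm _ p.1.2 z' hz'B
      · rintro ⟨⟨a, ha⟩, ⟨b, hb⟩⟩ ⟨⟨a', ha'⟩, ⟨b', hb'⟩⟩ hEq
        have hEq' : a * b = a' * b' := congrArg Subtype.val hEq
        have hbB := (Subgroup.mem_inf.mp hb).1
        have hb'B := (Subgroup.mem_inf.mp hb').1
        have h1 : a'⁻¹ * a = b' * b⁻¹ := by
          calc a'⁻¹ * a = a'⁻¹ * (a * b) * b⁻¹ := by group
            _ = a'⁻¹ * (a' * b') * b⁻¹ := by rw [hEq']
            _ = b' * b⁻¹ := by group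
        have h2 : a'⁻¹ * a ∈ V ⊓ B := by
          rw [Subgroup.mem_inf]
          refine ⟨V.mul_mem (V.inv_mem ha') ha, ?_⟩
          rw [h1]
          exact B.mul_mem hb'B (B.inv_mem hbB)
        rw [hVB, Subgroup.mem_bot] at h2
        have haa : a = a' := by
          have := congrArg (fun x => a' * x) h2
          simpa using this
        subst haa
        have hbb : b = b' := mul_left_cancel hEq'
        subst hbb
        rfl
      · rintro ⟨x, hx⟩
        obtain ⟨a, ha, b, hb, rfl⟩ := hdec x hx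
        exact ⟨(⟨a, ha⟩, ⟨b, hb⟩), rfl⟩
    rw [← Nat.card_congr hequiv, Nat.card_prod, h.hV, hCB4]
  · -- exponent 2
    intro x hx
    obtain ⟨a, ha, b, hb, rfl⟩ := hdec x hx
    have hbB := (Subgroup.mem_inf.mp hb).1
    calc (a * b) ^ 2 = a * (b * a) * b := by rw [pow_two]; group
      _ = a * (a * b) * b := by rw [hcomm a ha b hbB]
      _ = a ^ 2 * b ^ 2 := by rw [pow_two, pow_two]; group
      _ = 1 := by rw [h.hV2 a ha, hCB2 b hb, one_mul]
  · -- three conjugates of `z`
    have hset : {a : G | a ∈ Subgroup.centralizer ({t} : Set G) ⊓ Subgroup.centralizer ({z'} : Set G) ∧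
        IsConj a z} = ((B ⊓ Subgroup.centralizer ({z'} : Set G) : Subgroup G) : Set G) \ {1} := by
      ext x
      simp only [Set.mem_ofPred_eq, Set.mem_sdiff, SetLike.mem_coe, Set.mem_singleton_iff]
      constructor
      · rintro ⟨hx, hc⟩
        rw [Subgroup.mem_inf] at hx
        have ho : orderOf x = 2 := by
          obtain ⟨c, hc'⟩ := isConj_iff.mp hc
          have : orderOf (c * x * c⁻¹) = orderOf x := by
            have := orderOf_injective (MulAut.conj c).toMonoidHom (MulAut.conj c).injective x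
            simpa using this
          rw [← this, hc', h.hz]
        have hxB : x ∈ B := (mem_B_iff h x ho (mem_centralizer_singleton.mp hx.1)).mpr hc
        refine ⟨Subgroup.mem_inf.mpr ⟨hxB, hx.2⟩, ?_⟩
        rintro rfl
        rw [orderOf_one] at ho
        omega
      · rintro ⟨hx, hx1⟩
        have hxB := (Subgroup.mem_inf.mp hx).1
        have ho : orderOf x = 2 := orderOf_eq_prime (hCB2 x hx) hx1
        refine ⟨Subgroup.mem_inf.mpr ⟨hBle hxB, (Subgroup.mem_inf.mp hx).2⟩, h.hBz x hxB ho⟩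
    have hcard : Nat.card {a : G // a ∈ Subgroup.centralizer ({t} : Set G) ⊓
        Subgroup.centralizer ({z'} : Set G) ∧ IsConj a z} =
        Set.ncard {a : G | a ∈ Subgroup.centralizer ({t} : Set G) ⊓
          Subgroup.centralizer ({z'} : Set G) ∧ IsConj a z} := by
      rw [← Nat.card_coe_set_eq]
      rfl
    rw [hcard, hset, Set.ncard_sdiff_singleton_of_mem (Subgroup.one_mem _)]
    have : Set.ncard ((B ⊓ Subgroup.centralizer ({z'} : Set G) : Subgroup G) : Set G) = 4 := by
      rw [← Nat.card_coe_set_eq]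
      exact hCB4
    rw [this]


omit [Finite G] in
theorem conj_mem_iff (g a x : G) :
    g * a * g⁻¹ ∈ Subgroup.centralizer ({g * x * g⁻¹} : Set G) ↔
      a ∈ Subgroup.centralizer ({x} : Set G) := by
  rw [mem_centralizer_singleton, mem_centralizer_singleton]
  constructor
  · intro h
    have h1 : g * (a * x) * g⁻¹ = g * (x * a) * g⁻¹ := by
      calc g * (a * x) * g⁻¹ = g * a * g⁻¹ * (g * x * g⁻¹) := by group
        _ = g * x * g⁻¹ * (g * a * g⁻¹) := h
        _ = g * (x * a) * g⁻¹ := by group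
    exact mul_left_cancel (mul_right_cancel h1)
  · intro h
    calc g * a * g⁻¹ * (g * x * g⁻¹) = g * (a * x) * g⁻¹ := by group
      _ = g * (x * a) * g⁻¹ := by rw [h]
      _ = g * x * g⁻¹ * (g * a * g⁻¹) := by group

/-- **FO-Zd**, with FO-A5b as an explicit hypothesis -/
theorem inter_struct_aux (h : HJ z t Q K V B) (hA : A5bHyp B) (v : G) (hv : IsConj v t) (hvz : v * z = z * v) :
    Nat.card (Subgroup.centralizer ({v} : Set G) ⊓ Subgroup.centralizer ({z} : Set G) : Subgroup G) = 16 ∧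
    (∀ a ∈ Subgroup.centralizer ({v} : Set G) ⊓ Subgroup.centralizer ({z} : Set G), a ^ 2 = 1) ∧
    Nat.card {a : G // a ∈ Subgroup.centralizer ({v} : Set G) ⊓ Subgroup.centralizer ({z} : Set G) ∧
      IsConj a z} = 3 := by
  obtain ⟨g, hg⟩ := isConj_iff.mp hv
  have hconjz : IsConj (g * z * g⁻¹) z := (isConj_iff.mpr ⟨g, rfl⟩ : IsConj z (g * z * g⁻¹)).symm
  have ho : orderOf (g * z * g⁻¹) = 2 := by
    have := orderOf_injective (MulAut.conj g).toMonoidHom (MulAut.conj g).injective z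
    rw [← h.hz, ← this]
    rfl
  have hcomm : g * z * g⁻¹ * t = t * (g * z * g⁻¹) := by
    rw [← hg]
    calc g * z * g⁻¹ * (g * v * g⁻¹) = g * (z * v) * g⁻¹ := by group
      _ = g * (v * z) * g⁻¹ := by rw [hvz]
      _ = g * v * g⁻¹ * (g * z * g⁻¹) := by group
  have hz'B : g * z * g⁻¹ ∈ B := (mem_B_iff h _ ho hcomm).mpr hconjz
  obtain ⟨h16, h2, h3⟩ := inter_struct_t h hA (g * z * g⁻¹) hz'B ho
  have hiff : ∀ a : G, a ∈ Subgroup.centralizer ({v} : Set G) ⊓ Subgroup.centralizer ({z} : Set G) ↔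
      g * a * g⁻¹ ∈ Subgroup.centralizer ({t} : Set G) ⊓
        Subgroup.centralizer ({g * z * g⁻¹} : Set G) := by
    intro a
    rw [Subgroup.mem_inf, Subgroup.mem_inf, ← hg, conj_mem_iff, conj_mem_iff]
  refine ⟨?_, ?_, ?_⟩
  · rw [← h16]
    exact Nat.card_congr (Equiv.subtypeEquiv (MulAut.conj g).toEquiv (fun a => hiff a))
  · intro a ha
    have := h2 _ ((hiff a).mp ha)
    have h5 : g * a ^ 2 * g⁻¹ = 1 := by
      rw [← this, pow_two, pow_two]; group
    have h6 : g * a ^ 2 * g⁻¹ = g * 1 * g⁻¹ := by rw [h5]; group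
    exact mul_left_cancel (mul_right_cancel h6)
  · rw [← h3]
    refine Nat.card_congr (Equiv.subtypeEquiv (MulAut.conj g).toEquiv (fun a => ?_))
    have hc : IsConj a (g * a * g⁻¹) := isConj_iff.mpr ⟨g, rfl⟩
    constructor
    · rintro ⟨ha, hca⟩
      exact ⟨(hiff a).mp ha, hc.symm.trans hca⟩
    · rintro ⟨ha, hca⟩
      exact ⟨(hiff a).mpr ha, hc.trans hca⟩

end Cfsg.Agent.Lib.Helper3.S3313Zd
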