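import Mathlib
import Cfsg.Prelude.Def_TwoFusion
import Cfsg.Agent.Lib.Helper19.S3313Defs
import Cfsg.Agent.Lib.Helper3.S3313F
import Cfsg.Agent.Lib.Helper3.S3313Zd

/-!
# S3313 FO-Ze : `Q ∩ C(v)` for `v ~ t` in `C(z)` (architect helper19)
-/

set_option autoImplicit false
open Cfsg

namespace Cfsg.Agent.Lib.Helper3.S3313Ze

open Cfsg.Agent.Lib.Helper19.S3313 Cfsg.Agent.Lib.Helper3.S3313F

variable {G : Type*} [Group G] [Finite G] {z t : G} {Q K V B : Subgroup G}

/-- **FO-Ze**, with FO-A5b as an explicit hypothesis -/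
theorem card_CQ_aux (h : HJ z t Q K V B) (hA : Cfsg.Agent.Lib.Helper3.S3313Zd.A5bHyp B) (v : G) (hv : IsConj v t) (hvz : v * z = z * v) :
    Nat.card (Q ⊓ Subgroup.centralizer ({v} : Set G) : Subgroup G) = 4 ∧
      ∀ a ∈ Q ⊓ Subgroup.centralizer ({v} : Set G), a ^ 2 = 1 := by
  obtain ⟨-, h2, h3⟩ := Cfsg.Agent.Lib.Helper3.S3313Zd.inter_struct_aux h hA v hv hvz
  have hz1 : z ≠ 1 := by
    intro h1
    have := h.hz
    rw [h1, orderOf_one] at this
    omega
  have hle : Q ⊓ Subgroup.centralizer ({v} : Set G) ≤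
      Subgroup.centralizer ({v} : Set G) ⊓ Subgroup.centralizer ({z} : Set G) := by
    intro a ha
    rw [Subgroup.mem_inf] at ha ⊢
    exact ⟨ha.2, h.QC ha.1⟩
  have hexp : ∀ a ∈ Q ⊓ Subgroup.centralizer ({v} : Set G), a ^ 2 = 1 := fun a ha => h2 a (hle ha)
  refine ⟨?_, hexp⟩
  have hset : ((Q ⊓ Subgroup.centralizer ({v} : Set G) : Subgroup G) : Set G) =
      insert 1 {a : G | a ∈ Subgroup.centralizer ({v} : Set G) ⊓
        Subgroup.centralizer ({z} : Set G) ∧ IsConj a z} := by
    ext a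
    simp only [SetLike.mem_coe, Set.mem_insert_iff, Set.mem_ofPred_eq]
    constructor
    · intro ha
      by_cases ha1 : a = 1
      · exact Or.inl ha1
      · right
        have ho : orderOf a = 2 := orderOf_eq_prime (hexp a ha) ha1
        exact ⟨hle ha, h.hQz a (Subgroup.mem_inf.mp ha).1 ho⟩
    · rintro (rfl | ⟨ha, hc⟩)
      · exact Subgroup.one_mem _
      · rw [Subgroup.mem_inf] at ha
        have ho : orderOf a = 2 := by
          obtain ⟨c, hc'⟩ := isConj_iff.mp hc
          have : orderOf (c * a * c⁻¹) = orderOf a := by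
            have := orderOf_injective (MulAut.conj c).toMonoidHom (MulAut.conj c).injective a
            simpa using this
          rw [← this, hc', h.hz]
        have haz := mem_centralizer_singleton.mp ha.2
        exact Subgroup.mem_inf.mpr ⟨(mem_Q_iff h a ho haz).mpr hc, ha.1⟩
  have h1not : (1 : G) ∉ {a : G | a ∈ Subgroup.centralizer ({v} : Set G) ⊓
      Subgroup.centralizer ({z} : Set G) ∧ IsConj a z} := by
    rintro ⟨-, hc⟩
    have : z = 1 := by
      obtain ⟨c, hc'⟩ := isConj_iff.mp hc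
      rw [← hc']; group
    exact hz1 this
  have hcard3 : Set.ncard {a : G | a ∈ Subgroup.centralizer ({v} : Set G) ⊓
      Subgroup.centralizer ({z} : Set G) ∧ IsConj a z} = 3 := by
    rw [← Nat.card_coe_set_eq]
    exact h3
  have : Nat.card (Q ⊓ Subgroup.centralizer ({v} : Set G) : Subgroup G) =
      Set.ncard ((Q ⊓ Subgroup.centralizer ({v} : Set G) : Subgroup G) : Set G) := by
    rw [← Nat.card_coe_set_eq]
    rfl
  rw [this, hset, Set.ncard_insert_of_notMem h1not (Set.toFinite _), hcard3]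

end Cfsg.Agent.Lib.Helper3.S3313Ze
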