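import Mathlib
import Cfsg.Prelude.Def_TwoFusion
import Cfsg.Agent.Lib.Helper19.S3313Defs
import Cfsg.Agent.Lib.Helper3.S3313F
import Cfsg.Agent.Lib.Helper3.S3313Ze

/-!
# S3313 FO-Zf : the 8 involutions of a coset `v Q`, and NO FLIP (architect helper19)
-/

set_option autoImplicit false
open Cfsg

namespace Cfsg.Agent.Lib.Helper3.S3313Zf

open Cfsg.Agent.Lib.Helper19.S3313 Cfsg.Agent.Lib.Helper3.S3313F

variable {G : Type*} [Group G] [Finite G] {z t : G} {Q K V B : Subgroup G}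

omit [Finite G] in
theorem card_filter_eq [Fintype G] (p : G → Prop) [DecidablePred p] :
    (Finset.univ.filter p).card = Nat.card {x // p x} := by
  rw [Nat.card_eq_fintype_card, Fintype.card_subtype]

/-- the core of FO-Zf: the set `Inv_v` has 8 elements and equals `W` -/
theorem zf_core (h : HJ z t Q K V B) (hA : Cfsg.Agent.Lib.Helper3.S3313Zd.A5bHyp B) (v : G) (hv : IsConj v t) (hvz : v * z = z * v) :
    Nat.card {x : G // x ∈ Q ∧ (v * x) ^ 2 = 1} = 8 ∧
      ∀ x ∈ Q, (v * x * v⁻¹ * x⁻¹ = 1 ∨ v * x * v⁻¹ * x⁻¹ = z) → (v * x) ^ 2 = 1 := by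
  classical
  haveI : Fintype G := Fintype.ofFinite G
  obtain ⟨hCQ4, hCQ2⟩ := Cfsg.Agent.Lib.Helper3.S3313Ze.card_CQ_aux h hA v hv hvz
  -- basic facts on `v`, `z`
  have hov : orderOf v = 2 := by
    obtain ⟨c, hc⟩ := isConj_iff.mp hv
    have : orderOf (c * v * c⁻¹) = orderOf v := by
      have := orderOf_injective (MulAut.conj c).toMonoidHom (MulAut.conj c).injective v
      simpa using this
    rw [← this, hc, h.ht]
  have hv2 : v * v = 1 := by
    have := pow_orderOf_eq_one v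
    rwa [hov, pow_two] at this
  have hvinv : v⁻¹ = v := inv_eq_of_mul_eq_one_right hv2
  have hz2 : z * z = 1 := by
    have := pow_orderOf_eq_one z
    rwa [h.hz, pow_two] at this
  have hzinv : z⁻¹ = z := inv_eq_of_mul_eq_one_right hz2
  have hvC : v ∈ Subgroup.centralizer ({z} : Set G) := mem_centralizer_singleton.mpr hvz
  have hnorm : ∀ x ∈ Q, v * x * v⁻¹ ∈ Q := fun x hx => h.Qnorm v hvC x hx
  have hzcomm : ∀ x ∈ Q, x * z = z * x := fun x hx => mem_centralizer_singleton.mp (h.QC hx)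
  -- the finsets
  set Qf : Finset G := Finset.univ.filter (fun x => x ∈ Q) with hQf
  set Invf : Finset G := Finset.univ.filter (fun x => x ∈ Q ∧ (v * x) ^ 2 = 1) with hInvf
  set W1 : Finset G := Finset.univ.filter (fun x => x ∈ Q ∧ v * x * v⁻¹ * x⁻¹ = 1) with hW1
  set Wz : Finset G := Finset.univ.filter (fun x => x ∈ Q ∧ v * x * v⁻¹ * x⁻¹ = z) with hWz
  set CQf : Finset G := Finset.univ.filter
    (fun x => x ∈ Q ⊓ Subgroup.centralizer ({v} : Set G)) with hCQf
  have hQcard : Qf.card = 32 := by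
    rw [hQf, card_filter_eq]
    exact h.Qcard
  have hCQcard : CQf.card = 4 := by
    rw [hCQf, card_filter_eq]
    exact hCQ4
  have hmemCQ : ∀ x : G, x ∈ CQf ↔ x ∈ Q ∧ v * x * v⁻¹ = x := by
    intro x
    rw [hCQf, Finset.mem_filter, Subgroup.mem_inf, mem_centralizer_singleton]
    simp only [Finset.mem_univ, true_and]
    constructor
    · rintro ⟨hx, hc⟩
      refine ⟨hx, ?_⟩
      rw [← hc]; group
    · rintro ⟨hx, hc⟩
      refine ⟨hx, ?_⟩
      calc x * v = v * x * v⁻¹ * v := by rw [hc]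
        _ = v * x := by group
  -- (2a) W1 = CQf
  have hW1eq : W1 = CQf := by
    ext x
    rw [hmemCQ, hW1, Finset.mem_filter]
    simp only [Finset.mem_univ, true_and]
    constructor
    · rintro ⟨hx, hc⟩
      exact ⟨hx, by rw [← mul_inv_eq_one]; exact hc⟩
    · rintro ⟨hx, hc⟩
      exact ⟨hx, by rw [hc]; group⟩
  -- (2b) |Wz| ≤ 4
  have hWzcard : Wz.card ≤ 4 := by
    by_cases hne : Wz.Nonempty
    · obtain ⟨x₀, hx₀⟩ := hne
      rw [hWz, Finset.mem_filter] at hx₀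
      obtain ⟨-, hx₀Q, hx₀c⟩ := hx₀
      have hx₀' : v * x₀ * v⁻¹ = z * x₀ := by
        rw [← hx₀c]; group
      rw [← hCQcard]
      apply Finset.card_le_card_of_injOn (fun x => x₀⁻¹ * x)
      · intro x hx
        have hx' := Finset.mem_coe.mp hx
        rw [hWz, Finset.mem_filter] at hx'
        obtain ⟨-, hxQ, hxc⟩ := hx'
        have hx'' : v * x * v⁻¹ = z * x := by
          rw [← hxc]; group
        apply Finset.mem_coe.mpr
        rw [hmemCQ]
        refine ⟨Q.mul_mem (Q.inv_mem hx₀Q) hxQ, ?_⟩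
        calc v * (x₀⁻¹ * x) * v⁻¹ = (v * x₀ * v⁻¹)⁻¹ * (v * x * v⁻¹) := by group
          _ = (z * x₀)⁻¹ * (z * x) := by rw [hx₀', hx'']
          _ = x₀⁻¹ * x := by group
      · intro a _ b _ hab
        exact mul_left_cancel hab
    · rw [Finset.not_nonempty_iff_eq_empty] at hne
      rw [hne]; simp
  -- (1) Invf ⊆ W1 ∪ Wz
  have hsub : Invf ⊆ W1 ∪ Wz := by
    intro x hx
    rw [hInvf, Finset.mem_filter] at hx
    obtain ⟨-, hxQ, hx2⟩ := hx
    have h1 : v * x * v⁻¹ = x⁻¹ := by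
      rw [hvinv]
      have : v * x * (v * x) = 1 := by rw [← pow_two]; exact hx2
      calc v * x * v = v * x * (v * x) * x⁻¹ := by group
        _ = x⁻¹ := by rw [this, one_mul]
    have h2 : v * x * v⁻¹ * x⁻¹ = (x ^ 2)⁻¹ := by
      rw [h1, pow_two]; group
    rw [Finset.mem_union, hW1, hWz, Finset.mem_filter, Finset.mem_filter]
    rcases h.Qsq x hxQ with hsq | hsq
    · left
      exact ⟨Finset.mem_univ _, hxQ, by rw [h2, hsq, inv_one]⟩
    · right
      exact ⟨Finset.mem_univ _, hxQ, by rw [h2, hsq, hzinv]⟩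
  -- (3) |Invf| ≥ 8
  have himg : Qf.image (fun y => v * y * v⁻¹ * y⁻¹) ⊆ Invf := by
    intro x hx
    rw [Finset.mem_image] at hx
    obtain ⟨y, hy, rfl⟩ := hx
    rw [hQf, Finset.mem_filter] at hy
    rw [hInvf, Finset.mem_filter]
    refine ⟨Finset.mem_univ _, Q.mul_mem (hnorm y hy.2) (Q.inv_mem hy.2), ?_⟩
    rw [pow_two]
    calc v * (v * y * v⁻¹ * y⁻¹) * (v * (v * y * v⁻¹ * y⁻¹))
        = (v * v) * y * v⁻¹ * y⁻¹ * (v * v) * y * v⁻¹ * y⁻¹ := by group
      _ = y * v⁻¹ * y⁻¹ * y * v⁻¹ * y⁻¹ := by rw [hv2]; group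
      _ = y * (v * v) * y⁻¹ := by rw [hvinv]; group
      _ = 1 := by rw [hv2]; group
  have hfib : ∀ a ∈ Qf.image (fun y => v * y * v⁻¹ * y⁻¹),
      (Qf.filter (fun y => v * y * v⁻¹ * y⁻¹ = a)).card ≤ 4 := by
    intro a ha
    rw [Finset.mem_image] at ha
    obtain ⟨y₀, hy₀, rfl⟩ := ha
    rw [hQf, Finset.mem_filter] at hy₀
    rw [← hCQcard]
    apply Finset.card_le_card_of_injOn (fun y => y₀⁻¹ * y)
    · intro y hy
      have hy' := Finset.mem_coe.mp hy
      rw [Finset.mem_filter, hQf, Finset.mem_filter] at hy'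
      obtain ⟨⟨-, hyQ⟩, hyc⟩ := hy'
      apply Finset.mem_coe.mpr
      rw [hmemCQ]
      refine ⟨Q.mul_mem (Q.inv_mem hy₀.2) hyQ, ?_⟩
      -- v y v⁻¹ y⁻¹ = v y₀ v⁻¹ y₀⁻¹  ⇒  v (y₀⁻¹ y) v⁻¹ = y₀⁻¹ y
      calc v * (y₀⁻¹ * y) * v⁻¹ = (v * y₀ * v⁻¹)⁻¹ * (v * y * v⁻¹ * y⁻¹) * y := by group
        _ = (v * y₀ * v⁻¹)⁻¹ * (v * y₀ * v⁻¹ * y₀⁻¹) * y := by rw [hyc]
        _ = y₀⁻¹ * y := by group
    · intro a _ b _ hab
      exact mul_left_cancel hab
  have h32 : Qf.card ≤ 4 * (Qf.image (fun y => v * y * v⁻¹ * y⁻¹)).card :=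
    Finset.card_le_mul_card_image Qf 4 hfib
  have h8 : 8 ≤ Invf.card := by
    have := Finset.card_le_card himg
    omega
  have hW8 : (W1 ∪ Wz).card ≤ 8 := by
    have := Finset.card_union_le W1 Wz
    have hW1c : W1.card = 4 := by rw [hW1eq, hCQcard]
    omega
  have hInv8 : Invf.card = 8 := le_antisymm ((Finset.card_le_card hsub).trans hW8) h8
  have hEq : Invf = W1 ∪ Wz :=
    Finset.eq_of_subset_of_card_le hsub (by rw [hInv8]; exact hW8)
  refine ⟨?_, ?_⟩
  · rw [← card_filter_eq]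
    exact hInv8
  · intro x hxQ hx
    have hxW : x ∈ W1 ∪ Wz := by
      rw [Finset.mem_union, hW1, hWz, Finset.mem_filter, Finset.mem_filter]
      rcases hx with hx | hx
      · exact Or.inl ⟨Finset.mem_univ _, hxQ, hx⟩
      · exact Or.inr ⟨Finset.mem_univ _, hxQ, hx⟩
    rw [← hEq, hInvf, Finset.mem_filter] at hxW
    exact hxW.2.2

/-- **FO-Zf1**, with FO-A5b as an explicit hypothesis -/
theorem card_inv_coset_aux (h : HJ z t Q K V B) (hA : Cfsg.Agent.Lib.Helper3.S3313Zd.A5bHyp B) (v : G) (hv : IsConj v t) (hvz : v * z = z * v) :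
    Nat.card {x : G // x ∈ Q ∧ (v * x) ^ 2 = 1} = 8 :=
  (zf_core h hA v hv hvz).1

/-- **FO-Zf2** (NO FLIP), with FO-A5b as an explicit hypothesis -/
theorem no_flip_aux (h : HJ z t Q K V B) (hA : Cfsg.Agent.Lib.Helper3.S3313Zd.A5bHyp B) (v : G) (hv : IsConj v t) (hvz : v * z = z * v)
    (u : G) (huQ : u ∈ Q) (hu2 : u ^ 2 = 1) : v * u * v⁻¹ ≠ u * z := by
  intro hflip
  have hz1 : z ≠ 1 := by
    intro h1
    have := h.hz
    rw [h1, orderOf_one] at this
    omega
  have huz : u * z = z * u := mem_centralizer_singleton.mp (h.QC huQ)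
  have hW : v * u * v⁻¹ * u⁻¹ = z := by
    rw [hflip, huz]; group
  have hsq := (zf_core h hA v hv hvz).2 u huQ (Or.inr hW)
  -- (v u)² = 1 and v² = 1 give v u v⁻¹ = u⁻¹ = u
  have hov : orderOf v = 2 := by
    obtain ⟨c, hc⟩ := isConj_iff.mp hv
    have : orderOf (c * v * c⁻¹) = orderOf v := by
      have := orderOf_injective (MulAut.conj c).toMonoidHom (MulAut.conj c).injective v
      simpa using this
    rw [← this, hc, h.ht]
  have hv2 : v * v = 1 := by
    have := pow_orderOf_eq_one v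
    rwa [hov, pow_two] at this
  have hvinv : v⁻¹ = v := inv_eq_of_mul_eq_one_right hv2
  have huinv : u⁻¹ = u := by
    rw [pow_two] at hu2
    exact inv_eq_of_mul_eq_one_right hu2
  have h1 : v * u * v⁻¹ = u⁻¹ := by
    rw [hvinv]
    have : v * u * (v * u) = 1 := by rw [← pow_two]; exact hsq
    calc v * u * v = v * u * (v * u) * u⁻¹ := by group
      _ = u⁻¹ := by rw [this, one_mul]
  rw [h1, huinv] at hflip
  have : z = 1 := by
    have := congrArg (fun x => u⁻¹ * x) hflip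
    simpa using this.symm
  exact hz1 this

end Cfsg.Agent.Lib.Helper3.S3313Zf
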