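import Mathlib

set_option autoImplicit false

namespace Cfsg.Agent.Lib.Helper3.ListSubgroup

variable {G T ι : Type*} [Group G]

/-- evaluate a word in the generators on the level of codes -/
def evalWord (mulT : T → T → T) (one : T) (genT : ι → T) : List ι → T
  | [] => one
  | i :: w => mulT (genT i) (evalWord mulT one genT w)

/-- the product of a word in the generators -/
def wordProd (gen : ι → G) : List ι → G
  | [] => 1
  | i :: w => gen i * wordProd gen w

lemma wordProd_mem (gen : ι → G) (w : List ι) :
    wordProd gen w ∈ Subgroup.closure (Set.range gen) := by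
  induction w with
  | nil => exact Subgroup.one_mem _
  | cons i w ih =>
    exact Subgroup.mul_mem _ (Subgroup.subset_closure ⟨i, rfl⟩) ih

lemma ent_wordProd (ent : G → T) (mulT : T → T → T)
    (hent : ∀ g h, ent (g * h) = mulT (ent g) (ent h)) (gen : ι → G) (w : List ι) :
    ent (wordProd gen w) = evalWord mulT (ent 1) (fun i => ent (gen i)) w := by
  induction w with
  | nil => rfl
  | cons i w ih =>
    simp only [wordProd, evalWord, hent, ih]

/-- A list of codes closed under left multiplication by the generators and their inverses, all
of whose members are words in the generators, is the set of codes of the subgroup generated. -/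
theorem mem_closure_iff (ent : G → T) (mulT : T → T → T)
    (hent : ∀ g h, ent (g * h) = mulT (ent g) (ent h)) (hinj : Function.Injective ent)
    (gen : ι → G) (tuples : List T) (words : List (List ι))
    (h0 : ent 1 ∈ tuples)
    (h1 : ∀ t ∈ tuples, ∀ i, mulT (ent (gen i)) t ∈ tuples ∧ mulT (ent (gen i)⁻¹) t ∈ tuples)
    (h2 : tuples = words.map (evalWord mulT (ent 1) (fun i => ent (gen i))))
    (g : G) : g ∈ Subgroup.closure (Set.range gen) ↔ ent g ∈ tuples := by
  constructor
  · intro hg
    induction hg using Subgroup.closure_induction_left with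
    | one => exact h0
    | mul_left x hx y _ ih =>
      obtain ⟨i, rfl⟩ := hx
      rw [hent]
      exact (h1 _ ih i).1
    | inv_mul_cancel x hx y _ ih =>
      obtain ⟨i, rfl⟩ := hx
      rw [hent]
      exact (h1 _ ih i).2
  · intro hg
    rw [h2, List.mem_map] at hg
    obtain ⟨w, _, hw⟩ := hg
    rw [← ent_wordProd ent mulT hent gen w] at hw
    rw [← hinj hw]
    exact wordProd_mem gen w

/-- the order of the subgroup generated -/
theorem card_closure [DecidableEq T] (ent : G → T) (mulT : T → T → T)
    (hent : ∀ g h, ent (g * h) = mulT (ent g) (ent h)) (hinj : Function.Injective ent)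
    (gen : ι → G) (tuples : List T) (words : List (List ι))
    (h0 : ent 1 ∈ tuples)
    (h1 : ∀ t ∈ tuples, ∀ i, mulT (ent (gen i)) t ∈ tuples ∧ mulT (ent (gen i)⁻¹) t ∈ tuples)
    (h2 : tuples = words.map (evalWord mulT (ent 1) (fun i => ent (gen i))))
    (hnd : tuples.Nodup) :
    Nat.card (Subgroup.closure (Set.range gen)) = tuples.length := by
  have hmem := mem_closure_iff ent mulT hent hinj gen tuples words h0 h1 h2
  have e : Subgroup.closure (Set.range gen) ≃ {t // t ∈ tuples.toFinset} :=
    Equiv.ofBijective (fun g => ⟨ent g.1, List.mem_toFinset.2 ((hmem g.1).1 g.2)⟩) (by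
      constructor
      · intro a b hab
        apply Subtype.ext
        apply hinj
        exact congrArg Subtype.val hab
      · rintro ⟨t, ht⟩
        have ht' := List.mem_toFinset.1 ht
        have ht'' := ht'
        rw [h2, List.mem_map] at ht''
        obtain ⟨w, _, hw⟩ := ht''
        rw [← ent_wordProd ent mulT hent gen w] at hw
        exact ⟨⟨wordProd gen w, wordProd_mem gen w⟩, Subtype.ext hw⟩)
  rw [Nat.card_congr e, Nat.card_eq_fintype_card, Fintype.card_coe,
    List.toFinset_card_of_nodup hnd]

end Cfsg.Agent.Lib.Helper3.ListSubgroup
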