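import Mathlib
import Cfsg.Agent.Lib.Helper3.Suzuki2

set_option autoImplicit false

namespace Cfsg.Agent.Lib.Helper3.Sz

open Matrix Cfsg
open scoped Pointwise

variable {F : Type*} [Field F] [Fintype F] {m : ℕ} (hF : Fintype.card F = 2 ^ (2 * m + 1))

include hF in
lemma sq_eq_one {z : F} (h : z ^ 2 = 1) : z = 1 := by
  have h2 := two_eq_zero hF
  have : (z - 1) ^ 2 = 0 := by linear_combination h + (1 - z) * h2
  have := pow_eq_zero_iff (two_ne_zero) |>.1 this
  linear_combination this

include hF in
lemma pow_four_eq_one {z : F} (h : z ^ 4 = 1) : z = 1 := by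
  apply sq_eq_one hF
  apply sq_eq_one hF
  rw [← pow_mul]; exact h

include hF in
/-- the structure of the two-point stabiliser: it consists of torus elements -/
theorem eq_torS (hm : 1 ≤ m) (g : Matrix.SpecialLinearGroup (Fin 4) F) (hg : g ∈ Sz F m)
    (hinf : g • Cfsg.Agent.S0326.param (F := F) m none = Cfsg.Agent.S0326.param m none)
    (hzero : g • Cfsg.Agent.S0326.param m (some ((0 : F), (0 : F)))
      = Cfsg.Agent.S0326.param m (some ((0 : F), (0 : F)))) :
    ∃ k : Fˣ, g = torS m k := by
  obtain ⟨a0, h00, h10, h20, h30⟩ := col0 g hinf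
  obtain ⟨mu, h33, h03, h13, h23⟩ := col3 g hzero
  have himg := affine_image g hg hinf
  have hmu : (mu : F) ≠ 0 := mu.ne_zero
  -- row 3
  have hrow3 : ∀ x y : F, g.1 3 1 * y + g.1 3 2 * x + mu ≠ 0 := by
    intro x y
    obtain ⟨x', y', l, hl⟩ := himg x y
    have := congrFun hl 3
    simp only [vec_eq, Matrix.mulVec, dotProduct, Fin.sum_univ_four, h30, h33, Units.smul_def,
      Pi.smul_apply, smul_eq_mul] at this
    simp at this
    rw [this]; exact l.ne_zero
  have h31 : g.1 3 1 = 0 := by
    by_contra hne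
    apply hrow3 0 (-(mu : F) / g.1 3 1)
    field_simp
    ring
  have h32 : g.1 3 2 = 0 := by
    by_contra hne
    apply hrow3 (-(mu : F) / g.1 3 2) 0
    field_simp
    ring
  -- the functional equation
  have hfe : ∀ x y : F, fpoly m (g.1 2 1 / mu * y + g.1 2 2 / mu * x)
      (g.1 1 1 / mu * y + g.1 1 2 / mu * x)
      = g.1 0 0 / mu * fpoly m x y + g.1 0 1 / mu * y + g.1 0 2 / mu * x := by
    intro x y
    obtain ⟨x', y', l, hl⟩ := himg x y
    have e3 := congrFun hl 3
    have e2 := congrFun hl 2
    have e1 := congrFun hl 1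
    have e0 := congrFun hl 0
    simp only [vec_eq, Matrix.mulVec, dotProduct, Fin.sum_univ_four, h30, h33, h31, h32, h20, h23,
      h10, h13, h03, Units.smul_def, Pi.smul_apply, smul_eq_mul] at e0 e1 e2 e3
    simp at e0 e1 e2 e3
    rw [← e3] at e0 e1 e2
    have hx' : g.1 2 1 / mu * y + g.1 2 2 / mu * x = x' := by
      field_simp
      linear_combination e2
    have hy' : g.1 1 1 / mu * y + g.1 1 2 / mu * x = y' := by
      field_simp
      linear_combination e1
    rw [hx', hy']
    field_simp
    linear_combination -e0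
  have hlam : g.1 0 0 / mu ≠ 0 := by
    rw [h00]
    exact div_ne_zero a0.ne_zero hmu
  obtain ⟨hc1, hb2, ha1, ha2, hc2, hlam', hb1⟩ := func_eq hF hm _ _ _ _ _ _ _ hlam hfe
  have g21 : g.1 2 1 = 0 := by
    rcases div_eq_zero_iff.1 hc1 with h | h
    · exact h
    · exact absurd h hmu
  have g12 : g.1 1 2 = 0 := by
    rcases div_eq_zero_iff.1 hb2 with h | h
    · exact h
    · exact absurd h hmu
  have g01 : g.1 0 1 = 0 := by
    rcases div_eq_zero_iff.1 ha1 with h | h
    · exact h
    · exact absurd h hmu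
  have g02 : g.1 0 2 = 0 := by
    rcases div_eq_zero_iff.1 ha2 with h | h
    · exact h
    · exact absurd h hmu
  obtain ⟨K, hK⟩ : ∃ K : F, K = g.1 2 2 / mu := ⟨_, rfl⟩
  rw [← hK] at hc2 hlam' hb1
  have g22 : g.1 2 2 = mu * K := by rw [hK]; field_simp
  have g00 : g.1 0 0 = mu * K ^ (2 ^ (m + 1) + 2) := by rw [← hlam']; field_simp
  have g11 : g.1 1 1 = mu * K ^ (2 ^ (m + 1) + 1) := by rw [← hb1]; field_simp
  obtain ⟨R, hR⟩ : ∃ R : F, R = K ^ (2 ^ m) := ⟨_, rfl⟩
  have hKs : K ^ (2 ^ (m + 1)) = R ^ 2 := by rw [hR, ← pow_mul, pow_succ]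
  rw [pow_add, hKs] at g00 g11
  have hdiag : g.1 = Matrix.diagonal ![mu * (R ^ 2 * K ^ 2), mu * (R ^ 2 * K ^ 1), mu * K, (mu : F)] := by
    ext i j
    fin_cases i <;> fin_cases j <;>
      simp [h10, h20, h30, h03, h13, h23, h33, h31, h32, g21, g12, g01, g02, g22, g00, g11]
  have hdet : (mu : F) ^ 4 * (R ^ 4 * K ^ 4) = 1 := by
    have := g.2
    rw [hdiag, Matrix.det_diagonal, Fin.prod_univ_four] at this
    simp only [Matrix.cons_val_zero, Matrix.cons_val_one, Matrix.cons_val] at this
    linear_combination this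
  have hz : (mu : F) * (K * R) = 1 := by
    apply pow_four_eq_one hF
    linear_combination hdet
  have hR0 : R ≠ 0 := by rw [hR]; exact pow_ne_zero _ hc2
  refine ⟨Units.mk0 K hc2, ?_⟩
  apply Subtype.ext
  show g.1 = torM m (Units.mk0 K hc2)
  rw [hdiag, torM]
  congr 1
  have hinv : ((Units.mk0 K hc2)⁻¹ : Fˣ) = Units.mk0 K⁻¹ (inv_ne_zero hc2) := by
    ext; simp
  rw [hinv]
  simp only [Units.val_mk0, pow_add, pow_one, ← hR, inv_pow]
  have e0 : (mu : F) * (R ^ 2 * K ^ 2) = K * R := by linear_combination (K * R) * hz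
  have e1 : (mu : F) * (R ^ 2 * K) = R := by linear_combination R * hz
  have e2 : (mu : F) * K = R⁻¹ := by
    field_simp
    linear_combination hz
  have e3 : (mu : F) = K⁻¹ * R⁻¹ := by
    field_simp
    linear_combination hz
  rw [e0, e1, e2, ← e3]


omit [Fintype F] in
lemma torM_mul (k l : Fˣ) : torM (F := F) m (k * l) = torM m k * torM m l := by
  rw [torM, torM, torM, Matrix.diagonal_mul_diagonal]
  congr 1
  ext i
  fin_cases i <;> simp [mul_pow, mul_comm]

omit [Fintype F] in
lemma torM_one : torM (F := F) m 1 = 1 := by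
  rw [torM]
  ext i j
  fin_cases i <;> fin_cases j <;> simp

/-- the torus as a homomorphism -/
def torHom (m : ℕ) : Fˣ →* Matrix.SpecialLinearGroup (Fin 4) F where
  toFun := torS m
  map_one' := Subtype.ext torM_one
  map_mul' k l := Subtype.ext (torM_mul k l)

omit [Fintype F] in
lemma inf_eq : suzukiPointInfinity F = Cfsg.Agent.S0326.param m none := rfl

omit [Fintype F] in
lemma zero_eq : suzukiPointZero F = Cfsg.Agent.S0326.param m (some ((0 : F), (0 : F))) := by
  show Projectivization.mk F _ _ = Projectivization.mk F _ _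
  congr 1
  exact vec_zero.symm

include hF in
lemma torS_inf (k : Fˣ) : torS m k • suzukiPointInfinity F = suzukiPointInfinity F := by
  rw [inf_eq (m := m), torS_param hF]
  rfl

include hF in
lemma torS_zero (k : Fˣ) : torS m k • suzukiPointZero F = suzukiPointZero F := by
  rw [zero_eq (m := m), torS_param hF]
  simp [delta]

include hF in
lemma torS_injective : Function.Injective (torS (F := F) m) := by
  intro k l h
  have h1 := torS_param hF k (some ((1 : F), (0 : F)))
  rw [h, torS_param hF l] at h1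
  have := Cfsg.Agent.S0326.param_injective m h1
  simp only [delta, mul_one, mul_zero, Option.some.injEq, Prod.mk.injEq, and_true] at this
  exact Units.ext this.symm

include hF in
/-- the two-point stabiliser is isomorphic to the multiplicative group -/
theorem stab2_equiv (hm : 1 ≤ m) :
    Nonempty (↥(MulAction.stabilizer (Sz F m) (suzukiPointInfinity F) ⊓
        MulAction.stabilizer (Sz F m) (suzukiPointZero F)) ≃* Fˣ) := by
  let f : Fˣ →* ↥(MulAction.stabilizer (Sz F m) (suzukiPointInfinity F) ⊓
        MulAction.stabilizer (Sz F m) (suzukiPointZero F)) :=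
    { toFun := fun k => ⟨⟨torS m k, torS_mem hF k⟩, ⟨torS_inf hF k, torS_zero hF k⟩⟩
      map_one' := by
        apply Subtype.ext; apply Subtype.ext
        exact (torHom m).map_one
      map_mul' := fun k l => by
        apply Subtype.ext; apply Subtype.ext
        exact (torHom m).map_mul k l }
  have hinj : Function.Injective f := by
    intro k l h
    apply torS_injective hF
    have h1 := congrArg Subtype.val h
    exact congrArg Subtype.val h1
  have hsurj : Function.Surjective f := by
    rintro ⟨⟨g, hg⟩, hinf, hzero⟩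
    have hinf' : g • suzukiPointInfinity F = suzukiPointInfinity F := hinf
    have hzero' : g • suzukiPointZero F = suzukiPointZero F := hzero
    rw [inf_eq (m := m)] at hinf'
    rw [zero_eq (m := m)] at hzero'
    obtain ⟨k, hk⟩ := eq_torS hF hm g hg hinf' hzero'
    refine ⟨k, ?_⟩
    apply Subtype.ext; apply Subtype.ext
    exact hk.symm
  exact ⟨(MulEquiv.ofBijective f ⟨hinj, hsurj⟩).symm⟩

end Cfsg.Agent.Lib.Helper3.Sz
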