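import Mathlib
import Cfsg.Agent.Lib.Helper3.Suzuki3

set_option autoImplicit false

namespace Cfsg.Agent.Lib.Helper3.Sz

open Matrix Cfsg
open scoped Pointwise

/-- orbit–stabiliser inside a point stabiliser -/
lemma card_stab_eq {G X : Type*} [Group G] [MulAction G X] (x y : X) :
    Nat.card (MulAction.stabilizer G x)
      = Nat.card (MulAction.orbit (MulAction.stabilizer G x) y)
        * Nat.card ↥(MulAction.stabilizer G x ⊓ MulAction.stabilizer G y) := by
  have e1 := MulAction.orbitProdStabilizerEquivGroup (MulAction.stabilizer G x) y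
  have e2 : MulAction.stabilizer (MulAction.stabilizer G x) y
      ≃ ↥(MulAction.stabilizer G x ⊓ MulAction.stabilizer G y) :=
    { toFun := fun b => ⟨b.1.1, ⟨b.1.2, b.2⟩⟩
      invFun := fun c => ⟨⟨c.1, c.2.1⟩, c.2.2⟩
      left_inv := fun b => rfl
      right_inv := fun c => rfl }
  rw [← Nat.card_congr e1, Nat.card_prod, Nat.card_congr e2]

variable {F : Type*} [Field F] [Fintype F] {m : ℕ} (hF : Fintype.card F = 2 ^ (2 * m + 1))

include hF in
lemma transS_inf (a b : F) : transS m a b • suzukiPointInfinity F = suzukiPointInfinity F := by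
  rw [inf_eq (m := m), transS_param hF]
  rfl

include hF in
lemma transS_zero (a b : F) :
    transS m a b • suzukiPointZero F = Cfsg.Agent.S0326.param m (some (a, b)) := by
  rw [zero_eq (m := m), transS_param hF]
  simp [tau]

include hF in
lemma invS_inf : (invS : Matrix.SpecialLinearGroup (Fin 4) F) • suzukiPointInfinity F
    = suzukiPointZero F := by
  rw [inf_eq (m := m), invS_param hF, zero_eq (m := m)]
  rfl

omit [Fintype F] in
lemma smul_mem_ovoid {g : Matrix.SpecialLinearGroup (Fin 4) F} (hg : g ∈ Sz F m)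
    {p : Projectivization F (Fin 4 → F)} (hp : p ∈ suzukiOvoid F m) : g • p ∈ suzukiOvoid F m := by
  have h1 : g • suzukiOvoid F m = suzukiOvoid F m := MulAction.mem_stabilizer_iff.1 hg
  rw [← h1]
  exact Set.smul_mem_smul_set hp

include hF in
/-- the orbit of the zero point under the stabiliser of the point at infinity -/
lemma orbit_zero :
    MulAction.orbit (MulAction.stabilizer (Sz F m) (suzukiPointInfinity F)) (suzukiPointZero F)
      = Set.range (fun p : F × F => Cfsg.Agent.S0326.param m (some p)) := by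
  ext p
  constructor
  · rintro ⟨⟨⟨g, hg⟩, hginf⟩, rfl⟩
    have hginf' : g • suzukiPointInfinity F = suzukiPointInfinity F := hginf
    show g • suzukiPointZero F ∈ _
    have hz : suzukiPointZero F ∈ suzukiOvoid F m := by
      rw [zero_eq (m := m), ← Cfsg.Agent.S0326.range_param]; exact ⟨_, rfl⟩
    have := smul_mem_ovoid hg hz
    rw [← Cfsg.Agent.S0326.range_param] at this
    obtain ⟨c, hc⟩ := this
    rcases c with _ | c
    · exfalso
      rw [← inf_eq, ← hginf'] at hc
      have h1 := smul_left_cancel g hc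
      rw [inf_eq (m := m), zero_eq (m := m)] at h1
      have := Cfsg.Agent.S0326.param_injective m h1
      exact absurd this (by simp)
    · exact ⟨c, hc⟩
  · rintro ⟨⟨a, b⟩, rfl⟩
    refine ⟨⟨⟨transS m a b, transS_mem hF a b⟩, transS_inf hF a b⟩, ?_⟩
    exact transS_zero hF a b

include hF in
lemma card_orbit_zero :
    Nat.card (MulAction.orbit (MulAction.stabilizer (Sz F m) (suzukiPointInfinity F))
      (suzukiPointZero F)) = (2 ^ (2 * m + 1)) ^ 2 := by
  rw [orbit_zero hF, Nat.card_range_of_injective]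
  · rw [Nat.card_prod, Nat.card_eq_fintype_card, hF, pow_two]
  · intro p p' h
    have := Cfsg.Agent.S0326.param_injective m h
    simpa using this

include hF in
lemma card_units : Nat.card Fˣ = 2 ^ (2 * m + 1) - 1 := by
  classical
  rw [Nat.card_eq_fintype_card, Fintype.card_units, hF]

include hF in
theorem card_stab_inf (hm : 1 ≤ m) :
    Nat.card (MulAction.stabilizer (Sz F m) (suzukiPointInfinity F))
      = (2 ^ (2 * m + 1)) ^ 2 * (2 ^ (2 * m + 1) - 1) := by
  rw [card_stab_eq (suzukiPointInfinity F) (suzukiPointZero F), card_orbit_zero hF]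
  obtain ⟨e⟩ := stab2_equiv hF hm
  rw [Nat.card_congr e.toEquiv, card_units hF]

include hF in
/-- the orbit of the point at infinity is the ovoid -/
lemma orbit_inf :
    MulAction.orbit (Sz F m) (suzukiPointInfinity F) = suzukiOvoid F m := by
  ext p
  constructor
  · rintro ⟨⟨g, hg⟩, rfl⟩
    show g • suzukiPointInfinity F ∈ _
    apply smul_mem_ovoid hg
    rw [inf_eq (m := m), ← Cfsg.Agent.S0326.range_param]; exact ⟨_, rfl⟩
  · intro hp
    rw [← Cfsg.Agent.S0326.range_param] at hp
    obtain ⟨c, rfl⟩ := hp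
    rcases c with _ | ⟨a, b⟩
    · exact ⟨1, one_smul _ _⟩
    · refine ⟨⟨transS m a b * invS, mul_mem (transS_mem hF a b) (invS_mem hF)⟩, ?_⟩
      show (transS m a b * invS) • suzukiPointInfinity F = _
      rw [mul_smul, invS_inf hF, transS_zero hF]

include hF in
theorem card_Sz (hm : 1 ≤ m) :
    Nat.card (Sz F m) = (2 ^ (2 * m + 1)) ^ 2 * ((2 ^ (2 * m + 1)) ^ 2 + 1) * (2 ^ (2 * m + 1) - 1) := by
  have e1 := MulAction.orbitProdStabilizerEquivGroup (Sz F m) (suzukiPointInfinity F)
  rw [← Nat.card_congr e1, Nat.card_prod, card_stab_inf hF hm, orbit_inf hF,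
    Cfsg.Agent.S0326.result, hF]
  ring

end Cfsg.Agent.Lib.Helper3.Sz
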