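import Mathlib
import Cfsg.Agent.Lib.Helper3.Suzuki4

set_option autoImplicit false

namespace Cfsg.Agent.Lib.Helper3.Sz

open Matrix Cfsg
open scoped Pointwise

variable {F : Type*} [Field F] [Fintype F] {m : ℕ} (hF : Fintype.card F = 2 ^ (2 * m + 1))

include hF in
/-- elements fixing the point at infinity are translation times torus -/
lemma decomp_of_fix_inf (hm : 1 ≤ m) (g : Matrix.SpecialLinearGroup (Fin 4) F) (hg : g ∈ Sz F m)
    (hinf : g • suzukiPointInfinity F = suzukiPointInfinity F) :
    ∃ (a b : F) (k : Fˣ), g = transS m a b * torS m k := by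
  have hmem : g • suzukiPointZero F ∈ MulAction.orbit
      (MulAction.stabilizer (Sz F m) (suzukiPointInfinity F)) (suzukiPointZero F) :=
    ⟨⟨⟨g, hg⟩, hinf⟩, rfl⟩
  rw [orbit_zero hF] at hmem
  obtain ⟨⟨a, b⟩, hab⟩ := hmem
  have hab' : Cfsg.Agent.S0326.param m (some (a, b)) = g • suzukiPointZero F := hab
  have hh : (transS m a b)⁻¹ * g ∈ Sz F m := mul_mem (inv_mem (transS_mem hF a b)) hg
  have h1 : ((transS m a b)⁻¹ * g) • suzukiPointInfinity F = suzukiPointInfinity F := by
    rw [mul_smul, hinf, inv_smul_eq_iff, transS_inf hF]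
  have h2 : ((transS m a b)⁻¹ * g) • suzukiPointZero F = suzukiPointZero F := by
    rw [mul_smul, ← hab', inv_smul_eq_iff, transS_zero hF]
  rw [inf_eq (m := m)] at h1
  rw [zero_eq (m := m)] at h2
  obtain ⟨k, hk⟩ := eq_torS hF hm _ hh h1 h2
  refine ⟨a, b, k, ?_⟩
  rw [← hk, mul_inv_cancel_left]

include hF in
lemma decomp (hm : 1 ≤ m) (g : Matrix.SpecialLinearGroup (Fin 4) F) (hg : g ∈ Sz F m) :
    (∃ (a b : F) (k : Fˣ), g = transS m a b * torS m k) ∨
    (∃ (a b a' b' : F) (k : Fˣ), g = transS m a b * invS * (transS m a' b' * torS m k)) := by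
  have hmem : g • suzukiPointInfinity F ∈ suzukiOvoid F m := by
    apply smul_mem_ovoid hg
    rw [inf_eq (m := m), ← Cfsg.Agent.S0326.range_param]; exact ⟨_, rfl⟩
  rw [← Cfsg.Agent.S0326.range_param] at hmem
  obtain ⟨c, hc⟩ := hmem
  rcases c with _ | ⟨a, b⟩
  · left
    exact decomp_of_fix_inf hF hm g hg hc.symm
  · right
    have hw : (transS m a b * invS) • suzukiPointInfinity F
        = Cfsg.Agent.S0326.param m (some (a, b)) := by
      rw [mul_smul, invS_inf hF, transS_zero hF]
    have hh : (transS m a b * invS)⁻¹ * g ∈ Sz F m :=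
      mul_mem (inv_mem (mul_mem (transS_mem hF a b) (invS_mem hF))) hg
    have h1 : ((transS m a b * invS)⁻¹ * g) • suzukiPointInfinity F = suzukiPointInfinity F := by
      rw [mul_smul, ← hc, inv_smul_eq_iff, hw]
    obtain ⟨a', b', k, hk⟩ := decomp_of_fix_inf hF hm _ hh h1
    refine ⟨a, b, a', b', k, ?_⟩
    rw [← hk, mul_inv_cancel_left]

/-- preservation of the form -/
def Pres (A : Matrix (Fin 4) (Fin 4) F) : Prop := A.transpose * suzukiForm F * A = suzukiForm F

omit [Fintype F] in
lemma Pres.mul {A B : Matrix (Fin 4) (Fin 4) F} (hA : Pres A) (hB : Pres B) : Pres (A * B) := by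
  unfold Pres at *
  rw [Matrix.transpose_mul]
  calc B.transpose * A.transpose * suzukiForm F * (A * B)
      = B.transpose * (A.transpose * suzukiForm F * A) * B := by
        simp only [Matrix.mul_assoc]
    _ = suzukiForm F := by rw [hA, hB]

include hF in
lemma pres_transM (a b : F) : Pres (transM m a b) := by
  have h2 := two_eq_zero hF
  have h4 : (4 : F) = 0 := by linear_combination 2 * h2
  unfold Pres
  ext i j
  fin_cases i <;> fin_cases j <;>
    simp [Matrix.mul_apply, Fin.sum_univ_four, transM, suzukiForm, Matrix.transpose_apply] <;>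
    ring_nf <;> simp [h2, h4]

omit [Fintype F] in
lemma pres_invM : Pres (invM : Matrix (Fin 4) (Fin 4) F) := by
  unfold Pres
  ext i j
  fin_cases i <;> fin_cases j <;>
    simp [Matrix.mul_apply, Fin.sum_univ_four, invM, suzukiForm, Matrix.transpose_apply]

omit [Fintype F] in
lemma pres_torM (k : Fˣ) : Pres (torM m k) := by
  unfold Pres
  have hk : (k : F) ≠ 0 := k.ne_zero
  ext i j
  fin_cases i <;> fin_cases j <;>
    simp [Matrix.mul_apply, torM, suzukiForm, Matrix.diagonal_apply]

include hF in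
theorem pres_of_mem (hm : 1 ≤ m) (g : Matrix.SpecialLinearGroup (Fin 4) F) (hg : g ∈ Sz F m) :
    Pres g.1 := by
  rcases decomp hF hm g hg with ⟨a, b, k, rfl⟩ | ⟨a, b, a', b', k, rfl⟩
  · exact (pres_transM hF a b).mul (pres_torM k)
  · exact ((pres_transM hF a b).mul pres_invM).mul ((pres_transM hF a' b').mul (pres_torM k))

end Cfsg.Agent.Lib.Helper3.Sz
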