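import Mathlib
import Cfsg.Prelude.Def_Sz
import Cfsg.Agent.Lib.Helper3.Suzuki5

set_option autoImplicit false

namespace Cfsg.Agent.Lib.Helper3.SzBridge

open Matrix Cfsg Cfsg.Agent.Lib.Helper3.Sz

variable {F : Type*} [Field F]

/-- absolute vectors with respect to the Tits polarity -/
def Abs (s : ℕ) (v : Fin 4 → F) : Prop :=
  ∃ (u : Fin 4 → F) (c : F), c ≠ 0 ∧ Cfsg.Lie.altForm4 v u = 0 ∧
    v 0 * u 1 - v 1 * u 0 = c * v 0 ^ s ∧ v 0 * u 2 - v 2 * u 0 = c * v 1 ^ s ∧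
    v 1 * u 3 - v 3 * u 1 = c * v 2 ^ s ∧ v 2 * u 3 - v 3 * u 2 = c * v 3 ^ s

lemma Abs.smul {s : ℕ} {v : Fin 4 → F} (h : Abs s v) {l : F} (hl : l ≠ 0) : Abs s (l • v) := by
  obtain ⟨u, c, hc, h0, h1, h2, h3, h4⟩ := h
  refine ⟨u, c * l * (l ^ s)⁻¹, ?_, ?_, ?_, ?_, ?_, ?_⟩
  · exact mul_ne_zero (mul_ne_zero hc hl) (inv_ne_zero (pow_ne_zero _ hl))
  · simp only [Cfsg.Lie.altForm4, Pi.smul_apply, smul_eq_mul] at h0 ⊢
    linear_combination l * h0
  all_goals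
    simp only [Pi.smul_apply, smul_eq_mul, mul_pow]
    have hls : l ^ s ≠ 0 := pow_ne_zero _ hl
    field_simp
  · linear_combination h1
  · linear_combination h2
  · linear_combination h3
  · linear_combination h4


section field
variable [Fintype F] {m : ℕ} (hF : Fintype.card F = 2 ^ (2 * m + 1))

include hF in
lemma abs_pvec (c : Option (F × F)) : Abs (2 ^ (m + 1)) (pvec m c) := by
  have h2 : (2 : F) = 0 := two_eq_zero hF
  rcases c with _ | ⟨x, y⟩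
  · refine ⟨![0, 1, 0, 0], 1, one_ne_zero, ?_, ?_, ?_, ?_, ?_⟩ <;>
      simp [pvec, einf, Cfsg.Lie.altForm4]
  · have hxx : (x ^ (2 ^ (m + 1))) ^ (2 ^ (m + 1)) = x ^ 2 := sig_sig hF x
    have hyy : (y ^ (2 ^ (m + 1))) ^ (2 ^ (m + 1)) = y ^ 2 := sig_sig hF y
    refine ⟨![y + x ^ (2 ^ (m + 1)) * x, x ^ (2 ^ (m + 1)), 1, 0], 1, one_ne_zero, ?_, ?_, ?_, ?_, ?_⟩
    · simp only [pvec, Cfsg.Agent.S0326.vec, Cfsg.Lie.altForm4, Matrix.cons_val_zero,
        Matrix.cons_val_one, Matrix.cons_val]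
      linear_combination (y + x ^ (2 ^ (m + 1)) * x) * h2
    · simp only [pvec, Cfsg.Agent.S0326.vec, Matrix.cons_val_zero,
        Matrix.cons_val_one, Matrix.cons_val]
      have e : (x ^ 2) ^ (2 ^ (m + 1)) = (x ^ (2 ^ (m + 1))) ^ 2 := by
        rw [← pow_mul, ← pow_mul, mul_comm]
      rw [sig_add hF, sig_add hF, mul_pow, hyy, pow_add, mul_pow, hxx, e]
      linear_combination (-y ^ 2) * h2
    · simp only [pvec, Cfsg.Agent.S0326.vec, Matrix.cons_val_zero,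
        Matrix.cons_val_one, Matrix.cons_val]
      ring
    · simp only [pvec, Cfsg.Agent.S0326.vec, Matrix.cons_val_zero,
        Matrix.cons_val_one, Matrix.cons_val]
      linear_combination (- x ^ (2 ^ (m + 1))) * h2
    · simp only [pvec, Cfsg.Agent.S0326.vec, Matrix.cons_val_zero,
        Matrix.cons_val_one, Matrix.cons_val]
      linear_combination (-1 : F) * h2


include hF in
lemma exists_pvec_of_abs_aux {v : Fin 4 → F} (h3 : v 3 = 1) (h : Abs (2 ^ (m + 1)) v) :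
    v = pvec m (some (v 2, v 1)) := by
  have h2 : (2 : F) = 0 := two_eq_zero hF
  obtain ⟨u, c, hc, E0, E1, E2, E3, E4⟩ := h
  simp only [Cfsg.Lie.altForm4, h3, one_mul, one_pow, mul_one] at E0 E1 E2 E3 E4
  have key : c * (v 0 + v 2 * v 1 + (v 2) ^ (2 ^ (m + 1) + 2) + (v 1) ^ (2 ^ (m + 1))) = 0 := by
    rw [pow_add]
    linear_combination (-(v 0) - v 2 * v 1) * E4 + (-(v 2) ^ 2) * E3 + (-1 : F) * E2 + (-(v 2)) * E0
      + (v 0 * v 2 * u 3 + (v 2) ^ 2 * v 1 * u 3) * h2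
  have key2 := (mul_eq_zero.mp key).resolve_left hc
  have hv0 : v 0 = v 2 * v 1 + (v 2) ^ (2 ^ (m + 1) + 2) + (v 1) ^ (2 ^ (m + 1)) := by
    have := neg_eq hF (v 2 * v 1 + (v 2) ^ (2 ^ (m + 1) + 2) + (v 1) ^ (2 ^ (m + 1)))
    linear_combination key2 + this
  ext i
  fin_cases i
  · simpa [pvec, Cfsg.Agent.S0326.vec] using hv0
  · simp [pvec, Cfsg.Agent.S0326.vec]
  · simp [pvec, Cfsg.Agent.S0326.vec]
  · simpa [pvec, Cfsg.Agent.S0326.vec] using h3

include hF in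
lemma exists_pvec_of_abs {v : Fin 4 → F} (hv : v ≠ 0) (h : Abs (2 ^ (m + 1)) v) :
    ∃ (c : Option (F × F)) (l : Fˣ), v = l • pvec m c := by
  by_cases h3 : v 3 = 0
  · obtain ⟨u, c, hc, E0, E1, E2, E3, E4⟩ := h
    have hs : (2 ^ (m + 1)) ≠ 0 := by positivity
    simp only [Cfsg.Lie.altForm4, h3, zero_mul, sub_zero, add_zero, zero_pow hs, mul_zero]
      at E0 E1 E2 E3 E4
    have hv2 : v 2 = 0 := by
      by_contra hne
      have hu3 : u 3 = 0 := (mul_eq_zero.mp E4).resolve_left hne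
      rw [hu3, mul_zero] at E3
      exact (mul_ne_zero hc (pow_ne_zero _ hne)) E3.symm
    simp only [hv2, zero_mul, sub_zero, add_zero, zero_pow hs, mul_zero] at E0 E1 E2 E3
    have hv1 : v 1 = 0 := by
      by_contra hne
      have hu3 : u 3 = 0 := (mul_eq_zero.mp E3).resolve_left hne
      rw [hu3, mul_zero, zero_add] at E0
      have hu2 : u 2 = 0 := (mul_eq_zero.mp E0).resolve_left hne
      rw [hu2, mul_zero] at E2
      exact (mul_ne_zero hc (pow_ne_zero _ hne)) E2.symm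
    have hv0 : v 0 ≠ 0 := by
      intro h0
      apply hv
      ext i
      fin_cases i <;> simp [h0, hv1, hv2, h3]
    refine ⟨none, Units.mk0 _ hv0, ?_⟩
    ext i
    fin_cases i <;> simp [pvec, einf, hv1, hv2, h3, Units.smul_def]
  · have h' : Abs (2 ^ (m + 1)) ((v 3)⁻¹ • v) := h.smul (inv_ne_zero h3)
    have e3 : ((v 3)⁻¹ • v) 3 = 1 := by simp [h3]
    have := exists_pvec_of_abs_aux hF e3 h'
    refine ⟨some (((v 3)⁻¹ • v) 2, ((v 3)⁻¹ • v) 1), Units.mk0 _ h3, ?_⟩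
    rw [← this, Units.smul_def, Units.val_mk0, smul_smul, mul_inv_cancel₀ h3, one_smul]

end field


/-- Cauchy–Binet with the symplectic corrections in characteristic 2 -/
lemma cb (a b v u : Fin 4 → F) (h2 : (2 : F) = 0)
    (hR : a 0 * b 3 + a 1 * b 2 + a 2 * b 1 + a 3 * b 0 = 0)
    (hE : v 0 * u 3 + v 1 * u 2 + v 2 * u 1 + v 3 * u 0 = 0) :
    (∑ i, a i * v i) * (∑ j, b j * u j) - (∑ i, b i * v i) * (∑ j, a j * u j) =
      (a 0 * b 1 - b 0 * a 1) * (v 0 * u 1 - v 1 * u 0) +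
      (a 0 * b 2 - b 0 * a 2) * (v 0 * u 2 - v 2 * u 0) +
      (a 1 * b 3 - b 1 * a 3) * (v 1 * u 3 - v 3 * u 1) +
      (a 2 * b 3 - b 2 * a 3) * (v 2 * u 3 - v 3 * u 2) := by
  simp only [Fin.sum_univ_four]
  linear_combination (v 0 * u 3 - v 3 * u 0) * hR + (a 1 * b 2 - b 1 * a 2) * hE
    - ((a 3 * b 0 + a 2 * b 1) * (v 0 * u 3 - v 3 * u 0) + (a 1 * b 2 - b 1 * a 2) * (v 0 * u 3 - v 3 * u 0)
      + (a 1 * b 2 - b 1 * a 2) * (v 3 * u 0 + v 2 * u 1)) * h2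


lemma altForm4_col (A : Matrix (Fin 4) (Fin 4) F)
    (hA : ∀ u v, Cfsg.Lie.altForm4 (A *ᵥ u) (A *ᵥ v) = Cfsg.Lie.altForm4 u v) (i j : Fin 4) :
    A 0 i * A 3 j + A 1 i * A 2 j + A 2 i * A 1 j + A 3 i * A 0 j = suzukiForm F i j := by
  have := hA (Pi.single i 1) (Pi.single j 1)
  simp only [Cfsg.Lie.altForm4, Matrix.mulVec_single_one, Matrix.col_apply] at this
  rw [this]
  fin_cases i <;> fin_cases j <;> simp [suzukiForm]

lemma pres_of_altForm4 (A : Matrix (Fin 4) (Fin 4) F)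
    (hA : ∀ u v, Cfsg.Lie.altForm4 (A *ᵥ u) (A *ᵥ v) = Cfsg.Lie.altForm4 u v) : Pres A := by
  unfold Pres
  ext i j
  rw [← altForm4_col A hA i j]
  simp only [Matrix.mul_apply, Fin.sum_univ_four, Matrix.transpose_apply, suzukiForm,
    Matrix.of_apply, Matrix.cons_val', Matrix.cons_val_zero, Matrix.cons_val_one,
    Matrix.cons_val]
  ring

lemma suzukiForm_mul_self : suzukiForm F * suzukiForm F = 1 := by
  ext i j
  fin_cases i <;> fin_cases j <;> simp [suzukiForm, Matrix.mul_apply, Fin.sum_univ_four]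

lemma pres_transpose {A : Matrix (Fin 4) (Fin 4) F} (hA : Pres A) :
    A * suzukiForm F * A.transpose = suzukiForm F := by
  unfold Pres at hA
  have h1 : (suzukiForm F * A.transpose * suzukiForm F) * A = 1 := by
    rw [mul_assoc, mul_assoc, ← mul_assoc A.transpose, hA, suzukiForm_mul_self]
  have h2 : A * (suzukiForm F * A.transpose * suzukiForm F) = 1 := mul_eq_one_comm.mp h1
  calc A * suzukiForm F * A.transpose
      = A * (suzukiForm F * A.transpose * suzukiForm F) * suzukiForm F := by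
        simp only [mul_assoc]
        rw [suzukiForm_mul_self, mul_one]
    _ = suzukiForm F := by rw [h2, one_mul]

lemma row_rel {A : Matrix (Fin 4) (Fin 4) F} (hA : Pres A) (k l : Fin 4) :
    A k 0 * A l 3 + A k 1 * A l 2 + A k 2 * A l 1 + A k 3 * A l 0 = suzukiForm F k l := by
  rw [← pres_transpose hA]
  simp only [Matrix.mul_apply, Fin.sum_univ_four, Matrix.transpose_apply, suzukiForm,
    Matrix.of_apply, Matrix.cons_val', Matrix.cons_val_zero, Matrix.cons_val_one,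
    Matrix.cons_val]
  ring


section field2
variable [Fintype F] {m : ℕ} (hF : Fintype.card F = 2 ^ (2 * m + 1))

include hF in
lemma sig_sum4 (x0 x1 x2 x3 : F) : (x0 + x1 + x2 + x3) ^ (2 ^ (m + 1))
    = x0 ^ (2 ^ (m + 1)) + x1 ^ (2 ^ (m + 1)) + x2 ^ (2 ^ (m + 1)) + x3 ^ (2 ^ (m + 1)) := by
  rw [sig_add hF, sig_add hF, sig_add hF]

include hF in
/-- matrices in the defining set of `Lie.Sz` preserve absolute vectors -/
lemma abs_mulVec (A : Matrix (Fin 4) (Fin 4) F)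
    (hA : ∀ u v, Cfsg.Lie.altForm4 (A *ᵥ u) (A *ᵥ v) = Cfsg.Lie.altForm4 u v)
    (hstar : Cfsg.Lie.star4 A = A.map (fun x => x ^ (2 ^ (m + 1))))
    {v : Fin 4 → F} (hv : Abs (2 ^ (m + 1)) v) : Abs (2 ^ (m + 1)) (A *ᵥ v) := by
  have h2 : (2 : F) = 0 := two_eq_zero hF
  have hP : Pres A := pres_of_altForm4 A hA
  obtain ⟨u, c, hc, E0, E1, E2, E3, E4⟩ := hv
  have hE : v 0 * u 3 + v 1 * u 2 + v 2 * u 1 + v 3 * u 0 = 0 := E0
  have hS : ∀ p r : Fin 4, A (Cfsg.Lie.pairOf p).1 (Cfsg.Lie.pairOf r).1 *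
      A (Cfsg.Lie.pairOf p).2 (Cfsg.Lie.pairOf r).2 -
      A (Cfsg.Lie.pairOf p).2 (Cfsg.Lie.pairOf r).1 * A (Cfsg.Lie.pairOf p).1 (Cfsg.Lie.pairOf r).2
      = (A p r) ^ (2 ^ (m + 1)) := by
    intro p r
    have := congrFun (congrFun hstar p) r
    simpa [Cfsg.Lie.star4] using this
  have main : ∀ p : Fin 4, suzukiForm F (Cfsg.Lie.pairOf p).1 (Cfsg.Lie.pairOf p).2 = 0 →
      (A *ᵥ v) (Cfsg.Lie.pairOf p).1 * (A *ᵥ u) (Cfsg.Lie.pairOf p).2 -
      (A *ᵥ v) (Cfsg.Lie.pairOf p).2 * (A *ᵥ u) (Cfsg.Lie.pairOf p).1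
      = c * ((A *ᵥ v) p) ^ (2 ^ (m + 1)) := by
    intro p hJ
    have hR := row_rel hP (Cfsg.Lie.pairOf p).1 (Cfsg.Lie.pairOf p).2
    rw [hJ] at hR
    have := cb (fun i => A (Cfsg.Lie.pairOf p).1 i) (fun i => A (Cfsg.Lie.pairOf p).2 i) v u h2 hR hE
    simp only [Matrix.mulVec, dotProduct]
    rw [this]
    have s0 : A (Cfsg.Lie.pairOf p).1 0 * A (Cfsg.Lie.pairOf p).2 1 -
        A (Cfsg.Lie.pairOf p).2 0 * A (Cfsg.Lie.pairOf p).1 1 = (A p 0) ^ (2 ^ (m + 1)) := hS p 0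
    have s1 : A (Cfsg.Lie.pairOf p).1 0 * A (Cfsg.Lie.pairOf p).2 2 -
        A (Cfsg.Lie.pairOf p).2 0 * A (Cfsg.Lie.pairOf p).1 2 = (A p 1) ^ (2 ^ (m + 1)) := hS p 1
    have s2 : A (Cfsg.Lie.pairOf p).1 1 * A (Cfsg.Lie.pairOf p).2 3 -
        A (Cfsg.Lie.pairOf p).2 1 * A (Cfsg.Lie.pairOf p).1 3 = (A p 2) ^ (2 ^ (m + 1)) := hS p 2
    have s3 : A (Cfsg.Lie.pairOf p).1 2 * A (Cfsg.Lie.pairOf p).2 3 -
        A (Cfsg.Lie.pairOf p).2 2 * A (Cfsg.Lie.pairOf p).1 3 = (A p 3) ^ (2 ^ (m + 1)) := hS p 3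
    rw [Fin.sum_univ_four, sig_sum4 hF, mul_pow, mul_pow, mul_pow, mul_pow, E1, E2, E3, E4]
    linear_combination (c * v 0 ^ (2 ^ (m + 1))) * s0 + (c * v 1 ^ (2 ^ (m + 1))) * s1
      + (c * v 2 ^ (2 ^ (m + 1))) * s2 + (c * v 3 ^ (2 ^ (m + 1))) * s3
  refine ⟨A *ᵥ u, c, hc, ?_, ?_, ?_, ?_, ?_⟩
  · rw [hA, E0]
  · exact main 0 (by simp [Cfsg.Lie.pairOf, suzukiForm])
  · exact main 1 (by simp [Cfsg.Lie.pairOf, suzukiForm])
  · exact main 2 (by simp [Cfsg.Lie.pairOf, suzukiForm])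
  · exact main 3 (by simp [Cfsg.Lie.pairOf, suzukiForm])

end field2


lemma altForm4_eq (u v : Fin 4 → F) :
    Cfsg.Lie.altForm4 u v = u ⬝ᵥ (suzukiForm F *ᵥ v) := by
  simp only [Cfsg.Lie.altForm4, suzukiForm, Matrix.mulVec, dotProduct, Fin.sum_univ_four,
    Matrix.of_apply, Matrix.cons_val', Matrix.cons_val_zero, Matrix.cons_val_one,
    Matrix.cons_val]
  ring

lemma altForm4_of_pres {A : Matrix (Fin 4) (Fin 4) F} (hA : Pres A) (u v : Fin 4 → F) :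
    Cfsg.Lie.altForm4 (A *ᵥ u) (A *ᵥ v) = Cfsg.Lie.altForm4 u v := by
  rw [altForm4_eq, altForm4_eq, ← Matrix.vecMul_transpose, ← Matrix.dotProduct_mulVec,
    Matrix.mulVec_mulVec, Matrix.mulVec_mulVec]
  unfold Pres at hA
  rw [hA]

/-- the defining predicate of `Lie.Sz` -/
def InX (s : ℕ) (A : Matrix (Fin 4) (Fin 4) F) : Prop :=
  (∀ u v, Cfsg.Lie.altForm4 (A *ᵥ u) (A *ᵥ v) = Cfsg.Lie.altForm4 u v) ∧
    Cfsg.Lie.star4 A = A.map (fun x => x ^ s)

section field3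
variable [Fintype F] {m : ℕ} (hF : Fintype.card F = 2 ^ (2 * m + 1))

include hF in
lemma inX_transM (a b : F) : InX (2 ^ (m + 1)) (transM m a b) := by
  refine ⟨altForm4_of_pres (pres_transM hF a b), ?_⟩
  have h2 := two_eq_zero hF
  ext p r
  fin_cases p <;> fin_cases r <;>
    simp [Cfsg.Lie.star4, Cfsg.Lie.pairOf, transM]
  · rw [sig_add hF, mul_pow, sig_sig hF]
    linear_combination (-(a ^ (2 ^ (m + 1)) * a ^ 2 + b ^ (2 ^ (m + 1)))) * h2
  · have e : (a ^ 2) ^ (2 ^ (m + 1)) = (a ^ (2 ^ (m + 1))) ^ 2 := by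
      rw [← pow_mul, ← pow_mul, mul_comm]
    rw [sig_add hF, sig_add hF, mul_pow, mul_pow, sig_sig hF, sig_sig hF, e]
    linear_combination (-((a ^ (2 ^ (m + 1))) ^ 2 * a ^ 2 + a ^ (2 ^ (m + 1)) * b ^ (2 ^ (m + 1)))) * h2
  · rw [sig_sig hF]; ring
  · linear_combination (-(b ^ (2 ^ (m + 1)))) * h2


include hF in
lemma inX_invM (s : ℕ) (hs : s ≠ 0) : InX s (invM : Matrix (Fin 4) (Fin 4) F) := by
  refine ⟨altForm4_of_pres pres_invM, ?_⟩
  have h2 := two_eq_zero hF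
  have h1 : (-1 : F) = 1 := neg_eq hF 1
  ext p r
  fin_cases p <;> fin_cases r <;>
    simp [Cfsg.Lie.star4, Cfsg.Lie.pairOf, invM, hs, h1]

include hF in
lemma inX_torM (k : Fˣ) : InX (2 ^ (m + 1)) (torM m k) := by
  refine ⟨altForm4_of_pres (pres_torM k), ?_⟩
  have hk : (k : F) ≠ 0 := k.ne_zero
  have hq : (k : F) ^ (2 ^ (2 * m + 1)) = k := pow_q hF _
  have e1 : 2 ^ m * 2 ^ (m + 1) = 2 ^ (2 * m + 1) := by rw [← pow_add]; congr 1; ring
  have hs : (2 ^ (m + 1)) ≠ 0 := by positivity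
  have hK : ((k : F) ^ (2 ^ m)) ^ (2 ^ (m + 1)) = k := by rw [← pow_mul, e1, hq]
  have hKK : (k : F) ^ (2 ^ m) * (k : F) ^ (2 ^ m) = (k : F) ^ (2 ^ (m + 1)) := by
    rw [← pow_add]; congr 1; ring
  ext p r
  fin_cases p <;> fin_cases r <;>
    simp [Cfsg.Lie.star4, Cfsg.Lie.pairOf, torM, Matrix.diagonal_apply, hs]
  · rw [pow_add, pow_one, mul_pow, hK]
    linear_combination (k : F) * hKK
  · rw [hK, pow_add, pow_one]
    field_simp
  · rw [hK, pow_add, pow_one]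
    field_simp
  · rw [pow_add, pow_one, mul_pow, hK, ← hKK]
    field_simp


include hF in
/-- matrices in the defining set of `Lie.Sz` have determinant one -/
lemma det_of_pres {A : Matrix (Fin 4) (Fin 4) F} (hA : Pres A) : A.det = 1 := by
  unfold Pres at hA
  have h := congrArg Matrix.det hA
  rw [Matrix.det_mul, Matrix.det_mul, Matrix.det_transpose] at h
  have hJ : (suzukiForm F).det ≠ 0 := by
    intro h0
    have := congrArg Matrix.det (suzukiForm_mul_self (F := F))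
    rw [Matrix.det_mul, h0, Matrix.det_one] at this
    simp at this
  apply sq_eq_one hF
  have : (A.det ^ 2 - 1) * (suzukiForm F).det = 0 := by linear_combination h
  rcases mul_eq_zero.mp this with h1 | h1
  · linear_combination h1
  · exact absurd h1 hJ

include hF in
lemma mem_Sz_of_inX (S : Matrix.SpecialLinearGroup (Fin 4) F) (hS : InX (2 ^ (m + 1)) S.1) :
    S ∈ Sz F m := by
  have key : ∀ c : Option (F × F), ∃ d : Option (F × F),
      S • Cfsg.Agent.S0326.param m c = Cfsg.Agent.S0326.param m d := by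
    intro c
    obtain ⟨hne, -⟩ := SL_smul_mk S (pvec m c) (pvec_ne_zero c)
    have habs := abs_mulVec hF S.1 hS.1 hS.2 (abs_pvec hF c)
    obtain ⟨d, l, hl⟩ := exists_pvec_of_abs hF hne habs
    exact ⟨d, smul_param S c d l hl⟩
  choose φ hφ using key
  exact mem_Sz_of_forall S φ hφ

include hF in
theorem lieSz_eq (hm : 1 ≤ m) :
    Cfsg.Lie.Sz F (2 ^ (m + 1)) = (Sz F m).map Matrix.SpecialLinearGroup.toGL := by
  apply le_antisymm
  · unfold Cfsg.Lie.Sz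
    rw [Subgroup.closure_le]
    rintro g ⟨hSp, hstar⟩
    have hX : InX (2 ^ (m + 1)) (g : Matrix (Fin 4) (Fin 4) F) := ⟨fun u v => hSp u v, hstar⟩
    have hdet := det_of_pres hF (pres_of_altForm4 _ hX.1)
    refine ⟨⟨(g : Matrix (Fin 4) (Fin 4) F), hdet⟩, mem_Sz_of_inX hF _ hX, ?_⟩
    apply Units.ext
    rfl
  · rw [Subgroup.map_le_iff_le_comap]
    intro S hS
    rw [Subgroup.mem_comap]
    have gen : ∀ T : Matrix.SpecialLinearGroup (Fin 4) F, InX (2 ^ (m + 1)) T.1 →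
        Matrix.SpecialLinearGroup.toGL T ∈ Cfsg.Lie.Sz F (2 ^ (m + 1)) := by
      intro T hT
      apply Subgroup.subset_closure
      exact ⟨fun u v => hT.1 u v, hT.2⟩
    have hs : (2 ^ (m + 1)) ≠ 0 := by positivity
    have ht : ∀ a b, Matrix.SpecialLinearGroup.toGL (transS m a b) ∈ Cfsg.Lie.Sz F (2 ^ (m + 1)) :=
      fun a b => gen _ (inX_transM hF a b)
    have hk : ∀ k, Matrix.SpecialLinearGroup.toGL (torS m k) ∈ Cfsg.Lie.Sz F (2 ^ (m + 1)) :=
      fun k => gen _ (inX_torM hF k)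
    have hw : Matrix.SpecialLinearGroup.toGL (invS : Matrix.SpecialLinearGroup (Fin 4) F)
        ∈ Cfsg.Lie.Sz F (2 ^ (m + 1)) := gen _ (inX_invM hF _ hs)
    rcases decomp hF hm S hS with ⟨a, b, k, rfl⟩ | ⟨a, b, a', b', k, rfl⟩
    · rw [map_mul]
      exact mul_mem (ht a b) (hk k)
    · rw [map_mul, map_mul, map_mul]
      exact mul_mem (mul_mem (ht a b) hw) (mul_mem (ht a' b') (hk k))

include hF in
/-- the two realisations of the Suzuki group are isomorphic -/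
noncomputable def lieSzEquiv (hm : 1 ≤ m) : ↥(Cfsg.Lie.Sz F (2 ^ (m + 1))) ≃* ↥(Sz F m) :=
  (MulEquiv.subgroupCongr (lieSz_eq hF hm)).trans
    ((Sz F m).equivMapOfInjective _ Matrix.SpecialLinearGroup.toGL_injective).symm

end field3

end Cfsg.Agent.Lib.Helper3.SzBridge
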