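import Mathlib

/-!
# S2053-[EX-K] (helper3): a subgroup of order at most `6` containing commuting `x, y` whose images have `6`
distinct products `φ x ^ i * φ y ^ j` is `{x ^ i * y ^ j}` and is cyclic of order `6`
-/

set_option autoImplicit false

namespace Cfsg.Agent.Lib.Helper6.Fi22M

/-- [EX-K] abstract -/
theorem kernel_c6 {W Δ : Type*} [Group W] [Group Δ] (K : Subgroup W) [Finite K]
    (hK : Nat.card K ≤ 6) (φ : W →* Δ) (x y : W) (hx : x ∈ K) (hy : y ∈ K)
    (hxy : Commute x y) (h3 : φ x ^ 3 = 1) (h2 : φ y ^ 2 = 1)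
    (hinj : Function.Injective (fun t : Fin 3 × Fin 2 => φ x ^ t.1.val * φ y ^ t.2.val)) :
    (∀ g ∈ K, ∃ i j : ℕ, g = x ^ i * y ^ j) ∧ Nonempty (K ≃* Multiplicative (ZMod 6)) := by
  classical
  set x' : K := ⟨x, hx⟩ with hx'
  set y' : K := ⟨y, hy⟩ with hy'
  have cxy : Commute x' y' := by
    apply Subtype.ext
    exact hxy
  -- the parametrisation
  let F : Fin 3 × Fin 2 → K := fun t => x' ^ t.1.val * y' ^ t.2.val
  have hφF : ∀ t, φ ((F t : K) : W) = φ x ^ t.1.val * φ y ^ t.2.val := by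
    intro t
    simp only [F, Subgroup.coe_mul, Subgroup.coe_pow, map_mul, map_pow, hx', hy']
  have hFinj : Function.Injective F := by
    intro s t hst
    apply hinj
    show φ x ^ s.1.val * φ y ^ s.2.val = φ x ^ t.1.val * φ y ^ t.2.val
    rw [← hφF s, ← hφF t, hst]
  have hc6 : Nat.card (Fin 3 × Fin 2) = 6 := by
    rw [Nat.card_eq_fintype_card]
    simp
  have hFbij : Function.Bijective F := hFinj.bijective_of_nat_card_le (by rw [hc6]; exact hK)
  have hcard : Nat.card K = 6 := by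
    rw [← hc6]
    exact (Nat.card_congr (Equiv.ofBijective F hFbij)).symm
  -- an element of `K` with trivial image is trivial
  have hker : ∀ g : K, φ (g : W) = 1 → g = 1 := by
    intro g hg
    obtain ⟨t, rfl⟩ := hFbij.2 g
    have h0 : F (0, 0) = 1 := by simp [F]
    have : t = (0, 0) := by
      apply hinj
      show φ x ^ t.1.val * φ y ^ t.2.val = φ x ^ ((0 : Fin 3)).val * φ y ^ ((0 : Fin 2)).val
      rw [← hφF t, hg]
      simp
    rw [this, h0]
  have ex3 : x' ^ 3 = 1 := by
    apply hker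
    rw [Subgroup.coe_pow, map_pow]
    exact h3
  have ey2 : y' ^ 2 = 1 := by
    apply hker
    rw [Subgroup.coe_pow, map_pow]
    exact h2
  refine ⟨?_, ?_⟩
  · intro g hg
    obtain ⟨t, ht⟩ := hFbij.2 ⟨g, hg⟩
    refine ⟨t.1.val, t.2.val, ?_⟩
    have := congrArg Subtype.val ht
    simp only [F, Subgroup.coe_mul, Subgroup.coe_pow, hx', hy'] at this
    exact this.symm
  · -- `x' * y'` generates `K`
    have hpow : ∀ i j : ℕ, (x' * y') ^ (4 * i + 3 * j) = x' ^ i * y' ^ j := by
      intro i j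
      rw [cxy.mul_pow]
      have e1 : x' ^ (4 * i + 3 * j) = x' ^ i := by
        have : 4 * i + 3 * j = i + 3 * (i + j) := by ring
        rw [this, pow_add, pow_mul, ex3, one_pow, mul_one]
      have e2 : y' ^ (4 * i + 3 * j) = y' ^ j := by
        have : 4 * i + 3 * j = j + 2 * (2 * i + j) := by ring
        rw [this, pow_add, pow_mul, ey2, one_pow, mul_one]
      rw [e1, e2]
    have hcyc : IsCyclic K := by
      refine ⟨⟨x' * y', fun g => ?_⟩⟩
      obtain ⟨t, ht⟩ := hFbij.2 g
      refine ⟨((4 * t.1.val + 3 * t.2.val : ℕ) : ℤ), ?_⟩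
      show (x' * y') ^ ((4 * t.1.val + 3 * t.2.val : ℕ) : ℤ) = g
      rw [zpow_natCast, hpow]
      exact ht
    have e := zmodCyclicMulEquiv hcyc
    rw [hcard] at e
    exact ⟨e.symm⟩

end Cfsg.Agent.Lib.Helper6.Fi22M
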