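import Mathlib

/-!
# Groups all of whose conjugacy class sizes are squarefree (S4130) — basic definitions (helper3)

`SqFree G` : every centralizer index `|G : C_G(x)|` is squarefree.
Inheritance to normal subgroups and quotients, and the basic consequences for the action on
normal subgroups.  Mathlib only.
-/

set_option autoImplicit false

namespace Cfsg.Agent.Lib.Helper3.SF

open Subgroup

/-- All conjugacy class sizes (centralizer indices) of `G` are squarefree. -/
def SqFree (G : Type*) [Group G] : Prop :=
  ∀ x : G, Squarefree (Subgroup.centralizer ({x} : Set G)).index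

variable {G : Type*} [Group G]

theorem card_mul_relIndex_of_le {K L : Subgroup G} (h : K ≤ L) :
    Nat.card K * K.relIndex L = Nat.card L := by
  rw [Subgroup.relIndex, ← Nat.card_congr (Subgroup.subgroupOfEquivOfLe h).toEquiv,
    Subgroup.card_mul_index]

/-- For `K` normal: `|K : K ∩ H|` divides `|G : H|`. -/
theorem relIndex_dvd_index_of_normal_right [Finite G] (H K : Subgroup G) [hK : K.Normal] :
    H.relIndex K ∣ H.index := by
  have h1 : H.relIndex (H ⊔ K) = H.relIndex K := by
    have hcH : 0 < Nat.card H := Nat.card_pos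
    have a1 := card_mul_relIndex_of_le (le_sup_left : H ≤ H ⊔ K)
    have a2 := card_mul_relIndex_of_le (le_sup_right : K ≤ H ⊔ K)
    rw [Subgroup.relIndex_sup_right] at a2
    have a3 := card_mul_relIndex_of_le (inf_le_left : H ⊓ K ≤ H)
    rw [Subgroup.inf_relIndex_left] at a3
    have a4 := card_mul_relIndex_of_le (inf_le_right : H ⊓ K ≤ K)
    rw [Subgroup.inf_relIndex_right] at a4
    apply Nat.eq_of_mul_eq_mul_left hcH
    rw [a1, ← a2, ← a4, ← a3]
    ring
  rw [← h1]
  exact Subgroup.relIndex_dvd_index_of_le le_sup_left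

theorem SqFree.relIndex [Finite G] (h : SqFree G) (V : Subgroup G) [V.Normal] (x : G) :
    Squarefree ((centralizer ({x} : Set G)).relIndex V) :=
  (h x).squarefree_of_dvd (relIndex_dvd_index_of_normal_right _ V)

/-- a squarefree prime power divides the prime -/
theorem dvd_prime_of_squarefree_of_pow {p k : ℕ} (hp : p.Prime) (h : Squarefree (p ^ k)) :
    p ^ k ∣ p := by
  rcases Nat.lt_or_ge k 2 with hk | hk
  · interval_cases k
    · simp
    · simp
  · exfalso
    have h2 : p * p ∣ p ^ k := by
      have : p ^ 2 ∣ p ^ k := pow_dvd_pow p hk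
      simpa [sq] using this
    have := h p h2
    exact hp.one_lt.ne' (Nat.isUnit_iff.mp this)

/-- In a `SqFree` group, every element centralizes a subgroup of index dividing `p` of any normal
`p`-subgroup. -/
theorem SqFree.relIndex_dvd_prime [Finite G] (h : SqFree G) {p : ℕ} [hp : Fact p.Prime]
    (V : Subgroup G) [V.Normal] (hV : IsPGroup p V) (x : G) :
    (centralizer ({x} : Set G)).relIndex V ∣ p := by
  have h1 := h.relIndex V x
  obtain ⟨k, hk⟩ : ∃ k, (centralizer ({x} : Set G)).relIndex V = p ^ k := by
    have h2 : (centralizer ({x} : Set G)).relIndex V ∣ Nat.card V := by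
      rw [Subgroup.relIndex]
      exact Subgroup.index_dvd_card _
    obtain ⟨n, hn⟩ := hV.exists_card_eq
    rw [hn] at h2
    obtain ⟨k, _, hk⟩ := (Nat.dvd_prime_pow hp.out).mp h2
    exact ⟨k, hk⟩
  rw [hk] at h1 ⊢
  exact dvd_prime_of_squarefree_of_pow hp.out h1

theorem SqFree.not_sq_dvd (h : SqFree G) {p : ℕ} (hp : p.Prime) (x : G) :
    ¬ p ^ 2 ∣ (centralizer ({x} : Set G)).index := by
  intro hd
  have := h x p (by simpa [sq] using hd)
  exact hp.one_lt.ne' (Nat.isUnit_iff.mp this)

/-- class sizes in a normal subgroup divide class sizes in `G` -/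
theorem index_centralizer_subtype_dvd [Finite G] (H : Subgroup G) [H.Normal] (x : H) :
    (centralizer ({x} : Set H)).index ∣ (centralizer ({(x : G)} : Set G)).index := by
  have e : centralizer ({x} : Set H) = (centralizer ({(x : G)} : Set G)).subgroupOf H := by
    ext h
    rw [Subgroup.mem_subgroupOf, Subgroup.mem_centralizer_singleton_iff,
      Subgroup.mem_centralizer_singleton_iff]
    constructor
    · intro hh
      have := congrArg Subtype.val hh
      simpa using this
    · intro hh
      apply Subtype.ext
      simpa using hh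
  rw [e]
  exact relIndex_dvd_index_of_normal_right _ H

/-- class sizes in a quotient divide class sizes in `G` -/
theorem index_centralizer_quotient_dvd (A : Subgroup G) [A.Normal] (x : G) :
    (centralizer ({(QuotientGroup.mk x : G ⧸ A)} : Set (G ⧸ A))).index ∣
      (centralizer ({x} : Set G)).index := by
  have hle : (centralizer ({x} : Set G)).map (QuotientGroup.mk' A) ≤
      centralizer ({(QuotientGroup.mk x : G ⧸ A)} : Set (G ⧸ A)) := by
    rintro _ ⟨c, hc, rfl⟩
    have hc' : c * x = x * c := Subgroup.mem_centralizer_singleton_iff.mp hc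
    rw [Subgroup.mem_centralizer_singleton_iff]
    show (QuotientGroup.mk c : G ⧸ A) * QuotientGroup.mk x = QuotientGroup.mk x * QuotientGroup.mk c
    rw [← QuotientGroup.mk_mul, ← QuotientGroup.mk_mul, hc']
  exact (Subgroup.index_dvd_of_le hle).trans
    (Subgroup.index_map_dvd _ (QuotientGroup.mk'_surjective A))

theorem SqFree.of_normal [Finite G] (h : SqFree G) (N : Subgroup G) [N.Normal] : SqFree N :=
  fun x => (h (x : G)).squarefree_of_dvd (index_centralizer_subtype_dvd N x)

theorem SqFree.quotient (h : SqFree G) (N : Subgroup G) [N.Normal] : SqFree (G ⧸ N) := by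
  intro x
  obtain ⟨g, rfl⟩ := QuotientGroup.mk_surjective x
  exact (h g).squarefree_of_dvd (index_centralizer_quotient_dvd N g)

theorem SqFree.of_mulEquiv {H : Type*} [Group H] (e : G ≃* H) (h : SqFree G) : SqFree H := by
  intro y
  have e1 : centralizer ({y} : Set H) = (centralizer ({e.symm y} : Set G)).map e.toMonoidHom := by
    ext c
    rw [Subgroup.mem_map_equiv, Subgroup.mem_centralizer_singleton_iff,
      Subgroup.mem_centralizer_singleton_iff]
    constructor
    · intro hc
      rw [← map_mul, ← map_mul, hc]
    · intro hc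
      have := congrArg e hc
      simpa using this
  rw [e1]
  have := Subgroup.index_map_equiv (centralizer ({e.symm y} : Set G)) e
  rw [show (e.toMonoidHom : G →* H) = (e : G →* H) from rfl, this]
  exact h _

/-- A central subgroup `P` containing the derived subgroup, of order coprime to its index:
then `G` is abelian. -/
theorem commutator_eq_bot_of_central [Finite G] (P : Subgroup G) (hPc : P ≤ center G)
    (hGP : commutator G ≤ P) (hcop : (Nat.card P).Coprime P.index) : commutator G = ⊥ := by
  rw [_root_.commutator_def, Subgroup.commutator_eq_bot_iff_le_centralizer]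
  intro x _
  rw [Subgroup.mem_centralizer_iff]
  intro y _
  -- c = [x,y] is central
  obtain ⟨c, hc⟩ : ∃ c : G, c = x * y * x⁻¹ * y⁻¹ := ⟨_, rfl⟩
  have hcP : c ∈ P := by
    apply hGP
    rw [_root_.commutator_def, hc]
    have := Subgroup.commutator_mem_commutator (Subgroup.mem_top x) (Subgroup.mem_top y)
    rwa [commutatorElement_def] at this
  have hcz : c ∈ center G := hPc hcP
  -- x^k y x^-k = c^k y
  have hpow : ∀ k : ℕ, x ^ k * y * (x ^ k)⁻¹ = c ^ k * y := by
    intro k
    induction k with
    | zero => simp
    | succ k ih =>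
      have h1 : x ^ (k + 1) * y * (x ^ (k + 1))⁻¹ = x * (x ^ k * y * (x ^ k)⁻¹) * x⁻¹ := by
        rw [pow_succ']; group
      rw [h1, ih]
      have h2 : x * y * x⁻¹ = c * y := by rw [hc]; group
      have hck : c ^ k ∈ center G := Subgroup.pow_mem _ hcz k
      have h3 : x * (c ^ k * y) * x⁻¹ = c ^ k * (x * y * x⁻¹) := by
        have := (Subgroup.mem_center_iff.mp hck) x
        calc x * (c ^ k * y) * x⁻¹ = (x * c ^ k) * y * x⁻¹ := by group
          _ = (c ^ k * x) * y * x⁻¹ := by rw [this]
          _ = c ^ k * (x * y * x⁻¹) := by group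
      rw [h3, h2, pow_succ, mul_assoc]
  have hPn : P.Normal := ⟨fun n hn g => by
    have := (Subgroup.mem_center_iff.mp (hPc hn)) g
    have e : g * n * g⁻¹ = n := by rw [this]; group
    rw [e]; exact hn⟩
  have hxm : x ^ P.index ∈ P := Subgroup.pow_index_mem P x
  have hxz : x ^ P.index ∈ center G := hPc hxm
  have h4 := hpow P.index
  have h5 : x ^ P.index * y * (x ^ P.index)⁻¹ = y := by
    have := (Subgroup.mem_center_iff.mp hxz) y
    rw [← this]; group
  rw [h5] at h4
  have hcm : c ^ P.index = 1 := by
    have : c ^ P.index * y = 1 * y := by rw [← h4, one_mul]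
    exact mul_right_cancel this
  have hcn : c ^ Nat.card P = 1 := by
    have := pow_card_eq_one' (G := P) (x := ⟨c, hcP⟩)
    exact congrArg Subtype.val this
  have hc1 : c = 1 := by
    have h6 : orderOf c ∣ P.index := orderOf_dvd_of_pow_eq_one hcm
    have h7 : orderOf c ∣ Nat.card P := orderOf_dvd_of_pow_eq_one hcn
    have h8 : orderOf c ∣ 1 := by
      have := Nat.dvd_gcd h7 h6
      rwa [hcop] at this
    exact orderOf_eq_one_iff.mp (Nat.dvd_one.mp h8)
  have : x * y * x⁻¹ * y⁻¹ = 1 := hc ▸ hc1
  calc y * x = (x * y * x⁻¹ * y⁻¹)⁻¹ * (x * y) := by group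
    _ = x * y := by rw [this]; group

end Cfsg.Agent.Lib.Helper3.SF
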