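import Cfsg.Agent.Lib.Helper3.SLBAct

/-!
# S4538 farm (architect helper24), leaf [F] `torus_fixed_of_three_le`

For `n ≥ 3`, a torus eigenvector `y` whose eigencharacter is invariant under the simple
reflections is fixed by the torus.  Proof: `T₀ = {t ∈ T : t y = y}` is a subgroup containing every
`t (n_k⁻¹ t n_k)⁻¹`; with a third index every `h_k(a) = diag(a, a⁻¹)` is of this form, and the
`h_k(a)` generate `T` (peel off the diagonal entries one by one).
-/

set_option autoImplicit false

namespace Cfsg.Agent.Lib.Helper24.SLB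

open Matrix Cfsg.Agent.Lib.Helper25.SLCC

namespace Helper3

variable {n : ℕ} {F : Type*} [Field F]

/-- the diagonal element of `SL_n(F)` with diagonal `v` -/
def dg (v : Fin n → F) (hv : ∏ i, v i = 1) : SpecialLinearGroup (Fin n) F :=
  ⟨Matrix.diagonal v, by rw [Matrix.det_diagonal]; exact hv⟩

theorem act_dg (v : Fin n → F) (hv : ∏ i, v i = 1) (w : Fin n → F) (r : Fin n) :
    act (dg v hv) w r = v r * w r := by
  unfold act dg
  exact Matrix.mulVec_diagonal v w r

theorem dg_mem_Tsl (v : Fin n → F) (hv : ∏ i, v i = 1) : dg v hv ∈ Tsl n F := by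
  rw [mem_Tsl]
  intro i j hij
  exact Matrix.diagonal_apply_ne v hij

theorem dg_one (hv : ∏ i : Fin n, (1 : Fin n → F) i = 1) : dg (1 : Fin n → F) hv = 1 := by
  apply eq_of_act
  intro w
  funext r
  rw [act_dg, act_one, Pi.one_apply, one_mul]

theorem dg_mul_eq {u w v : Fin n → F} (hu : ∏ i, u i = 1) (hw : ∏ i, w i = 1)
    (hv : ∏ i, v i = 1) (h : ∀ r, u r * w r = v r) : dg u hu * dg w hw = dg v hv := by
  apply eq_of_act
  intro x
  funext r
  rw [act_mul, act_dg, act_dg, act_dg, ← mul_assoc, h r]

/-- conjugating a diagonal element by `n_{ij}` swaps the entries `i`, `j` -/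
theorem dg_mul_nn {i j : Fin n} (hij : i ≠ j) {v v' : Fin n → F} (hv : ∏ r, v r = 1)
    (hv' : ∏ r, v' r = 1) (h1 : v' i = v j) (h2 : v' j = v i)
    (h3 : ∀ r, r ≠ i → r ≠ j → v' r = v r) :
    dg v hv * nn i j = nn i j * dg v' hv' := by
  apply eq_of_act
  intro x
  funext r
  rw [act_mul, act_mul, act_dg, act_nn hij, act_nn hij, act_dg, act_dg, act_dg]
  by_cases e1 : r = i
  · subst e1
    rw [if_pos rfl, if_pos rfl, h2]
  · rw [if_neg e1, if_neg e1]
    by_cases e2 : r = j
    · subst e2
      rw [if_pos rfl, if_pos rfl, h1]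
      ring
    · rw [if_neg e2, if_neg e2, h3 r e1 e2]

theorem eq_dg_of_mem_Tsl {t : SpecialLinearGroup (Fin n) F} (ht : t ∈ Tsl n F) :
    ∃ (v : Fin n → F) (hv : ∏ i, v i = 1), t = dg v hv := by
  rw [mem_Tsl] at ht
  have hcoe : (t : Matrix (Fin n) (Fin n) F) =
      Matrix.diagonal (fun r => (t : Matrix (Fin n) (Fin n) F) r r) := by
    ext i j
    by_cases hij : i = j
    · subst hij
      rw [Matrix.diagonal_apply_eq]
    · rw [Matrix.diagonal_apply_ne _ hij, ht i j hij]
  have hdet : ∏ i, (t : Matrix (Fin n) (Fin n) F) i i = 1 := by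
    have := t.det_coe
    rw [hcoe, Matrix.det_diagonal] at this
    exact this
  exact ⟨_, hdet, Subtype.ext hcoe⟩

/-- the function with value `a` at `i`, `a⁻¹` at `j` and `1` elsewhere -/
def hv2 (i j : Fin n) (a : F) : Fin n → F :=
  fun r => (Pi.mulSingle i a : Fin n → F) r * (Pi.mulSingle j a⁻¹ : Fin n → F) r

theorem hv2_prod (i j : Fin n) {a : F} (ha : a ≠ 0) : ∏ r, hv2 i j a r = 1 := by
  unfold hv2
  rw [Finset.prod_mul_distrib, Fintype.prod_pi_mulSingle', Fintype.prod_pi_mulSingle',
    mul_inv_cancel₀ ha]

theorem hv2_left {i j : Fin n} (hij : i ≠ j) (a : F) : hv2 i j a i = a := by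
  unfold hv2
  rw [Pi.mulSingle_eq_same, Pi.mulSingle_eq_of_ne hij, mul_one]

theorem hv2_right {i j : Fin n} (hij : i ≠ j) (a : F) : hv2 i j a j = a⁻¹ := by
  unfold hv2
  rw [Pi.mulSingle_eq_same, Pi.mulSingle_eq_of_ne hij.symm, one_mul]

theorem hv2_other {i j r : Fin n} (h1 : r ≠ i) (h2 : r ≠ j) (a : F) : hv2 i j a r = 1 := by
  unfold hv2
  rw [Pi.mulSingle_eq_of_ne h1, Pi.mulSingle_eq_of_ne h2, mul_one]

theorem exists_third (hn : 3 ≤ n) (i j : Fin n) : ∃ m : Fin n, m ≠ i ∧ m ≠ j := by
  classical
  by_contra h
  push Not at h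
  have hsub : (Finset.univ : Finset (Fin n)) ⊆ {i, j} := by
    intro m _
    by_cases hm : m = i
    · simp [hm]
    · simp [h m hm]
  have h1 := Finset.card_le_card hsub
  rw [Finset.card_univ, Fintype.card_fin] at h1
  have h2 : ({i, j} : Finset (Fin n)).card ≤ 2 := Finset.card_le_two
  omega

end Helper3

variable {n : ℕ} {F : Type*} [Field F] [Fintype F]

open Helper3 in
/-- **[F]** for `n ≥ 3` a multiplicative function on the torus invariant under the simple
reflections is trivial -/
theorem torus_fixed_of_three_le (hn : 3 ≤ n) {d : ℕ}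
    (ρ : Representation ℂ (SpecialLinearGroup (Fin n) F) (Fin d → ℂ))
    (y : Fin d → ℂ) (hy0 : y ≠ 0) (hT : ∀ t ∈ Tsl n F, ∃ c : ℂ, ρ t y = c • y)
    (hinv : ∀ (k : ℕ) (hk : k + 1 < n), ∀ t ∈ Tsl n F, ρ ((ns k hk)⁻¹ * t * ns k hk) y = ρ t y) :
    ∀ t ∈ Tsl n F, ρ t y = y := by
  -- the elements `h_k(a)` fix `y`
  have hh : ∀ (k : ℕ) (hk : k + 1 < n) (a : F) (ha : a ≠ 0),
      ρ (dg (hv2 (fi k hk) (fs k hk) a) (hv2_prod _ _ ha)) y = y := by
    intro k hk a ha
    set i := fi k hk with hi
    set j := fs k hk with hj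
    have hij : i ≠ j := fi_ne_fs k hk
    obtain ⟨m, hmi, hmj⟩ := exists_third hn i j
    -- `v = (a at i, a⁻¹ at m)`, `v' = v ∘ swap i j = (a at j, a⁻¹ at m)`
    have hvp := hv2_prod i m ha
    have hvp' := hv2_prod j m ha
    have hconj : dg (hv2 i m a) hvp * nn i j = nn i j * dg (hv2 j m a) hvp' := by
      apply dg_mul_nn hij
      · rw [hv2_other hij hmi.symm, hv2_other hij.symm hmj.symm]
      · rw [hv2_left hmj.symm, hv2_left hmi.symm]
      · intro r h1 h2
        by_cases h3 : r = m
        · subst h3
          rw [hv2_right hmj.symm, hv2_right hmi.symm]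
        · rw [hv2_other h2 h3, hv2_other h1 h3]
    have ht : dg (hv2 i m a) hvp ∈ Tsl n F := dg_mem_Tsl _ _
    have hc1 := hinv k hk _ ht
    rw [ns_eq_nn] at hc1
    change ρ ((nn i j)⁻¹ * dg (hv2 i m a) hvp * nn i j) y = _ at hc1
    rw [mul_assoc, hconj, ← mul_assoc, inv_mul_cancel, one_mul] at hc1
    -- `dg v = h * dg v'`
    have hprod : dg (hv2 i j a) (hv2_prod _ _ ha) * dg (hv2 j m a) hvp' = dg (hv2 i m a) hvp := by
      apply dg_mul_eq
      intro r
      by_cases h1 : r = i
      · subst h1
        rw [hv2_left hij, hv2_other hij hmi.symm, hv2_left hmi.symm, mul_one]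
      by_cases h2 : r = j
      · subst h2
        rw [hv2_right hij, hv2_left hmj.symm, hv2_other h1 hmj.symm, inv_mul_cancel₀ ha]
      by_cases h3 : r = m
      · subst h3
        rw [hv2_other h1 h2, hv2_right hmj.symm, hv2_right hmi.symm, one_mul]
      · rw [hv2_other h1 h2, hv2_other h2 h3, hv2_other h1 h3, one_mul]
    obtain ⟨c, hc⟩ := hT _ ht
    have hc0 : c ≠ 0 := by
      rintro rfl
      rw [zero_smul] at hc
      have : y = 0 := by
        have h := congrArg (ρ (dg (hv2 i m a) hvp)⁻¹) hc
        rw [map_zero, ← Module.End.mul_apply, ← map_mul, inv_mul_cancel, map_one,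
          Module.End.one_apply] at h
        exact h
      exact hy0 this
    have h5 : ρ (dg (hv2 i m a) hvp) y = c • ρ (dg (hv2 i j a) (hv2_prod _ _ ha)) y := by
      rw [← hprod, map_mul, Module.End.mul_apply, hc1, hc, map_smul]
    rw [hc] at h5
    have h6 : c • (ρ (dg (hv2 i j a) (hv2_prod _ _ ha)) y - y) = 0 := by
      rw [smul_sub, ← h5, sub_self]
    rcases smul_eq_zero.mp h6 with h | h
    · exact absurd h hc0
    · exact sub_eq_zero.mp h
  -- peel off the diagonal entries one by one
  have key : ∀ (m : ℕ), m ≤ n → ∀ (v : Fin n → F) (hv : ∏ i, v i = 1),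
      (∀ r : Fin n, r.val < n - m → v r = 1) → ρ (dg v hv) y = y := by
    intro m
    induction m with
    | zero =>
      intro _ v hv h
      have hv1 : v = 1 := by
        funext r
        exact h r (by have := r.isLt; omega)
      subst hv1
      rw [dg_one, map_one, Module.End.one_apply]
    | succ m ih =>
      intro hm v hv h
      have hm' : m ≤ n := Nat.le_of_succ_le hm
      -- the index `p = n - (m + 1)`
      have hp : n - (m + 1) < n := by omega
      by_cases hlast : m = 0
      · -- `p` is the last index: its entry is the product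
        subst hlast
        apply ih hm' v hv
        intro r hr
        by_cases hr' : r.val < n - (0 + 1)
        · exact h r hr'
        · have hr2 : r = ⟨n - (0 + 1), hp⟩ := by
            apply Fin.ext
            simp only
            omega
          have : ∏ i, v i = v r := by
            apply Finset.prod_eq_single r
            · intro b _ hb
              apply h b
              have hb' : b.val ≠ r.val := fun e => hb (Fin.ext e)
              rw [hr2] at hb'
              simp only at hb'
              have := b.isLt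
              omega
            · intro h'
              exact absurd (Finset.mem_univ r) h'
          rw [← this, hv]
      · have hk : (n - (m + 1)) + 1 < n := by omega
        set k := n - (m + 1) with hkdef
        set i := fi k hk with hi
        set j := fs k hk with hj
        have hij : i ≠ j := fi_ne_fs k hk
        have ha : v i ≠ 0 := by
          have h1 : ∏ r, v r ≠ 0 := by rw [hv]; exact one_ne_zero
          exact (Finset.prod_ne_zero_iff.mp h1) i (Finset.mem_univ i)
        -- `v' = v / h_k(v i)`
        let v' : Fin n → F := fun r => (hv2 i j (v i) r)⁻¹ * v r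
        have hv' : ∏ r, v' r = 1 := by
          show ∏ r, (hv2 i j (v i) r)⁻¹ * v r = 1
          rw [Finset.prod_mul_distrib, Finset.prod_inv_distrib, hv2_prod i j ha, hv, inv_one,
            mul_one]
        have hprod : dg (hv2 i j (v i)) (hv2_prod _ _ ha) * dg v' hv' = dg v hv := by
          apply dg_mul_eq
          intro r
          show hv2 i j (v i) r * ((hv2 i j (v i) r)⁻¹ * v r) = v r
          have hne : hv2 i j (v i) r ≠ 0 := by
            have h1 : ∏ r, hv2 i j (v i) r ≠ 0 := by rw [hv2_prod i j ha]; exact one_ne_zero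
            exact (Finset.prod_ne_zero_iff.mp h1) r (Finset.mem_univ r)
          rw [← mul_assoc, mul_inv_cancel₀ hne, one_mul]
        have h1 : ρ (dg v' hv') y = y := by
          apply ih hm' v' hv'
          intro r hr
          show (hv2 i j (v i) r)⁻¹ * v r = 1
          by_cases e1 : r = i
          · subst e1
            rw [hv2_left hij, inv_mul_cancel₀ ha]
          · have hrk : r.val < k := by
              have : r.val ≠ k := fun e => e1 (Fin.ext e)
              omega
            have e2 : r ≠ j := by
              intro e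
              have := congrArg Fin.val e
              simp [hj] at this
              omega
            rw [hv2_other e1 e2, inv_one, one_mul]
            exact h r hrk
        rw [← hprod, map_mul, Module.End.mul_apply, h1]
        exact hh k hk (v i) ha
  intro t ht
  obtain ⟨v, hv, rfl⟩ := eq_dg_of_mem_Tsl ht
  apply key n le_rfl v hv
  intro r hr
  omega

end Cfsg.Agent.Lib.Helper24.SLB
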