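import Cfsg.Agent.Lib.Helper3.SLBAct

/-!
# S4538 farm (architect helper24), leaf [H] `braid_exclusion`

The braid relation: for a `B`-fixed vector `y ≠ 0`, adjacent simple reflections cannot be of
different type (`n_k y = y` and `T_{k+1} y = -y`).  Proof: the group identity
`x_k(a) n_k x_{k+1}(b) n_{k+1} x_k(c) n_k = x_{k+1}(c) n_{k+1} x_k(-(b+ac)) n_k x_{k+1}(a) n_{k+1}`
(checked on column vectors) gives `T_k T_{k+1} T_k y = T_{k+1} T_k T_{k+1} y`, which reads
`-q² y = q y`.
-/

set_option autoImplicit false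

namespace Cfsg.Agent.Lib.Helper24.SLB

open Matrix Cfsg.Agent.Lib.Helper25.SLCC

namespace Helper3

variable {n : ℕ} {F : Type*} [Field F]

/-- `g` acts on the coordinates `i, j, l` through the map `M` and trivially on the others -/
def Acts (i j l : Fin n) (g : SpecialLinearGroup (Fin n) F) (M : F × F × F → F × F × F) : Prop :=
  ∀ v : Fin n → F, (∀ r, r ≠ i → r ≠ j → r ≠ l → act g v r = v r) ∧
    (act g v i, act g v j, act g v l) = M (v i, v j, v l)

theorem Acts.mul {i j l : Fin n} {g h : SpecialLinearGroup (Fin n) F}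
    {M M' : F × F × F → F × F × F} (hg : Acts i j l g M) (hh : Acts i j l h M') :
    Acts i j l (g * h) (M ∘ M') := by
  intro v
  rw [act_mul]
  constructor
  · intro r h1 h2 h3
    rw [(hg _).1 r h1 h2 h3, (hh v).1 r h1 h2 h3]
  · rw [(hg (act h v)).2, (hh v).2]
    rfl

theorem Acts.eq {i j l : Fin n} {g h : SpecialLinearGroup (Fin n) F}
    {M M' : F × F × F → F × F × F} (hg : Acts i j l g M) (hh : Acts i j l h M')
    (hM : ∀ x y z : F, M (x, y, z) = M' (x, y, z)) : g = h := by
  apply eq_of_act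
  intro v
  funext r
  have e := (hg v).2.trans ((hM _ _ _).trans (hh v).2.symm)
  by_cases h1 : r = i
  · subst h1
    exact congrArg Prod.fst e
  by_cases h2 : r = j
  · subst h2
    exact congrArg (fun p => p.2.1) e
  by_cases h3 : r = l
  · subst h3
    exact congrArg (fun p => p.2.2) e
  rw [(hg v).1 r h1 h2 h3, (hh v).1 r h1 h2 h3]

variable {i j l : Fin n}

theorem acts_T12 (hij : i ≠ j) (hil : i ≠ l) (a : F) :
    Acts i j l (T i j a) (fun p => (p.1 + a * p.2.1, p.2.1, p.2.2)) := by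
  intro v
  constructor
  · intro r h1 _ _
    rw [act_T hij, if_neg h1]
  · rw [act_T hij, act_T hij, act_T hij, if_pos rfl, if_neg hij.symm, if_neg hil.symm]

theorem acts_T23 (hij : i ≠ j) (hjl : j ≠ l) (b : F) :
    Acts i j l (T j l b) (fun p => (p.1, p.2.1 + b * p.2.2, p.2.2)) := by
  intro v
  constructor
  · intro r _ h2 _
    rw [act_T hjl, if_neg h2]
  · rw [act_T hjl, act_T hjl, act_T hjl, if_pos rfl, if_neg hij, if_neg hjl.symm]

theorem acts_n12 (hij : i ≠ j) (hil : i ≠ l) (hjl : j ≠ l) :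
    Acts i j l (nn i j : SpecialLinearGroup (Fin n) F) (fun p => (p.2.1, -p.1, p.2.2)) := by
  intro v
  constructor
  · intro r h1 h2 _
    rw [act_nn hij, if_neg h1, if_neg h2]
  · rw [act_nn hij, act_nn hij, act_nn hij, if_pos rfl, if_neg hij.symm, if_pos rfl,
      if_neg hil.symm, if_neg hjl.symm]

theorem acts_n23 (hij : i ≠ j) (hil : i ≠ l) (hjl : j ≠ l) :
    Acts i j l (nn j l : SpecialLinearGroup (Fin n) F) (fun p => (p.1, p.2.2, -p.2.1)) := by
  intro v
  constructor
  · intro r _ h2 h3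
    rw [act_nn hjl, if_neg h2, if_neg h3]
  · rw [act_nn hjl, act_nn hjl, act_nn hjl, if_neg hij, if_neg hil, if_pos rfl,
      if_neg hjl.symm, if_pos rfl]

/-- the braid identity -/
theorem braid_identity (hij : i ≠ j) (hil : i ≠ l) (hjl : j ≠ l) (a b c : F) :
    (T i j a * nn i j) * (T j l b * nn j l) * (T i j c * nn i j) =
      (T j l c * nn j l) * (T i j (-(b + a * c)) * nn i j) * (T j l a * nn j l) := by
  have h1 := fun a : F => (acts_T12 hij hil a).mul (acts_n12 (F := F) hij hil hjl)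
  have h2 := fun a : F => (acts_T23 hij hjl a).mul (acts_n23 (F := F) hij hil hjl)
  refine Acts.eq (((h1 a).mul (h2 b)).mul (h1 c)) (((h2 c).mul (h1 (-(b + a * c)))).mul (h2 a)) ?_
  intro x y z
  simp only [Function.comp_apply, Prod.mk.injEq]
  refine ⟨?_, ?_, ?_⟩
  · ring
  · ring
  · trivial

/-- simple root elements are upper triangular -/
theorem xs_mem_Bsl' (k : ℕ) (hk : k + 1 < n) (a : F) : xs k hk a ∈ Bsl n F := by
  rw [mem_Bsl_iff]
  intro r s hsr
  rw [xs_coe, Matrix.add_apply, Matrix.one_apply_ne (ne_of_gt hsr), zero_add, Matrix.single_apply]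
  rw [if_neg]
  rintro ⟨h1, h2⟩
  have e1 : r.val = k := by rw [← h1]
  have e2 : s.val = k + 1 := by rw [← h2]
  have : s.val < r.val := hsr
  omega

section main

variable [Fintype F] {d : ℕ} (ρ : Representation ℂ (SpecialLinearGroup (Fin n) F) (Fin d → ℂ))

/-- the Hecke operator of the pair `(p, q)` -/
noncomputable def hk (p q : Fin n) (v : Fin d → ℂ) : Fin d → ℂ :=
  ∑ a : F, ρ (T p q a * nn p q) v

theorem hk_smul (p q : Fin n) (c : ℂ) (v : Fin d → ℂ) : hk ρ p q (c • v) = c • hk ρ p q v := by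
  unfold hk
  rw [Finset.smul_sum]
  exact Finset.sum_congr rfl fun a _ => map_smul _ _ _

theorem hk_neg (p q : Fin n) (v : Fin d → ℂ) : hk ρ p q (-v) = -hk ρ p q v := by
  unfold hk
  rw [← Finset.sum_neg_distrib]
  exact Finset.sum_congr rfl fun a _ => map_neg _ _

/-- the braid relation for the Hecke operators -/
theorem hk_braid {i j l : Fin n} (hij : i ≠ j) (hil : i ≠ l) (hjl : j ≠ l) (y : Fin d → ℂ) :
    hk ρ i j (hk ρ j l (hk ρ i j y)) = hk ρ j l (hk ρ i j (hk ρ j l y)) := by
  have e1 : hk ρ i j (hk ρ j l (hk ρ i j y)) = ∑ p : F × F × F,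
      ρ ((T i j p.1 * nn i j) * (T j l p.2.1 * nn j l) * (T i j p.2.2 * nn i j)) y := by
    rw [Fintype.sum_prod_type]
    unfold hk
    refine Finset.sum_congr rfl fun a _ => ?_
    rw [map_sum, Fintype.sum_prod_type]
    refine Finset.sum_congr rfl fun b _ => ?_
    rw [map_sum, map_sum]
    refine Finset.sum_congr rfl fun c _ => ?_
    simp only [map_mul, Module.End.mul_apply]
  have e2 : hk ρ j l (hk ρ i j (hk ρ j l y)) = ∑ p : F × F × F,
      ρ ((T j l p.1 * nn j l) * (T i j p.2.1 * nn i j) * (T j l p.2.2 * nn j l)) y := by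
    rw [Fintype.sum_prod_type]
    unfold hk
    refine Finset.sum_congr rfl fun a _ => ?_
    rw [map_sum, Fintype.sum_prod_type]
    refine Finset.sum_congr rfl fun b _ => ?_
    rw [map_sum, map_sum]
    refine Finset.sum_congr rfl fun c _ => ?_
    simp only [map_mul, Module.End.mul_apply]
  rw [e1, e2]
  -- reindex by the involution `(a, b, c) ↦ (c, -(b + a c), a)`
  let φ : F × F × F → F × F × F := fun p => (p.2.2, -(p.2.1 + p.1 * p.2.2), p.1)
  have hφ : Function.Involutive φ := by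
    rintro ⟨a, b, c⟩
    simp only [φ, Prod.mk.injEq, true_and, and_true]
    ring
  have hre := Equiv.sum_comp hφ.toPerm (fun p : F × F × F =>
    ρ ((T j l p.1 * nn j l) * (T i j p.2.1 * nn i j) * (T j l p.2.2 * nn j l)) y)
  rw [← hre]
  refine Finset.sum_congr rfl fun p _ => ?_
  obtain ⟨a, b, c⟩ := p
  show ρ ((T i j a * nn i j) * (T j l b * nn j l) * (T i j c * nn i j)) y =
    ρ ((T j l c * nn j l) * (T i j (-(b + a * c)) * nn i j) * (T j l a * nn j l)) y
  rw [braid_identity hij hil hjl a b c]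

/-- the key contradiction: one operator acts by `q`, the other by `-1` -/
theorem braid_contra {i j l : Fin n} (hij : i ≠ j) (hil : i ≠ l) (hjl : j ≠ l) (y : Fin d → ℂ)
    (hy0 : y ≠ 0) {p q p' q' : Fin n}
    (hb : hk ρ p q (hk ρ p' q' (hk ρ p q y)) = hk ρ p' q' (hk ρ p q (hk ρ p' q' y)))
    (h1 : hk ρ p q y = (Fintype.card F : ℂ) • y) (h2 : hk ρ p' q' y = -y) : False := by
  have hL : hk ρ p q (hk ρ p' q' (hk ρ p q y)) =
      (Fintype.card F : ℂ) • -((Fintype.card F : ℂ) • y) := by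
    rw [h1, hk_smul, h2, hk_smul, hk_neg, h1]
  have hR : hk ρ p' q' (hk ρ p q (hk ρ p' q' y)) = -((Fintype.card F : ℂ) • -y) := by
    rw [h2, hk_neg, h1, hk_neg, hk_smul, h2]
  rw [hL, hR] at hb
  have hq' : (Fintype.card F : ℂ) ≠ 0 := Nat.cast_ne_zero.mpr Fintype.card_ne_zero
  have e : ((Fintype.card F : ℂ) * (Fintype.card F : ℂ) + (Fintype.card F : ℂ)) • y = 0 := by
    rw [add_smul, mul_smul]
    have h3 : (Fintype.card F : ℂ) • (Fintype.card F : ℂ) • y = -((Fintype.card F : ℂ) • y) := by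
      have h4 := hb
      simp only [smul_neg, neg_neg] at h4
      exact neg_eq_iff_eq_neg.mp h4
    rw [h3, neg_add_cancel]
  rcases smul_eq_zero.mp e with h | h
  · have h3 : (Fintype.card F : ℂ) * ((Fintype.card F : ℂ) + 1) = 0 := by
      rw [← h]; ring
    rcases mul_eq_zero.mp h3 with h4 | h4
    · exact hq' h4
    · exact (Nat.cast_add_one_ne_zero (Fintype.card F)) h4
  · exact hy0 h

end main

end Helper3

variable {n : ℕ} {F : Type*} [Field F] [Fintype F]

/-- **[H]** the braid relation: adjacent simple reflections cannot be of different type -/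
theorem braid_exclusion {d : ℕ}
    (ρ : Representation ℂ (SpecialLinearGroup (Fin n) F) (Fin d → ℂ))
    (y : Fin d → ℂ) (hy0 : y ≠ 0) (hB : ∀ b ∈ Bsl n F, ρ b y = y)
    (k : ℕ) (hk : k + 2 < n) :
    ¬ (ρ (ns k (Nat.lt_of_succ_lt hk)) y = y ∧
        ∑ a : F, ρ (xs (k + 1) hk a * ns (k + 1) hk) y = -y) ∧
    ¬ (ρ (ns (k + 1) hk) y = y ∧
        ∑ a : F, ρ (xs k (Nat.lt_of_succ_lt hk) a * ns k (Nat.lt_of_succ_lt hk)) y = -y) := by
  have hk' : k + 1 < n := Nat.lt_of_succ_lt hk
  set i : Fin n := fi k hk' with hi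
  set j : Fin n := fs k hk' with hj
  set l : Fin n := fs (k + 1) hk with hl
  have hij : i ≠ j := fi_ne_fs k hk'
  have hjl : j ≠ l := fi_ne_fs (k + 1) hk
  have hil : i ≠ l := by
    intro h
    have := congrArg Fin.val h
    simp [hi, hl] at this
    omega
  -- the two Hecke operators
  have hT1 : ∀ v, Helper3.hk ρ i j v = ∑ a : F, ρ (xs k hk' a * ns k hk') v := fun v => rfl
  have hT2 : ∀ v, Helper3.hk ρ j l v = ∑ a : F, ρ (xs (k + 1) hk a * ns (k + 1) hk) v :=
    fun v => rfl
  have hbraid := Helper3.hk_braid ρ hij hil hjl y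
  -- a reflection fixing `y` makes the operator act by `q`
  have hq1 : ρ (ns k hk') y = y → Helper3.hk ρ i j y = (Fintype.card F : ℂ) • y := by
    intro h
    rw [hT1]
    have : ∀ a : F, ρ (xs k hk' a * ns k hk') y = y := by
      intro a
      rw [map_mul, Module.End.mul_apply, h, hB _ (Helper3.xs_mem_Bsl' k hk' a)]
    rw [Finset.sum_congr rfl fun a _ => this a, Finset.sum_const, Finset.card_univ,
      Nat.cast_smul_eq_nsmul]
  have hq2 : ρ (ns (k + 1) hk) y = y → Helper3.hk ρ j l y = (Fintype.card F : ℂ) • y := by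
    intro h
    rw [hT2]
    have : ∀ a : F, ρ (xs (k + 1) hk a * ns (k + 1) hk) y = y := by
      intro a
      rw [map_mul, Module.End.mul_apply, h, hB _ (Helper3.xs_mem_Bsl' (k + 1) hk a)]
    rw [Finset.sum_congr rfl fun a _ => this a, Finset.sum_const, Finset.card_univ,
      Nat.cast_smul_eq_nsmul]
  constructor
  · rintro ⟨h1, h2⟩
    exact Helper3.braid_contra ρ hij hil hjl y hy0 hbraid (hq1 h1) ((hT2 y).trans h2)
  · rintro ⟨h1, h2⟩
    exact Helper3.braid_contra ρ hij hil hjl y hy0 hbraid.symm (hq2 h1) ((hT1 y).trans h2)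

end Cfsg.Agent.Lib.Helper24.SLB
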