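import Mathlib

/-!
# S2086 farm (architect helper25), piece [G1] `center_SL_equiv`

The centre of `SL_n(F)`, `F` a finite field, is cyclic of order `gcd(n, |F| - 1)`.  Mathlib only.
-/

set_option autoImplicit false

namespace Cfsg.Agent.Lib.Helper25.SLCC

open Matrix

/-- [G1] the centre of `SL_n(F)`, `F` finite, is cyclic of order `gcd(n, |F| - 1)` -/
theorem center_SL_equiv {F : Type*} [Field F] [Fintype F] (n : ℕ) (hn : 1 ≤ n) :
    Nonempty (Subgroup.center (SpecialLinearGroup (Fin n) F) ≃*
      Multiplicative (ZMod (Nat.gcd n (Fintype.card F - 1)))) := by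
  classical
  have e1 : Subgroup.center (SpecialLinearGroup (Fin n) F) ≃*
      rootsOfUnity (max (Fintype.card (Fin n)) 1) F :=
    Matrix.SpecialLinearGroup.center_equiv_rootsOfUnity
  have hmax : max (Fintype.card (Fin n)) 1 = n := by
    rw [Fintype.card_fin]
    exact max_eq_left hn
  rw [hmax] at e1
  have hcyc : IsCyclic (rootsOfUnity n F) := by
    rw [rootsOfUnity_eq_ker]
    infer_instance
  have hcard : Nat.card (rootsOfUnity n F) = Nat.gcd n (Fintype.card F - 1) := by
    rw [rootsOfUnity_eq_ker, IsCyclic.card_powMonoidHom_ker, Nat.card_eq_fintype_card,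
      Fintype.card_units, Nat.gcd_comm]
  have e2 : Multiplicative (ZMod (Nat.card (rootsOfUnity n F))) ≃* rootsOfUnity n F :=
    zmodCyclicMulEquiv hcyc
  rw [hcard] at e2
  exact ⟨e1.trans e2.symm⟩

end Cfsg.Agent.Lib.Helper25.SLCC
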