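import Cfsg.Agent.Lib.Helper3.L34Uniq

/-!
# S3154 piece [BR] (helper3): the bridge from a quasisimple `X` over `PSL₃(4)` with centre of exponent `2`
to helper7's `960`-point model of `4² · L₃(4)`

`X` is a quotient `ψ : C → X` of helper23's presented cover `C` (`L34Uniq.exists_hom_surjective`), and the
model representation `μ : C → Perm (Fin 960)` is injective (`C` has at most `16 · 20160` elements, the sixteen
words `k_a ^ i k_b ^ j` are distinct in the model, and `PSL₃(4)` is simple).  So every word identity of the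
model holds for the generators `γ i = ψ (c i)` of `X`, and a word that is central in `X` is one of the sixteen
central words in the model.
-/

set_option autoImplicit false

namespace Cfsg.Agent.Lib.Helper26.L34Loc

open Cfsg Cfsg.H5.TCk Cfsg.Agent.Lib.Helper7.L34

namespace Helper3BR

open Cfsg.Agent.Lib.Helper28.BSGS Cfsg.Agent.Lib.Helper3.L34Uniq Cfsg.Agent.Lib.Helper10.Weak

/-- the model satisfies `relsCov` -/
theorem mp_rel : ∀ r ∈ relsCov, ev Model.mp r = 1 := fun r hr =>
  Model.ev_eq_one r (List.all_eq_true.mp Model.relsCov_ok r hr)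

/-- the sixteen central words are distinct in the model -/
theorem mp_kw_inj (i j i' j' : Fin 4)
    (h : ev Model.mp (Model.kw i.val j.val) = ev Model.mp (Model.kw i'.val j'.val)) :
    i = i' ∧ j = j' := by
  apply Model.sig_inj
  unfold Model.sig
  have h0 := Model.ev_acts _ (Model.kw_all i j) (⟨0, by norm_num⟩ : Fin 960)
  have h0' := Model.ev_acts _ (Model.kw_all i' j') (⟨0, by norm_num⟩ : Fin 960)
  have h1 := Model.ev_acts _ (Model.kw_all i j) (⟨480, by norm_num⟩ : Fin 960)
  have h1' := Model.ev_acts _ (Model.kw_all i' j') (⟨480, by norm_num⟩ : Fin 960)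
  rw [h] at h0 h1
  simp only at h0 h0' h1 h1'
  rw [← h0, ← h1, h0', h1']

/-- the points used to tell the first generator from the central words -/
def pts : List ℕ := List.range 24

set_option maxRecDepth 100000 in
/-- the first generator is none of the sixteen central words: they differ at one of the first points -/
theorem ncheck : ∀ i j : Fin 4, pts.any (fun p =>
    evalW 10 (([0] : List ℕ).map Model.mtab) p != evalW 10 ((Model.kw i.val j.val).map Model.mtab) p) = true := by
  decide +kernel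

theorem pts_lt : ∀ p ∈ pts, p < 960 := by decide

theorem ncheck_absurd (i j : Fin 4) (h : ev Model.mp [0] = ev Model.mp (Model.kw i.val j.val)) : False := by
  have hc := ncheck i j
  rw [List.any_eq_true] at hc
  obtain ⟨p, hp, hne⟩ := hc
  have hlt := pts_lt p hp
  have h1 := Model.ev_acts [0] (by decide) (⟨p, hlt⟩ : Fin 960)
  have h2 := Model.ev_acts _ (Model.kw_all i j) (⟨p, hlt⟩ : Fin 960)
  rw [h] at h1
  simp only at h1 h2
  rw [h1] at h2
  rw [bne_iff_ne] at hne
  exact hne h2

end Helper3BR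

open Helper3BR Cfsg.Agent.Lib.Helper3.L34Uniq Cfsg.Agent.Lib.Helper10.Weak in
theorem bridge {X : Type*} [Group X] [Finite X] {F : Type*} [Field F] [Fintype F]
    (hF : Fintype.card F = 4) (hperf : commutator X = ⊤)
    (hsimple : IsSimpleGroup (X ⧸ Subgroup.center X))
    (hexp : ∀ x ∈ Subgroup.center X, x * x = 1)
    (e : X ⧸ Subgroup.center X ≃* Matrix.ProjectiveSpecialLinearGroup (Fin 3) F) :
    ∃ γ : ℕ → X,
      (∀ w : List ℕ, Model.fixAll w = true → ev γ w = 1) ∧
      ev γ wordKa ∈ Subgroup.center X ∧ ev γ wordKb ∈ Subgroup.center X ∧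
      (∀ w : List ℕ, w.all (fun l => decide (l < 8)) = true → ev γ w ∈ Subgroup.center X →
        ∃ i j : Fin 4, ev Model.mp w = ev Model.mp (Model.kw i.val j.val)) ∧
      Nat.card X = 20160 * Nat.card (Subgroup.center X) := by
  classical
  obtain ⟨hcardG, g, _, hgen, hrel, hka, hkb, _, _⟩ := exists_l34_data hF
  obtain ⟨σ, hσ, hker⟩ := exists_stem_of_perfect hperf e
  have hexp' : ∀ x ∈ σ.ker, x * x = 1 := fun x hx => hexp x (hker ▸ hx)
  obtain ⟨ψ, hψsurj, _, hψg⟩ := exists_hom_surjective g hgen hrel hka hkb σ hσ hexp'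
  haveI : Finite C := card_C.1
  obtain ⟨μ, hμ⟩ := Helper23.exists_hom.{0} Model.mp mp_rel
  -- the composite onto `G`
  let π : C →* Matrix.ProjectiveSpecialLinearGroup (Fin 3) F := σ.comp ψ
  have hπsurj : Function.Surjective π := hσ.1.comp hψsurj
  have hπev : ∀ w : List ℕ, w.all (fun l => decide (l < 2 * 4)) = true → π (ev c w) = ev g w := by
    intro w hw
    rw [Cfsg.H5.StemTC.map_ev]
    exact Helper17.ev_congr_lt _ g 4 (fun i hi => hψg i hi) w hw
  -- the sixteen kernel elements
  let z : Fin 4 × Fin 4 → C := fun p => ev c (Model.kw p.1.val p.2.val)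
  have hzπ : ∀ p, z p ∈ π.ker := by
    intro p
    rw [MonoidHom.mem_ker, hπev _ (Model.kw_all p.1 p.2), Model.ev_kw, hka, hkb, one_pow, one_pow,
      one_mul]
  have hzμ : ∀ p, μ (z p) = ev Model.mp (Model.kw p.1.val p.2.val) :=
    fun p => hμ _ (Model.kw_all p.1 p.2)
  have hzinj : Function.Injective (fun p : Fin 4 × Fin 4 => (⟨z p, hzπ p⟩ : π.ker)) := by
    intro p q hpq
    have h1 : z p = z q := congrArg Subtype.val hpq
    have h2 : ev Model.mp (Model.kw p.1.val p.2.val) = ev Model.mp (Model.kw q.1.val q.2.val) := by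
      rw [← hzμ, ← hzμ, h1]
    obtain ⟨ha, hb⟩ := mp_kw_inj _ _ _ _ h2
    exact Prod.ext ha hb
  have hkπ : Nat.card π.ker ≤ 16 := by
    have h1 := Helper1.card_eq_ker_mul π hπsurj
    have h2 := card_C.2
    rw [h1, hcardG] at h2
    omega
  have hbij : Function.Bijective (fun p : Fin 4 × Fin 4 => (⟨z p, hzπ p⟩ : π.ker)) := by
    apply hzinj.bijective_of_nat_card_le
    rw [Nat.card_prod, Nat.card_fin]
    exact hkπ
  have hz0 : z (0, 0) = 1 := rfl
  -- `μ` is injective on the kernel of `π`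
  have hdisj : ∀ x : C, x ∈ π.ker → μ x = 1 → x = 1 := by
    intro x hx hμx
    obtain ⟨p, hp⟩ := hbij.2 ⟨x, hx⟩
    have hxz : z p = x := congrArg Subtype.val hp
    have h3 : μ (z p) = μ (z (0, 0)) := by rw [hxz, hμx, hz0, map_one]
    rw [hzμ, hzμ] at h3
    obtain ⟨ha, hb⟩ := mp_kw_inj _ _ _ _ h3
    have hp0 : p = (0, 0) := Prod.ext ha hb
    rw [← hxz, hp0, hz0]
  -- `G` is simple
  haveI := hsimple
  haveI : Nontrivial (Matrix.ProjectiveSpecialLinearGroup (Fin 3) F) := e.symm.toEquiv.nontrivial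
  haveI : IsSimpleGroup (Matrix.ProjectiveSpecialLinearGroup (Fin 3) F) :=
    IsSimpleGroup.isSimpleGroup_of_surjective e.toMonoidHom e.surjective
  -- `μ` is injective
  have hμinj : ∀ x : C, μ x = 1 → x = 1 := by
    haveI hN : (μ.ker.map π).Normal := Subgroup.Normal.map inferInstance π hπsurj
    rcases Subgroup.Normal.eq_bot_or_eq_top hN with hb | ht
    · intro x hx
      apply hdisj x _ hx
      have h4 : π x ∈ μ.ker.map π := Subgroup.mem_map_of_mem π (MonoidHom.mem_ker.mpr hx)
      rw [hb, Subgroup.mem_bot] at h4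
      exact MonoidHom.mem_ker.mpr h4
    · exfalso
      have hx0 : π (ev c [0]) ∈ μ.ker.map π := by rw [ht]; trivial
      obtain ⟨k, hk, hkπ'⟩ := Subgroup.mem_map.mp hx0
      have hmem : k⁻¹ * ev c [0] ∈ π.ker := by
        rw [MonoidHom.mem_ker, map_mul, map_inv, hkπ', inv_mul_cancel]
      obtain ⟨p, hp⟩ := hbij.2 ⟨_, hmem⟩
      have hzp : z p = k⁻¹ * ev c [0] := congrArg Subtype.val hp
      have hμ0 : μ (z p) = μ (ev c [0]) := by
        rw [hzp, map_mul, map_inv, MonoidHom.mem_ker.mp hk, inv_one, one_mul]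
      rw [hzμ, hμ _ (by decide)] at hμ0
      exact ncheck_absurd p.1 p.2 hμ0.symm
  -- the generators of `X`
  have hγev : ∀ w : List ℕ, ev (fun i => ψ (c i)) w = ψ (ev c w) :=
    fun w => (Cfsg.H5.StemTC.map_ev ψ c w).symm
  have hcen : ∀ w : List ℕ, w.all (fun l => decide (l < 2 * 4)) = true →
      (ev (fun i => ψ (c i)) w ∈ Subgroup.center X ↔ ev c w ∈ π.ker) := by
    intro w _
    rw [hγev, ← hker, MonoidHom.mem_ker, MonoidHom.mem_ker]
    rfl
  refine ⟨fun i => ψ (c i), ?_, ?_, ?_, ?_, ?_⟩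
  · intro w hw
    have hall : w.all (fun l => decide (l < 8)) = true := by
      unfold Model.fixAll at hw
      rw [Bool.and_eq_true] at hw
      exact hw.1
    have h5 : μ (ev c w) = 1 := by rw [hμ w hall, Model.ev_eq_one w hw]
    rw [hγev, hμinj _ h5, map_one]
  · rw [hcen wordKa Helper23.wordKa_all, MonoidHom.mem_ker, hπev _ Helper23.wordKa_all, hka]
  · rw [hcen wordKb Helper23.wordKb_all, MonoidHom.mem_ker, hπev _ Helper23.wordKb_all, hkb]
  · intro w hall hw
    rw [hcen w hall] at hw
    obtain ⟨p, hp⟩ := hbij.2 ⟨_, hw⟩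
    have hzp : z p = ev c w := congrArg Subtype.val hp
    refine ⟨p.1, p.2, ?_⟩
    rw [← hμ w hall, ← hzp, hzμ]
  · have h6 := Helper1.card_eq_ker_mul σ hσ.1
    rw [hker, hcardG] at h6
    exact h6

end Cfsg.Agent.Lib.Helper26.L34Loc
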