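import Mathlib
import Cfsg.Agent.Lib.Helper24.J2M.A5Pres

/-!
# S3154-[P] (helper3): a group generated by `x, y` with `x⁵ = y³ = (xy)² = 1`, `y ≠ 1` is `A₅`

Reduction to helper24's `Cfsg.Agent.Lib.Helper24.J2M.a5_of_gens` via `a = x y`, `b = y⁻¹`.
-/

set_option autoImplicit false

namespace Cfsg.Agent.Lib.Helper26.L34Loc

namespace Helper3

/-- `A₅` from the `(5,3,2)` relations (no cardinality hypothesis needed) -/
theorem equiv_alt5_aux {D : Type*} [Group D] (x y : D) (hgen : Subgroup.closure {x, y} = ⊤)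
    (hx : x ^ 5 = 1) (hy : y ^ 3 = 1) (hxy : (x * y) ^ 2 = 1) (hy1 : y ≠ 1) :
    Nonempty (D ≃* alternatingGroup (Fin 5)) := by
  have h1 : (x * y) * (x * y) = 1 := by rw [← pow_two]; exact hxy
  have h2 : (y⁻¹) ^ 3 = 1 := by rw [inv_pow, hy, inv_one]
  have h3 : (y⁻¹ * (x * y)) ^ 5 = 1 := by
    have h : y⁻¹ * (x * y) = y⁻¹ * x * (y⁻¹)⁻¹ := by rw [inv_inv, mul_assoc]
    rw [h, conj_pow, hx, mul_one, inv_inv, inv_mul_cancel]
  have hne : x * y ≠ 1 := by
    intro h
    apply hy1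
    have hxe : x = y⁻¹ := eq_inv_of_mul_eq_one_left h
    have h5 : y ^ 5 = 1 := by
      have : (y⁻¹) ^ 5 = 1 := by rw [← hxe]; exact hx
      rw [inv_pow, inv_eq_one] at this
      exact this
    have h6 : y ^ 6 = 1 := by
      have : y ^ 6 = (y ^ 3) ^ 2 := by rw [← pow_mul]
      rw [this, hy, one_pow]
    have : y ^ 6 = y ^ 5 * y := pow_succ y 5
    rw [h6, h5, one_mul] at this
    exact this.symm
  have hgen' : Subgroup.closure {x * y, y⁻¹} = ⊤ := by
    rw [eq_top_iff, ← hgen, Subgroup.closure_le]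
    have hyR : y ∈ Subgroup.closure {x * y, y⁻¹} := by
      have : y⁻¹ ∈ Subgroup.closure {x * y, y⁻¹} := Subgroup.subset_closure (by simp)
      simpa using Subgroup.inv_mem _ this
    have hxR : x ∈ Subgroup.closure {x * y, y⁻¹} := by
      have h : x * y ∈ Subgroup.closure {x * y, y⁻¹} := Subgroup.subset_closure (by simp)
      have := Subgroup.mul_mem _ h (Subgroup.inv_mem _ hyR)
      simpa using this
    rintro z (rfl | rfl)
    · exact hxR
    · exact hyR
  exact Cfsg.Agent.Lib.Helper24.J2M.a5_of_gens (x * y) y⁻¹ h1 h2 h3 hne hgen'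

end Helper3

/-- a group generated by `x, y` with `x⁵ = y³ = (xy)² = 1` and `y ≠ 1`, of order at most `60`, is `A₅` -/
theorem equiv_alt5 {D : Type*} [Group D] [Finite D] (x y : D) (hgen : Subgroup.closure {x, y} = ⊤)
    (hx : x ^ 5 = 1) (hy : y ^ 3 = 1) (hxy : (x * y) ^ 2 = 1) (hy1 : y ≠ 1)
    (hcard : Nat.card D ≤ 60) :
    Nat.card D = 60 ∧ IsSimpleGroup D ∧ Nonempty (D ≃* alternatingGroup (Fin 5)) := by
  obtain ⟨e⟩ := Helper3.equiv_alt5_aux x y hgen hx hy hxy hy1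
  refine ⟨?_, ?_, ⟨e⟩⟩
  · rw [Nat.card_congr e.toEquiv, Cfsg.Agent.Lib.Helper24.J2M.card_a5]
  · haveI : IsSimpleGroup (alternatingGroup (Fin 5)) := alternatingGroup.isSimpleGroup_five
    haveI : Nontrivial D := e.toEquiv.nontrivial
    exact IsSimpleGroup.isSimpleGroup_of_surjective e.symm.toMonoidHom e.symm.surjective

end Cfsg.Agent.Lib.Helper26.L34Loc
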