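import Mathlib
import Cfsg.Agent.Lib.Helper24.J2M.A5Pres

/-!
# S3154-[TC235] (helper3): a group generated by `x, y` with `x⁵ = y³ = (xy)² = 1` has order at most `60`

Reduction to helper24's coset-enumeration certificate for `⟨a, b | a², b³, (ba)⁵⟩`
(`Cfsg.Agent.Lib.Helper24.J2M.finite_card_PG5`, `exists_hom_PG5`) via `a = x y`, `b = y⁻¹`.
-/

set_option autoImplicit false

namespace Cfsg.Agent.Lib.Helper26.L34Loc

namespace Helper3

/-- the substitution `a = x y`, `b = y⁻¹` turns the `(5,3,2)` relations into helper24's `(2,3,5)` relations -/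
theorem rel235 {Δ : Type*} [Group Δ] (x y : Δ) (hx : x ^ 5 = 1) (hy : y ^ 3 = 1)
    (hxy : (x * y) ^ 2 = 1) :
    (x * y) * (x * y) = 1 ∧ (y⁻¹) ^ 3 = 1 ∧ (y⁻¹ * (x * y)) ^ 5 = 1 := by
  refine ⟨?_, ?_, ?_⟩
  · rw [← pow_two]; exact hxy
  · rw [inv_pow, hy, inv_one]
  · have h : y⁻¹ * (x * y) = y⁻¹ * x * (y⁻¹)⁻¹ := by rw [inv_inv, mul_assoc]
    rw [h, conj_pow, hx, mul_one, inv_inv, inv_mul_cancel]

/-- the hom from helper24's presented group is surjective -/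
theorem exists_hom_surj {Δ : Type*} [Group Δ] (x y : Δ) (hgen : Subgroup.closure {x, y} = ⊤)
    (hx : x ^ 5 = 1) (hy : y ^ 3 = 1) (hxy : (x * y) ^ 2 = 1) :
    ∃ φ : Cfsg.Agent.Lib.Helper24.J2M.PG5 →* Δ, Function.Surjective φ ∧
      φ (PresentedGroup.of 0) = x * y ∧ φ (PresentedGroup.of 1) = y⁻¹ := by
  obtain ⟨h1, h2, h3⟩ := rel235 x y hx hy hxy
  obtain ⟨φ, hφ0, hφ1⟩ := Cfsg.Agent.Lib.Helper24.J2M.exists_hom_PG5 (x * y) y⁻¹ h1 h2 h3
  refine ⟨φ, ?_, hφ0, hφ1⟩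
  rw [← MonoidHom.range_eq_top, eq_top_iff, ← hgen, Subgroup.closure_le]
  have hyR : y ∈ φ.range := by
    have : y⁻¹ ∈ φ.range := ⟨_, hφ1⟩
    simpa using φ.range.inv_mem this
  have hxR : x ∈ φ.range := by
    have h : x * y ∈ φ.range := ⟨_, hφ0⟩
    have := φ.range.mul_mem h (φ.range.inv_mem hyR)
    simpa using this
  rintro z (rfl | rfl)
  · exact hxR
  · exact hyR

end Helper3

theorem card_le_of_235 {Δ : Type*} [Group Δ] (x y : Δ) (hgen : Subgroup.closure {x, y} = ⊤)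
    (hx : x ^ 5 = 1) (hy : y ^ 3 = 1) (hxy : (x * y) ^ 2 = 1) : Finite Δ ∧ Nat.card Δ ≤ 60 := by
  obtain ⟨φ, hφ, -, -⟩ := Helper3.exists_hom_surj x y hgen hx hy hxy
  obtain ⟨hfin, hcard⟩ := Cfsg.Agent.Lib.Helper24.J2M.finite_card_PG5
  haveI := hfin
  haveI : Finite Δ := Finite.of_surjective φ hφ
  exact ⟨inferInstance, le_trans (Nat.card_le_card_of_surjective φ hφ) hcard⟩

end Cfsg.Agent.Lib.Helper26.L34Loc
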