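import Mathlib
import Cfsg.Agent.Lib.Helper3.Steiner5824
import Cfsg.Agent.Lib.Helper28.Octads
import Cfsg.Agent.S0359

set_option autoImplicit false

namespace Cfsg.Agent.Lib.Helper3
namespace Steiner

open Finset

section general
variable {α : Type*} [Fintype α] [DecidableEq α] {t k : ℕ} {B : Set (Finset α)}

/-- Counting pairs `(I, c)` with `I ⊆ D ∩ c`, `|I| = i`, for an arbitrary set `D`. -/
theorem sum_choose_inter_set (D : Finset α) (i lam : ℕ)
    (hlam : ∀ I : Finset α, I.card = i → ((blocksF B).filter (I ⊆ ·)).card = lam) :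
    ∑ c ∈ blocksF B, ((D ∩ c).card).choose i = D.card.choose i * lam := by
  classical
  have hdc := Finset.sum_card_bipartiteAbove_eq_sum_card_bipartiteBelow (s := D.powersetCard i)
    (t := blocksF B) (fun (I : Finset α) (c : Finset α) => I ⊆ c)
  have hL : ∀ I ∈ D.powersetCard i,
      ((blocksF B).bipartiteAbove (fun (I : Finset α) (c : Finset α) => I ⊆ c) I).card = lam := by
    intro I hI
    rw [mem_powersetCard] at hI
    rw [← hlam I hI.2]
    rfl
  have hR : ∀ c ∈ blocksF B,
      ((D.powersetCard i).bipartiteBelow (fun (I : Finset α) (c : Finset α) => I ⊆ c) c).card =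
        ((D ∩ c).card).choose i := by
    intro c _
    rw [← card_powersetCard]
    congr 1
    ext I
    simp only [bipartiteBelow, mem_filter, mem_powersetCard, subset_inter_iff]
    tauto
  rw [Finset.sum_congr rfl hL, Finset.sum_congr rfl hR] at hdc
  rw [← hdc]
  simp only [sum_const, smul_eq_mul, card_powersetCard]

end general

open Cfsg Cfsg.Agent.Lib.Helper28

/-- a dodecad meets an octad in 2, 4 or 6 points -/
theorem dodecad_inter_octad {d o : Finset GolayPt} (hd : d ∈ dodecads) (ho : o ∈ octads) :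
    (d ∩ o).card = 2 ∨ (d ∩ o).card = 4 ∨ (d ∩ o).card = 6 := by
  obtain ⟨hd1, hd2⟩ := (mem_dodecads_iff d).1 hd
  obtain ⟨ho1, ho2⟩ := (mem_octads_iff o).1 ho
  have hsum : bind d + bind o ∈ golayCode := Submodule.add_mem _ hd1 ho1
  have h1 := hammingNorm_add (bind d) (bind o)
  rw [bsupp_bind, bsupp_bind, hammingNorm_bind, hammingNorm_bind, hd2, ho2] at h1
  have h2 := Cfsg.Agent.S0359.result _ hsum
  have h3 : (d ∩ o).card ≤ 8 := by
    rw [← ho2]; exact card_le_card inter_subset_right
  omega

lemma card_golayPt : Fintype.card GolayPt = 24 := by rfl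

lemma octads_lam0 (I : Finset GolayPt) (hI : I.card = 0) :
    ((blocksF octads).filter (I ⊆ ·)).card = 759 :=
  lam0_5824 card_golayPt octads_isSteinerSystem I hI

lemma octads_lam1 (I : Finset GolayPt) (hI : I.card = 1) :
    ((blocksF octads).filter (I ⊆ ·)).card = 253 :=
  lam1_5824 card_golayPt octads_isSteinerSystem I hI

lemma octads_lam2 (I : Finset GolayPt) (hI : I.card = 2) :
    ((blocksF octads).filter (I ⊆ ·)).card = 77 :=
  lam2_5824 card_golayPt octads_isSteinerSystem I hI

/-- For a fixed dodecad, 132 octads meet it in 6 points, 132 in 2 points and 495 in 4 points. -/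
theorem dodecad_octad_counts {d : Finset GolayPt} (hd : d ∈ dodecads) :
    ((blocksF octads).filter (fun o => (d ∩ o).card = 6)).card = 132 ∧
    ((blocksF octads).filter (fun o => (d ∩ o).card = 2)).card = 132 ∧
    ((blocksF octads).filter (fun o => (d ∩ o).card = 4)).card = 495 := by
  have hd12 : d.card = 12 := ((mem_dodecads_iff d).1 hd).2
  have s0 := sum_choose_inter_set (B := octads) d 0 759 octads_lam0
  have s1 := sum_choose_inter_set (B := octads) d 1 253 octads_lam1
  have s2 := sum_choose_inter_set (B := octads) d 2 77 octads_lam2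
  rw [hd12] at s0 s1 s2
  norm_num [Nat.choose] at s0 s1 s2
  have hj : ∀ o ∈ blocksF octads,
      (d ∩ o).card = 2 ∨ (d ∩ o).card = 4 ∨ (d ∩ o).card = 6 :=
    fun o ho => dodecad_inter_octad hd (mem_blocksF.1 ho)
  have k6 : ∀ o ∈ blocksF octads,
      8 * (if (d ∩ o).card = 6 then 1 else 0) + 5 * ((d ∩ o).card).choose 1 =
        8 * ((d ∩ o).card).choose 0 + 2 * ((d ∩ o).card).choose 2 := by
    intro o ho
    rcases hj o ho with h | h | h <;> rw [h] <;> simp [Nat.choose]
  have k2 : ∀ o ∈ blocksF octads,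
      8 * (if (d ∩ o).card = 2 then 1 else 0) + 9 * ((d ∩ o).card).choose 1 =
        24 * ((d ∩ o).card).choose 0 + 2 * ((d ∩ o).card).choose 2 := by
    intro o ho
    rcases hj o ho with h | h | h <;> rw [h] <;> simp [Nat.choose]
  have k4 : ∀ o ∈ blocksF octads,
      8 * (if (d ∩ o).card = 4 then 1 else 0) + 24 * ((d ∩ o).card).choose 0 +
          4 * ((d ∩ o).card).choose 2 = 14 * ((d ∩ o).card).choose 1 := by
    intro o ho
    rcases hj o ho with h | h | h <;> rw [h] <;> simp [Nat.choose]
  have e6 := Finset.sum_congr rfl k6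
  have e2 := Finset.sum_congr rfl k2
  have e4 := Finset.sum_congr rfl k4
  simp only [Finset.sum_add_distrib, ← Finset.mul_sum, ← Finset.card_filter] at e6 e2 e4
  simp only [Nat.choose_zero_right, Nat.choose_one_right, sum_const, smul_eq_mul, mul_one]
    at s0 s1 e6 e2 e4
  refine ⟨?_, ?_, ?_⟩ <;> omega

end Steiner
end Cfsg.Agent.Lib.Helper3
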