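import Mathlib

/-!
# The orbital graph of a rank 3 group with subdegrees 1, 22, 77: relation level
(helper3, piece (A) of helper28's S1666 farm-out)
-/

set_option autoImplicit false
set_option linter.unusedSectionVars false

namespace Cfsg.Agent.Lib.Helper3.Rank3Srg

open MulAction

variable {Ω : Type*} [Fintype Ω] [DecidableEq Ω] (G : Subgroup (Equiv.Perm Ω))

omit [Fintype Ω] [DecidableEq Ω] in
theorem perm_inv_apply_self (h : Equiv.Perm Ω) (x : Ω) : h⁻¹ (h x) = x := h.symm_apply_apply x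

omit [Fintype Ω] [DecidableEq Ω] in
theorem perm_apply_inv_self (h : Equiv.Perm Ω) (x : Ω) : h (h⁻¹ x) = x := h.apply_symm_apply x

/-- the orbital relation of the pair `(a, b)` -/
def Rel (a b : Ω) (x y : Ω) : Prop := ∃ g ∈ G, g a = x ∧ g b = y

theorem rel_smul {a b : Ω} {h : Equiv.Perm Ω} (hh : h ∈ G) (x y : Ω) :
    Rel G a b (h x) (h y) ↔ Rel G a b x y := by
  constructor
  · rintro ⟨g, hg, h1, h2⟩
    refine ⟨h⁻¹ * g, G.mul_mem (G.inv_mem hh) hg, ?_, ?_⟩
    · rw [Equiv.Perm.mul_apply, h1, perm_inv_apply_self]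
    · rw [Equiv.Perm.mul_apply, h2, perm_inv_apply_self]
  · rintro ⟨g, hg, rfl, rfl⟩
    exact ⟨h * g, G.mul_mem hh hg, rfl, rfl⟩

theorem rel_smul_left {a b : Ω} {h : Equiv.Perm Ω} (hh : h ∈ G) (x y : Ω) :
    Rel G a b (h x) y ↔ Rel G a b x (h⁻¹ y) := by
  rw [← rel_smul G hh x (h⁻¹ y), perm_apply_inv_self]

theorem rel_smul_right {a b : Ω} {h : Equiv.Perm Ω} (hh : h ∈ G) (x y : Ω) :
    Rel G a b x (h y) ↔ Rel G a b (h⁻¹ x) y := by
  rw [← rel_smul G hh (h⁻¹ x) y, perm_apply_inv_self]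

theorem mem_orbit_stabilizer_iff {a b y : Ω} :
    y ∈ orbit (stabilizer G a) b ↔ ∃ g ∈ G, g a = a ∧ g b = y := by
  constructor
  · rintro ⟨h, hh⟩
    refine ⟨((h : G) : Equiv.Perm Ω), (h : G).2, ?_, hh⟩
    have := h.2
    rw [mem_stabilizer_iff] at this
    exact this
  · rintro ⟨g, hg, h1, h2⟩
    exact ⟨⟨⟨g, hg⟩, by rw [mem_stabilizer_iff]; exact h1⟩, h2⟩

theorem exists_mem_apply_eq [IsPretransitive G Ω] (x y : Ω) : ∃ g ∈ G, g x = y := by
  obtain ⟨g, hg⟩ := exists_smul_eq G x y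
  exact ⟨(g : Equiv.Perm Ω), g.2, hg⟩

/-- out-neighbours -/
def out (a b x : Ω) : Set Ω := {y | Rel G a b x y}

/-- in-neighbours -/
def inn (a b x : Ω) : Set Ω := {y | Rel G a b y x}

theorem out_smul {a b : Ω} {h : Equiv.Perm Ω} (hh : h ∈ G) (x : Ω) :
    out G a b (h x) = h '' out G a b x := by
  ext y
  simp only [out, Set.mem_ofPred_eq, Set.mem_image]
  rw [rel_smul_left G hh]
  constructor
  · intro hy
    exact ⟨h⁻¹ y, hy, perm_apply_inv_self h y⟩
  · rintro ⟨z, hz, rfl⟩
    rwa [perm_inv_apply_self]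

theorem inn_smul {a b : Ω} {h : Equiv.Perm Ω} (hh : h ∈ G) (x : Ω) :
    inn G a b (h x) = h '' inn G a b x := by
  ext y
  simp only [inn, Set.mem_ofPred_eq, Set.mem_image]
  rw [rel_smul_right G hh]
  constructor
  · intro hy
    exact ⟨h⁻¹ y, hy, perm_apply_inv_self h y⟩
  · rintro ⟨z, hz, rfl⟩
    rwa [perm_inv_apply_self]

theorem out_self (a b : Ω) : out G a b a = orbit (stabilizer G a) b := by
  ext y
  rw [mem_orbit_stabilizer_iff]
  rfl

theorem ncard_out [IsPretransitive G Ω] (a b x : Ω) :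
    (out G a b x).ncard = (orbit (stabilizer G a) b).ncard := by
  obtain ⟨g, hg, rfl⟩ := exists_mem_apply_eq G a x
  rw [out_smul G hg, Set.ncard_image_of_injective _ g.injective, out_self]

theorem ncard_inn [IsPretransitive G Ω] (a b x : Ω) :
    (inn G a b x).ncard = (inn G a b a).ncard := by
  obtain ⟨g, hg, rfl⟩ := exists_mem_apply_eq G a x
  rw [inn_smul G hg, Set.ncard_image_of_injective _ g.injective]

/-- double counting: in-degree equals out-degree -/
theorem ncard_inn_eq [IsPretransitive G Ω] [Nonempty Ω] (a b : Ω) :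
    (inn G a b a).ncard = (orbit (stabilizer G a) b).ncard := by
  classical
  have h := Finset.sum_card_bipartiteAbove_eq_sum_card_bipartiteBelow (s := (Finset.univ : Finset Ω))
    (t := (Finset.univ : Finset Ω)) (Rel G a b)
  have h1 : ∀ x : Ω, ((Finset.univ : Finset Ω).bipartiteAbove (Rel G a b) x).card =
      (orbit (stabilizer G a) b).ncard := by
    intro x
    rw [← ncard_out G a b x, ← Set.ncard_coe_finset]
    congr 1
    ext y
    simp [Finset.bipartiteAbove, out]
  have h2 : ∀ y : Ω, ((Finset.univ : Finset Ω).bipartiteBelow (Rel G a b) y).card =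
      (inn G a b a).ncard := by
    intro y
    rw [← ncard_inn G a b y, ← Set.ncard_coe_finset]
    congr 1
    ext x
    simp [Finset.bipartiteBelow, inn]
  simp only [h1, h2, Finset.sum_const, Finset.card_univ, smul_eq_mul] at h
  have hpos : 0 < Fintype.card Ω := Fintype.card_pos
  exact (Nat.eq_of_mul_eq_mul_left hpos h).symm

end Cfsg.Agent.Lib.Helper3.Rank3Srg
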