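import Mathlib
import Cfsg.Agent.Lib.Helper3.Rank3SrgA

/-!
# The orbital graph of a rank 3 group with subdegrees 1, 22, 77 is strongly regular
(helper3, piece (A) of helper28's S1666 farm-out)
-/

set_option autoImplicit false
set_option linter.unusedSectionVars false

namespace Cfsg.Agent.Lib.Helper3.Rank3Srg

open MulAction

variable {Ω : Type*} [Fintype Ω] [DecidableEq Ω] (G : Subgroup (Equiv.Perm Ω))

/-- the data of the theorem -/
structure Hyp (a b c : Ω) : Prop where
  card : Fintype.card Ω = 100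
  hb : (orbit (stabilizer G a) b).ncard = 22
  hc : (orbit (stabilizer G a) c).ncard = 77

variable {G}

theorem Hyp.ne_of_ncard {a b c : Ω} (_h : Hyp G a b c) {d : Ω}
    (hd : (orbit (stabilizer G a) d).ncard ≠ 1) : a ∉ orbit (stabilizer G a) d := by
  intro ha
  rw [mem_orbit_stabilizer_iff] at ha
  obtain ⟨g, hg, h1, h2⟩ := ha
  have hda : d = a := g.injective (h2.trans h1.symm)
  apply hd
  have : orbit (stabilizer G a) d = {a} := by
    ext y
    rw [mem_orbit_stabilizer_iff, Set.mem_singleton_iff, hda]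
    constructor
    · rintro ⟨k, _, h3, h4⟩
      exact h4.symm.trans h3
    · rintro rfl
      exact ⟨1, G.one_mem, rfl, rfl⟩
  rw [this, Set.ncard_singleton]

theorem Hyp.a_not_mem_D {a b c : Ω} (h : Hyp G a b c) : a ∉ orbit (stabilizer G a) b :=
  h.ne_of_ncard (by rw [h.hb]; norm_num)

theorem Hyp.a_not_mem_P {a b c : Ω} (h : Hyp G a b c) : a ∉ orbit (stabilizer G a) c :=
  h.ne_of_ncard (by rw [h.hc]; norm_num)

theorem Hyp.disjoint {a b c : Ω} (h : Hyp G a b c) :
    Disjoint (orbit (stabilizer G a) b) (orbit (stabilizer G a) c) := by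
  rw [Set.disjoint_left]
  intro y hy1 hy2
  have e1 := orbit_eq_iff.mpr hy1
  have e2 := orbit_eq_iff.mpr hy2
  have := h.hb
  rw [← e1, e2, h.hc] at this
  omega

/-- the three suborbits cover `Ω` -/
theorem Hyp.cover {a b c : Ω} (h : Hyp G a b c) (y : Ω) :
    y = a ∨ y ∈ orbit (stabilizer G a) b ∨ y ∈ orbit (stabilizer G a) c := by
  have hcard : (({a} : Set Ω) ∪ (orbit (stabilizer G a) b ∪ orbit (stabilizer G a) c)).ncard =
      Nat.card Ω := by
    rw [Set.ncard_union_eq, Set.ncard_union_eq h.disjoint, Set.ncard_singleton, h.hb, h.hc,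
      Nat.card_eq_fintype_card, h.card]
    rw [Set.disjoint_singleton_left]
    rintro (h1 | h1)
    · exact h.a_not_mem_D h1
    · exact h.a_not_mem_P h1
  have huniv := (Set.eq_univ_iff_ncard _).mpr hcard
  have hy : y ∈ (({a} : Set Ω) ∪ (orbit (stabilizer G a) b ∪ orbit (stabilizer G a) c)) := by
    rw [huniv]; trivial
  rcases hy with hy | hy | hy
  · exact Or.inl hy
  · exact Or.inr (Or.inl hy)
  · exact Or.inr (Or.inr hy)

theorem Hyp.not_rel_self {a b c : Ω} (h : Hyp G a b c) (x : Ω) : ¬ Rel G a b x x := by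
  rintro ⟨g, hg, h1, h2⟩
  have hba : b = a := g.injective (h2.trans h1.symm)
  apply h.a_not_mem_D
  rw [mem_orbit_stabilizer_iff]
  exact ⟨1, G.one_mem, rfl, by rw [hba]; rfl⟩

/-- the in-neighbours of `a` are its out-neighbours -/
theorem Hyp.inn_eq [IsPretransitive G Ω] {a b c : Ω} (h : Hyp G a b c) :
    inn G a b a = orbit (stabilizer G a) b := by
  haveI : Nonempty Ω := ⟨a⟩
  have hcard := ncard_inn_eq G a b
  apply Set.eq_of_subset_of_ncard_le _ (by rw [hcard])
  intro y hy
  rcases h.cover y with rfl | h1 | h1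
  · exact absurd hy (h.not_rel_self y)
  · exact h1
  · exfalso
    -- then the whole orbit `P` lies in `inn a`
    have hsub : orbit (stabilizer G a) c ⊆ inn G a b a := by
      intro z hz
      have e1 := orbit_eq_iff.mpr h1
      rw [← e1, mem_orbit_stabilizer_iff] at hz
      obtain ⟨k, hk, h3, h4⟩ := hz
      have hy' : Rel G a b y a := hy
      have := (rel_smul G hk y a).mpr hy'
      rw [h3, h4] at this
      exact this
    have := Set.ncard_le_ncard hsub (Set.toFinite _)
    rw [hcard, h.hb, h.hc] at this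
    omega

theorem Hyp.rel_symm [IsPretransitive G Ω] {a b c : Ω} (h : Hyp G a b c) (x y : Ω)
    (hxy : Rel G a b x y) : Rel G a b y x := by
  obtain ⟨g, hg, rfl⟩ := exists_mem_apply_eq G a x
  rw [rel_smul_left G hg] at hxy
  have h1 : g⁻¹ y ∈ out G a b a := hxy
  rw [out_self, ← h.inn_eq] at h1
  have h2 : Rel G a b (g⁻¹ y) a := h1
  rw [rel_smul_right G hg, ]
  exact h2

/-- the orbital graph -/
def graph [IsPretransitive G Ω] {a b c : Ω} (h : Hyp G a b c) : SimpleGraph Ω where
  Adj := Rel G a b
  symm := ⟨fun x y hxy => h.rel_symm x y hxy⟩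
  loopless := ⟨fun x => h.not_rel_self x⟩

theorem graph_adj [IsPretransitive G Ω] {a b c : Ω} (h : Hyp G a b c) (x y : Ω) :
    (graph h).Adj x y ↔ Rel G a b x y := Iff.rfl

theorem neighborSet_graph [IsPretransitive G Ω] {a b c : Ω} (h : Hyp G a b c) (x : Ω) :
    (graph h).neighborSet x = out G a b x := rfl

theorem commonNeighbors_smul [IsPretransitive G Ω] {a b c : Ω} (h : Hyp G a b c)
    {g : Equiv.Perm Ω} (hg : g ∈ G) (x y : Ω) :
    (graph h).commonNeighbors (g x) (g y) = g '' (graph h).commonNeighbors x y := by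
  unfold SimpleGraph.commonNeighbors
  rw [neighborSet_graph, neighborSet_graph, neighborSet_graph, neighborSet_graph,
    out_smul G hg, out_smul G hg, Set.image_inter g.injective]

theorem ncard_commonNeighbors_smul [IsPretransitive G Ω] {a b c : Ω} (h : Hyp G a b c)
    {g : Equiv.Perm Ω} (hg : g ∈ G) (x y : Ω) :
    ((graph h).commonNeighbors (g x) (g y)).ncard = ((graph h).commonNeighbors x y).ncard := by
  rw [commonNeighbors_smul h hg, Set.ncard_image_of_injective _ g.injective]

/-- **(A)** the orbital graph of a rank 3 group with subdegrees 1, 22, 77 -/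
theorem rank3_srg {Ω : Type*} [Fintype Ω] [DecidableEq Ω] (hΩ : Fintype.card Ω = 100)
    (G : Subgroup (Equiv.Perm Ω)) [MulAction.IsPretransitive G Ω] (a b c : Ω)
    (hb : (MulAction.orbit (MulAction.stabilizer G a) b).ncard = 22)
    (hc : (MulAction.orbit (MulAction.stabilizer G a) c).ncard = 77) :
    ∃ (Γ : SimpleGraph Ω) (_ : DecidableRel Γ.Adj) (l m : ℕ), Γ.IsSRGWith 100 22 l m ∧
      ∀ g ∈ G, ∀ x y, Γ.Adj (g x) (g y) ↔ Γ.Adj x y := by
  classical
  have h : Hyp G a b c := ⟨hΩ, hb, hc⟩
  refine ⟨graph h, Classical.decRel _, ((graph h).commonNeighbors a b).ncard,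
    ((graph h).commonNeighbors a c).ncard, ?_, ?_⟩
  · refine ⟨hΩ, ?_, ?_, ?_⟩
    · intro v
      rw [← SimpleGraph.card_neighborSet_eq_degree, ← Nat.card_eq_fintype_card,
        Nat.card_coe_set_eq, neighborSet_graph, ncard_out, hb]
    · intro v w hvw
      rw [← Nat.card_eq_fintype_card, Nat.card_coe_set_eq]
      obtain ⟨g, hg, rfl, rfl⟩ := hvw
      exact ncard_commonNeighbors_smul h hg a b
    · intro v w hne hvw
      rw [← Nat.card_eq_fintype_card, Nat.card_coe_set_eq]
      obtain ⟨g, hg, rfl⟩ := exists_mem_apply_eq G a v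
      have hw : w = g (g⁻¹ w) := (perm_apply_inv_self g w).symm
      have hnr : ¬ Rel G a b a (g⁻¹ w) := by
        intro hr
        apply hvw
        rw [graph_adj, rel_smul_left G hg]
        exact hr
      rcases h.cover (g⁻¹ w) with h1 | h1 | h1
      · exfalso
        apply hne
        rw [hw, h1]
      · exfalso
        apply hnr
        have : g⁻¹ w ∈ out G a b a := by rw [out_self]; exact h1
        exact this
      · rw [mem_orbit_stabilizer_iff] at h1
        obtain ⟨k, hk, h3, h4⟩ := h1
        have e1 : g a = (g * k) a := by rw [Equiv.Perm.mul_apply, h3]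
        have e2 : w = (g * k) c := by rw [Equiv.Perm.mul_apply, h4, perm_apply_inv_self]
        rw [e1, e2]
        exact ncard_commonNeighbors_smul h (G.mul_mem hg hk) a c
  · intro g hg x y
    rw [graph_adj, graph_adj]
    exact rel_smul G hg x y

end Cfsg.Agent.Lib.Helper3.Rank3Srg
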