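import Mathlib
import Cfsg.Prelude.Def_GeometricClasses
import Cfsg.Agent.Lib.Helper7.AschDefs
import Cfsg.Agent.Lib.Helper16.S5630I6A
import Cfsg.Agent.Lib.Helper3.AschC6B

/-!
# S5630, block I6 `c6_case` (exact signature of `Lib/Helper7/AschTop.c6_case`): HALF A (helper16) + HALF B (helper3)
-/

set_option autoImplicit false

namespace Cfsg.Agent.Lib.Helper3.AschC6

open Matrix Cfsg.Geo Cfsg.Agent.Lib.Helper7.Asch
open scoped commutatorElement

variable {F : Type*} [Field F] {n : ℕ}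

/-- **I6** the symplectic-type case: class 6, or 5, or 8 -/
theorem c6_case [Fintype F] (hn : 3 ≤ n) (H N : Subgroup (GL (Fin n) F)) (r : ℕ) (hH : AbsIrr H) (hQP : QP H)
    (hsub : ∀ F₀ : Subfield F, F₀ ≠ ⊤ → ¬ RealModScal F₀ H)
    (hNH : N ≤ H) (hnorm : NormBy H N) (hNs : ¬ N ≤ scalars (Fin n) F)
    (hmin : ∀ K : Subgroup (GL (Fin n) F), K ≤ N → NormBy H K → K ≤ scalars (Fin n) F ∨ K = N) (hr : r.Prime)
    (hpow : ∀ x ∈ N, x ^ r ∈ scalars (Fin n) F) (hcomm : ∀ x ∈ N, ∀ y ∈ N, ⁅x, y⁆ ∈ scalars (Fin n) F) :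
    InClass H := by
  obtain ⟨R, hR⟩ := Cfsg.Agent.Lib.Helper16.S5630I6A.halfA hn H N r hQP hNH hnorm hNs hmin hr hpow hcomm
  exact exits hn hsub hR

end Cfsg.Agent.Lib.Helper3.AschC6
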