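import Mathlib
import Cfsg.Prelude.Def_LieExceptional
import Cfsg.Agent.Lib.Helper3.BNPair5
import Cfsg.Agent.Lib.Helper16.FHDefs

/-!
# The Weyl group of a (B,N)-pair of rank 2 is dihedral (S1142, piece G-1)

Stated on `BN.len`, `BN.Rel` and the alternating words `alt s t k` of `Helper16.FHDefs`.
-/

set_option autoImplicit false

namespace Cfsg.Agent.Lib.Helper3
namespace BN

open Cfsg.Agent.Lib.Helper16.FH

/-- right-multiplication form of the alternating word -/
lemma alt_succ_right {E : Type*} [Monoid E] (a b : E) (k : ℕ) :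
    alt a b (k + 1) = alt a b k * (if Even k then a else b) := by
  induction k generalizing a b with
  | zero => simp [alt_succ]
  | succ k ih =>
    rw [alt_succ a b (k + 1), ih b a, ← mul_assoc, ← alt_succ]
    congr 1
    by_cases h : Even k
    · simp [Nat.even_add_one, h]
    · simp [Nat.even_add_one, h]

variable {G : Type*} [Group G] (P : Cfsg.BNPair G)

lemma alt_mem_N {s t : G} (hs : s ∈ P.S) (ht : t ∈ P.S) (k : ℕ) : alt s t k ∈ P.N := by
  induction k generalizing s t with
  | zero => simp [P.N.one_mem]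
  | succ k ih => rw [alt_succ]; exact P.N.mul_mem (S_mem_N P hs) (ih ht hs)

lemma len_alt_le {s t : G} (hs : s ∈ P.S) (ht : t ∈ P.S) (k : ℕ) : len P (alt s t k) ≤ k := by
  induction k generalizing s t with
  | zero => simp [len_one]
  | succ k ih =>
    rw [alt_succ]
    have h1 := len_smul_le P hs (alt_mem_N P ht hs k)
    have h2 := ih ht hs
    omega

/-- the braid relation from the first descent -/
lemma rel_alt_of_descent {s t : G} (hs : s ∈ P.S) (ht : t ∈ P.S) (m : ℕ)
    (h1 : len P (alt s t (m + 1)) = m + 1) (h2 : len P (alt t s m) = m)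
    (h3 : len P (alt t s (m + 1)) = m + 1) (h4 : len P (alt s t (m + 2)) ≤ m + 1) :
    Rel P (alt s t (m + 1)) (alt t s (m + 1)) := by
  have hx : (if Even m then t else s) ∈ P.S := by split_ifs <;> assumption
  have hbN := alt_mem_N P ht hs m
  have h4' : len P (alt s t (m + 1 + 1)) ≤ m + 1 := h4
  have key := rel_of_descent P hbN hs hx (by rw [← alt_succ, h1, h2]; omega) (by
    rw [← alt_succ_right, ← alt_succ, h3]
    have hne := len_smul_ne P (alt_mem_N P ht hs (m + 1)) hs
    rw [← alt_succ, h3] at hne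
    omega)
  rwa [← alt_succ, ← alt_succ_right] at key

/-- one step of the covering argument -/
lemma alt_step {s t : G} (hs : s ∈ P.S) (ht : t ∈ P.S) {n : ℕ} (hn : 1 ≤ n)
    (hrel : Rel P (alt s t n) (alt t s n)) {g : G}
    (h : ∃ j ≤ n, Rel P g (alt s t j) ∨ Rel P g (alt t s j)) :
    ∃ j ≤ n, Rel P (s * g) (alt s t j) ∨ Rel P (s * g) (alt t s j) := by
  obtain ⟨j, hj, h | h⟩ := h
  · rcases j with _ | j
    · refine ⟨1, hn, Or.inl ?_⟩
      simpa using h.mul_left s
    · refine ⟨j, by omega, Or.inr ?_⟩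
      have h' := h.mul_left s
      rw [alt_succ s t j] at h'
      exact h'.trans (rel_sq_mul P hs (alt_mem_N P ht hs j))
  · rcases Nat.lt_or_ge j n with hjn | hjn
    · refine ⟨j + 1, hjn, Or.inl ?_⟩
      rw [alt_succ]; exact h.mul_left s
    · have hjn' : j = n := le_antisymm hj hjn
      subst hjn'
      obtain ⟨m, rfl⟩ : ∃ m, j = m + 1 := ⟨j - 1, by omega⟩
      refine ⟨m, by omega, Or.inr ?_⟩
      have h' := (h.trans hrel.symm).mul_left s
      rw [alt_succ s t m] at h'
      exact h'.trans (rel_sq_mul P hs (alt_mem_N P ht hs m))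

lemma alt_cover {s t : G} (hs : s ∈ P.S) (ht : t ∈ P.S) (hS : P.S = {s, t}) {n : ℕ} (hn : 1 ≤ n)
    (hrel : Rel P (alt s t n) (alt t s n)) :
    ∀ l : List G, (∀ x ∈ l, x ∈ P.S) →
      ∃ j ≤ n, Rel P l.prod (alt s t j) ∨ Rel P l.prod (alt t s j) := by
  intro l
  induction l with
  | nil => intro _; exact ⟨0, by omega, Or.inl (by simpa using Rel.refl P 1)⟩
  | cons x l ih =>
    intro hl
    have hl' : ∀ y ∈ l, y ∈ P.S := fun y hy => hl y (by simp [hy])
    have hx : x ∈ P.S := hl x (by simp)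
    rw [hS] at hx
    simp only [Set.mem_insert_iff, Set.mem_singleton_iff] at hx
    rw [List.prod_cons]
    rcases hx with hx | hx
    · rw [hx]; exact alt_step P hs ht hn hrel (ih hl')
    · rw [hx]
      have := alt_step P ht hs hn hrel.symm (g := l.prod) (by
        obtain ⟨j, hj, h⟩ := ih hl'; exact ⟨j, hj, h.symm⟩)
      obtain ⟨j, hj, h⟩ := this; exact ⟨j, hj, h.symm⟩

lemma alt_index {s t : G} (hs : s ∈ P.S) (ht : t ∈ P.S) {n : ℕ} (hn : 1 ≤ n)
    (hlen : ∀ k ≤ n, len P (alt s t k) = k ∧ len P (alt t s k) = k)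
    (hrel : Rel P (alt s t n) (alt t s n))
    (hdisj : ∀ k l, k ≤ n → l ≤ n → Rel P (alt s t k) (alt t s l) → k = l ∧ (k = 0 ∨ k = n))
    (hcov : ∀ g ∈ P.N, ∃ k ≤ n, Rel P g (alt s t k) ∨ Rel P g (alt t s k)) :
    ((P.B ⊓ P.N).subgroupOf P.N).index = 2 * n := by
  classical
  set T := (P.B ⊓ P.N).subgroupOf P.N with hT
  have hmk : ∀ (x y : P.N), (QuotientGroup.mk x : P.N ⧸ T) = QuotientGroup.mk y ↔
      Rel P (x : G) (y : G) := by
    intro x y
    rw [QuotientGroup.eq, hT, Subgroup.mem_subgroupOf]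
    simp only [Subgroup.mem_inf, Rel, Subgroup.coe_mul, Subgroup.coe_inv]
    constructor
    · exact fun h => h.1
    · exact fun h => ⟨h, P.N.mul_mem (P.N.inv_mem x.2) y.2⟩
  let f : Fin n ⊕ Fin n → P.N ⧸ T := fun i => match i with
    | Sum.inl k => QuotientGroup.mk ⟨alt s t k, alt_mem_N P hs ht k⟩
    | Sum.inr k => QuotientGroup.mk ⟨alt t s (k + 1), alt_mem_N P ht hs (k + 1)⟩
  have hf : Function.Bijective f := by
    constructor
    · rintro (⟨k, hk⟩ | ⟨k, hk⟩) (⟨l, hl⟩ | ⟨l, hl⟩) h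
      · have h' := len_congr P ((hmk _ _).1 h)
        simp only at h'
        rw [(hlen k (by omega)).1, (hlen l (by omega)).1] at h'
        subst h'; rfl
      · exfalso
        have := hdisj k (l + 1) (by omega) (by omega) ((hmk _ _).1 h)
        omega
      · exfalso
        have := hdisj l (k + 1) (by omega) (by omega) ((hmk _ _).1 h).symm
        omega
      · have h' := len_congr P ((hmk _ _).1 h)
        simp only at h'
        rw [(hlen (k + 1) (by omega)).2, (hlen (l + 1) (by omega)).2] at h'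
        have : k = l := by omega
        subst this; rfl
    · intro q
      induction q using QuotientGroup.induction_on with
      | H g =>
        obtain ⟨k, hk, h | h⟩ := hcov g g.2
        · rcases Nat.lt_or_ge k n with hkn | hkn
          · exact ⟨Sum.inl ⟨k, hkn⟩, ((hmk _ _).2 h).symm⟩
          · have : k = n := le_antisymm hk hkn
            subst this
            obtain ⟨m, rfl⟩ : ∃ m, k = m + 1 := ⟨k - 1, by omega⟩
            exact ⟨Sum.inr ⟨m, by omega⟩, ((hmk _ _).2 (h.trans hrel)).symm⟩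
        · rcases k with _ | k
          · exact ⟨Sum.inl ⟨0, by omega⟩, ((hmk _ _).2 (by simpa using h)).symm⟩
          · exact ⟨Sum.inr ⟨k, by omega⟩, ((hmk _ _).2 h).symm⟩
  rw [Subgroup.index, ← Nat.card_congr (Equiv.ofBijective f hf)]
  simp [two_mul]

/-- **G-1** the Weyl group of a (B,N)-pair of rank 2 is dihedral of order `2n`. -/
theorem rank_two_structure {G : Type*} [Group G] [Finite G] (P : Cfsg.BNPair G) (h2 : P.rank = 2) :
    ∃ (s t : G) (n : ℕ), s ∈ P.S ∧ t ∈ P.S ∧ s ≠ t ∧ P.S = {s, t} ∧ 2 ≤ n ∧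
      (∀ k ≤ n, BN.len P (alt s t k) = k ∧ BN.len P (alt t s k) = k) ∧
      BN.Rel P (alt s t n) (alt t s n) ∧
      (∀ k l, k ≤ n → l ≤ n → BN.Rel P (alt s t k) (alt t s l) → k = l ∧ (k = 0 ∨ k = n)) ∧
      (∀ g ∈ P.N, ∃ k ≤ n, BN.Rel P g (alt s t k) ∨ BN.Rel P g (alt t s k)) ∧
      ((P.B ⊓ P.N).subgroupOf P.N).index = 2 * n := by
  classical
  have hcard : Nat.card P.S = 2 := h2
  obtain ⟨s, t, hst, hS⟩ : ∃ s t, s ≠ t ∧ P.S = {s, t} := by
    rw [Nat.card_coe_set_eq, Set.ncard_eq_two] at hcard; exact hcard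
  have hs : s ∈ P.S := by rw [hS]; simp
  have ht : t ∈ P.S := by rw [hS]; simp
  obtain ⟨M, hM⟩ := (Set.toFinite (Set.range fun g : G => len P g)).bddAbove
  have hex : ∃ k, len P (alt s t (k + 1)) ≤ k ∨ len P (alt t s (k + 1)) ≤ k :=
    ⟨M, Or.inl (hM (Set.mem_range_self _))⟩
  obtain ⟨n, hn_spec, hn_min⟩ : ∃ n, (len P (alt s t (n + 1)) ≤ n ∨ len P (alt t s (n + 1)) ≤ n) ∧
      ∀ k < n, ¬ (len P (alt s t (k + 1)) ≤ k ∨ len P (alt t s (k + 1)) ≤ k) :=
    ⟨Nat.find hex, Nat.find_spec hex, fun k hk => Nat.find_min hex hk⟩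
  have hlen : ∀ k ≤ n, len P (alt s t k) = k ∧ len P (alt t s k) = k := by
    intro k hk
    rcases k with _ | k
    · simp [len_one]
    · have := hn_min k (by omega)
      rw [not_or] at this
      have h1 := len_alt_le P hs ht (k + 1)
      have h2 := len_alt_le P ht hs (k + 1)
      omega
  have hn1 : 1 ≤ n := by
    by_contra hcon
    have h0 : n = 0 := by omega
    subst h0
    simp only [zero_add, alt_one, len_S P hs, len_S P ht] at hn_spec
    omega
  obtain ⟨m, rfl⟩ : ∃ m, n = m + 1 := ⟨n - 1, by omega⟩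
  have hrel : Rel P (alt s t (m + 1)) (alt t s (m + 1)) := by
    rcases hn_spec with h | h
    · exact rel_alt_of_descent P hs ht m (hlen (m + 1) le_rfl).1 (hlen m (by omega)).2
        (hlen (m + 1) le_rfl).2 h
    · exact (rel_alt_of_descent P ht hs m (hlen (m + 1) le_rfl).2 (hlen m (by omega)).1
        (hlen (m + 1) le_rfl).1 h).symm
  have hn2 : 2 ≤ m + 1 := by
    by_contra hcon
    have h0 : m = 0 := by omega
    subst h0
    simp only [zero_add, alt_one] at hrel
    exact hst (P.inj s hs t ht hrel)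
  have hdisj : ∀ k l, k ≤ m + 1 → l ≤ m + 1 → Rel P (alt s t k) (alt t s l) →
      k = l ∧ (k = 0 ∨ k = m + 1) := by
    intro k l hk hl h
    have hkl : k = l := by
      have := len_congr P h
      rwa [(hlen k hk).1, (hlen l hl).2] at this
    subst hkl
    refine ⟨rfl, ?_⟩
    by_contra hcon
    rw [not_or] at hcon
    obtain ⟨j, rfl⟩ : ∃ j, k = j + 1 := ⟨k - 1, by omega⟩
    have h' := len_congr P (h.mul_left s)
    rw [← alt_succ s t (j + 1), (hlen (j + 1 + 1) (by omega)).1, alt_succ s t j,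
      len_congr P (rel_sq_mul P hs (alt_mem_N P ht hs j)), (hlen j (by omega)).2] at h'
    omega
  have hcov : ∀ g ∈ P.N, ∃ k ≤ m + 1, Rel P g (alt s t k) ∨ Rel P g (alt t s k) := by
    intro g hg
    obtain ⟨l, hl, hgl⟩ := exists_word P hg
    obtain ⟨j, hj, h⟩ := alt_cover P hs ht hS hn1 hrel l hl
    exact ⟨j, hj, h.imp (fun h => hgl.trans h) (fun h => hgl.trans h)⟩
  exact ⟨s, t, m + 1, hs, ht, hst, hS, hn2, hlen, hrel, hdisj, hcov,
    alt_index P hs ht hn1 hlen hrel hdisj hcov⟩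

end BN
end Cfsg.Agent.Lib.Helper3
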