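import Mathlib

set_option autoImplicit false

namespace Cfsg.Agent.Lib.Helper3.Dihedral

variable {G : Type*} [Group G]

lemma conj_pow (s t : G) (hs : s * s = 1) (ht : t * t = 1) (k : ℕ) :
    s * (s * t) ^ k * s = ((s * t)⁻¹) ^ k := by
  induction k with
  | zero => simpa using hs
  | succ k ih =>
    have hsi : s⁻¹ = s := inv_eq_of_mul_eq_one_right hs
    have hti : t⁻¹ = t := inv_eq_of_mul_eq_one_right ht
    have e : s * (s * t) * s = (s * t)⁻¹ := by
      rw [mul_inv_rev, hsi, hti, ← mul_assoc, hs, one_mul]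
    rw [pow_succ, pow_succ]
    calc s * ((s * t) ^ k * (s * t)) * s = s * (s * t) ^ k * 1 * (s * t) * s := by group
      _ = s * (s * t) ^ k * (s * s) * (s * t) * s := by rw [hs]
      _ = (s * (s * t) ^ k * s) * (s * (s * t) * s) := by group
      _ = _ := by rw [ih, e]

/-- two involutions whose product has even order commute with a common involution -/
theorem exists_central_involution (s t : G) (hs : s * s = 1) (ht : t * t = 1) (n : ℕ)
    (hn : 0 < n) (hord : orderOf (s * t) = 2 * n) :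
    ∃ z : G, z ≠ 1 ∧ z * z = 1 ∧ z * s = s * z ∧ z * t = t * z := by
  have hsi : s⁻¹ = s := inv_eq_of_mul_eq_one_right hs
  have hu : (s * t) ^ (2 * n) = 1 := by rw [← hord]; exact pow_orderOf_eq_one _
  have hz2 : (s * t) ^ n * (s * t) ^ n = 1 := by rw [← pow_add, ← two_mul, hu]
  have hzinv : ((s * t) ^ n)⁻¹ = (s * t) ^ n := inv_eq_of_mul_eq_one_right hz2
  have hzs : (s * t) ^ n * s = s * (s * t) ^ n := by
    have h1 := conj_pow s t hs ht n
    rw [inv_pow, hzinv] at h1
    calc (s * t) ^ n * s = s * (s * (s * t) ^ n * s) := by rw [← mul_assoc, ← mul_assoc, hs, one_mul]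
      _ = s * (s * t) ^ n := by rw [h1]
  refine ⟨(s * t) ^ n, ?_, hz2, hzs, ?_⟩
  · intro h
    have := orderOf_dvd_of_pow_eq_one h
    rw [hord] at this
    have := Nat.le_of_dvd hn this
    omega
  · have ht' : t = s * (s * t) := by rw [← mul_assoc, hs, one_mul]
    have hcomm : (s * t) ^ n * (s * t) = (s * t) * (s * t) ^ n := by
      rw [← pow_succ, ← pow_succ']
    calc (s * t) ^ n * t = (s * t) ^ n * (s * (s * t)) := by rw [← ht']
      _ = ((s * t) ^ n * s) * (s * t) := by rw [mul_assoc]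
      _ = s * ((s * t) ^ n * (s * t)) := by rw [hzs, mul_assoc]
      _ = s * ((s * t) * (s * t) ^ n) := by rw [hcomm]
      _ = (s * (s * t)) * (s * t) ^ n := (mul_assoc _ _ _).symm
      _ = t * (s * t) ^ n := by rw [← ht']

/-- two involutions whose product has odd order are conjugate under an involution of the
group they generate -/
theorem exists_conj_involution (s t : G) (hs : s * s = 1) (ht : t * t = 1) (j : ℕ)
    (hu : (s * t) ^ (2 * j + 1) = 1) :
    ((s * t) ^ j * s) * ((s * t) ^ j * s) = 1 ∧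
      ((s * t) ^ j * s) * s * ((s * t) ^ j * s)⁻¹ = t := by
  have hsi : s⁻¹ = s := inv_eq_of_mul_eq_one_right hs
  have hti : t⁻¹ = t := inv_eq_of_mul_eq_one_right ht
  have h1 := conj_pow s t hs ht j
  have hrr : ((s * t) ^ j * s) * ((s * t) ^ j * s) = 1 := by
    calc ((s * t) ^ j * s) * ((s * t) ^ j * s) = (s * t) ^ j * (s * (s * t) ^ j * s) := by group
      _ = 1 := by rw [h1, inv_pow, mul_inv_cancel]
  refine ⟨hrr, ?_⟩
  have hrinv : ((s * t) ^ j * s)⁻¹ = (s * t) ^ j * s := inv_eq_of_mul_eq_one_right hrr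
  rw [hrinv]
  have h2 : (s * t) ^ (2 * j) = (s * t)⁻¹ := by
    rw [eq_inv_iff_mul_eq_one, ← pow_succ, hu]
  calc (s * t) ^ j * s * s * ((s * t) ^ j * s) = (s * t) ^ j * (s * s) * (s * t) ^ j * s := by group
    _ = (s * t) ^ (2 * j) * s := by rw [hs, mul_one, ← pow_add, two_mul]
    _ = t := by rw [h2, mul_inv_rev, hsi, hti, mul_assoc, hs, mul_one]

end Cfsg.Agent.Lib.Helper3.Dihedral
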