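import Mathlib

/-!
# E-series farm (helper14), pieces [Y2] `assoc_lemma` and [Y3] `sq_eq_one_of`

Abstract group theory, Mathlib only.
-/

set_option autoImplicit false

namespace Cfsg.Agent.Lib.Helper14.StCC.Two

/-- [Y2] the associativity computation: both sides are `B * C * R` collected in two ways -/
theorem assoc_lemma {E : Type*} [Group E] {R C B A S Q1 Q2 : E} (h1 : C * R = R * C * A)
    (h2 : B * C = C * B * S) (h3 : B * R = R * B) (h4 : B * A = A * B * Q1)
    (h5 : S * R = R * S * Q2) (hSA : S * A = A * S) (hQS : Q1 * S = S * Q1) : Q1 = Q2 := by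
  -- first way
  have e1 : B * C * R = R * C * A * B * (Q1 * S) := by
    calc B * C * R = B * (C * R) := by rw [mul_assoc]
      _ = B * (R * C * A) := by rw [h1]
      _ = (B * R) * C * A := by simp only [mul_assoc]
      _ = (R * B) * C * A := by rw [h3]
      _ = R * (B * C) * A := by simp only [mul_assoc]
      _ = R * (C * B * S) * A := by rw [h2]
      _ = R * C * B * (S * A) := by simp only [mul_assoc]
      _ = R * C * B * (A * S) := by rw [hSA]
      _ = R * C * (B * A) * S := by simp only [mul_assoc]
      _ = R * C * (A * B * Q1) * S := by rw [h4]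
      _ = R * C * A * B * (Q1 * S) := by simp only [mul_assoc]
  -- second way
  have e2 : B * C * R = R * C * A * B * (S * Q2) := by
    calc B * C * R = (C * B * S) * R := by rw [h2]
      _ = C * B * (S * R) := by simp only [mul_assoc]
      _ = C * B * (R * S * Q2) := by rw [h5]
      _ = C * (B * R) * S * Q2 := by simp only [mul_assoc]
      _ = C * (R * B) * S * Q2 := by rw [h3]
      _ = (C * R) * B * S * Q2 := by simp only [mul_assoc]
      _ = (R * C * A) * B * S * Q2 := by rw [h1]
      _ = R * C * A * B * (S * Q2) := by simp only [mul_assoc]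
  have e3 : Q1 * S = S * Q2 := mul_left_cancel (e1.symm.trans e2)
  rw [hQS] at e3
  exact mul_left_cancel e3

/-- [Y3] -/
theorem sq_eq_one_of {E : Type*} [Group E] {A B z : E} (h : B * A = A * B * z)
    (hz : z * A = A * z) (hA : ∀ g : E, A * A * g = g * (A * A)) : z * z = 1 := by
  have e1 : B * (A * A) = B * (A * A) * (z * z) := by
    calc B * (A * A) = (B * A) * A := by rw [mul_assoc]
      _ = (A * B * z) * A := by rw [h]
      _ = A * B * (z * A) := by simp only [mul_assoc]
      _ = A * B * (A * z) := by rw [hz]
      _ = A * (B * A) * z := by simp only [mul_assoc]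
      _ = A * (A * B * z) * z := by rw [h]
      _ = (A * A * B) * (z * z) := by simp only [mul_assoc]
      _ = B * (A * A) * (z * z) := by rw [hA B]
  have e2 : B * (A * A) * 1 = B * (A * A) * (z * z) := by rw [mul_one]; exact e1
  exact (mul_left_cancel e2).symm

end Cfsg.Agent.Lib.Helper14.StCC.Two
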