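import Cfsg.Agent.Lib.Helper6.Fi22M.Defs

/-!
# S2053-[PAR] (helper3): the parity character of the weak group `PW`

All relator words of `relW` have even length, so sending every generator to the generator of
`Multiplicative (ZMod 2)` defines a homomorphism.
-/

set_option autoImplicit false
set_option maxRecDepth 100000

namespace Cfsg.Agent.Lib.Helper6.Fi22M

open Cfsg Cfsg.Agent.Helper4.TC

namespace Helper3P

/-- the generator of `Multiplicative (ZMod 2)` -/
def t : Multiplicative (ZMod 2) := Multiplicative.ofAdd 1

theorem t_inv : t⁻¹ = t := by decide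

theorem t_sq : t * t = 1 := by decide

theorem gl_const (l : Letter Gen) : gl (fun _ : Gen => t) l = t := by
  unfold gl
  split
  · rfl
  · exact t_inv

theorem evc_const (b : List ℕ) : evc (fun _ : Gen => t) dec b = t ^ b.length := by
  induction b with
  | nil => rfl
  | cons c cs ih => rw [evc_cons, ih, gl_const, List.length_cons, pow_succ]

theorem relW_even : ∀ b ∈ relW, b.length % 2 = 0 := by decide +kernel

end Helper3P

/-- [PAR] the parity character -/
theorem exists_parity : ∃ χ : PW →* Multiplicative (ZMod 2),
    ∀ x, χ (PresentedGroup.of x) = Multiplicative.ofAdd 1 := by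
  have h : ∀ r ∈ RW, FreeGroup.lift (fun _ : Gen => Helper3P.t) r = 1 := by
    rintro r ⟨b, hb, rfl⟩
    rw [lift_wordF, Helper3P.evc_const]
    have he := Helper3P.relW_even b hb
    obtain ⟨k, hk⟩ : ∃ k, b.length = 2 * k := ⟨b.length / 2, by omega⟩
    rw [hk, pow_mul, pow_two, Helper3P.t_sq, one_pow]
  refine ⟨PresentedGroup.toGroup h, fun x => ?_⟩
  rw [PresentedGroup.toGroup.of]
  rfl

end Cfsg.Agent.Lib.Helper6.Fi22M
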