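import Mathlib

set_option autoImplicit false

namespace Cfsg.Agent.Lib.Helper3.GL2

open Matrix

variable {F : Type*} [Field F]

/-- entries of a product -/
lemma mul_entries (g h : GL (Fin 2) F) :
    (↑(g * h) : Matrix (Fin 2) (Fin 2) F) 0 0 = g.1 0 0 * h.1 0 0 + g.1 0 1 * h.1 1 0 ∧
    (↑(g * h) : Matrix (Fin 2) (Fin 2) F) 0 1 = g.1 0 0 * h.1 0 1 + g.1 0 1 * h.1 1 1 ∧
    (↑(g * h) : Matrix (Fin 2) (Fin 2) F) 1 0 = g.1 1 0 * h.1 0 0 + g.1 1 1 * h.1 1 0 ∧
    (↑(g * h) : Matrix (Fin 2) (Fin 2) F) 1 1 = g.1 1 0 * h.1 0 1 + g.1 1 1 * h.1 1 1 := by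
  simp [Matrix.mul_apply, Fin.sum_univ_two]

lemma ext2 {g h : GL (Fin 2) F} (h00 : g.1 0 0 = h.1 0 0) (h01 : g.1 0 1 = h.1 0 1)
    (h10 : g.1 1 0 = h.1 1 0) (h11 : g.1 1 1 = h.1 1 1) : g = h := by
  apply Matrix.GeneralLinearGroup.ext
  intro i j
  fin_cases i <;> fin_cases j <;> assumption

lemma det_eq (g : GL (Fin 2) F) : g.1.det = g.1 0 0 * g.1 1 1 - g.1 0 1 * g.1 1 0 :=
  Matrix.det_fin_two _

lemma det_ne_zero (g : GL (Fin 2) F) : g.1 0 0 * g.1 1 1 - g.1 0 1 * g.1 1 0 ≠ 0 := by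
  rw [← det_eq]
  exact (Matrix.isUnits_det_units g).ne_zero

/-- the matrix `[[x, b], [0, y]]` -/
noncomputable def tri (x y : Fˣ) (b : F) : GL (Fin 2) F :=
  Matrix.GeneralLinearGroup.mkOfDetNeZero !![(x : F), b; 0, (y : F)] (by
    rw [Matrix.det_fin_two_of]; simp)

@[simp] lemma tri_00 (x y : Fˣ) (b : F) : (tri x y b).1 0 0 = x := rfl
@[simp] lemma tri_01 (x y : Fˣ) (b : F) : (tri x y b).1 0 1 = b := rfl
@[simp] lemma tri_10 (x y : Fˣ) (b : F) : (tri x y b).1 1 0 = 0 := rfl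
@[simp] lemma tri_11 (x y : Fˣ) (b : F) : (tri x y b).1 1 1 = y := rfl

/-- the upper unitriangular matrix -/
noncomputable def upper (a : F) : GL (Fin 2) F := tri 1 1 a

@[simp] lemma upper_00 (a : F) : (upper a).1 0 0 = 1 := rfl
@[simp] lemma upper_01 (a : F) : (upper a).1 0 1 = a := rfl
@[simp] lemma upper_10 (a : F) : (upper a).1 1 0 = 0 := rfl
@[simp] lemma upper_11 (a : F) : (upper a).1 1 1 = 1 := rfl

lemma upper_add (a b : F) : upper (a + b) = upper a * upper b := by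
  obtain ⟨h00, h01, h10, h11⟩ := mul_entries (upper a) (upper b)
  apply ext2
  · rw [h00]; simp
  · rw [h01]; simp [add_comm]
  · rw [h10]; simp
  · rw [h11]; simp

lemma upper_zero : upper (0 : F) = 1 := by
  apply ext2 <;> simp

/-- the homomorphism `a ↦ upper a` -/
noncomputable def upperHom : Multiplicative F →* GL (Fin 2) F where
  toFun a := upper (Multiplicative.toAdd a)
  map_one' := upper_zero
  map_mul' _ _ := upper_add _ _

lemma upperHom_injective : Function.Injective (upperHom (F := F)) := by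
  intro a b h
  have := congrArg (fun g : GL (Fin 2) F => g.1 0 1) h
  simpa [upperHom] using this

/-- the upper unitriangular subgroup -/
noncomputable def U : Subgroup (GL (Fin 2) F) := (upperHom (F := F)).range

lemma mem_U_iff (g : GL (Fin 2) F) : g ∈ U ↔ g.1 0 0 = 1 ∧ g.1 1 0 = 0 ∧ g.1 1 1 = 1 := by
  constructor
  · rintro ⟨a, rfl⟩
    simp [upperHom]
  · rintro ⟨h00, h10, h11⟩
    refine ⟨Multiplicative.ofAdd (g.1 0 1), ?_⟩
    apply ext2 <;> simp [upperHom, h00, h10, h11]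

lemma upper_mem_U (a : F) : upper a ∈ (U : Subgroup (GL (Fin 2) F)) :=
  ⟨Multiplicative.ofAdd a, rfl⟩

lemma card_U [Finite F] : Nat.card (U : Subgroup (GL (Fin 2) F)) = Nat.card F := by
  rw [U, ← Nat.card_congr (MonoidHom.ofInjective upperHom_injective).toEquiv]
  exact Nat.card_congr Multiplicative.toAdd

/-- the Borel subgroup -/
def B : Subgroup (GL (Fin 2) F) where
  carrier := {g | g.1 1 0 = 0}
  mul_mem' := by
    intro g h hg hh
    simp only [Set.mem_ofPred_eq] at *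
    rw [(mul_entries g h).2.2.1, hg, hh]
    simp
  one_mem' := by simp
  inv_mem' := by
    intro g hg
    simp only [Set.mem_ofPred_eq] at *
    rw [Matrix.coe_units_inv, Matrix.inv_def, Matrix.adjugate_fin_two]
    simp [hg]

lemma mem_B_iff (g : GL (Fin 2) F) : g ∈ B ↔ g.1 1 0 = 0 := Iff.rfl

/-- key computation: conjugating a nontrivial unipotent into `U` forces the conjugator in `B` -/
lemma mem_B_of_conj (k : GL (Fin 2) F) (c : F) (hc : c ≠ 0) (h : k * upper c * k⁻¹ ∈ U) :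
    k ∈ B := by
  obtain ⟨a, ha⟩ := h
  have h1 : k * upper c = upper (Multiplicative.toAdd a) * k := by
    have : upperHom a = upper (Multiplicative.toAdd a) := rfl
    rw [← this, ha]; group
  have h2 := congrArg (fun g : GL (Fin 2) F => g.1 1 1) h1
  simp only [(mul_entries _ _).2.2.2] at h2
  simp at h2
  rw [mem_B_iff]
  rcases h2 with h2 | h2
  · exact h2
  · exact absurd h2 hc

/-- `B` normalises `U` -/
lemma conj_mem_U_of_mem_B (g : GL (Fin 2) F) (hg : g ∈ B) (u : GL (Fin 2) F) (hu : u ∈ U) :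
    g * u * g⁻¹ ∈ U := by
  rw [mem_B_iff] at hg
  obtain ⟨a, rfl⟩ := hu
  have hdet := det_ne_zero g
  rw [hg, mul_zero, sub_zero] at hdet
  have h11 : g.1 1 1 ≠ 0 := right_ne_zero_of_mul hdet
  have : g * upperHom a = upper (g.1 0 0 * Multiplicative.toAdd a / g.1 1 1) * g := by
    have e1 := mul_entries g (upperHom a)
    have e2 := mul_entries (upper (g.1 0 0 * Multiplicative.toAdd a / g.1 1 1)) g
    apply ext2
    · rw [e1.1, e2.1]; simp [upperHom, hg]
    · rw [e1.2.1, e2.2.1]; simp [upperHom]; field_simp; ring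
    · rw [e1.2.2.1, e2.2.2.1]; simp [upperHom, hg]
    · rw [e1.2.2.2, e2.2.2.2]; simp [upperHom, hg]
  rw [this, mul_inv_cancel_right]
  exact upper_mem_U _

lemma normalizer_U : Subgroup.normalizer ((U : Subgroup (GL (Fin 2) F)) : Set (GL (Fin 2) F)) = B := by
  ext g
  constructor
  · intro hg
    rw [Subgroup.mem_normalizer_iff] at hg
    have := (hg (upper 1)).1 (upper_mem_U 1)
    exact mem_B_of_conj g 1 one_ne_zero this
  · intro hg
    rw [Subgroup.mem_normalizer_iff]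
    intro h
    constructor
    · exact conj_mem_U_of_mem_B g hg h
    · intro hh
      have := conj_mem_U_of_mem_B g⁻¹ (B.inv_mem hg) _ hh
      simpa [mul_assoc] using this

/-- `B ≃ Fˣ × Fˣ × F` -/
noncomputable def equivB : (B : Subgroup (GL (Fin 2) F)) ≃ Fˣ × Fˣ × F where
  toFun g :=
    have hdet : g.1.1 0 0 * g.1.1 1 1 ≠ 0 := by
      have := det_ne_zero g.1
      rwa [(mem_B_iff g.1).1 g.2, mul_zero, sub_zero] at this
    (Units.mk0 _ (left_ne_zero_of_mul hdet), Units.mk0 _ (right_ne_zero_of_mul hdet), g.1.1 0 1)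
  invFun t := ⟨tri t.1 t.2.1 t.2.2, by rw [mem_B_iff]; simp⟩
  left_inv g := by
    apply Subtype.ext
    apply ext2 <;> simp [(mem_B_iff g.1).1 g.2]
  right_inv t := by
    obtain ⟨x, y, b⟩ := t
    simp

lemma card_B [Fintype F] : Nat.card (B : Subgroup (GL (Fin 2) F))
    = Fintype.card F * (Fintype.card F - 1) ^ 2 := by
  rw [Nat.card_congr equivB, Nat.card_prod, Nat.card_prod, Nat.card_units,
    Nat.card_eq_fintype_card]
  ring

end Cfsg.Agent.Lib.Helper3.GL2
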