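import Mathlib
import Cfsg.Agent.S0263
import Cfsg.Agent.Lib.Helper3.GL2Sylow

set_option autoImplicit false

namespace Cfsg.Agent.Lib.Helper3.GL2

open Matrix

variable {F : Type*} [Field F] [Fintype F]

lemma pow_factorization_eq (p : ℕ) [Fact p.Prime] [CharP F p] :
    p ^ (Nat.card (GL (Fin 2) F)).factorization p = Fintype.card F := by
  classical
  have P : Sylow p (GL (Fin 2) F) := default
  rw [← P.card_eq_multiplicity, Cfsg.Agent.S0263.result rfl p 2 P]
  norm_num

/-- `U` as a Sylow subgroup -/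
noncomputable def USylow (p : ℕ) [Fact p.Prime] [CharP F p] : Sylow p (GL (Fin 2) F) :=
  Sylow.ofCard U (by rw [card_U, pow_factorization_eq p, Nat.card_eq_fintype_card])

lemma coe_USylow (p : ℕ) [Fact p.Prime] [CharP F p] :
    ((USylow p : Sylow p (GL (Fin 2) F)) : Subgroup (GL (Fin 2) F)) = U := rfl

lemma exists_smul_eq (p : ℕ) [Fact p.Prime] [CharP F p] (P : Sylow p (GL (Fin 2) F)) :
    ∃ g : GL (Fin 2) F, g • USylow p = P :=
  MulAction.exists_smul_eq _ _ _

lemma mem_smul_USylow_iff (p : ℕ) [Fact p.Prime] [CharP F p] (g x : GL (Fin 2) F) :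
    x ∈ g • USylow p ↔ g⁻¹ * x * g ∈ (U : Subgroup (GL (Fin 2) F)) := by
  change x ∈ ((g • USylow p : Sylow p (GL (Fin 2) F)) : Subgroup (GL (Fin 2) F)) ↔ _
  rw [Sylow.coe_subgroup_smul, Subgroup.mem_pointwise_smul_iff_inv_smul_mem,
    coe_USylow]
  simp [MulAut.smul_def]

lemma normalizer_USylow (p : ℕ) [Fact p.Prime] [CharP F p] :
    Subgroup.normalizer (((USylow p : Sylow p (GL (Fin 2) F)) : Subgroup (GL (Fin 2) F)) :
      Set (GL (Fin 2) F)) = B := by
  rw [coe_USylow, normalizer_U]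

lemma card_GL2 : Nat.card (GL (Fin 2) F)
    = (Fintype.card F + 1) * (Fintype.card F * (Fintype.card F - 1) ^ 2) := by
  rw [Matrix.card_GL_field]
  simp only [Fin.prod_univ_two, Fin.val_zero, Fin.val_one, pow_zero, pow_one]
  have hq : 1 ≤ Fintype.card F := Fintype.card_pos
  obtain ⟨r, hr⟩ : ∃ r, Fintype.card F = r + 1 := ⟨Fintype.card F - 1, by omega⟩
  rw [hr]
  have h1 : (r + 1) ^ 2 - 1 = r * (r + 2) := by
    have : (r + 1) ^ 2 = r * (r + 2) + 1 := by ring
    omega
  have h2 : (r + 1) ^ 2 - (r + 1) = r * (r + 1) := by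
    have : (r + 1) ^ 2 = r * (r + 1) + (r + 1) := by ring
    omega
  rw [h1, h2, Nat.add_sub_cancel]
  ring

/-- the number of Sylow `p`-subgroups of `GL_2(q)` -/
theorem card_sylow (p : ℕ) [Fact p.Prime] [CharP F p] :
    Nat.card (Sylow p (GL (Fin 2) F)) = Fintype.card F + 1 := by
  rw [(USylow p).card_eq_index_normalizer]
  change (Subgroup.normalizer (((USylow p : Sylow p (GL (Fin 2) F)) : Subgroup (GL (Fin 2) F)) :
      Set (GL (Fin 2) F))).index = _
  rw [normalizer_USylow]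
  have h1 : (B : Subgroup (GL (Fin 2) F)).index * Nat.card (B : Subgroup (GL (Fin 2) F))
      = Nat.card (GL (Fin 2) F) := Subgroup.index_mul_card _
  rw [card_B, card_GL2] at h1
  have hq : 1 < Fintype.card F := Fintype.one_lt_card
  have hpos : 0 < Fintype.card F * (Fintype.card F - 1) ^ 2 := by
    apply Nat.mul_pos (by omega)
    apply pow_pos
    omega
  exact Nat.eq_of_mul_eq_mul_right hpos h1

/-- the order of the normaliser of a Sylow `p`-subgroup of `GL_2(q)` -/
theorem card_normalizer (p : ℕ) [Fact p.Prime] [CharP F p] (P : Sylow p (GL (Fin 2) F)) :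
    Nat.card (Subgroup.normalizer ((P : Subgroup (GL (Fin 2) F)) : Set (GL (Fin 2) F)))
      = Fintype.card F * (Fintype.card F - 1) ^ 2 := by
  have h1 := Subgroup.index_mul_card
    (Subgroup.normalizer ((P : Subgroup (GL (Fin 2) F)) : Set (GL (Fin 2) F)))
  have h2 : (Subgroup.normalizer ((P : Subgroup (GL (Fin 2) F)) : Set (GL (Fin 2) F))).index
      = Fintype.card F + 1 := by
    rw [← card_sylow p]
    exact P.card_eq_index_normalizer.symm
  rw [h2, card_GL2] at h1
  exact Nat.eq_of_mul_eq_mul_left (Nat.succ_pos _) h1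

/-- distinct Sylow `p`-subgroups of `GL_2(q)` intersect trivially -/
theorem inf_eq_bot (p : ℕ) [Fact p.Prime] [CharP F p] (P Q : Sylow p (GL (Fin 2) F))
    (h : P ≠ Q) : (P : Subgroup (GL (Fin 2) F)) ⊓ (Q : Subgroup (GL (Fin 2) F)) = ⊥ := by
  obtain ⟨g, rfl⟩ := exists_smul_eq p P
  obtain ⟨k, rfl⟩ := exists_smul_eq p Q
  rw [eq_bot_iff]
  intro x hx
  rw [Subgroup.mem_bot]
  by_contra hx1
  apply h
  obtain ⟨hxP, hxQ⟩ := hx
  replace hxP : x ∈ g • USylow p := hxP
  replace hxQ : x ∈ k • USylow p := hxQ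
  rw [mem_smul_USylow_iff] at hxP hxQ
  obtain ⟨a, ha⟩ := hxP
  have hc : Multiplicative.toAdd a ≠ 0 := by
    intro h0
    have ha1 : a = 1 := h0
    rw [ha1, map_one] at ha
    apply hx1
    have : x = g * (g⁻¹ * x * g) * g⁻¹ := by group
    rw [this, ← ha]; group
  have hkg : k⁻¹ * g ∈ (B : Subgroup (GL (Fin 2) F)) := by
    apply mem_B_of_conj _ _ hc
    have hu : upper (Multiplicative.toAdd a) = g⁻¹ * x * g := ha
    rw [hu]
    have : k⁻¹ * g * (g⁻¹ * x * g) * (k⁻¹ * g)⁻¹ = k⁻¹ * x * k := by group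
    rw [this]
    exact hxQ
  rw [← normalizer_USylow p] at hkg
  have hkg' : (k⁻¹ * g) • USylow p = USylow p := Sylow.smul_eq_iff_mem_normalizer.2 hkg
  rw [mul_smul] at hkg'
  exact inv_smul_eq_iff.1 hkg'

end Cfsg.Agent.Lib.Helper3.GL2
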