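import Mathlib
import Cfsg.Agent.Lib.Helper3.GL2Sylow2

set_option autoImplicit false

namespace Cfsg.Agent.Lib.Helper3.GL2

open Matrix

lemma card_centralizer_conj {G : Type*} [Group G] (g a : G) :
    Nat.card (Subgroup.centralizer ({g * a * g⁻¹} : Set G))
      = Nat.card (Subgroup.centralizer ({a} : Set G)) := by
  refine Nat.card_congr
    { toFun := fun k => ⟨g⁻¹ * k.1 * g, ?_⟩
      invFun := fun k => ⟨g * k.1 * g⁻¹, ?_⟩
      left_inv := fun k => by apply Subtype.ext; simp [mul_assoc]
      right_inv := fun k => by apply Subtype.ext; simp [mul_assoc] }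
  · have hk := Subgroup.mem_centralizer_singleton_iff.1 k.2
    rw [Subgroup.mem_centralizer_singleton_iff]
    have : g⁻¹ * ↑k * g * a = g⁻¹ * (↑k * (g * a * g⁻¹)) * g := by group
    rw [this, hk]; group
  · have hk := Subgroup.mem_centralizer_singleton_iff.1 k.2
    rw [Subgroup.mem_centralizer_singleton_iff]
    have : g * ↑k * g⁻¹ * (g * a * g⁻¹) = g * (↑k * a) * g⁻¹ := by group
    rw [this, hk]; group

variable {F : Type*} [Field F]

lemma mem_centralizer_upper_iff (c : F) (hc : c ≠ 0) (k : GL (Fin 2) F) :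
    k ∈ Subgroup.centralizer ({upper c} : Set (GL (Fin 2) F)) ↔ k.1 1 0 = 0 ∧ k.1 0 0 = k.1 1 1 := by
  rw [Subgroup.mem_centralizer_singleton_iff]
  have e1 := mul_entries k (upper c)
  have e2 := mul_entries (upper c) k
  constructor
  · intro h
    have h00 := congrArg (fun g : GL (Fin 2) F => g.1 0 0) h
    have h01 := congrArg (fun g : GL (Fin 2) F => g.1 0 1) h
    simp only [e1.1, e2.1, e1.2.1, e2.2.1] at h00 h01
    simp at h00 h01
    have hz : k.1 1 0 = 0 := by
      rcases h00 with h | h
      · exact absurd h hc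
      · exact h
    refine ⟨hz, ?_⟩
    have : c * (k.1 0 0 - k.1 1 1) = 0 := by linear_combination h01
    rcases mul_eq_zero.1 this with h | h
    · exact absurd h hc
    · exact sub_eq_zero.1 h
  · rintro ⟨hz, hd⟩
    apply ext2
    · rw [e1.1, e2.1]; simp [hz]
    · rw [e1.2.1, e2.2.1]; simp [hd]; ring
    · rw [e1.2.2.1, e2.2.2.1]; simp
    · rw [e1.2.2.2, e2.2.2.2]; simp [hz]

/-- the centraliser of a non-trivial upper unitriangular matrix is `Fˣ × F` -/
noncomputable def equivCentralizerUpper (c : F) (hc : c ≠ 0) :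
    Subgroup.centralizer ({upper c} : Set (GL (Fin 2) F)) ≃ Fˣ × F where
  toFun k :=
    have hk := (mem_centralizer_upper_iff c hc k.1).1 k.2
    have hdet : k.1.1 0 0 * k.1.1 1 1 ≠ 0 := by
      have := det_ne_zero k.1
      rwa [hk.1, mul_zero, sub_zero] at this
    (Units.mk0 _ (left_ne_zero_of_mul hdet), k.1.1 0 1)
  invFun t := ⟨tri t.1 t.1 t.2, by rw [mem_centralizer_upper_iff c hc]; simp⟩
  left_inv k := by
    have hk := (mem_centralizer_upper_iff c hc k.1).1 k.2
    apply Subtype.ext
    apply ext2 <;> simp [hk.1, hk.2]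
  right_inv t := by
    obtain ⟨x, b⟩ := t
    simp

lemma card_centralizer_upper [Fintype F] (c : F) (hc : c ≠ 0) :
    Nat.card (Subgroup.centralizer ({upper c} : Set (GL (Fin 2) F)))
      = Fintype.card F * (Fintype.card F - 1) := by
  rw [Nat.card_congr (equivCentralizerUpper c hc), Nat.card_prod, Nat.card_units,
    Nat.card_eq_fintype_card, mul_comm]

/-- the centraliser of a non-trivial `p`-element of `GL_2(q)` -/
theorem card_centralizer [Fintype F] (p : ℕ) [Fact p.Prime] [CharP F p]
    (P : Sylow p (GL (Fin 2) F)) (a : GL (Fin 2) F) (ha : a ∈ P) (ha1 : a ≠ 1) :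
    Nat.card (Subgroup.centralizer ({a} : Set (GL (Fin 2) F)))
      = Fintype.card F * (Fintype.card F - 1) := by
  obtain ⟨g, rfl⟩ := exists_smul_eq p P
  rw [mem_smul_USylow_iff] at ha
  obtain ⟨c, hc⟩ := ha
  have hc0 : Multiplicative.toAdd c ≠ 0 := by
    intro h0
    have hc1 : c = 1 := h0
    rw [hc1, map_one] at hc
    apply ha1
    have : a = g * (g⁻¹ * a * g) * g⁻¹ := by group
    rw [this, ← hc]; group
  have hu : upper (Multiplicative.toAdd c) = g⁻¹ * a * g := hc
  have ha' : a = g * upper (Multiplicative.toAdd c) * g⁻¹ := by rw [hu]; group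
  rw [ha', card_centralizer_conj, card_centralizer_upper _ hc0]

end Cfsg.Agent.Lib.Helper3.GL2
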