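import Mathlib

set_option autoImplicit false

namespace Cfsg.Agent.Lib.Helper3.GraphHom

/-- A subgroup of `A × B` of the order of `A` that meets `1 × B` trivially is the graph of a
homomorphism. -/
theorem exists_hom {A B : Type*} [Group A] [Group B] [Finite A] (Γ : Subgroup (A × B))
    (hcard : Nat.card Γ = Nat.card A) (h1 : ∀ γ ∈ Γ, γ.1 = 1 → γ = 1) :
    ∃ φ : A →* B, ∀ a b, (a, b) ∈ Γ ↔ φ a = b := by
  have hfin : Finite Γ := Nat.finite_of_card_ne_zero (by rw [hcard]; exact Nat.card_pos.ne')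
  let π : Γ →* A := (MonoidHom.fst A B).comp Γ.subtype
  have hinj : Function.Injective π := by
    rw [← MonoidHom.ker_eq_bot_iff, Subgroup.eq_bot_iff_forall]
    intro γ hγ
    apply Subtype.ext
    exact h1 γ.1 γ.2 hγ
  have hbij : Function.Bijective π := (Nat.bijective_iff_injective_and_card π).2 ⟨hinj, hcard⟩
  let e : Γ ≃* A := MulEquiv.ofBijective π hbij
  refine ⟨((MonoidHom.snd A B).comp Γ.subtype).comp e.symm.toMonoidHom, ?_⟩
  intro a b
  constructor
  · intro h
    have he : e ⟨(a, b), h⟩ = a := rfl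
    have : e.symm a = ⟨(a, b), h⟩ := (MulEquiv.symm_apply_eq e).2 he.symm
    change ((e.symm a).1).2 = b
    rw [this]
  · intro h
    change ((e.symm a).1).2 = b at h
    have h2 : ((e.symm a).1).1 = a := by
      have : e (e.symm a) = a := MulEquiv.apply_symm_apply e a
      exact this
    have : (e.symm a).1 = (a, b) := Prod.ext h2 h
    rw [← this]
    exact (e.symm a).2

/-- the quotient by the kernel of the homomorphism with graph `Γ` -/
theorem nonempty_quotient_equiv {A B : Type*} [Group A] [Group B] [Finite A] [Finite B]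
    (Γ : Subgroup (A × B)) (Z : Subgroup A) [Z.Normal]
    (hcard : Nat.card Γ = Nat.card A) (h1 : ∀ γ ∈ Γ, γ.1 = 1 → γ = 1)
    (hZ : ∀ a, (a, 1) ∈ Γ ↔ a ∈ Z) (hB : Nat.card A = Nat.card B * Nat.card Z) :
    Nonempty (A ⧸ Z ≃* B) := by
  obtain ⟨φ, hφ⟩ := exists_hom Γ hcard h1
  have hker : φ.ker = Z := by
    ext a
    rw [MonoidHom.mem_ker, ← hφ, hZ]
  have hrange : Nat.card φ.range = Nat.card B := by
    have h2 : Nat.card A = Nat.card (A ⧸ φ.ker) * Nat.card φ.ker :=
      Subgroup.card_eq_card_quotient_mul_card_subgroup _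
    have h3 : Nat.card (A ⧸ φ.ker) = Nat.card φ.range :=
      Nat.card_congr (QuotientGroup.quotientKerEquivRange φ).toEquiv
    rw [h3, hker, hB] at h2
    have hpos : 0 < Nat.card Z := Nat.card_pos
    exact (Nat.eq_of_mul_eq_mul_right hpos h2).symm
  have hsurj : Function.Surjective φ := by
    rw [← MonoidHom.range_eq_top]
    exact (Subgroup.card_eq_iff_eq_top _).1 hrange
  exact ⟨(QuotientGroup.quotientMulEquivOfEq hker.symm).trans
    (QuotientGroup.quotientKerEquivOfSurjective φ hsurj)⟩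

end Cfsg.Agent.Lib.Helper3.GraphHom
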