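import Mathlib

/-!
# Crossed homomorphisms: elementary vanishing criteria (helper3)

`IsAct act` : `act : G → V → V` is an action of the group `G` on the additive group `V` by
additive maps.  `IsCrossed act f` : `f (g * h) = f g + act g (f h)`.

* `prinSub` : the subgroup `{g | f g = act g v - v}`;
* `mem_prinSub_of_commute` : if `z ∈ prinSub v` is fixed-point-free and `g` commutes with `z`, then
  `g ∈ prinSub v`;
* `exists_prin_at` : for fixed-point-free `z` on finite `V`, there is `v` with `z ∈ prinSub v`;
* `principal_of_odd_index` : characteristic two, `f` principal on a subgroup of odd index implies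
  `f` principal.
-/

set_option autoImplicit false

namespace Cfsg.Agent.Lib.Helper3.H1O

variable {G V : Type*} [Group G] [AddCommGroup V]

/-- `act` is an action of `G` on `V` by additive maps -/
structure IsAct (act : G → V → V) : Prop where
  one : ∀ x, act 1 x = x
  mul : ∀ g h x, act (g * h) x = act g (act h x)
  add : ∀ g x y, act g (x + y) = act g x + act g y

/-- crossed homomorphisms -/
def IsCrossed (act : G → V → V) (f : G → V) : Prop :=
  ∀ g h, f (g * h) = f g + act g (f h)

variable {act : G → V → V}

theorem IsAct.zero (ha : IsAct act) (g : G) : act g 0 = 0 := by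
  have := ha.add g 0 0
  rw [add_zero] at this
  exact left_eq_add.mp this

theorem IsAct.neg (ha : IsAct act) (g : G) (x : V) : act g (-x) = -act g x := by
  have := ha.add g x (-x)
  rw [add_neg_cancel, ha.zero] at this
  exact eq_neg_of_add_eq_zero_right this.symm

theorem IsAct.sub (ha : IsAct act) (g : G) (x y : V) : act g (x - y) = act g x - act g y := by
  rw [sub_eq_add_neg, ha.add, ha.neg, ← sub_eq_add_neg]

theorem IsAct.inv_act (ha : IsAct act) (g : G) (x : V) : act g⁻¹ (act g x) = x := by
  rw [← ha.mul, inv_mul_cancel, ha.one]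

theorem IsAct.sum (ha : IsAct act) (g : G) {α : Type*} (s : Finset α) (F : α → V) :
    act g (∑ i ∈ s, F i) = ∑ i ∈ s, act g (F i) := by
  classical
  induction s using Finset.induction_on with
  | empty => simp [ha.zero]
  | insert a s has ih => rw [Finset.sum_insert has, Finset.sum_insert has, ha.add, ih]

theorem IsCrossed.map_one (ha : IsAct act) {f : G → V} (hf : IsCrossed act f) : f 1 = 0 := by
  have := hf 1 1
  rw [mul_one, ha.one] at this
  exact left_eq_add.mp this

/-- the subgroup on which `f` agrees with the principal crossed homomorphism of `v` -/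
def prinSub (ha : IsAct act) {f : G → V} (hf : IsCrossed act f) (v : V) : Subgroup G where
  carrier := {g | f g = act g v - v}
  one_mem' := by
    change f 1 = act 1 v - v
    rw [hf.map_one ha, ha.one, sub_self]
  mul_mem' := by
    intro g h hg hh
    change f g = act g v - v at hg
    change f h = act h v - v at hh
    change f (g * h) = act (g * h) v - v
    rw [hf, hg, hh, ha.sub, ha.mul]
    abel
  inv_mem' := by
    intro g hg
    change f g = act g v - v at hg
    change f g⁻¹ = act g⁻¹ v - v
    have h1 := hf g⁻¹ g
    rw [inv_mul_cancel, hf.map_one ha, hg, ha.sub, ha.inv_act] at h1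
    have : f g⁻¹ = -(v - act g⁻¹ v) := eq_neg_of_add_eq_zero_left h1.symm
    rw [this]
    abel

theorem mem_prinSub (ha : IsAct act) {f : G → V} (hf : IsCrossed act f) (v : V) (g : G) :
    g ∈ prinSub ha hf v ↔ f g = act g v - v := Iff.rfl

/-- **Lemma A**: a fixed-point-free `z` in `prinSub v` drags its centraliser into `prinSub v` -/
theorem mem_prinSub_of_commute (ha : IsAct act) {f : G → V} (hf : IsCrossed act f) (v : V)
    (z : G) (hz : z ∈ prinSub ha hf v) (hfpf : ∀ x, act z x = x → x = 0)
    (g : G) (hg : g * z = z * g) : g ∈ prinSub ha hf v := by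
  rw [mem_prinSub] at hz ⊢
  have h1 := hf g z
  have h2 := hf z g
  rw [hg, h2, hz, ha.sub] at h1
  have h3 : act g (act z v) = act z (act g v) := by
    rw [← ha.mul, ← ha.mul, hg]
  rw [h3] at h1
  have hd : act z (f g - (act g v - v)) = f g - (act g v - v) := by
    rw [ha.sub, ha.sub]
    have : act z (f g) = f g + (act z (act g v) - act g v) - (act z v - v) := by
      rw [← h1]; abel
    rw [this]
    abel
  exact sub_eq_zero.mp (hfpf _ hd)

/-- for fixed-point-free `z` on a finite module, `f z` is a coboundary value -/
theorem exists_prin_at [Finite V] (ha : IsAct act) {f : G → V} (hf : IsCrossed act f)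
    (z : G) (hfpf : ∀ x, act z x = x → x = 0) : ∃ v, z ∈ prinSub ha hf v := by
  have hinj : Function.Injective (fun x : V => act z x - x) := by
    intro x y hxy
    have hxy' : act z x - x = act z y - y := hxy
    have : act z (x - y) = x - y := by
      rw [ha.sub]
      have := sub_eq_sub_iff_sub_eq_sub.mp hxy'
      exact this
    exact sub_eq_zero.mp (hfpf _ this)
  obtain ⟨v, hv⟩ := (Finite.injective_iff_surjective.mp hinj) (f z)
  exact ⟨v, hv.symm⟩

/-- **Lemma C**: in characteristic two, a crossed homomorphism which is principal on a subgroup of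
odd index is principal. -/
theorem principal_of_odd_index [Finite G] (ha : IsAct act) {f : G → V} (hf : IsCrossed act f)
    (h2 : ∀ x : V, x + x = 0) (E : Subgroup G) (hodd : Odd E.index) (v : V)
    (hE : E ≤ prinSub ha hf v) : ∃ w, ∀ g, f g = act g w - w := by
  classical
  haveI : Fintype (G ⧸ E) := Fintype.ofFinite _
  -- the adjusted crossed homomorphism
  set f' : G → V := fun g => f g - (act g v - v) with hf'
  have hf'c : IsCrossed act f' := by
    intro g h
    simp only [hf']
    rw [hf, ha.sub, ha.sub, ha.mul]
    abel
  have hf'E : ∀ e ∈ E, f' e = 0 := by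
    intro e he
    have := hE he
    rw [mem_prinSub] at this
    simp only [hf']
    rw [this, sub_self]
  have hcoset : ∀ g : G, ∀ e ∈ E, f' (g * e) = f' g := by
    intro g e he
    rw [hf'c, hf'E e he, ha.zero, add_zero]
  have hout : ∀ (h : G) (q : G ⧸ E), f' (h * q.out) = f' ((h • q).out) := by
    intro h q
    have hmem : ((h • q).out)⁻¹ * (h * q.out) ∈ E := by
      rw [← QuotientGroup.eq]
      rw [QuotientGroup.out_eq']
      conv_lhs => rw [← QuotientGroup.out_eq' q]
      rfl
    have := hcoset ((h • q).out) _ hmem
    rw [← this]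
    congr 1
    group
  set w : V := ∑ q : G ⧸ E, f' q.out with hw
  have hneg : ∀ x : V, -x = x := fun x => neg_eq_of_add_eq_zero_left (h2 x)
  have key : ∀ h : G, f' h = act h w - w := by
    intro h
    have e1 : ∑ q : G ⧸ E, f' (h * q.out) = w := by
      rw [hw]
      rw [Finset.sum_congr rfl (fun q _ => hout h q)]
      exact Equiv.sum_comp (MulAction.toPerm h : Equiv.Perm (G ⧸ E)) (fun q => f' q.out)
    have e2 : ∑ q : G ⧸ E, f' (h * q.out) = Fintype.card (G ⧸ E) • f' h + act h w := by
      rw [Finset.sum_congr rfl (fun q _ => hf'c h q.out), Finset.sum_add_distrib,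
        Finset.sum_const, Finset.card_univ, hw, ha.sum]
    have hcard : Fintype.card (G ⧸ E) = E.index := by
      rw [Subgroup.index_eq_card, Nat.card_eq_fintype_card]
    obtain ⟨k, hk⟩ := hodd
    have e3 : Fintype.card (G ⧸ E) • f' h = f' h := by
      rw [hcard, hk, add_smul, one_smul, mul_smul, two_smul, h2, zero_add]
    rw [e1, e3] at e2
    -- w = f' h + act h w
    have : f' h = w - act h w := eq_sub_of_add_eq e2.symm
    rw [this, ← neg_sub, hneg]
  refine ⟨v + w, fun g => ?_⟩
  have := key g
  simp only [hf'] at this
  rw [ha.add]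
  have h3 : f g = (act g w - w) + (act g v - v) := by rw [← this]; abel
  rw [h3]; abel

end Cfsg.Agent.Lib.Helper3.H1O
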