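import Mathlib
import Cfsg.Agent.Lib.Helper6.OmegaSimple
import Cfsg.Agent.Lib.Helper3.H1OA

/-!
# `H¹(Ω(Q), V) = 0` in characteristic two, dimension at least five, given an isometry `z ∈ Ω` with
`z² + z + 1 = 0` (helper3)

Key point: for such `z` and any reflection `r`, `r z r⁻¹` commutes with `z`.
-/

set_option autoImplicit false

namespace Cfsg.Agent.Lib.Helper3.H1O

open Matrix Cfsg.Agent.Lib.Helper6

section
variable {F : Type*} [Field F] {ι : Type} [Fintype ι] [DecidableEq ι]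
  (Q : QuadraticForm F (ι → F))

/-- `z² = z + 1` (i.e. `z² + z + 1 = 0` in characteristic two) -/
def P3 (z : ↥(Cfsg.isometryGroup F ⇑Q)) : Prop :=
  ∀ y, gact Q z (gact Q z y) = gact Q z y + y

theorem P3.fpf (h2 : (2 : F) = 0) {z : ↥(Cfsg.isometryGroup F ⇑Q)} (hz : P3 Q z)
    (x : ι → F) (hx : gact Q z x = x) : x = 0 := by
  have := hz x
  rw [hx, hx] at this
  have h3 : x + x = 0 := by
    have : x + x = (2 : F) • x := (two_smul F x).symm
    rw [this, h2, zero_smul]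
  have h4 : x = x + x := this
  rw [h3] at h4
  exact h4

theorem P3.conj {z : ↥(Cfsg.isometryGroup F ⇑Q)} (hz : P3 Q z)
    (g : ↥(Cfsg.isometryGroup F ⇑Q)) : P3 Q (g * z * g⁻¹) := by
  intro y
  rw [gact_mul, gact_mul, gact_mul, gact_mul, gact_inv_gact, hz, gact_add, gact_gact_inv]

theorem P3.polar (h2 : (2 : F) = 0) {z : ↥(Cfsg.isometryGroup F ⇑Q)} (hz : P3 Q z)
    (a : ι → F) : QuadraticMap.polar (⇑Q) a (gact Q z a) = Q a := by
  have h1 : Q (gact Q z (gact Q z a)) = Q a := by rw [Q_gact, Q_gact]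
  rw [hz a] at h1
  have h3 : Q (gact Q z a + a) = Q (gact Q z a) + Q a + QuadraticMap.polar (⇑Q) (gact Q z a) a := by
    unfold QuadraticMap.polar
    ring
  rw [h3, Q_gact, QuadraticMap.polar_comm] at h1
  have h4 : Q a + Q a = 0 := by
    have : Q a + Q a = 2 * Q a := (two_mul _).symm
    rw [this, h2, zero_mul]
  rw [h4, zero_add] at h1
  exact h1

/-- formula for the conjugate of `z` by a reflection -/
theorem gact_conj_refl (h2 : (2 : F) = 0) {z : ↥(Cfsg.isometryGroup F ⇑Q)} (hz : P3 Q z)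
    (a : ι → F) (ha : Q a ≠ 0) (y : ι → F) :
    gact Q (reflIso Q a ha * z * (reflIso Q a ha)⁻¹) y =
      gact Q z y + ((Q a)⁻¹ * QuadraticMap.polar (⇑Q) a y) • gact Q z a
        + ((Q a)⁻¹ * QuadraticMap.polar (⇑Q) a (gact Q z y)
            + (Q a)⁻¹ * QuadraticMap.polar (⇑Q) a y) • a := by
  have hp := hz.polar Q h2 a
  have e1 : gact Q (reflIso Q a ha * z * (reflIso Q a ha)⁻¹) y =
      gact Q (reflIso Q a ha) (gact Q z (gact Q (reflIso Q a ha) y)) := by
    rw [reflIso_inv, gact_mul, gact_mul]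
  have e2 : gact Q z (gact Q (reflIso Q a ha) y) =
      gact Q z y - ((Q a)⁻¹ * QuadraticMap.polar (⇑Q) a y) • gact Q z a := by
    rw [gact_reflIso, gact_sub, gact_smul]
  rw [e1, e2, gact_reflIso, QuadraticMap.polar_sub_right, QuadraticMap.polar_smul_right, hp]
  ext i
  simp only [Pi.add_apply, Pi.sub_apply, Pi.smul_apply, smul_eq_mul]
  have hc : (Q a)⁻¹ * Q a = 1 := inv_mul_cancel₀ ha
  set c := (Q a)⁻¹
  set p := QuadraticMap.polar (⇑Q) a y
  set p' := QuadraticMap.polar (⇑Q) a (gact Q z y)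
  linear_combination (-c * p * gact Q z a i - c * p' * a i) * h2 + (c * p * a i) * hc

/-- **key commutation**: `z` commutes with its conjugate under any reflection -/
theorem commute_conj_refl (h2 : (2 : F) = 0) {z : ↥(Cfsg.isometryGroup F ⇑Q)} (hz : P3 Q z)
    (a : ι → F) (ha : Q a ≠ 0) :
    (reflIso Q a ha * z * (reflIso Q a ha)⁻¹) * z = z * (reflIso Q a ha * z * (reflIso Q a ha)⁻¹) := by
  apply iso_ext_gact
  intro y
  rw [gact_mul, gact_mul Q z, gact_conj_refl Q h2 hz, gact_conj_refl Q h2 hz, gact_add, gact_add,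
    gact_smul, gact_smul, hz, hz, QuadraticMap.polar_add_right]
  ext i
  simp only [Pi.add_apply, Pi.smul_apply, smul_eq_mul]
  linear_combination ((Q a)⁻¹ * QuadraticMap.polar (⇑Q) a (gact Q z y) * a i
    - (Q a)⁻¹ * QuadraticMap.polar (⇑Q) a y * gact Q z a i) * h2

end

section main
variable {F : Type*} [Field F] [Fintype F] {ι : Type} [Fintype ι] [DecidableEq ι]
  (Q : QuadraticForm F (ι → F))

/-- the action of `Ω` on vectors -/
def oact (g : ↥(Cfsg.Omega F ⇑Q)) (x : ι → F) : ι → F := gact Q (g : ↥(Cfsg.isometryGroup F ⇑Q)) x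

theorem isAct_oact : IsAct (oact Q) where
  one := fun x => gact_one Q x
  mul := fun g h x => gact_mul Q _ _ x
  add := fun g x y => gact_add Q _ x y

/-- conjugation of `Ω` by an isometry -/
def cj (g : ↥(Cfsg.isometryGroup F ⇑Q)) (z : ↥(Cfsg.Omega F ⇑Q)) : ↥(Cfsg.Omega F ⇑Q) :=
  ⟨g * z.1 * g⁻¹, (inferInstance : (Cfsg.Omega F ⇑Q).Normal).conj_mem z.1 z.2 g⟩

theorem cj_val (g : ↥(Cfsg.isometryGroup F ⇑Q)) (z : ↥(Cfsg.Omega F ⇑Q)) :
    (cj Q g z).1 = g * z.1 * g⁻¹ := rfl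

theorem cj_one (z : ↥(Cfsg.Omega F ⇑Q)) : cj Q 1 z = z := by
  apply Subtype.ext; rw [cj_val]; group

theorem cj_mul (g h : ↥(Cfsg.isometryGroup F ⇑Q)) (z : ↥(Cfsg.Omega F ⇑Q)) :
    cj Q (g * h) z = cj Q g (cj Q h z) := by
  apply Subtype.ext; rw [cj_val, cj_val, cj_val]; group

/-- **vanishing of `H¹`** -/
theorem h1_vanish (h2 : (2 : F) = 0) (hQ : (QuadraticMap.polarBilin Q).Nondegenerate)
    (h5 : 5 ≤ Fintype.card ι) (z₀ : ↥(Cfsg.Omega F ⇑Q)) (hz₀ : P3 Q z₀.1)
    (f : ↥(Cfsg.Omega F ⇑Q) → (ι → F))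
    (hf : ∀ g h : ↥(Cfsg.Omega F ⇑Q), f (g * h) = f g + gact Q g.1 (f h)) :
    ∃ v : ι → F, ∀ g : ↥(Cfsg.Omega F ⇑Q), f g = gact Q g.1 v - v := by
  classical
  have ha := isAct_oact Q
  have hfc : IsCrossed (oact Q) f := hf
  obtain ⟨v, hv⟩ := exists_prin_at ha hfc z₀ (fun x hx => hz₀.fpf Q h2 x hx)
  refine ⟨v, ?_⟩
  set K := prinSub ha hfc v with hK
  suffices htop : ∀ g, g ∈ K from fun g => (mem_prinSub ha hfc v g).mp (htop g)
  -- the invariant set
  set S : Set ↥(Cfsg.Omega F ⇑Q) := {z | P3 Q z.1 ∧ z ∈ K} with hS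
  have hz₀S : z₀ ∈ S := ⟨hz₀, hv⟩
  -- centraliser of an element of S lies in K
  have hcent : ∀ z ∈ S, ∀ g : ↥(Cfsg.Omega F ⇑Q), g * z = z * g → g ∈ K := by
    intro z hz g hg
    exact mem_prinSub_of_commute ha hfc v z hz.2 (fun x hx => hz.1.fpf Q h2 x hx) g hg
  -- invariance under reflections
  have hrefl : ∀ (a : ι → F) (hna : Q a ≠ 0) (z : ↥(Cfsg.Omega F ⇑Q)), z ∈ S →
      cj Q (reflIso Q a hna) z ∈ S := by
    intro a hna z hz
    refine ⟨hz.1.conj Q _, ?_⟩
    apply hcent z hz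
    apply Subtype.ext
    exact commute_conj_refl Q h2 hz.1 a hna
  have hcard : Fintype.card F ≠ 2 ∨ Fintype.card ι ≠ 4 := Or.inr (by omega)
  have hinv : ∀ g : ↥(Cfsg.isometryGroup F ⇑Q), ∀ z, z ∈ S ↔ cj Q g z ∈ S := by
    intro g
    have hg : g ∈ Subgroup.closure (reflSet Q) := by
      rw [closure_reflSet Q hQ hcard]; exact Subgroup.mem_top g
    induction hg using Subgroup.closure_induction with
    | mem r hr =>
      obtain ⟨a, hna, rfl⟩ := hr
      intro z
      refine ⟨hrefl a hna z, fun h => ?_⟩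
      have := hrefl a hna _ h
      rw [← cj_mul, reflIso_mul_self, cj_one] at this
      exact this
    | one => intro z; rw [cj_one]
    | mul x y _ _ hx hy =>
      intro z
      rw [cj_mul, ← hx, ← hy]
    | inv x _ hx =>
      intro z
      rw [hx (cj Q x⁻¹ z), ← cj_mul, mul_inv_cancel, cj_one]
  -- the normal closure of S lies in K
  set N := Subgroup.normalClosure S with hN
  have hNK : N ≤ K := by
    rw [hN, Subgroup.normalClosure, Subgroup.closure_le]
    intro x hx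
    rw [Group.mem_conjugatesOfSet_iff] at hx
    obtain ⟨z, hz, hzx⟩ := hx
    rw [isConj_iff] at hzx
    obtain ⟨c, rfl⟩ := hzx
    have h1 := (hinv c.1 z).mp hz
    have h2' : cj Q c.1 z = c * z * c⁻¹ := by
      apply Subtype.ext; rfl
    rw [h2'] at h1
    exact h1.2
  have hz₀N : z₀ ∈ N := Subgroup.subset_normalClosure hz₀S
  -- simplicity
  haveI hsimple : IsSimpleGroup (Cfsg.POmega F ⇑Q) := POmega_isSimpleGroup Q hQ h5
  have hNn : (N.map (QuotientGroup.mk' (Subgroup.center ↥(Cfsg.Omega F ⇑Q)))).Normal :=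
    Subgroup.Normal.map Subgroup.normalClosure_normal _ (QuotientGroup.mk'_surjective _)
  intro g
  rcases hNn.eq_bot_or_eq_top with hbot | htop'
  · rw [Subgroup.map_eq_bot_iff, QuotientGroup.ker_mk'] at hbot
    have hz₀c := hbot hz₀N
    rw [Subgroup.mem_center_iff] at hz₀c
    exact hcent z₀ hz₀S g (hz₀c g)
  · have hg : (QuotientGroup.mk' (Subgroup.center ↥(Cfsg.Omega F ⇑Q))) g ∈
        N.map (QuotientGroup.mk' (Subgroup.center ↥(Cfsg.Omega F ⇑Q))) := by
      rw [htop']; exact Subgroup.mem_top _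
    obtain ⟨n, hn, hng⟩ := hg
    have hc : n⁻¹ * g ∈ Subgroup.center ↥(Cfsg.Omega F ⇑Q) := by
      rw [← QuotientGroup.eq]
      exact hng
    rw [Subgroup.mem_center_iff] at hc
    have h1 : n⁻¹ * g ∈ K := hcent z₀ hz₀S _ (hc z₀).symm
    have h3 : g = n * (n⁻¹ * g) := by group
    rw [h3]
    exact K.mul_mem (hNK hn) h1

end main

end Cfsg.Agent.Lib.Helper3.H1O
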