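import Mathlib
import Cfsg.Agent.Lib.Helper6.OmegaOdd
import Cfsg.Agent.Lib.Helper15.QuadF2a
import Cfsg.Agent.Lib.Helper3.H1OB

/-!
# Explicit elements `z` with `z² + z + 1 = 0` in `Ω⁺₈(2)` and `Ω⁻₆(2)`; vanishing of `H¹` (helper3)
-/

set_option autoImplicit false

namespace Cfsg.Agent.Lib.Helper3.H1O

open Matrix Cfsg.Agent.Lib.Helper6 Cfsg.Agent.Lib.Helper15

section generic
variable {F : Type*} [Field F] {ι : Type} [Fintype ι] [DecidableEq ι]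
  (Q : QuadraticForm F (ι → F))

theorem mat_inv_of_sq (h2 : (2 : F) = 0) (M : Matrix ι ι F) (hM : M * M = M + 1) :
    M * (M + 1) = 1 ∧ (M + 1) * M = 1 := by
  have h3 : M + M = 0 := by
    have : M + M = (2 : F) • M := (two_smul F M).symm
    rw [this, h2, zero_smul]
  constructor
  · rw [Matrix.mul_add, Matrix.mul_one, hM, add_assoc, add_comm 1 M, ← add_assoc, h3, zero_add]
  · rw [Matrix.add_mul, Matrix.one_mul, hM, add_assoc, add_comm 1 M, ← add_assoc, h3, zero_add]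

/-- the isometry with matrix `M`, `M² = M + 1` -/
def mk3 (h2 : (2 : F) = 0) (M : Matrix ι ι F) (hM : M * M = M + 1)
    (hQM : ∀ x, Q (M *ᵥ x) = Q x) : ↥(Cfsg.isometryGroup F ⇑Q) :=
  mkIso Q M (M + 1) (mat_inv_of_sq h2 M hM).1 (mat_inv_of_sq h2 M hM).2 hQM

theorem P3_mk3 (h2 : (2 : F) = 0) (M : Matrix ι ι F) (hM : M * M = M + 1)
    (hQM : ∀ x, Q (M *ᵥ x) = Q x) : P3 Q (mk3 Q h2 M hM hQM) := by
  intro y
  change M *ᵥ (M *ᵥ y) = M *ᵥ y + y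
  rw [Matrix.mulVec_mulVec, hM, Matrix.add_mulVec, Matrix.one_mulVec]

theorem P3.pow_three (h2 : (2 : F) = 0) {z : ↥(Cfsg.isometryGroup F ⇑Q)} (hz : P3 Q z) :
    z ^ 3 = 1 := by
  apply iso_ext_gact
  intro y
  rw [pow_succ, pow_two, gact_mul, gact_mul, hz, hz, gact_one]
  have h3 : gact Q z y + gact Q z y = 0 := by
    have : gact Q z y + gact Q z y = (2 : F) • gact Q z y := (two_smul F _).symm
    rw [this, h2, zero_smul]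
  rw [add_comm (gact Q z y) y, add_assoc, h3, add_zero]

theorem P3.mem_Omega [Fintype F] (h2 : (2 : F) = 0)
    (hQ : (QuadraticMap.polarBilin Q).Nondegenerate) (h5 : 5 ≤ Fintype.card ι)
    {z : ↥(Cfsg.isometryGroup F ⇑Q)} (hz : P3 Q z) : z ∈ Cfsg.Omega F ⇑Q :=
  mem_Omega_of_pow_odd' Q hQ (by omega) (Or.inr (by omega)) z 3 ⟨1, rfl⟩ (hz.pow_three Q h2)

/-- `H¹` vanishes as soon as there is a matrix `M` with `M² = M + 1` preserving `Q` -/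
theorem h1_vanish_of_matrix [Fintype F] (h2 : (2 : F) = 0)
    (hQ : (QuadraticMap.polarBilin Q).Nondegenerate) (h5 : 5 ≤ Fintype.card ι)
    (M : Matrix ι ι F) (hM : M * M = M + 1) (hQM : ∀ x, Q (M *ᵥ x) = Q x)
    (f : ↥(Cfsg.Omega F ⇑Q) → (ι → F))
    (hf : ∀ g h : ↥(Cfsg.Omega F ⇑Q), f (g * h) = f g + gact Q g.1 (f h)) :
    ∃ v : ι → F, ∀ g : ↥(Cfsg.Omega F ⇑Q), f g = gact Q g.1 v - v :=
  h1_vanish Q h2 hQ h5 ⟨mk3 Q h2 M hM hQM, (P3_mk3 Q h2 M hM hQM).mem_Omega Q h2 hQ h5⟩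
    (P3_mk3 Q h2 M hM hQM) f hf

end generic

section blocks
variable {F : Type*} [Field F]

theorem fromBlocks_sq {m n : Type} [Fintype m] [Fintype n] [DecidableEq m] [DecidableEq n]
    (A : Matrix m m F) (A' : Matrix n n F)
    (hA : A * A = A + 1) (hA' : A' * A' = A' + 1) :
    fromBlocks A 0 0 A' * fromBlocks A 0 0 A' = fromBlocks A 0 0 A' + 1 := by
  rw [Matrix.fromBlocks_multiply, ← Matrix.fromBlocks_one, Matrix.fromBlocks_add]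
  simp [hA, hA']

theorem quadFormPlus_blocks (m : ℕ) (A A' : Matrix (Fin m) (Fin m) F) (h : Aᵀ * A' = 1)
    (v : Fin m ⊕ Fin m → F) :
    Cfsg.quadFormPlus m F (fromBlocks A 0 0 A' *ᵥ v) = Cfsg.quadFormPlus m F v := by
  rw [Matrix.fromBlocks_mulVec]
  unfold Cfsg.quadFormPlus
  simp only [Matrix.zero_mulVec, add_zero, zero_add, Sum.elim_inl, Sum.elim_inr]
  change (A *ᵥ (v ∘ Sum.inl)) ⬝ᵥ (A' *ᵥ (v ∘ Sum.inr)) = (v ∘ Sum.inl) ⬝ᵥ (v ∘ Sum.inr)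
  rw [Matrix.dotProduct_mulVec, Matrix.vecMul_mulVec, h, Matrix.vecMul_one]

theorem quadFormMinus_split (m : ℕ) (a b : F) (v : (Fin m ⊕ Fin m) ⊕ Fin 2 → F) :
    Cfsg.quadFormMinus m F a b v = Cfsg.quadFormPlus m F (v ∘ Sum.inl)
      + ((v ∘ Sum.inr) 0 ^ 2 + a * (v ∘ Sum.inr) 0 * (v ∘ Sum.inr) 1 + b * (v ∘ Sum.inr) 1 ^ 2) :=
  rfl

theorem quadFormMinus_blocks (m : ℕ) (a b : F) (A A' : Matrix (Fin m) (Fin m) F) (h : Aᵀ * A' = 1)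
    (B : Matrix (Fin 2) (Fin 2) F)
    (hB : ∀ w : Fin 2 → F, (B *ᵥ w) 0 ^ 2 + a * (B *ᵥ w) 0 * (B *ᵥ w) 1 + b * (B *ᵥ w) 1 ^ 2 =
      w 0 ^ 2 + a * w 0 * w 1 + b * w 1 ^ 2)
    (v : (Fin m ⊕ Fin m) ⊕ Fin 2 → F) :
    Cfsg.quadFormMinus m F a b (fromBlocks (fromBlocks A 0 0 A') 0 0 B *ᵥ v)
      = Cfsg.quadFormMinus m F a b v := by
  rw [quadFormMinus_split, quadFormMinus_split, Matrix.fromBlocks_mulVec]
  simp only [Matrix.zero_mulVec, add_zero, zero_add]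
  have e1 : (Sum.elim (fromBlocks A 0 0 A' *ᵥ (v ∘ Sum.inl)) (B *ᵥ (v ∘ Sum.inr))) ∘ Sum.inl
      = fromBlocks A 0 0 A' *ᵥ (v ∘ Sum.inl) := rfl
  have e2 : (Sum.elim (fromBlocks A 0 0 A' *ᵥ (v ∘ Sum.inl)) (B *ᵥ (v ∘ Sum.inr))) ∘ Sum.inr
      = B *ᵥ (v ∘ Sum.inr) := rfl
  rw [e1, e2, quadFormPlus_blocks m A A' h, hB]

end blocks

section explicit

/-- the rotation of order three on `F₂²` -/
def A2 : Matrix (Fin 2) (Fin 2) (ZMod 2) := !![0, 1; 1, 1]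
/-- its inverse transpose -/
def A2' : Matrix (Fin 2) (Fin 2) (ZMod 2) := !![1, 1; 1, 0]
def A4 : Matrix (Fin 4) (Fin 4) (ZMod 2) := !![0, 1, 0, 0; 1, 1, 0, 0; 0, 0, 0, 1; 0, 0, 1, 1]
def A4' : Matrix (Fin 4) (Fin 4) (ZMod 2) := !![1, 1, 0, 0; 1, 0, 0, 0; 0, 0, 1, 1; 0, 0, 1, 0]

theorem A2_sq : A2 * A2 = A2 + 1 := by decide
theorem A2'_sq : A2' * A2' = A2' + 1 := by decide
theorem A2_tr : A2ᵀ * A2' = 1 := by decide
theorem A4_sq : A4 * A4 = A4 + 1 := by decide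
theorem A4'_sq : A4' * A4' = A4' + 1 := by decide
theorem A4_tr : A4ᵀ * A4' = 1 := by decide

theorem A2_bin (w : Fin 2 → ZMod 2) :
    (A2 *ᵥ w) 0 ^ 2 + 1 * (A2 *ᵥ w) 0 * (A2 *ᵥ w) 1 + 1 * (A2 *ᵥ w) 1 ^ 2 =
      w 0 ^ 2 + 1 * w 0 * w 1 + 1 * w 1 ^ 2 := by
  have h0 : (A2 *ᵥ w) 0 = w 1 := by
    simp [A2, Matrix.mulVec, dotProduct, Fin.sum_univ_two]
  have h1 : (A2 *ᵥ w) 1 = w 0 + w 1 := by
    simp [A2, Matrix.mulVec, dotProduct, Fin.sum_univ_two]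
  rw [h0, h1]
  generalize w 0 = x
  generalize w 1 = y
  revert x y
  decide

/-- `H¹(Ω⁺₈(2), F₂⁸) = 0` -/
theorem h1_plus4 (f : ↥(Cfsg.Omega (ZMod 2) ⇑(QPlus (ZMod 2) 4)) → (Fin 4 ⊕ Fin 4 → ZMod 2))
    (hf : ∀ g h : ↥(Cfsg.Omega (ZMod 2) ⇑(QPlus (ZMod 2) 4)),
      f (g * h) = f g + gact (QPlus (ZMod 2) 4) g.1 (f h)) :
    ∃ v : Fin 4 ⊕ Fin 4 → ZMod 2, ∀ g : ↥(Cfsg.Omega (ZMod 2) ⇑(QPlus (ZMod 2) 4)),
      f g = gact (QPlus (ZMod 2) 4) g.1 v - v := by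
  apply h1_vanish_of_matrix (QPlus (ZMod 2) 4) (by decide) (nondegenerate_QPlus (ZMod 2) 4)
    (by rw [Fintype.card_sum, Fintype.card_fin]; omega) (fromBlocks A4 0 0 A4')
    (fromBlocks_sq A4 A4' A4_sq A4'_sq) _ f hf
  intro x
  rw [QPlus_apply, QPlus_apply]
  exact quadFormPlus_blocks 4 A4 A4' A4_tr x

/-- `H¹(Ω⁻₆(2), F₂⁶) = 0` -/
theorem h1_minus2
    (f : ↥(Cfsg.Omega (ZMod 2) ⇑(QMinus (ZMod 2) 2 1 1)) → ((Fin 2 ⊕ Fin 2) ⊕ Fin 2 → ZMod 2))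
    (hf : ∀ g h : ↥(Cfsg.Omega (ZMod 2) ⇑(QMinus (ZMod 2) 2 1 1)),
      f (g * h) = f g + gact (QMinus (ZMod 2) 2 1 1) g.1 (f h)) :
    ∃ v : (Fin 2 ⊕ Fin 2) ⊕ Fin 2 → ZMod 2, ∀ g : ↥(Cfsg.Omega (ZMod 2) ⇑(QMinus (ZMod 2) 2 1 1)),
      f g = gact (QMinus (ZMod 2) 2 1 1) g.1 v - v := by
  apply h1_vanish_of_matrix (QMinus (ZMod 2) 2 1 1) (by decide) (nondegenerate_QMinus_two 2)
    (by rw [Fintype.card_sum, Fintype.card_sum, Fintype.card_fin]; omega)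
    (fromBlocks (fromBlocks A2 0 0 A2') 0 0 A2)
    (fromBlocks_sq _ A2 (fromBlocks_sq A2 A2' A2_sq A2'_sq) A2_sq) _ f hf
  intro x
  rw [QMinus_apply, QMinus_apply]
  exact quadFormMinus_blocks 2 1 1 A2 A2' A2_tr A2 A2_bin x

end explicit

end Cfsg.Agent.Lib.Helper3.H1O
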