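import Mathlib
import Cfsg.Agent.Lib.Helper1.ExtraspecialOut2
import Cfsg.Agent.Lib.Helper6.Siegel
import Cfsg.Agent.Lib.Helper15.QuadF2a
import Cfsg.Agent.Lib.Helper3.H1OA

/-!
# `H¹(Ω⁻₄(2), F₂⁴) = 0` (helper3)

`|Ω⁻₄(2)| = 60` (from `O⁻₄(2) ≅ S₅`), an explicit Klein four-group `E ≤ Ω` on which the module is
free (checked by `decide`), and the odd-index averaging lemma.
-/

set_option autoImplicit false

namespace Cfsg.Agent.Lib.Helper3.H1O

open Matrix Cfsg.Agent.Lib.Helper6 Cfsg.Agent.Lib.Helper15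
open scoped commutatorElement

section klein
variable {G : Type*} [Group G]

/-- the Klein four-group generated by two commuting involutions -/
def kleinSub (a b : G) (ha : a * a = 1) (hb : b * b = 1) (hab : a * b = b * a) : Subgroup G where
  carrier := {1, a, b, a * b}
  one_mem' := by simp
  mul_mem' := by
    have hba : b * a = a * b := hab.symm
    have e1 : a * (a * b) = b := by rw [← mul_assoc, ha, one_mul]
    have e2 : b * (a * b) = a := by rw [← mul_assoc, hba, mul_assoc, hb, mul_one]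
    have e3 : a * b * a = b := by rw [mul_assoc, hba, ← mul_assoc, ha, one_mul]
    have e4 : a * b * b = a := by rw [mul_assoc, hb, mul_one]
    have e5 : a * b * (a * b) = 1 := by rw [← mul_assoc, e3, hb]
    rintro x y (rfl | rfl | rfl | rfl) (rfl | rfl | rfl | rfl) <;>
      simp [ha, hb, hba, e1, e2, e3, e4, e5]
  inv_mem' := by
    have hba : b * a = a * b := hab.symm
    have i1 : a⁻¹ = a := inv_eq_of_mul_eq_one_left ha
    have i2 : b⁻¹ = b := inv_eq_of_mul_eq_one_left hb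
    rintro x (rfl | rfl | rfl | rfl) <;> simp [i1, i2, hba]

theorem mem_kleinSub (a b : G) (ha : a * a = 1) (hb : b * b = 1) (hab : a * b = b * a) (x : G) :
    x ∈ kleinSub a b ha hb hab ↔ x = 1 ∨ x = a ∨ x = b ∨ x = a * b := Iff.rfl

theorem kleinSub_le (a b : G) (ha : a * a = 1) (hb : b * b = 1) (hab : a * b = b * a)
    (K : Subgroup G) (hKa : a ∈ K) (hKb : b ∈ K) : kleinSub a b ha hb hab ≤ K := by
  rintro x (rfl | rfl | rfl | rfl)
  · exact K.one_mem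
  · exact hKa
  · exact hKb
  · exact K.mul_mem hKa hKb

theorem card_kleinSub (a b : G) (ha : a * a = 1) (hb : b * b = 1) (hab : a * b = b * a)
    (ha1 : a ≠ 1) (hb1 : b ≠ 1) (hne : a ≠ b) : Nat.card ↥(kleinSub a b ha hb hab) = 4 := by
  classical
  have hcar : ((kleinSub a b ha hb hab : Subgroup G) : Set G) = ↑({1, a, b, a * b} : Finset G) := by
    ext x
    simp only [Finset.coe_insert, Finset.coe_singleton]
    rfl
  change Nat.card ((kleinSub a b ha hb hab : Subgroup G) : Set G) = 4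
  rw [hcar, Nat.card_coe_set_eq, Set.ncard_coe_finset]
  have i2 : b⁻¹ = b := inv_eq_of_mul_eq_one_left hb
  have h1 : (1 : G) ∉ ({a, b, a * b} : Finset G) := by
    simp only [Finset.mem_insert, Finset.mem_singleton, not_or]
    refine ⟨fun h => ha1 h.symm, fun h => hb1 h.symm, fun h => ?_⟩
    exact hne (by rw [← i2]; exact eq_inv_of_mul_eq_one_left h.symm)
  have h2 : a ∉ ({b, a * b} : Finset G) := by
    simp only [Finset.mem_insert, Finset.mem_singleton, not_or]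
    refine ⟨hne, fun h => hb1 ?_⟩
    exact (mul_eq_left.mp h.symm)
  have h3 : b ∉ ({a * b} : Finset G) := by
    simp only [Finset.mem_singleton]
    intro h
    exact ha1 (mul_eq_right.mp h.symm)
  rw [Finset.card_insert_of_notMem h1, Finset.card_insert_of_notMem h2,
    Finset.card_insert_of_notMem h3, Finset.card_singleton]

end klein

section four

/-- index type of the four-dimensional minus form -/
abbrev J4 : Type := (Fin 1 ⊕ Fin 1) ⊕ Fin 2

/-- the minus form in dimension four, as a quadratic form -/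
noncomputable abbrev Qm : QuadraticForm (ZMod 2) (J4 → ZMod 2) := QMinus (ZMod 2) 1 1 1

theorem Qm_fun : Cfsg.quadFormMinus 1 (ZMod 2) 1 1 = ⇑Qm :=
  funext (fun v => (QMinus_apply (ZMod 2) 1 1 1 v).symm)

theorem card_O4 : Nat.card ↥(Cfsg.isometryGroup (ZMod 2) ⇑Qm) = 120 := by
  rw [← Qm_fun]
  obtain ⟨e⟩ := Cfsg.Agent.Lib.Helper1.ESOut.nonempty_O4_equiv
  rw [Nat.card_congr e.toEquiv, Nat.card_eq_fintype_card, Fintype.card_perm, Fintype.card_fin]
  rfl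

theorem index_Omega4 : (Cfsg.Omega (ZMod 2) ⇑Qm).index = 2 := by
  rw [← Qm_fun]
  obtain ⟨e'⟩ := Cfsg.Agent.Lib.Helper1.ESOut.nonempty_O4_equiv
  set e := e'.symm
  have h5 : 5 ≤ Nat.card (Fin 5) := by simp
  have hmap : (alternatingGroup (Fin 5)).map e.toMonoidHom =
      Cfsg.Omega (ZMod 2) (Cfsg.quadFormMinus 1 (ZMod 2) 1 1) := by
    rw [← alternatingGroup.commutator_perm_eq h5]
    show Subgroup.map e.toMonoidHom ⁅(⊤ : Subgroup (Equiv.Perm (Fin 5))), ⊤⁆ = ⁅(⊤ : Subgroup _), ⊤⁆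
    rw [Subgroup.map_commutator, Subgroup.map_top_of_surjective _ e.surjective]
  rw [← hmap]
  exact (Subgroup.index_map_equiv (alternatingGroup (Fin 5)) e).trans alternatingGroup.index_eq_two

theorem card_Omega4 : Nat.card ↥(Cfsg.Omega (ZMod 2) ⇑Qm) = 60 := by
  have h := Subgroup.card_mul_index (Cfsg.Omega (ZMod 2) ⇑Qm)
  rw [index_Omega4, card_O4] at h
  omega

/-- reindexing `Fin 4` matrices -/
def idx4 : J4 → Fin 4 :=
  Sum.elim (Sum.elim (fun _ => 0) (fun _ => 1)) (fun j => if j = 0 then 2 else 3)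

def mat4 (M : Matrix (Fin 4) (Fin 4) (ZMod 2)) : Matrix J4 J4 (ZMod 2) := M.submatrix idx4 idx4

def Ma : Matrix J4 J4 (ZMod 2) := mat4 !![0,1,0,0; 1,0,0,0; 0,0,0,1; 0,0,1,0]
def Mb : Matrix J4 J4 (ZMod 2) := mat4 !![1,1,1,0; 1,1,0,1; 1,0,1,1; 0,1,1,1]
def Mr : Matrix J4 J4 (ZMod 2) := mat4 !![0,1,0,0; 1,0,0,0; 0,0,1,0; 0,0,0,1]
def Mr' : Matrix J4 J4 (ZMod 2) := mat4 !![1,0,0,0; 1,1,0,1; 1,0,1,1; 0,0,0,1]

set_option maxRecDepth 100000 in
theorem Ma_sq : Ma * Ma = 1 := by decide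
set_option maxRecDepth 100000 in
theorem Mb_sq : Mb * Mb = 1 := by decide
set_option maxRecDepth 100000 in
theorem Mr_sq : Mr * Mr = 1 := by decide
set_option maxRecDepth 100000 in
theorem Mr'_sq : Mr' * Mr' = 1 := by decide
set_option maxRecDepth 100000 in
theorem Mab : Ma * Mb = Mb * Ma := by decide
set_option maxRecDepth 100000 in
theorem Ma_comm : Ma = Mr * Mb * Mr * Mb := by decide
set_option maxRecDepth 100000 in
theorem Mb_comm : Mb = Mr' * Ma * Mr' * Ma := by decide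
set_option maxRecDepth 100000 in
theorem Ma_ne : Ma ≠ 1 := by decide
set_option maxRecDepth 100000 in
theorem Mb_ne : Mb ≠ 1 := by decide
set_option maxRecDepth 100000 in
theorem Mab_ne : Ma ≠ Mb := by decide

set_option maxRecDepth 100000 in
theorem Ma_iso' : ∀ x : J4 → ZMod 2, Cfsg.quadFormMinus 1 (ZMod 2) 1 1 (Ma *ᵥ x) =
    Cfsg.quadFormMinus 1 (ZMod 2) 1 1 x := by decide
set_option maxRecDepth 100000 in
theorem Mb_iso' : ∀ x : J4 → ZMod 2, Cfsg.quadFormMinus 1 (ZMod 2) 1 1 (Mb *ᵥ x) =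
    Cfsg.quadFormMinus 1 (ZMod 2) 1 1 x := by decide
set_option maxRecDepth 100000 in
theorem Mr_iso' : ∀ x : J4 → ZMod 2, Cfsg.quadFormMinus 1 (ZMod 2) 1 1 (Mr *ᵥ x) =
    Cfsg.quadFormMinus 1 (ZMod 2) 1 1 x := by decide
set_option maxRecDepth 100000 in
theorem Mr'_iso' : ∀ x : J4 → ZMod 2, Cfsg.quadFormMinus 1 (ZMod 2) 1 1 (Mr' *ᵥ x) =
    Cfsg.quadFormMinus 1 (ZMod 2) 1 1 x := by decide

set_option maxRecDepth 1000000 in
set_option synthInstance.maxSize 4096 in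
set_option synthInstance.maxHeartbeats 400000 in
theorem klein_h1 : ∀ x y : J4 → ZMod 2, x + Ma *ᵥ x = 0 → y + Mb *ᵥ y = 0 →
    x + Ma *ᵥ y = y + Mb *ᵥ x → ∃ w : J4 → ZMod 2, x = Ma *ᵥ w - w ∧ y = Mb *ᵥ w - w := by
  decide

theorem iso_of (M : Matrix J4 J4 (ZMod 2))
    (h : ∀ x : J4 → ZMod 2, Cfsg.quadFormMinus 1 (ZMod 2) 1 1 (M *ᵥ x) =
      Cfsg.quadFormMinus 1 (ZMod 2) 1 1 x) (x : J4 → ZMod 2) : Qm (M *ᵥ x) = Qm x := by
  have := h x
  rw [Qm_fun] at this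
  exact this

/-- the four isometries -/
noncomputable def ia : ↥(Cfsg.isometryGroup (ZMod 2) ⇑Qm) :=
  mkIso Qm Ma Ma Ma_sq Ma_sq (iso_of Ma Ma_iso')
noncomputable def ib : ↥(Cfsg.isometryGroup (ZMod 2) ⇑Qm) :=
  mkIso Qm Mb Mb Mb_sq Mb_sq (iso_of Mb Mb_iso')
noncomputable def ir : ↥(Cfsg.isometryGroup (ZMod 2) ⇑Qm) :=
  mkIso Qm Mr Mr Mr_sq Mr_sq (iso_of Mr Mr_iso')
noncomputable def ir' : ↥(Cfsg.isometryGroup (ZMod 2) ⇑Qm) :=
  mkIso Qm Mr' Mr' Mr'_sq Mr'_sq (iso_of Mr' Mr'_iso')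

theorem iso_ext_mat {g h : ↥(Cfsg.isometryGroup (ZMod 2) ⇑Qm)}
    (H : ((g.1 : GL J4 (ZMod 2)) : Matrix J4 J4 (ZMod 2)) = ((h.1 : GL J4 (ZMod 2)) : Matrix J4 J4 (ZMod 2))) :
    g = h := by
  apply Subtype.ext
  apply Units.ext
  exact H

theorem ia_sq : ia * ia = 1 := iso_ext_mat Ma_sq
theorem ib_sq : ib * ib = 1 := iso_ext_mat Mb_sq
theorem ir_sq : ir * ir = 1 := iso_ext_mat Mr_sq
theorem ir'_sq : ir' * ir' = 1 := iso_ext_mat Mr'_sq
theorem iab : ia * ib = ib * ia := iso_ext_mat Mab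

theorem ia_mem : ia ∈ Cfsg.Omega (ZMod 2) ⇑Qm := by
  have h1 : ia = ⁅ir, ib⁆ := by
    rw [commutatorElement_def, inv_eq_of_mul_eq_one_left ir_sq, inv_eq_of_mul_eq_one_left ib_sq]
    exact iso_ext_mat Ma_comm
  rw [h1]
  exact Subgroup.commutator_mem_commutator (Subgroup.mem_top _) (Subgroup.mem_top _)

theorem ib_mem : ib ∈ Cfsg.Omega (ZMod 2) ⇑Qm := by
  have h1 : ib = ⁅ir', ia⁆ := by
    rw [commutatorElement_def, inv_eq_of_mul_eq_one_left ir'_sq, inv_eq_of_mul_eq_one_left ia_sq]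
    exact iso_ext_mat Mb_comm
  rw [h1]
  exact Subgroup.commutator_mem_commutator (Subgroup.mem_top _) (Subgroup.mem_top _)

/-- `H¹(Ω⁻₄(2), F₂⁴) = 0` -/
theorem h1_minus1 (f : ↥(Cfsg.Omega (ZMod 2) ⇑Qm) → (J4 → ZMod 2))
    (hf : ∀ g h : ↥(Cfsg.Omega (ZMod 2) ⇑Qm), f (g * h) = f g + gact Qm g.1 (f h)) :
    ∃ v : J4 → ZMod 2, ∀ g : ↥(Cfsg.Omega (ZMod 2) ⇑Qm), f g = gact Qm g.1 v - v := by
  classical
  set act : ↥(Cfsg.Omega (ZMod 2) ⇑Qm) → (J4 → ZMod 2) → (J4 → ZMod 2) :=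
    fun g x => gact Qm g.1 x with hact
  have ha : IsAct act :=
    { one := fun x => gact_one Qm x
      mul := fun g h x => gact_mul Qm _ _ x
      add := fun g x y => gact_add Qm _ x y }
  have hfc : IsCrossed act f := hf
  set ωa : ↥(Cfsg.Omega (ZMod 2) ⇑Qm) := ⟨ia, ia_mem⟩ with hωa
  set ωb : ↥(Cfsg.Omega (ZMod 2) ⇑Qm) := ⟨ib, ib_mem⟩ with hωb
  have haa : ωa * ωa = 1 := Subtype.ext ia_sq
  have hbb : ωb * ωb = 1 := Subtype.ext ib_sq
  have hab : ωa * ωb = ωb * ωa := Subtype.ext iab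
  have acta : ∀ x, act ωa x = Ma *ᵥ x := fun x => rfl
  have actb : ∀ x, act ωb x = Mb *ᵥ x := fun x => rfl
  have c1 : f ωa + Ma *ᵥ f ωa = 0 := by
    have := hfc ωa ωa
    rw [haa, hfc.map_one ha, acta] at this
    exact this.symm
  have c2 : f ωb + Mb *ᵥ f ωb = 0 := by
    have := hfc ωb ωb
    rw [hbb, hfc.map_one ha, actb] at this
    exact this.symm
  have c3 : f ωa + Ma *ᵥ f ωb = f ωb + Mb *ᵥ f ωa := by
    have h1 := hfc ωa ωb
    have h2 := hfc ωb ωa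
    rw [acta] at h1
    rw [actb] at h2
    rw [← h1, ← h2, hab]
  obtain ⟨w, hw1, hw2⟩ := klein_h1 (f ωa) (f ωb) c1 c2 c3
  have hKa : ωa ∈ prinSub ha hfc w := by
    rw [mem_prinSub, acta]; exact hw1
  have hKb : ωb ∈ prinSub ha hfc w := by
    rw [mem_prinSub, actb]; exact hw2
  have hE := kleinSub_le ωa ωb haa hbb hab _ hKa hKb
  have ha1 : ωa ≠ 1 := by
    intro h
    have := congrArg (fun g : ↥(Cfsg.Omega (ZMod 2) ⇑Qm) =>
      ((g.1.1 : GL J4 (ZMod 2)) : Matrix J4 J4 (ZMod 2))) h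
    exact Ma_ne this
  have hb1 : ωb ≠ 1 := by
    intro h
    have := congrArg (fun g : ↥(Cfsg.Omega (ZMod 2) ⇑Qm) =>
      ((g.1.1 : GL J4 (ZMod 2)) : Matrix J4 J4 (ZMod 2))) h
    exact Mb_ne this
  have hne : ωa ≠ ωb := by
    intro h
    have := congrArg (fun g : ↥(Cfsg.Omega (ZMod 2) ⇑Qm) =>
      ((g.1.1 : GL J4 (ZMod 2)) : Matrix J4 J4 (ZMod 2))) h
    exact Mab_ne this
  have hcard := card_kleinSub ωa ωb haa hbb hab ha1 hb1 hne
  have hidx : (kleinSub ωa ωb haa hbb hab).index = 15 := by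
    have h := Subgroup.card_mul_index (kleinSub ωa ωb haa hbb hab)
    rw [hcard, card_Omega4] at h
    omega
  haveI : Finite ↥(Cfsg.Omega (ZMod 2) ⇑Qm) := Nat.finite_of_card_ne_zero (by rw [card_Omega4]; decide)
  have h2 : ∀ x : J4 → ZMod 2, x + x = 0 := by
    intro x
    ext i
    exact CharTwo.add_self_eq_zero (x i)
  exact principal_of_odd_index ha hfc h2 (kleinSub ωa ωb haa hbb hab)
    (by rw [hidx]; decide) w hE

end four

end Cfsg.Agent.Lib.Helper3.H1O
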