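import Mathlib
import Cfsg.Prelude.Def_KGroupFacts
import Cfsg.Agent.H5.StemTC
import Cfsg.Agent.H5.StemLift
import Cfsg.Agent.Lib.Helper7.L34Data
import Cfsg.Agent.Lib.Helper7.L34Card
import Cfsg.Agent.Lib.Helper7.L34Model
import Cfsg.Agent.Lib.Helper10.L34U2
import Cfsg.Agent.Lib.Helper17.L34B
import Cfsg.Agent.Lib.Helper23.L34GC

/-!
# Uniqueness of the quasisimple group `2² · L₃(4)` (helper3, on top of helper7's `L34` library)

A finite stem extension `σ : L → G` of `G = PSL₃(4)` whose kernel has order `4` and exponent `2` is a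
quotient of helper23's presented cover `4² · L₃(4)`: the lifts of orders `7, 3, 3, 3` of the four
generators satisfy the relators `relsCov`.  The kernel of `Cover → L` has at most `4` elements and
contains `1, k_a², k_b², k_a² k_b²`, which are distinct in the permutation model; so it is the same
subgroup for any two such extensions, and they are isomorphic.
-/

set_option autoImplicit false

namespace Cfsg.Agent.Lib.Helper3.L34Uniq

open Cfsg Cfsg.H5.TCk Cfsg.Agent.Lib.Helper10.Weak Cfsg.Agent.Lib.Helper7.L34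

universe u v w

/-- membership in `relsCov`, by cases -/
theorem mem_relsCov_cases {r : List ℕ} (hr : r ∈ relsCov) :
    r ∈ rels2 ∨ (∃ i, r = Cfsg.H5.StemTC.cword wordKa i) ∨ (∃ i, r = Cfsg.H5.StemTC.cword wordKb i) ∨
      r = wordKa ++ wordKa ++ wordKa ++ wordKa ∨ r = wordKb ++ wordKb ++ wordKb ++ wordKb := by
  unfold relsCov at hr
  rcases List.mem_append.mp hr with h | h
  · rcases List.mem_append.mp h with h | h
    · exact Or.inl h
    · unfold Cfsg.H5.StemTC.cwords at h
      obtain ⟨c, hc, hrc⟩ := List.mem_flatMap.mp h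
      obtain ⟨i, _, rfl⟩ := List.mem_map.mp hrc
      simp only [List.mem_cons, List.not_mem_nil, or_false] at hc
      rcases hc with rfl | rfl
      · exact Or.inr (Or.inl ⟨i, rfl⟩)
      · exact Or.inr (Or.inr (Or.inl ⟨i, rfl⟩))
  · simp only [List.mem_cons, List.not_mem_nil, or_false] at h
    rcases h with rfl | rfl
    · exact Or.inr (Or.inr (Or.inr (Or.inl rfl)))
    · exact Or.inr (Or.inr (Or.inr (Or.inr rfl)))

theorem ev_pow_four {Γ : Type u} [Group Γ] (γ : ℕ → Γ) (w : List ℕ) (h : ev γ w * ev γ w = 1) :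
    ev γ (w ++ w ++ w ++ w) = 1 := by
  rw [ev_append, ev_append, ev_append, h, one_mul, h]

/-- the lifts of the four generators to a finite stem extension with kernel of exponent `2` generate and
satisfy `relsCov` -/
theorem exists_lifts {G : Type v} [Group G] (g : ℕ → G)
    (hgen : Subgroup.closure (Set.range fun i : Fin 4 => g i.val) = ⊤)
    (hrel : ∀ r ∈ relsCov, ev g r = 1) (hka : ev g wordKa = 1) (hkb : ev g wordKb = 1)
    {L : Type u} [Group L] [Finite L] (σ : L →* G) (hσ : IsStemExtension σ)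
    (hexp : ∀ x ∈ σ.ker, x * x = 1) :
    ∃ γ : ℕ → L, Subgroup.closure (Set.range fun i : Fin 4 => γ i.val) = ⊤ ∧
      (∀ r ∈ relsCov, ev γ r = 1) ∧ ev γ wordKa ∈ σ.ker ∧ ev γ wordKb ∈ σ.ker ∧
      ∀ i < 4, σ (γ i) = g i := by
  have hs := hσ.1
  have hc := hσ.2.1
  have h2 : IsPGroup 2 σ.ker := by
    intro x
    refine ⟨1, Subtype.ext ?_⟩
    rw [pow_one, pow_two, Subgroup.coe_mul, Subgroup.coe_one]
    exact hexp x x.2
  have hrel2 : ∀ r ∈ rels2, ev g r = 1 := fun r hr => hrel r (Helper23.mem_relsCov_of_rels2 hr)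
  -- the orders of the generators
  have hord : ∀ i < 4, g i ^ ord2 i = 1 := by
    intro i hi
    have h := hrel2 _ (H10U2.pow_mem_rels2 hi)
    rwa [Helper1.ev_replicate, Helper1.gl_even] at h
  set g' : ℕ → G := fun i => if i < 4 then g i else 1 with hg'
  have hg'lt : ∀ i < 4, g' i = g i := by
    intro i hi
    show (if i < 4 then g i else 1) = g i
    rw [if_pos hi]
  have hord' : ∀ i, g' i ^ ord2 i = 1 := by
    intro i
    show (if i < 4 then g i else 1) ^ ord2 i = 1
    by_cases hi : i < 4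
    · rw [if_pos hi]; exact hord i hi
    · rw [if_neg hi]; exact one_pow _
  choose γh hγh hγo using fun i =>
    exists_lift_pow_eq_one σ hs h2 (g' i) (H10U2.ord2_coprime i) (hord' i)
  have hσγ : (fun k => σ (γh k)) = g' := funext hγh
  -- the words `k_a`, `k_b` of the lifts lie in the kernel, hence in the centre
  have hker : ∀ w : List ℕ, w.all (fun l => decide (l < 2 * 4)) = true → ev g w = 1 →
      ev γh w ∈ σ.ker := by
    intro w hw h1
    rw [MonoidHom.mem_ker, Cfsg.H5.StemTC.map_ev, hσγ,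
      Helper17.ev_congr_lt g' g 4 hg'lt w hw]
    exact h1
  have hkaL := hker wordKa Helper23.wordKa_all hka
  have hkbL := hker wordKb Helper23.wordKb_all hkb
  refine ⟨γh, ?_, ?_, hkaL, hkbL, fun i hi => (hγh i).trans (hg'lt i hi)⟩
  · -- the lifts generate
    apply Cfsg.H5.StemLift.eq_top_of_map_eq_top σ hσ
    rw [← closure_map_range σ γh 4]
    have : (fun i : Fin 4 => σ (γh i.val)) = fun i : Fin 4 => g i.val := by
      funext i
      rw [hγh i.val]
      exact hg'lt i.val i.2
    rw [this]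
    exact hgen
  · intro r hr
    rcases mem_relsCov_cases hr with h | ⟨i, rfl⟩ | ⟨i, rfl⟩ | rfl | rfl
    · rcases H10U2.mem_rels2_cases h with ⟨i, _, rfl⟩ | ⟨c, rfl⟩
      · rw [Helper1.ev_replicate, Helper1.gl_even]
        exact hγo i
      · apply ev_conjRel_eq_one σ hc h2 γh ord2 c.1 c.2.1 c.2.2.1 c.2.2.2 (H10U2.ord2_coprime _)
          (H10U2.ord2_coprime _) (hγo _) (hγo _)
        rw [hσγ]
        have h1 : ev g' (crel c) = ev g (crel c) :=
          Helper17.ev_congr_lt g' g 4 hg'lt (crel c) (H10U2.rels2_letters _ h)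
        exact h1.trans (hrel2 _ h)
    · exact Cfsg.H5.StemTC.ev_cword γh wordKa i (hc hkaL)
    · exact Cfsg.H5.StemTC.ev_cword γh wordKb i (hc hkbL)
    · exact ev_pow_four γh wordKa (hexp _ hkaL)
    · exact ev_pow_four γh wordKb (hexp _ hkbL)

/-! ### the cover and the subgroup `⟨k_a², k_b²⟩` -/

/-- the presented cover `4² · L₃(4)` (in `Type`) -/
abbrev C : Type := Helper23.Cover.{0}

/-- its generators -/
noncomputable abbrev c : ℕ → C := Helper23.cgen.{0}

theorem card_C : Finite C ∧ Nat.card C ≤ 322560 :=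
  card_le_of_rels2 c (fun r hr => Helper23.cgen_rel r (Helper23.mem_relsCov_of_rels2 hr))
    Helper23.closure_cgen

/-- the subgroup generated by the squares of `k_a` and `k_b` -/
noncomputable def Q : Subgroup C :=
  Subgroup.closure {ev c wordKa * ev c wordKa, ev c wordKb * ev c wordKb}

/-- `Q` has at least four elements -/
theorem four_le_card_Q : 4 ≤ Nat.card Q := by
  have : Finite C := card_C.1
  obtain ⟨m, hm, hinj⟩ := exists_model
  obtain ⟨φ, hφ⟩ := Helper23.exists_hom.{0} m hm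
  have hφa : φ (ev c wordKa) = ev m wordKa := hφ wordKa Helper23.wordKa_all
  have hφb : φ (ev c wordKb) = ev m wordKb := hφ wordKb Helper23.wordKb_all
  set ka := ev c wordKa with hka
  set kb := ev c wordKb with hkb
  have hmemA : ka * ka ∈ Q := Subgroup.subset_closure (by simp [hka])
  have hmemB : kb * kb ∈ Q := Subgroup.subset_closure (by simp [hkb])
  let f : Fin 2 × Fin 2 → Q := fun p =>
    ⟨(ka * ka) ^ p.1.val * (kb * kb) ^ p.2.val,
      Q.mul_mem (Q.pow_mem hmemA _) (Q.pow_mem hmemB _)⟩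
  have hf : Function.Injective f := by
    intro p q hpq
    have h1 : (ka * ka) ^ p.1.val * (kb * kb) ^ p.2.val =
        (ka * ka) ^ q.1.val * (kb * kb) ^ q.2.val := congrArg Subtype.val hpq
    have h2 := congrArg φ h1
    simp only [map_mul, map_pow, hφa, hφb] at h2
    have h3 : ∀ (x : Equiv.Perm (Fin 960)) (n : ℕ), (x * x) ^ n = x ^ (2 * n) := by
      intro x n
      rw [← pow_two, ← pow_mul]
    rw [h3, h3, h3, h3] at h2
    have hp1 : 2 * p.1.val < 4 := by have := p.1.isLt; omega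
    have hp2 : 2 * p.2.val < 4 := by have := p.2.isLt; omega
    have hq1 : 2 * q.1.val < 4 := by have := q.1.isLt; omega
    have hq2 : 2 * q.2.val < 4 := by have := q.2.isLt; omega
    have h4 := hinj ⟨2 * p.1.val, hp1⟩ ⟨2 * p.2.val, hp2⟩ ⟨2 * q.1.val, hq1⟩ ⟨2 * q.2.val, hq2⟩ h2
    have h5 : 2 * p.1.val = 2 * q.1.val := congrArg Fin.val h4.1
    have h6 : 2 * p.2.val = 2 * q.2.val := congrArg Fin.val h4.2
    apply Prod.ext
    · apply Fin.ext; omega
    · apply Fin.ext; omega
  have h7 := Nat.card_le_card_of_injective f hf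
  rw [Nat.card_eq_fintype_card, Fintype.card_prod, Fintype.card_fin] at h7
  exact h7

/-- the cover maps onto every finite stem extension of `G` with kernel of exponent `2`, compatibly with the
generators, and `⟨k_a², k_b²⟩` dies (no hypothesis on the order of the kernel) -/
theorem exists_hom_surjective {G : Type v} [Group G] (g : ℕ → G)
    (hgen : Subgroup.closure (Set.range fun i : Fin 4 => g i.val) = ⊤)
    (hrel : ∀ r ∈ relsCov, ev g r = 1) (hka : ev g wordKa = 1) (hkb : ev g wordKb = 1)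
    {L : Type u} [Group L] [Finite L] (σ : L →* G) (hσ : IsStemExtension σ)
    (hexp : ∀ x ∈ σ.ker, x * x = 1) :
    ∃ ψ : C →* L, Function.Surjective ψ ∧ Q ≤ ψ.ker ∧ ∀ i < 4, σ (ψ (c i)) = g i := by
  obtain ⟨γ, hγgen, hγrel, hγa, hγb, hγσ⟩ := exists_lifts g hgen hrel hka hkb σ hσ hexp
  obtain ⟨ψ, hψ⟩ := Helper23.exists_hom.{0} γ hγrel
  have hψgen : ∀ i < 4, ψ (c i) = γ i := by
    intro i hi
    have h := hψ [2 * i] (by
      simp only [List.all_cons, List.all_nil, Bool.and_true, decide_eq_true_eq]; omega)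
    simpa [ev, Cfsg.H5.TCk.gl_even] using h
  have hsurj : Function.Surjective ψ := by
    rw [← MonoidHom.range_eq_top, eq_top_iff, ← hγgen, Subgroup.closure_le]
    rintro _ ⟨i, rfl⟩
    exact ⟨c i.val, hψgen i.val i.2⟩
  refine ⟨ψ, hsurj, ?_, fun i hi => by rw [hψgen i hi]; exact hγσ i hi⟩
  -- the squares lie in the kernel
  have hsqA : ev c wordKa * ev c wordKa ∈ ψ.ker := by
    rw [MonoidHom.mem_ker, map_mul, hψ wordKa Helper23.wordKa_all]
    exact hexp _ hγa
  have hsqB : ev c wordKb * ev c wordKb ∈ ψ.ker := by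
    rw [MonoidHom.mem_ker, map_mul, hψ wordKb Helper23.wordKb_all]
    exact hexp _ hγb
  unfold Q
  rw [Subgroup.closure_le]
  intro x hx
  rcases hx with rfl | rfl
  · exact hsqA
  · exact hsqB

/-- the kernel of the map from the cover onto a stem extension with kernel of order `4` and exponent `2` -/
theorem exists_hom_ker_eq {G : Type v} [Group G] (g : ℕ → G) (hcard : Nat.card G = 20160)
    (hgen : Subgroup.closure (Set.range fun i : Fin 4 => g i.val) = ⊤)
    (hrel : ∀ r ∈ relsCov, ev g r = 1) (hka : ev g wordKa = 1) (hkb : ev g wordKb = 1)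
    {L : Type u} [Group L] [Finite L] (σ : L →* G) (hσ : IsStemExtension σ)
    (hexp : ∀ x ∈ σ.ker, x * x = 1) (hk4 : Nat.card σ.ker = 4) :
    ∃ ψ : C →* L, Function.Surjective ψ ∧ ψ.ker = Q := by
  have : Finite C := card_C.1
  obtain ⟨ψ, hsurj, hle, _⟩ := exists_hom_surjective g hgen hrel hka hkb σ hσ hexp
  refine ⟨ψ, hsurj, ?_⟩
  -- the kernel has at most four elements
  have hC := Helper1.card_eq_ker_mul ψ hsurj
  have hL := Helper1.card_eq_ker_mul σ hσ.1
  rw [hcard, hk4] at hL
  have hCle := card_C.2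
  have hk : Nat.card ψ.ker ≤ 4 := by
    rw [hC, hL] at hCle
    omega
  exact (Subgroup.eq_of_le_of_card_ge hle (hk.trans four_le_card_Q)).symm

/-- two finite stem extensions of `G` with kernels of order `4` and exponent `2` are isomorphic -/
theorem nonempty_mulEquiv {G : Type v} [Group G] (g : ℕ → G) (hcard : Nat.card G = 20160)
    (hgen : Subgroup.closure (Set.range fun i : Fin 4 => g i.val) = ⊤)
    (hrel : ∀ r ∈ relsCov, ev g r = 1) (hka : ev g wordKa = 1) (hkb : ev g wordKb = 1)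
    {L₁ : Type u} [Group L₁] [Finite L₁] (σ₁ : L₁ →* G) (hσ₁ : IsStemExtension σ₁)
    (hexp₁ : ∀ x ∈ σ₁.ker, x * x = 1) (hk₁ : Nat.card σ₁.ker = 4)
    {L₂ : Type w} [Group L₂] [Finite L₂] (σ₂ : L₂ →* G) (hσ₂ : IsStemExtension σ₂)
    (hexp₂ : ∀ x ∈ σ₂.ker, x * x = 1) (hk₂ : Nat.card σ₂.ker = 4) :
    Nonempty (L₁ ≃* L₂) := by
  obtain ⟨ψ₁, hs₁, hker₁⟩ := exists_hom_ker_eq g hcard hgen hrel hka hkb σ₁ hσ₁ hexp₁ hk₁
  obtain ⟨ψ₂, hs₂, hker₂⟩ := exists_hom_ker_eq g hcard hgen hrel hka hkb σ₂ hσ₂ hexp₂ hk₂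
  have e₁ : C ⧸ ψ₁.ker ≃* L₁ := QuotientGroup.quotientKerEquivOfSurjective ψ₁ hs₁
  have e₂ : C ⧸ ψ₂.ker ≃* L₂ := QuotientGroup.quotientKerEquivOfSurjective ψ₂ hs₂
  have e : C ⧸ ψ₁.ker ≃* C ⧸ ψ₂.ker := QuotientGroup.quotientMulEquivOfEq (hker₁.trans hker₂.symm)
  exact ⟨e₁.symm.trans (e.trans e₂)⟩

/-- a perfect group is a stem extension of (a copy of) its central quotient -/
theorem exists_stem_of_perfect {L : Type u} [Group L] (hp : commutator L = ⊤) {G : Type v} [Group G]
    (e : L ⧸ Subgroup.center L ≃* G) :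
    ∃ σ : L →* G, IsStemExtension σ ∧ σ.ker = Subgroup.center L := by
  have hker : (e.toMonoidHom.comp (QuotientGroup.mk' (Subgroup.center L))).ker =
      Subgroup.center L := by
    ext x
    rw [MonoidHom.mem_ker, MonoidHom.comp_apply]
    show e (QuotientGroup.mk' (Subgroup.center L) x) = 1 ↔ _
    rw [e.map_eq_one_iff, QuotientGroup.mk'_apply, QuotientGroup.eq_one_iff]
  refine ⟨e.toMonoidHom.comp (QuotientGroup.mk' (Subgroup.center L)), ⟨?_, ?_, ?_⟩, hker⟩
  · exact e.surjective.comp (QuotientGroup.mk'_surjective _)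
  · rw [hker]
  · rw [hker, hp]
    exact le_top

end Cfsg.Agent.Lib.Helper3.L34Uniq
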