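import Cfsg.Agent.Lib.Helper26.M24IdxS
import Cfsg.Agent.Lib.Helper28.ThreeSets

set_option autoImplicit false

/-!
Piece P1771 of the determination of the subgroups of small index of `M24` (helper26's plan):
a transitive subgroup of order 138240 containing the Sylow 2-subgroup `syT0` is the stabilizer of
the base sextet `famSet c2b_S0`.
-/

namespace Cfsg.Agent.H26.M24Idx

open Cfsg MulAction Cfsg.Agent.Lib.Helper28 Cfsg.Agent.H26.M23Idx
open scoped Pointwise

namespace Helper3

/-- two tetrads of a sextet with a common point coincide -/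
theorem tetrad_eq_of_meet {S : Finset (Finset GolayPt)} (hS : S ∈ sextets)
    {t u : Finset GolayPt} (ht : t ∈ S) (hu : u ∈ S) {q : GolayPt} (hqt : q ∈ t) (hqu : q ∈ u) :
    t = u := by
  by_contra hne
  obtain ⟨-, h4, hun⟩ := hS
  have hoct := hun t ht u hu hne
  have h8 : (t ∪ u).card = 8 := hoct.2
  have h1 := Finset.card_union_add_card_inter t u
  rw [h8, h4 t ht, h4 u hu] at h1
  have h0 : (t ∩ u).card = 0 := by omega
  rw [Finset.card_eq_zero] at h0
  have : q ∈ t ∩ u := Finset.mem_inter.mpr ⟨hqt, hqu⟩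
  rw [h0] at this
  exact absurd this (Finset.notMem_empty q)

/-- a permutation fixing `p` and stabilizing `s` stabilizes `insert p s` -/
theorem smul_insert_eq {g : ↥M24} {p : GolayPt} {s : Finset GolayPt} (hp : g • p = p)
    (hs : g • s = s) : g • insert p s = insert p s := by
  rw [Finset.smul_finset_insert, hp, hs]

/-- a permutation fixing `p ∉ s` and stabilizing `insert p s` stabilizes `s` -/
theorem smul_eq_of_insert {g : ↥M24} {p : GolayPt} {s : Finset GolayPt} (hps : p ∉ s)
    (hp : g • p = p) (hs : g • insert p s = insert p s) : g • s = s := by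
  apply Finset.eq_of_subset_of_card_le
  · intro q hq
    rw [Finset.mem_smul_finset] at hq
    obtain ⟨r, hr, rfl⟩ := hq
    have h1 : g • r ∈ g • insert p s :=
      Finset.smul_mem_smul_finset (Finset.mem_insert_of_mem hr)
    rw [hs, Finset.mem_insert] at h1
    rcases h1 with h1 | h1
    · exfalso
      rw [← hp] at h1
      have : r = p := MulAction.injective g h1
      exact hps (this ▸ hr)
    · exact h1
  · rw [Finset.card_smul_finset]

theorem octad_split : ptSet sy_O0 = insert (ptN 5) (ptSet [19, 17, 21, 8, 10, 12, 20]) := by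
  ext q
  rw [Finset.mem_insert, mem_ptSet, mem_ptSet]
  constructor
  · rintro ⟨a, ha, rfl⟩
    have : a = 5 ∨ a ∈ [19, 17, 21, 8, 10, 12, 20] := by
      revert a
      decide
    rcases this with rfl | h
    · exact Or.inl rfl
    · exact Or.inr ⟨a, h, rfl⟩
  · rintro (rfl | ⟨a, ha, rfl⟩)
    · exact ⟨5, by decide, rfl⟩
    · refine ⟨a, ?_, rfl⟩
      revert a
      decide

theorem tetrad_split : ptSet [5, 17, 19, 21] = insert (ptN 5) (ptSet [19, 17, 21]) := by
  ext q
  rw [Finset.mem_insert, mem_ptSet, mem_ptSet]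
  constructor
  · rintro ⟨a, ha, rfl⟩
    have : a = 5 ∨ a ∈ [19, 17, 21] := by
      revert a
      decide
    rcases this with rfl | h
    · exact Or.inl rfl
    · exact Or.inr ⟨a, h, rfl⟩
  · rintro (rfl | ⟨a, ha, rfl⟩)
    · exact ⟨5, by decide, rfl⟩
    · refine ⟨a, ?_, rfl⟩
      revert a
      decide

theorem not_mem_of_not_mem_list {L : List ℕ} (hL : ∀ b ∈ L, b < 24) {a : ℕ} (ha : a < 24)
    (h : a ∉ L) : ptN a ∉ ptSet L := by
  intro hmem
  obtain ⟨b, hb, hbe⟩ := mem_ptSet.mp hmem
  have : b = a := ptN_inj (hL b hb) ha hbe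
  exact h (this ▸ hb)

theorem tetrad_mem : ptSet [5, 17, 19, 21] ∈ famSet c2b_S0 := by
  unfold famSet
  rw [List.mem_toFinset]
  exact List.mem_map.mpr ⟨[5, 17, 19, 21], by decide, rfl⟩

end Helper3

open Helper3

theorem trans_1771 (H : Subgroup ↥M24) (hT : syT0 ≤ H) (hc : Nat.card H = 138240)
    (htr : ∀ q : GolayPt, ∃ h ∈ H, h • ptN 5 = q) :
    H = stabilizer M24 (famSet c2b_S0) := by
  have hHa : Nat.card ↥(H ⊓ stabilizer M24 (ptN 5)) = 5760 := by
    have := card_eq_mul_stab htr
    omega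
  have hoct : ptSet sy_O0 ∈ octads := sy_base_check.1.mem
  obtain ⟨m, L, hmL, -, hdvd, hle, -⟩ := orbit_cases (stab_hfix H) (stab_hT hT)
  rw [hHa] at hdvd
  have hfix5 : ∀ k ∈ H ⊓ stabilizer M24 (ptN 5), k • ptN 5 = ptN 5 := stab_hfix H
  have hstabL : ∀ k ∈ H ⊓ stabilizer M24 (ptN 5), k • ptSet L = ptSet L := fun k hk =>
    mem_stabilizer_iff.mp (Subgroup.mem_inf.mp (hle hk)).2
  -- the trio bound gives a contradiction as soon as the point stabilizer stabilizes the octad
  have htrio : H ⊓ stabilizer M24 (ptN 5) ≤ stabilizer M24 (ptSet sy_O0) → False := by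
    intro hst
    have := card_le_of_stab_le_octad hT htr hst
    omega
  simp only [orbitShapes, List.mem_cons, Prod.mk.injEq, List.not_mem_nil, or_false] at hmL
  rcases hmL with ⟨rfl, rfl⟩ | ⟨rfl, rfl⟩ | ⟨rfl, rfl⟩ | ⟨rfl, rfl⟩ | ⟨rfl, rfl⟩ | ⟨rfl, rfl⟩ |
    ⟨rfl, rfl⟩ | ⟨rfl, rfl⟩
  · -- m = 16
    exfalso
    apply htrio
    intro k hk
    rw [mem_stabilizer_iff, octad_split]
    exact smul_insert_eq (hfix5 k hk) (hstabL k hk)
  · -- m = 20
    have hS0 : famSet c2b_S0 ∈ sextets := sy_S0_mem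
    have hτS := tetrad_mem
    have hτ4 : (ptSet [5, 17, 19, 21]).card = 4 := hS0.2.1 _ hτS
    have h5L : ptN 5 ∉ ptSet [19, 17, 21] :=
      not_mem_of_not_mem_list (by decide) (by norm_num) (by decide)
    -- the point stabilizer is the full stabilizer of the point and the triple
    have hHaeq : H ⊓ stabilizer M24 (ptN 5) =
        stabilizer M24 (ptN 5) ⊓ stabilizer M24 (ptSet [19, 17, 21]) :=
      Subgroup.eq_of_le_of_card_ge hle (by rw [hHa]; exact card_stab_three_le)
    -- Claim A
    have hA : ∀ g : ↥M24, g • ptN 5 = ptN 5 → g • ptSet [5, 17, 19, 21] = ptSet [5, 17, 19, 21] →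
        g ∈ H := by
      intro g hg5 hgτ
      have h1 : g ∈ stabilizer M24 (ptN 5) ⊓ stabilizer M24 (ptSet [19, 17, 21]) := by
        refine Subgroup.mem_inf.mpr ⟨mem_stabilizer_iff.mpr hg5, mem_stabilizer_iff.mpr ?_⟩
        rw [tetrad_split] at hgτ
        exact smul_eq_of_insert h5L hg5 hgτ
      rw [← hHaeq] at h1
      exact (Subgroup.mem_inf.mp h1).1
    -- Claim B: the stabilizer of the tetrad lies in H
    have hB : ∀ g : ↥M24, g • ptSet [5, 17, 19, 21] = ptSet [5, 17, 19, 21] → g ∈ H := by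
      intro g hgτ
      have h1 : g • ptN 5 ∈ ptSet [5, 17, 19, 21] := by
        have : g • ptN 5 ∈ g • ptSet [5, 17, 19, 21] :=
          Finset.smul_mem_smul_finset (mem_ptSet.mpr ⟨5, by decide, rfl⟩)
        rwa [hgτ] at this
      obtain ⟨a, ha, hae⟩ := mem_ptSet.mp h1
      have haO : a ∈ sy_O0 := by
        have h0 : ∀ a ∈ [5, 17, 19, 21], a ∈ sy_O0 := by decide
        exact h0 a ha
      obtain ⟨t, ht, hta⟩ := exists_oct a haO
      have htH : (⟨t, syT_le ht⟩ : ↥M24) ∈ H := hT (syT0_mem ht)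
      have htS : (⟨t, syT_le ht⟩ : ↥M24) • famSet c2b_S0 = famSet c2b_S0 := (mem_syT.mp ht).2.1
      have ht5 : (⟨t, syT_le ht⟩ : ↥M24) • ptN 5 = ptN a := hta
      have htτ : (⟨t, syT_le ht⟩ : ↥M24) • ptSet [5, 17, 19, 21] = ptSet [5, 17, 19, 21] := by
        apply tetrad_eq_of_meet hS0 (q := ptN a)
        · have := Finset.smul_mem_smul_finset (a := (⟨t, syT_le ht⟩ : ↥M24)) hτS
          rwa [htS] at this
        · exact hτS
        · rw [← ht5]
          exact Finset.smul_mem_smul_finset (mem_ptSet.mpr ⟨5, by decide, rfl⟩)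
        · exact mem_ptSet.mpr ⟨a, ha, rfl⟩
      have h2 : (⟨t, syT_le ht⟩ : ↥M24)⁻¹ * g ∈ H := by
        apply hA
        · rw [mul_smul, ← hae, inv_smul_eq_iff, ht5]
        · rw [mul_smul, hgτ, inv_smul_eq_iff, htτ]
      have h3 : g = (⟨t, syT_le ht⟩ : ↥M24) * ((⟨t, syT_le ht⟩ : ↥M24)⁻¹ * g) := by group
      rw [h3]
      exact H.mul_mem htH h2
    -- Claim C: the stabilizer of the tetrad stabilizes the sextet
    have hC : ∀ g : ↥M24, g • ptSet [5, 17, 19, 21] = ptSet [5, 17, 19, 21] →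
        g • famSet c2b_S0 = famSet c2b_S0 := by
      intro g hgτ
      have h1 : g • famSet c2b_S0 ∈ sextets := smul_mem_sextets g.2 hS0
      have h2 : ptSet [5, 17, 19, 21] ∈ g • famSet c2b_S0 := by
        have := Finset.smul_mem_smul_finset (a := g) hτS
        rwa [hgτ] at this
      exact (existsUnique_sextet hτ4).unique ⟨h1, h2⟩ ⟨hS0, hτS⟩
    -- Claim D: H is transitive on the tetrads of the sextet
    have hD : ∀ u ∈ famSet c2b_S0, ∃ h ∈ H, h • ptSet [5, 17, 19, 21] = u := by
      intro u hu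
      by_cases hut : u = ptSet [5, 17, 19, 21]
      · exact ⟨1, H.one_mem, by rw [one_smul, hut]⟩
      · have hu4 : u.card = 4 := hS0.2.1 u hu
        have hne : u.Nonempty := by
          rw [← Finset.card_pos, hu4]; norm_num
        obtain ⟨q, hq⟩ := hne
        have hqτ : q ∉ ptSet [5, 17, 19, 21] := fun hq' =>
          hut (tetrad_eq_of_meet hS0 hu hτS hq hq')
        have h8τ : ptN 8 ∉ ptSet [5, 17, 19, 21] :=
          not_mem_of_not_mem_list (by decide) (by norm_num) (by decide)
        obtain ⟨t, ht, hta⟩ := exists_oct 8 (by decide)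
        have htH : (⟨t, syT_le ht⟩ : ↥M24) ∈ H := hT (syT0_mem ht)
        have htS : (⟨t, syT_le ht⟩ : ↥M24) • famSet c2b_S0 = famSet c2b_S0 :=
          (mem_syT.mp ht).2.1
        have ht5 : (⟨t, syT_le ht⟩ : ↥M24) • ptN 5 = ptN 8 := hta
        obtain ⟨g1, hg1fix, hg1q⟩ :=
          exists_fixing_smul_eq (ptSet [5, 17, 19, 21]) (by rw [hτ4]) h8τ hqτ
        have hg1τ : g1 • ptSet [5, 17, 19, 21] = ptSet [5, 17, 19, 21] := by
          apply Finset.eq_of_subset_of_card_le
          · intro x hx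
            rw [Finset.mem_smul_finset] at hx
            obtain ⟨y, hy, rfl⟩ := hx
            rw [hg1fix y hy]
            exact hy
          · rw [Finset.card_smul_finset]
        refine ⟨g1 * ⟨t, syT_le ht⟩, H.mul_mem (hB g1 hg1τ) htH, ?_⟩
        apply tetrad_eq_of_meet hS0 (q := q) _ hu _ hq
        · rw [mul_smul]
          have h1 := Finset.smul_mem_smul_finset (a := (⟨t, syT_le ht⟩ : ↥M24)) hτS
          rw [htS] at h1
          have h2 := Finset.smul_mem_smul_finset (a := g1) h1
          rwa [hC g1 hg1τ] at h2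
        · rw [mul_smul, ← hg1q, ← ht5]
          exact Finset.smul_mem_smul_finset
            (Finset.smul_mem_smul_finset (mem_ptSet.mpr ⟨5, by decide, rfl⟩))
    -- conclusion
    have hle' : stabilizer M24 (famSet c2b_S0) ≤ H := by
      intro g hg
      rw [mem_stabilizer_iff] at hg
      have h1 : g • ptSet [5, 17, 19, 21] ∈ famSet c2b_S0 := by
        have := Finset.smul_mem_smul_finset (a := g) hτS
        rwa [hg] at this
      obtain ⟨h, hh, hhτ⟩ := hD _ h1
      have h2 : h⁻¹ * g ∈ H := by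
        apply hB
        rw [mul_smul, inv_smul_eq_iff, hhτ]
      have h3 : g = h * (h⁻¹ * g) := by group
      rw [h3]
      exact H.mul_mem hh h2
    exact (Subgroup.eq_of_le_of_card_ge hle' (by rw [hc, card_stabilizer_sextet hS0])).symm
  · -- m = 18
    exfalso
    apply htrio
    intro k hk
    rw [mem_stabilizer_iff]
    have hsub : ptSet [19, 8, 10, 12, 20] ⊆ ptSet sy_O0 := by
      intro q hq
      obtain ⟨a, ha, rfl⟩ := mem_ptSet.mp hq
      refine mem_ptSet.mpr ⟨a, ?_, rfl⟩
      revert a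
      decide
    have h5 : 5 ≤ (ptSet [19, 8, 10, 12, 20]).card := by
      rw [card_ptSet (by decide)]
      decide
    have hsub' : ptSet [19, 8, 10, 12, 20] ⊆ k • ptSet sy_O0 := by
      rw [← hstabL k hk]
      exact Finset.smul_finset_subset_smul_finset hsub
    exact octad_eq_of_subset h5 (smul_mem_octads k.2 hoct) hoct hsub' hsub
  · exfalso; revert hdvd; decide
  · exfalso; revert hdvd; decide
  · exfalso; revert hdvd; decide
  · exfalso; revert hdvd; decide
  · exfalso; revert hdvd; decide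

end Cfsg.Agent.H26.M24Idx
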