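import Mathlib
import Cfsg.Agent.Lib.Helper3.ListSubgroup

set_option autoImplicit false

namespace Cfsg.Agent.Lib.Helper3.MaskSubgroup

variable {G ι : Type*} [Group G]

/-- the bitmask of a list of naturals -/
def mask : List ℕ → ℕ
  | [] => 0
  | t :: l => 2 ^ t ||| mask l

lemma testBit_mask (l : List ℕ) (n : ℕ) : (mask l).testBit n = true ↔ n ∈ l := by
  induction l with
  | nil => simp [mask]
  | cons t l ih =>
    rw [mask, Nat.testBit_or, Bool.or_eq_true, ih, Nat.testBit_two_pow, List.mem_cons]
    simp [eq_comm]

/-- strictly increasing, as a boolean -/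
def sortedB : List ℕ → Bool
  | [] => true
  | [_] => true
  | a :: b :: l => Nat.blt a b && sortedB (b :: l)

lemma pairwise_of_sortedB : ∀ l : List ℕ, sortedB l = true → l.Pairwise (· < ·)
  | [], _ => List.Pairwise.nil
  | [_], _ => List.pairwise_singleton _ _
  | a :: b :: l, h => by
    rw [sortedB, Bool.and_eq_true] at h
    have hab : a < b := by
      have := h.1
      rwa [Nat.blt_eq] at this
    have ih := pairwise_of_sortedB (b :: l) h.2
    rw [List.pairwise_cons]
    refine ⟨?_, ih⟩
    intro c hc
    rcases List.mem_cons.1 hc with rfl | hc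
    · exact hab
    · exact lt_trans hab (List.rel_of_pairwise_cons ih hc)

lemma nodup_of_sortedB (l : List ℕ) (h : sortedB l = true) : l.Nodup :=
  (pairwise_of_sortedB l h).imp (fun hab => ne_of_lt hab)

/-- evaluate a word in the generators on the level of codes -/
def evalWord (act : ι → ℕ → ℕ) (one : ℕ) : List ι → ℕ
  | [] => one
  | i :: w => act i (evalWord act one w)

lemma ent_wordProd (ent : G → ℕ) (gen : ι → G) (act : ι → ℕ → ℕ)
    (hact : ∀ i g, ent (gen i * g) = act i (ent g)) (w : List ι) :
    ent (ListSubgroup.wordProd gen w) = evalWord act (ent 1) w := by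
  induction w with
  | nil => rfl
  | cons i w ih =>
    simp only [ListSubgroup.wordProd, evalWord, hact, ih]

/-- A list of codes closed under the action of the generators and their inverses, all
of whose members are words in the generators, is the set of codes of the subgroup generated. -/
theorem mem_closure_iff (ent : G → ℕ) (hinj : Function.Injective ent) (gen : ι → G)
    (act act' : ι → ℕ → ℕ)
    (hact : ∀ i g, ent (gen i * g) = act i (ent g))
    (hact' : ∀ i g, ent ((gen i)⁻¹ * g) = act' i (ent g))
    (tuples : List ℕ) (words : List (List ι)) (memb : ℕ → Bool)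
    (hmemb : ∀ n, memb n = true → n ∈ tuples)
    (h0 : memb (ent 1) = true)
    (h1 : ∀ i, tuples.all (fun t => memb (act i t) && memb (act' i t)) = true)
    (h2 : tuples = words.map (evalWord act (ent 1)))
    (g : G) : g ∈ Subgroup.closure (Set.range gen) ↔ ent g ∈ tuples := by
  constructor
  · intro hg
    induction hg using Subgroup.closure_induction_left with
    | one => exact hmemb _ h0
    | mul_left x hx y _ ih =>
      obtain ⟨i, rfl⟩ := hx
      rw [hact]
      have := List.all_eq_true.1 (h1 i) _ ih
      rw [Bool.and_eq_true] at this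
      exact hmemb _ this.1
    | inv_mul_cancel x hx y _ ih =>
      obtain ⟨i, rfl⟩ := hx
      rw [hact']
      have := List.all_eq_true.1 (h1 i) _ ih
      rw [Bool.and_eq_true] at this
      exact hmemb _ this.2
  · intro hg
    rw [h2, List.mem_map] at hg
    obtain ⟨w, _, hw⟩ := hg
    rw [← ent_wordProd ent gen act hact w] at hw
    rw [← hinj hw]
    exact ListSubgroup.wordProd_mem gen w

/-- the order of the subgroup generated -/
theorem card_closure (ent : G → ℕ) (hinj : Function.Injective ent) (gen : ι → G)
    (act act' : ι → ℕ → ℕ)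
    (hact : ∀ i g, ent (gen i * g) = act i (ent g))
    (hact' : ∀ i g, ent ((gen i)⁻¹ * g) = act' i (ent g))
    (tuples : List ℕ) (words : List (List ι)) (memb : ℕ → Bool)
    (hmemb : ∀ n, memb n = true → n ∈ tuples)
    (h0 : memb (ent 1) = true)
    (h1 : ∀ i, tuples.all (fun t => memb (act i t) && memb (act' i t)) = true)
    (h2 : tuples = words.map (evalWord act (ent 1)))
    (hnd : tuples.Nodup) :
    Nat.card (Subgroup.closure (Set.range gen)) = tuples.length := by
  have hmem := mem_closure_iff ent hinj gen act act' hact hact' tuples words memb hmemb h0 h1 h2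
  have e : Subgroup.closure (Set.range gen) ≃ {t // t ∈ tuples.toFinset} :=
    Equiv.ofBijective (fun g => ⟨ent g.1, List.mem_toFinset.2 ((hmem g.1).1 g.2)⟩) (by
      constructor
      · intro a b hab
        apply Subtype.ext
        apply hinj
        exact congrArg Subtype.val hab
      · rintro ⟨t, ht⟩
        have ht' := List.mem_toFinset.1 ht
        have ht'' := ht'
        rw [h2, List.mem_map] at ht''
        obtain ⟨w, _, hw⟩ := ht''
        rw [← ent_wordProd ent gen act hact w] at hw
        exact ⟨⟨ListSubgroup.wordProd gen w, ListSubgroup.wordProd_mem gen w⟩, Subtype.ext hw⟩)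
  rw [Nat.card_congr e, Nat.card_eq_fintype_card, Fintype.card_coe,
    List.toFinset_card_of_nodup hnd]

end Cfsg.Agent.Lib.Helper3.MaskSubgroup
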