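import Mathlib
import Cfsg.Agent.Lib.Helper3.MaskSubgroup

set_option autoImplicit false

namespace Cfsg.Agent.Lib.Helper3.MaskSubgroup

variable {G ι : Type*} [Group G]

/-- the mask of the codes reached along a list of steps `(i, s)`, each of which adds the image
under the `i`-th generator of a code `s` already reached -/
def build (act : ι → ℕ → ℕ) : ℕ → List (ι × ℕ) → ℕ
  | acc, [] => acc
  | acc, p :: l => bif acc.testBit p.2 then build act (acc ||| 2 ^ act p.1 p.2) l else 0

lemma build_induction (act : ι → ℕ → ℕ) (P : ℕ → Prop) (hP : ∀ i n, P n → P (act i n)) :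
    ∀ (l : List (ι × ℕ)) (acc : ℕ), (∀ n, acc.testBit n = true → P n) →
      ∀ n, (build act acc l).testBit n = true → P n
  | [], acc, hacc, n, hn => hacc n hn
  | p :: l, acc, hacc, n, hn => by
    rw [build] at hn
    cases hp : acc.testBit p.2 with
    | false =>
      rw [hp, cond_false, Nat.zero_testBit] at hn
      exact absurd hn (by simp)
    | true =>
      rw [hp, cond_true] at hn
      refine build_induction act P hP l _ ?_ n hn
      intro m hm
      rw [Nat.testBit_or, Bool.or_eq_true, Nat.testBit_two_pow] at hm
      rcases hm with hm | hm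
      · exact hacc m hm
      · have : act p.1 p.2 = m := by simpa using hm
        rw [← this]
        exact hP _ _ (hacc _ hp)

/-- in a finite group, closure under the generators is enough -/
theorem mem_closure_iff_of_finite [Finite G] (ent : G → ℕ) (hinj : Function.Injective ent)
    (gen : ι → G) (act : ι → ℕ → ℕ)
    (hact : ∀ i g, ent (gen i * g) = act i (ent g))
    (msk : ℕ) (tuples : List ℕ) (steps : List (ι × ℕ))
    (hmask : mask tuples = msk)
    (h0 : msk.testBit (ent 1) = true)
    (h1 : ∀ i, tuples.all (fun t => msk.testBit (act i t)) = true)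
    (h2 : build act (2 ^ ent 1) steps = msk)
    (g : G) : g ∈ Subgroup.closure (Set.range gen) ↔ msk.testBit (ent g) = true := by
  have hmem : ∀ n, msk.testBit n = true ↔ n ∈ tuples := by
    intro n
    rw [← hmask]
    exact testBit_mask tuples n
  have hstep : ∀ i (y : G), msk.testBit (ent y) = true → msk.testBit (ent (gen i * y)) = true := by
    intro i y hy
    rw [hact]
    exact List.all_eq_true.1 (h1 i) _ ((hmem _).1 hy)
  have hpow : ∀ i (k : ℕ) (y : G), msk.testBit (ent y) = true →
      msk.testBit (ent (gen i ^ k * y)) = true := by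
    intro i k
    induction k with
    | zero => intro y hy; simpa using hy
    | succ k ih =>
      intro y hy
      rw [pow_succ', mul_assoc]
      exact hstep i _ (ih y hy)
  constructor
  · intro hg
    induction hg using Subgroup.closure_induction_left with
    | one => exact h0
    | mul_left x hx y _ ih =>
      obtain ⟨i, rfl⟩ := hx
      exact hstep i y ih
    | inv_mul_cancel x hx y _ ih =>
      obtain ⟨i, rfl⟩ := hx
      have hpos : 0 < orderOf (gen i) := orderOf_pos (gen i)
      have hinv : (gen i)⁻¹ = gen i ^ (orderOf (gen i) - 1) := by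
        apply inv_eq_of_mul_eq_one_right
        rw [← pow_succ', Nat.sub_add_cancel hpos, pow_orderOf_eq_one]
      rw [hinv]
      exact hpow i _ y ih
  · intro hg
    rw [← h2] at hg
    have hP : ∀ i n, (∃ g' ∈ Subgroup.closure (Set.range gen), ent g' = n) →
        ∃ g' ∈ Subgroup.closure (Set.range gen), ent g' = act i n := by
      rintro i n ⟨g', hg', rfl⟩
      exact ⟨gen i * g', Subgroup.mul_mem _ (Subgroup.subset_closure ⟨i, rfl⟩) hg', hact i g'⟩
    have h1' : ∀ n, (2 ^ ent 1).testBit n = true →
        ∃ g' ∈ Subgroup.closure (Set.range gen), ent g' = n := by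
      intro n hn
      rw [Nat.testBit_two_pow] at hn
      have : ent 1 = n := by simpa using hn
      exact ⟨1, Subgroup.one_mem _, this⟩
    obtain ⟨g', hg', he⟩ := build_induction act
      (fun n => ∃ g' ∈ Subgroup.closure (Set.range gen), ent g' = n)
      hP steps (2 ^ ent 1) h1' (ent g) hg
    rw [← hinj he]
    exact hg'

/-- the order of the subgroup generated -/
theorem card_closure_of_finite [Finite G] (ent : G → ℕ) (hinj : Function.Injective ent)
    (gen : ι → G) (act : ι → ℕ → ℕ)
    (hact : ∀ i g, ent (gen i * g) = act i (ent g))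
    (msk : ℕ) (tuples : List ℕ) (steps : List (ι × ℕ))
    (hmask : mask tuples = msk)
    (h0 : msk.testBit (ent 1) = true)
    (h1 : ∀ i, tuples.all (fun t => msk.testBit (act i t)) = true)
    (h2 : build act (2 ^ ent 1) steps = msk)
    (hs : sortedB tuples = true) :
    Nat.card (Subgroup.closure (Set.range gen)) = tuples.length := by
  have hmem := mem_closure_iff_of_finite ent hinj gen act hact msk tuples steps hmask h0 h1 h2
  have hmem' : ∀ n, msk.testBit n = true ↔ n ∈ tuples := by
    intro n
    rw [← hmask]
    exact testBit_mask tuples n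
  have e : Subgroup.closure (Set.range gen) ≃ {t // t ∈ tuples.toFinset} :=
    Equiv.ofBijective
      (fun g => ⟨ent g.1, List.mem_toFinset.2 ((hmem' _).1 ((hmem g.1).1 g.2))⟩) (by
      constructor
      · intro a b hab
        apply Subtype.ext
        apply hinj
        exact congrArg Subtype.val hab
      · rintro ⟨t, ht⟩
        have ht' := (hmem' t).2 (List.mem_toFinset.1 ht)
        rw [← h2] at ht'
        obtain ⟨g', hg', he⟩ := build_induction act
          (fun n => ∃ g' ∈ Subgroup.closure (Set.range gen), ent g' = n)
          (by
            rintro i n ⟨g', hg', rfl⟩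
            exact ⟨gen i * g', Subgroup.mul_mem _ (Subgroup.subset_closure ⟨i, rfl⟩) hg',
              hact i g'⟩)
          steps (2 ^ ent 1) (by
            intro n hn
            rw [Nat.testBit_two_pow] at hn
            have : ent 1 = n := by simpa using hn
            exact ⟨1, Subgroup.one_mem _, this⟩) t ht'
        exact ⟨⟨g', hg'⟩, Subtype.ext he⟩)
  rw [Nat.card_congr e, Nat.card_eq_fintype_card, Fintype.card_coe,
    List.toFinset_card_of_nodup (nodup_of_sortedB _ hs)]

end Cfsg.Agent.Lib.Helper3.MaskSubgroup
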