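import Mathlib
import Cfsg.Prelude.Def_KGroupFacts
import Cfsg.Agent.H5.TCkSound
import Cfsg.Agent.H5.StemTC
import Cfsg.Agent.Lib.Helper1.Sp62L
import Cfsg.Agent.Lib.Helper1.WeakL4
import Cfsg.Agent.Lib.Helper9.Co3P2G
import Cfsg.Agent.Lib.Helper12.McLWData
import Cfsg.Agent.Lib.Helper12.McLWCover

/-!
# S2047-[ODD] (helper3, SPARE): the kernel of a finite stem extension of `McL` has odd order

helper21's `Lib/Helper21/McLWODD.lean` (landed a minute earlier) is the wired one; this twin is kept under the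
name `Helper3.odd_card_ker_of` so that the two files can be imported together.

Divide out the odd part of the kernel (`exists_pker`), restrict to `U = ⟨u 0, u 1⟩` of odd index `22275`
(helper9's `card_ker_mul_card_le_of_bound`, built on helper17's `stem_restrict_p`), lift `u 0, u 1` to elements of
order `7`; the conjugation relators `relsU` lift, so the preimage of `U` has order `≤ 40320 = |U|`.
-/

set_option autoImplicit false

namespace Cfsg.Agent.Lib.Helper12.McLW

open Cfsg Cfsg.H5.TCk
open Cfsg.Agent.Lib.Helper5.Sp62 (cr crOf)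

universe u

namespace Helper3

theorem relsU_all : ∀ r ∈ relsU, r.all (fun l => decide (l < 2 * 2)) = true := by decide

theorem conjU_idx : ∀ q ∈ conjU, q.2.1 < 2 ∧ q.2.2.1 / 2 < 2 := by decide

theorem mem_relsU {r : List ℕ} (h : r ∈ relsU) :
    r = List.replicate 7 (2 * 0) ∨ r = List.replicate 7 (2 * 1) ∨ ∃ q ∈ conjU, r = crOf q := by
  unfold relsU at h
  rcases List.mem_append.mp h with h | h
  · have h' : r ∈ [List.replicate 7 (2 * 0), List.replicate 7 (2 * 1)] := h
    simp only [List.mem_cons, List.not_mem_nil, or_false] at h'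
    rcases h' with h' | h'
    · left; exact h'
    · right; left; exact h'
  · obtain ⟨q, hq, rfl⟩ := List.mem_map.mp h
    right; right; exact ⟨q, hq, rfl⟩

theorem pow7_mem_relsU {i : ℕ} (hi : i < 2) : List.replicate 7 (2 * i) ∈ relsU := by
  interval_cases i <;> decide

theorem ev_pow7 {Γ : Type u} [Group Γ] (γ : ℕ → Γ) (i : ℕ) :
    ev γ (List.replicate 7 (2 * i)) = γ i ^ 7 := by
  rw [Cfsg.Agent.Lib.Helper5.Sp62.Helper1.ev_replicate, Cfsg.Agent.Lib.Helper5.Sp62.Helper1.gl_even]

/-- the order of `U = ⟨u 0, u 1⟩` is at most `40320` -/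
theorem card_U_le
    (hCU : ∀ {Δ : Type u} [Group Δ] (δ : ℕ → Δ), (∀ r ∈ relsU, ev δ r = 1) →
      Subgroup.closure (Set.range fun i : Fin 2 => δ i.val) = ⊤ → Finite Δ ∧ Nat.card Δ ≤ 40320)
    {G : Type u} [Group G] (u : ℕ → G) (hU : ∀ r ∈ relsU, ev u r = 1) :
    Nat.card (Subgroup.closure (Set.range fun i : Fin 2 => u i.val)) ≤ 40320 := by
  classical
  generalize hTdef : Subgroup.closure (Set.range fun i : Fin 2 => u i.val) = T
  have hmemT : ∀ i < 2, u i ∈ T := fun i hi => by
    rw [← hTdef]; exact Subgroup.subset_closure ⟨⟨i, hi⟩, rfl⟩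
  let δ : ℕ → T := fun i => if h : i < 2 then ⟨u i, hmemT i h⟩ else 1
  have hδ : ∀ i < 2, ((δ i : T) : G) = u i := by
    intro i hi
    simp only [δ, dif_pos hi]
  have hev : ∀ v : List ℕ, v.all (fun l => decide (l < 2 * 2)) = true →
      ((ev δ v : T) : G) = ev u v := by
    intro v hv
    have h1 : ((ev δ v : T) : G) = ev (fun i => ((δ i : T) : G)) v :=
      Cfsg.H5.StemTC.map_ev T.subtype δ v
    rw [h1]
    exact ev_congr' _ _ 2 (fun i hi => hδ i hi) v hv
  have hrelT : ∀ r ∈ relsU, ev δ r = 1 := by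
    intro r hr
    apply Subtype.ext
    rw [hev r (relsU_all r hr), hU r hr]
    rfl
  have hgenT : Subgroup.closure (Set.range fun i : Fin 2 => δ i.val) = ⊤ := by
    apply Subgroup.map_injective T.subtype_injective
    rw [MonoidHom.map_closure, ← Set.range_comp, ← MonoidHom.range_eq_map, Subgroup.range_subtype]
    have : (⇑T.subtype ∘ fun i : Fin 2 => δ i.val) = fun i : Fin 2 => u i.val :=
      funext fun i => hδ i.val i.isLt
    rw [this]
    exact hTdef
  exact (hCU δ hrelT hgenT).2

end Helper3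

/-- [ODD] the kernel of a finite stem extension has odd order ([CU] as hypothesis): reduce to a `2`-group
kernel (`exists_pker`), restrict to `U = ⟨u 0, u 1⟩` of odd index `22275` (`stem_restrict_p`), lift `u 0, u 1`
to elements of order `7`; the conjugation relators `relsU` lift, so the preimage of `U` has order `≤ 40320 ≤ |U|` -/
theorem Helper3.odd_card_ker_of
    (hCU : ∀ {Δ : Type u} [Group Δ] (δ : ℕ → Δ), (∀ r ∈ relsU, ev δ r = 1) →
      Subgroup.closure (Set.range fun i : Fin 2 => δ i.val) = ⊤ → Finite Δ ∧ Nat.card Δ ≤ 40320)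
    {G : Type u} [Group G] (g u : ℕ → G) (hg : IsMcLTuple g u)
    {Γ : Type u} [Group Γ] [Finite Γ] (σ : Γ →* G) (hσ : IsStemExtension σ) :
    Odd (Nat.card σ.ker) := by
  classical
  obtain ⟨hcard, _, _, _, hrelU, hU40⟩ := hg
  have : Fact (Nat.Prime 2) := ⟨Nat.prime_two⟩
  obtain ⟨Δ, hΔg, hΔf, τ, hτ, hτp, hτcard⟩ :=
    Cfsg.Agent.Lib.Helper10.Weak.exists_pker σ hσ 2
  -- it suffices that the kernel of `τ` is trivial
  suffices hone : Nat.card τ.ker = 1 by
    rw [hone] at hτcard
    have hf0 : (Nat.card σ.ker).factorization 2 = 0 := by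
      by_contra hne
      have : 2 ≤ 2 ^ (Nat.card σ.ker).factorization 2 :=
        Nat.le_self_pow hne 2
      omega
    have hpos : Nat.card σ.ker ≠ 0 := Nat.card_pos.ne'
    rcases (Nat.factorization_eq_zero_iff _ _).mp hf0 with h | h | h
    · exact absurd Nat.prime_two h
    · exact Nat.odd_iff.mpr (Nat.two_dvd_ne_zero.mp h)
    · exact absurd h hpos
  -- the order and the index of `U`
  have hUle := Helper3.card_U_le hCU u hrelU
  have hUcard : Nat.card (Subgroup.closure (Set.range fun i : Fin 2 => u i.val)) = 40320 :=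
    le_antisymm hUle hU40
  have hidx : ¬ 2 ∣ (Subgroup.closure (Set.range fun i : Fin 2 => u i.val)).index := by
    have hmul := Subgroup.card_mul_index (Subgroup.closure (Set.range fun i : Fin 2 => u i.val))
    rw [hUcard, hcard] at hmul
    have : (Subgroup.closure (Set.range fun i : Fin 2 => u i.val)).index = 22275 := by omega
    rw [this]
    norm_num
  -- `7` is prime to the order of the kernel
  have hcop : (7 : ℕ).Coprime (Nat.card τ.ker) := by
    rw [hτcard]
    exact Nat.Coprime.pow_right _ (by norm_num)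
  -- `u i ^ 7 = 1`
  have hu7 : ∀ i < 2, u i ^ 7 = 1 := by
    intro i hi
    rw [← Helper3.ev_pow7]
    exact hrelU _ (Helper3.pow7_mem_relsU hi)
  -- the lifts
  have hex : ∀ k : ℕ, ∃ y : Δ, τ y = u k ∧ (k < 2 → y ^ 7 = 1) := by
    intro k
    by_cases hk : k < 2
    · obtain ⟨y, hy1, hy2⟩ := Cfsg.Agent.Lib.Helper5.Sp62.exists_lift_pow_eq_one τ hτ.1 hτ.2.1 hcop
        (u k) (hu7 k hk)
      exact ⟨y, hy1, fun _ => hy2⟩
    · obtain ⟨y, hy⟩ := hτ.1 (u k)
      exact ⟨y, hy, fun h => absurd h hk⟩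
  choose γh hγτ hγ7 using hex
  have hτγ : (fun k => τ (γh k)) = u := funext hγτ
  -- the relators hold for the lifts
  have hrelΔ : ∀ r ∈ relsU, ev γh r = 1 := by
    intro r hr
    rcases Helper3.mem_relsU hr with rfl | rfl | ⟨q, hq, rfl⟩
    · rw [Helper3.ev_pow7]; exact hγ7 0 (by norm_num)
    · rw [Helper3.ev_pow7]; exact hγ7 1 (by norm_num)
    · have hidx' := Helper3.conjU_idx q hq
      have hqrel : crOf q ∈ relsU := hr
      unfold crOf at hqrel ⊢
      apply Cfsg.Agent.Lib.Helper5.Sp62.ev_cr_eq_one τ hτ.2.1 hcop γh _ _ _ _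
        (hγ7 _ hidx'.1) (hγ7 _ hidx'.2)
      rw [hτγ]
      exact hrelU _ hqrel
  -- the bound
  have hbound := Cfsg.Agent.Lib.Helper20.Co3Mult.card_ker_mul_card_le_of_bound τ hτ 2 hτp 2 u hidx γh
    (fun i _ => hγτ i) relsU Helper3.relsU_all hrelΔ 40320
    (fun M _ γm h1 h2 => (hCU γm h1 h2).2)
  rw [hUcard] at hbound
  have hpos : 0 < Nat.card τ.ker := Nat.card_pos
  omega

end Cfsg.Agent.Lib.Helper12.McLW
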