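import Mathlib

set_option autoImplicit false

/-!
# Miller's theorem, part 1: p-subgroups of `Perm T` with `card T = p`

A nontrivial `p`-subgroup `Z` of `Perm T`, `card T = p` prime, is generated by a full `p`-cycle;
it is self-centralizing and its normalizer has commutators in `Z`.
-/

namespace Cfsg.Agent.Lib.Helper3.Mil

open Equiv Equiv.Perm
open scoped commutatorElement

section PermPrime

variable {T : Type*} [Fintype T] [DecidableEq T] {p : ℕ}

theorem card_of_pgroup (hp : p.Prime) (hT : Fintype.card T = p) (Z : Subgroup (Perm T))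
    (hZ : IsPGroup p Z) (hne : Z ≠ ⊥) : Nat.card Z = p := by
  haveI : Fact p.Prime := ⟨hp⟩
  obtain ⟨j, hj⟩ := IsPGroup.iff_card.mp hZ
  have hdvd : Nat.card Z ∣ (p).factorial := by
    have := Subgroup.card_subgroup_dvd_card Z
    rwa [Nat.card_perm, Nat.card_eq_fintype_card (α := T), hT] at this
  have hj1 : j ≤ 1 := by
    by_contra hcon
    push Not at hcon
    have h2 : p ^ 2 ∣ p.factorial := by
      rw [hj] at hdvd
      exact (pow_dvd_pow p hcon).trans hdvd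
    obtain ⟨q, hq⟩ : ∃ q, p = q + 1 := ⟨p - 1, by have := hp.pos; omega⟩
    rw [hq, Nat.factorial_succ, ← hq, pow_two] at h2
    have h3 : p ∣ q.factorial := Nat.dvd_of_mul_dvd_mul_left hp.pos h2
    have := (Nat.Prime.dvd_factorial hp).mp h3
    omega
  have hj0 : j ≠ 0 := by
    rintro rfl
    rw [pow_zero] at hj
    exact hne (Subgroup.eq_bot_of_card_eq Z hj)
  have : j = 1 := by omega
  rw [hj, this, pow_one]

theorem exists_cycle_gen (hp : p.Prime) (hT : Fintype.card T = p) (Z : Subgroup (Perm T))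
    (hZ : IsPGroup p Z) (hne : Z ≠ ⊥) :
    ∃ c : Perm T, c ∈ Z ∧ c.IsCycle ∧ (∀ t, c t ≠ t) ∧ orderOf c = p ∧
      Z = Subgroup.zpowers c := by
  have hcard := card_of_pgroup hp hT Z hZ hne
  obtain ⟨⟨c, hcZ⟩, hc1⟩ := (Subgroup.ne_bot_iff_exists_ne_one).mp hne
  have hc1' : (c : Perm T) ≠ 1 := fun h => hc1 (Subtype.ext h)
  have hord : orderOf (c : Perm T) = p := by
    have h1 : orderOf (c : Perm T) ∣ p := by
      have := orderOf_dvd_natCard (⟨c, hcZ⟩ : Z)
      rwa [hcard, Subgroup.orderOf_mk] at this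
    rcases (Nat.dvd_prime hp).mp h1 with h | h
    · exact absurd (orderOf_eq_one_iff.mp h) hc1'
    · exact h
  have hcyc : (c : Perm T).IsCycle :=
    isCycle_of_prime_order'' (hT ▸ hp) (by rw [hord, hT])
  have hsupp : (c : Perm T).support = Finset.univ := by
    rw [← Finset.card_eq_iff_eq_univ, ← hcyc.orderOf, hord, hT]
  refine ⟨c, hcZ, hcyc, ?_, hord, ?_⟩
  · intro t
    have : t ∈ (c : Perm T).support := by rw [hsupp]; exact Finset.mem_univ t
    exact Perm.mem_support.mp this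
  · symm
    apply Subgroup.eq_of_le_of_card_ge
    · rw [Subgroup.zpowers_le]; exact hcZ
    · rw [hcard, Nat.card_zpowers, hord]

theorem mem_zpowers_of_commute {c u : Perm T} (hc : c.IsCycle) (hfull : ∀ t, c t ≠ t)
    (hcomm : Commute u c) : u ∈ Subgroup.zpowers c := by
  have hc' := hc
  obtain ⟨t₀, -, -⟩ := hc'
  obtain ⟨i, hi⟩ := hc.exists_zpow_eq (hfull t₀) (hfull (u t₀))
  refine ⟨i, ?_⟩
  ext t
  obtain ⟨j, hj⟩ := hc.exists_zpow_eq (hfull t₀) (hfull t)
  have h1 : u * c ^ j = c ^ j * u := (hcomm.zpow_right j).eq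
  have h2 : c ^ i * c ^ j = c ^ j * c ^ i := (Commute.refl c |>.zpow_zpow i j).eq
  calc (c ^ i) t = (c ^ i) ((c ^ j) t₀) := by rw [hj]
    _ = (c ^ i * c ^ j) t₀ := rfl
    _ = (c ^ j * c ^ i) t₀ := by rw [h2]
    _ = (c ^ j) ((c ^ i) t₀) := rfl
    _ = (c ^ j) (u t₀) := by rw [hi]
    _ = (c ^ j * u) t₀ := rfl
    _ = (u * c ^ j) t₀ := by rw [h1]
    _ = u ((c ^ j) t₀) := rfl
    _ = u t := by rw [hj]

variable (hp : p.Prime) (hT : Fintype.card T = p) (Z : Subgroup (Perm T))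
    (hZ : IsPGroup p Z) (hne : Z ≠ ⊥)

include hp hT hZ hne

theorem mem_of_centralizes {u : Perm T} (hu : ∀ w ∈ Z, u * w = w * u) : u ∈ Z := by
  obtain ⟨c, hcZ, hcyc, hfull, -, hZc⟩ := exists_cycle_gen hp hT Z hZ hne
  rw [hZc]
  exact mem_zpowers_of_commute hcyc hfull (hu c hcZ)

theorem pow_eq_one_of_mem {w : Perm T} (hw : w ∈ Z) : w ^ p = 1 := by
  have hcard := card_of_pgroup hp hT Z hZ hne
  have h := pow_card_eq_one' (G := Z) (x := ⟨w, hw⟩)
  rw [hcard] at h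
  simpa using congrArg Subtype.val h

theorem orderOf_of_mem_ne_one {w : Perm T} (hw : w ∈ Z) (hw1 : w ≠ 1) : orderOf w = p := by
  have h1 : orderOf w ∣ p := orderOf_dvd_of_pow_eq_one (pow_eq_one_of_mem hp hT Z hZ hne hw)
  rcases (Nat.dvd_prime hp).mp h1 with h | h
  · exact absurd (orderOf_eq_one_iff.mp h) hw1
  · exact h

theorem exists_scalar {u : Perm T} (hu : u ∈ Subgroup.normalizer (Z : Set (Perm T))) :
    ∃ a : ℕ, ∀ w ∈ Z, u * w * u⁻¹ = w ^ a := by
  obtain ⟨c, hcZ, hcyc, hfull, hord, hZc⟩ := exists_cycle_gen hp hT Z hZ hne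
  have h1 : u * c * u⁻¹ ∈ Subgroup.zpowers c := by
    rw [← hZc]; exact (Subgroup.mem_normalizer_iff.mp hu c).mp hcZ
  have hfin : IsOfFinOrder c := isOfFinOrder_of_finite c
  rw [← mem_powers_iff_mem_zpowers] at h1
  obtain ⟨a, ha⟩ := h1
  simp only at ha
  refine ⟨a, ?_⟩
  intro w hw
  rw [hZc] at hw
  obtain ⟨m, rfl⟩ := hw
  have : u * c ^ m * u⁻¹ = (u * c * u⁻¹) ^ m := by
    simp
  rw [this, ← ha, ← zpow_natCast, ← zpow_natCast, ← zpow_mul, ← zpow_mul, mul_comm]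

theorem commutator_mem {u v : Perm T} (hu : u ∈ Subgroup.normalizer (Z : Set (Perm T))) (hv : v ∈ Subgroup.normalizer (Z : Set (Perm T))) :
    ⁅u, v⁆ ∈ Z := by
  obtain ⟨a, ha⟩ := exists_scalar hp hT Z hZ hne hu
  obtain ⟨b, hb⟩ := exists_scalar hp hT Z hZ hne hv
  have hconj : ∀ w ∈ Z, (u * v) * w * (u * v)⁻¹ = (v * u) * w * (v * u)⁻¹ := by
    intro w hw
    have hwb : w ^ b ∈ Z := Z.pow_mem hw b
    have hwa : w ^ a ∈ Z := Z.pow_mem hw a
    have e1 : (u * v) * w * (u * v)⁻¹ = u * (v * w * v⁻¹) * u⁻¹ := by group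
    have e2 : (v * u) * w * (v * u)⁻¹ = v * (u * w * u⁻¹) * v⁻¹ := by group
    rw [e1, e2, hb w hw, ha w hw, ha _ hwb, hb _ hwa, ← pow_mul, ← pow_mul, mul_comm]
  have hvu : v * u ∈ Subgroup.normalizer (Z : Set (Perm T)) := (Subgroup.normalizer (Z : Set (Perm T))).mul_mem hv hu
  have hmem : (v * u)⁻¹ * (u * v) ∈ Z := by
    apply mem_of_centralizes hp hT Z hZ hne
    intro w hw
    have := hconj w hw
    have e : (v * u)⁻¹ * (u * v) * w = (v * u)⁻¹ * ((u * v) * w * (u * v)⁻¹) * (u * v) := by group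
    rw [e, this]; group
  have e : ⁅u, v⁆ = (v * u) * ((v * u)⁻¹ * (u * v)) * (v * u)⁻¹ := by
    rw [commutatorElement_def]; group
  rw [e]
  exact (Subgroup.mem_normalizer_iff.mp hvu _).mp hmem

end PermPrime

end Cfsg.Agent.Lib.Helper3.Mil
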