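import Mathlib
import Cfsg.Agent.Lib.Helper3.Mil1

set_option autoImplicit false

/-!
# Miller's theorem, part 2: a p-group with an orbit of size p

`Q ≤ 𝔾` a `p`-group, `Γ = orbit Q ω₀` of size `p`.  Elements of the normalizer of `Q`
stabilizing `Γ` act on `Γ` through the normalizer of a cyclic group of order `p`.
-/

namespace Cfsg.Agent.Lib.Helper3.Mil

open MulAction
open scoped Pointwise commutatorElement

variable {𝔾 : Type*} [Group 𝔾] {α : Type*} [MulAction 𝔾 α] {p : ℕ} (Q : Subgroup 𝔾)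

theorem mem_orbit_sub {a b : α} : b ∈ orbit Q a ↔ ∃ g ∈ Q, g • a = b := by
  rw [mem_orbit_iff]
  constructor
  · rintro ⟨⟨g, hg⟩, h⟩; exact ⟨g, hg, h⟩
  · rintro ⟨g, hg, h⟩; exact ⟨⟨g, hg⟩, h⟩

theorem smul_mem_orbit_of_normalizer {y : 𝔾} (hy : y ∈ Subgroup.normalizer (Q : Set 𝔾))
    {ω₀ b : α} (h0 : y • ω₀ ∈ orbit Q ω₀) (hb : b ∈ orbit Q ω₀) : y • b ∈ orbit Q ω₀ := by
  obtain ⟨g, hg, rfl⟩ := (mem_orbit_sub Q).mp hb
  obtain ⟨h, hh, hh'⟩ := (mem_orbit_sub Q).mp h0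
  rw [mem_orbit_sub]
  refine ⟨y * g * y⁻¹ * h, Q.mul_mem ((Subgroup.mem_normalizer_iff.mp hy g).mp hg) hh, ?_⟩
  rw [mul_smul, hh', mul_smul, mul_smul, inv_smul_smul]

theorem inv_smul_mem_orbit_of_normalizer {y : 𝔾} (hy : y ∈ Subgroup.normalizer (Q : Set 𝔾))
    {ω₀ : α} (h0 : y • ω₀ ∈ orbit Q ω₀) : y⁻¹ • ω₀ ∈ orbit Q ω₀ := by
  obtain ⟨h, hh, hh'⟩ := (mem_orbit_sub Q).mp h0
  rw [mem_orbit_sub]
  have hy' := (Subgroup.normalizer (Q : Set 𝔾)).inv_mem hy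
  refine ⟨y⁻¹ * h⁻¹ * y⁻¹⁻¹, (Subgroup.mem_normalizer_iff.mp hy' _).mp (Q.inv_mem hh), ?_⟩
  rw [inv_inv, mul_smul, mul_smul, ← hh', inv_smul_smul]

theorem mem_stabilizer_orbit {y : 𝔾} (hy : y ∈ Subgroup.normalizer (Q : Set 𝔾))
    {ω₀ : α} (h0 : y • ω₀ ∈ orbit Q ω₀) : y ∈ stabilizer 𝔾 (orbit Q ω₀) := by
  rw [mem_stabilizer_set]
  intro b
  constructor
  · intro hb
    have h1 := smul_mem_orbit_of_normalizer Q ((Subgroup.normalizer (Q : Set 𝔾)).inv_mem hy)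
      (inv_smul_mem_orbit_of_normalizer Q hy h0) hb
    rwa [inv_smul_smul] at h1
  · exact smul_mem_orbit_of_normalizer Q hy h0

theorem le_stabilizer_orbit (ω₀ : α) : Q ≤ stabilizer 𝔾 (orbit Q ω₀) := by
  intro g hg
  apply mem_stabilizer_orbit Q (Subgroup.le_normalizer hg)
  exact (mem_orbit_sub Q).mpr ⟨g, hg, rfl⟩

section single

variable [Finite α] (hp : p.Prime) (hQ : IsPGroup p Q) (ω₀ : α)
  (hcard : (orbit Q ω₀).ncard = p)

/-- restriction hom to the orbit -/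
noncomputable def rho : stabilizer 𝔾 (orbit Q ω₀) →* Equiv.Perm (orbit Q ω₀) :=
  MulAction.toPermHom (stabilizer 𝔾 (orbit Q ω₀)) (orbit Q ω₀)

theorem rho_apply (s : stabilizer 𝔾 (orbit Q ω₀)) (x : orbit Q ω₀) :
    ((rho Q ω₀ s x : orbit Q ω₀) : α) = (s : 𝔾) • (x : α) := rfl

theorem rho_eq_one_iff (s : stabilizer 𝔾 (orbit Q ω₀)) :
    rho Q ω₀ s = 1 ↔ ∀ ω ∈ orbit Q ω₀, (s : 𝔾) • ω = ω := by
  constructor
  · intro h ω hω
    have := congrArg (fun f => ((f ⟨ω, hω⟩ : orbit Q ω₀) : α)) h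
    simpa [rho_apply] using this
  · intro h
    ext x
    rw [rho_apply]
    simpa using h x.1 x.2

/-- the image of `Q` in `Perm Γ` -/
noncomputable def zim : Subgroup (Equiv.Perm (orbit Q ω₀)) :=
  (Q.subgroupOf (stabilizer 𝔾 (orbit Q ω₀))).map (rho Q ω₀)

theorem mem_zim_of_mem {g : 𝔾} (hg : g ∈ Q) :
    rho Q ω₀ ⟨g, le_stabilizer_orbit Q ω₀ hg⟩ ∈ zim Q ω₀ :=
  Subgroup.mem_map.mpr ⟨⟨g, le_stabilizer_orbit Q ω₀ hg⟩, by simpa [Subgroup.mem_subgroupOf] using hg, rfl⟩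

theorem exists_of_mem_zim {u : Equiv.Perm (orbit Q ω₀)} (hu : u ∈ zim Q ω₀) :
    ∃ g, ∃ hg : g ∈ Q, rho Q ω₀ ⟨g, le_stabilizer_orbit Q ω₀ hg⟩ = u := by
  obtain ⟨s, hs, rfl⟩ := Subgroup.mem_map.mp hu
  exact ⟨s.1, by simpa [Subgroup.mem_subgroupOf] using hs, rfl⟩

include hQ in
theorem isPGroup_zim : IsPGroup p (zim Q ω₀) :=
  (hQ.comap_subtype).map _

include hp hcard in
theorem zim_ne_bot : zim Q ω₀ ≠ ⊥ := by
  intro hbot
  -- orbit has ≥ 2 elements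
  have h2 : 1 < (orbit Q ω₀).ncard := by rw [hcard]; exact hp.one_lt
  obtain ⟨b, hb, hne⟩ := Set.exists_ne_of_one_lt_ncard h2 ω₀
  obtain ⟨g, hg, rfl⟩ := (mem_orbit_sub Q).mp hb
  have hmem := mem_zim_of_mem Q ω₀ hg
  rw [hbot, Subgroup.mem_bot, rho_eq_one_iff] at hmem
  exact hne (hmem ω₀ (mem_orbit_self ω₀))

noncomputable instance : Fintype (orbit Q ω₀) := Fintype.ofFinite _

include hcard in
theorem card_orbit_type : Fintype.card (orbit Q ω₀) = p := by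
  rw [← Nat.card_eq_fintype_card, Nat.card_coe_set_eq, hcard]

include hp hQ hcard

/-- `E1`: an element centralizing `Q` and stabilizing the orbit acts on it as an element of
order dividing `p`. -/
theorem pow_smul_eq_of_centralizes {y : 𝔾} (hy : ∀ g ∈ Q, y * g = g * y)
    (h0 : y • ω₀ ∈ orbit Q ω₀) : ∀ ω ∈ orbit Q ω₀, (y ^ p) • ω = ω := by
  classical
  have hyN : y ∈ Subgroup.normalizer (Q : Set 𝔾) := by
    rw [Subgroup.mem_normalizer_iff]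
    intro h
    constructor
    · intro hh; rw [hy h hh, mul_inv_cancel_right]; exact hh
    · intro hh
      have := hy _ hh
      have e : h = y⁻¹ * (y * h * y⁻¹) * y := by group
      rw [e, mul_assoc, ← this, ← mul_assoc, inv_mul_cancel, one_mul]; exact hh
  have hyS := mem_stabilizer_orbit Q hyN h0
  have hmem : rho Q ω₀ ⟨y, hyS⟩ ∈ zim Q ω₀ := by
    apply mem_of_centralizes hp (card_orbit_type Q ω₀ hcard) (zim Q ω₀) (isPGroup_zim Q hQ ω₀)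
      (zim_ne_bot Q hp ω₀ hcard)
    intro w hw
    obtain ⟨g, hg, rfl⟩ := exists_of_mem_zim Q ω₀ hw
    rw [← map_mul, ← map_mul]
    congr 1
    exact Subtype.ext (hy g hg)
  have hpow := pow_eq_one_of_mem hp (card_orbit_type Q ω₀ hcard) (zim Q ω₀) (isPGroup_zim Q hQ ω₀)
      (zim_ne_bot Q hp ω₀ hcard) hmem
  rw [← map_pow, rho_eq_one_iff] at hpow
  exact hpow

/-- elements of `Q` have `p`-th power trivial on the orbit. -/
theorem pow_smul_eq_of_mem {g : 𝔾} (hg : g ∈ Q) : ∀ ω ∈ orbit Q ω₀, (g ^ p) • ω = ω := by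
  classical
  have hpow := pow_eq_one_of_mem hp (card_orbit_type Q ω₀ hcard) (zim Q ω₀) (isPGroup_zim Q hQ ω₀)
      (zim_ne_bot Q hp ω₀ hcard) (mem_zim_of_mem Q ω₀ hg)
  rw [← map_pow, rho_eq_one_iff] at hpow
  exact hpow

omit hp hQ hcard in
theorem rho_mem_normalizer {z : 𝔾} (hz : z ∈ Subgroup.normalizer (Q : Set 𝔾))
    (hzS : z ∈ stabilizer 𝔾 (orbit Q ω₀)) :
    rho Q ω₀ ⟨z, hzS⟩ ∈ Subgroup.normalizer ((zim Q ω₀ : Subgroup _) : Set _) := by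
  apply Subgroup.le_normalizer_map (rho Q ω₀)
  refine Subgroup.mem_map.mpr ⟨⟨z, hzS⟩, ?_, rfl⟩
  apply Subgroup.le_normalizer_comap (stabilizer 𝔾 (orbit Q ω₀)).subtype
  exact hz

/-- `E2`: commutators of normalizing elements stabilizing the orbit. -/
theorem commutator_pow_smul_eq {z w : 𝔾} (hz : z ∈ Subgroup.normalizer (Q : Set 𝔾))
    (hw : w ∈ Subgroup.normalizer (Q : Set 𝔾))
    (hz0 : z • ω₀ ∈ orbit Q ω₀) (hw0 : w • ω₀ ∈ orbit Q ω₀) :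
    ∀ ω ∈ orbit Q ω₀, (⁅z, w⁆ ^ p) • ω = ω := by
  classical
  have hzS := mem_stabilizer_orbit Q hz hz0
  have hwS := mem_stabilizer_orbit Q hw hw0
  have hmem := commutator_mem hp (card_orbit_type Q ω₀ hcard) (zim Q ω₀) (isPGroup_zim Q hQ ω₀)
      (zim_ne_bot Q hp ω₀ hcard) (rho_mem_normalizer Q ω₀ hz hzS)
      (rho_mem_normalizer Q ω₀ hw hwS)
  have hpow := pow_eq_one_of_mem hp (card_orbit_type Q ω₀ hcard) (zim Q ω₀) (isPGroup_zim Q hQ ω₀)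
      (zim_ne_bot Q hp ω₀ hcard) hmem
  rw [← map_commutatorElement, ← map_pow, rho_eq_one_iff] at hpow
  exact hpow

/-- `E3`: a normalizing element stabilizing the orbit acts on `Q|Γ` by a power map. -/
theorem exists_scalar_on_orbit {z : 𝔾} (hz : z ∈ Subgroup.normalizer (Q : Set 𝔾))
    (hz0 : z • ω₀ ∈ orbit Q ω₀) :
    ∃ a : ℕ, ∀ g ∈ Q, ∀ ω ∈ orbit Q ω₀, (z * g * z⁻¹) • ω = (g ^ a) • ω := by
  classical
  have hzS := mem_stabilizer_orbit Q hz hz0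
  obtain ⟨a, ha⟩ := exists_scalar hp (card_orbit_type Q ω₀ hcard) (zim Q ω₀)
      (isPGroup_zim Q hQ ω₀) (zim_ne_bot Q hp ω₀ hcard) (rho_mem_normalizer Q ω₀ hz hzS)
  refine ⟨a, ?_⟩
  intro g hg ω hω
  have h1 := ha _ (mem_zim_of_mem Q ω₀ hg)
  have h1' : rho Q ω₀ (⟨z, hzS⟩ * ⟨g, le_stabilizer_orbit Q ω₀ hg⟩ * ⟨z, hzS⟩⁻¹) =
      rho Q ω₀ (⟨g, le_stabilizer_orbit Q ω₀ hg⟩ ^ a) := by
    rw [map_mul, map_mul, map_inv, map_pow]; exact h1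
  have h2 := congrArg (fun f => ((f ⟨ω, hω⟩ : orbit Q ω₀) : α)) h1'
  simp only [rho_apply] at h2
  exact h2

/-- `E5`: an element of `Q` acting nontrivially on the orbit has order exactly `p` there. -/
theorem pow_trivial_iff {g : 𝔾} (hg : g ∈ Q) (hne : ∃ ω ∈ orbit Q ω₀, g • ω ≠ ω) (m : ℕ) :
    (∀ ω ∈ orbit Q ω₀, (g ^ m) • ω = ω) ↔ p ∣ m := by
  classical
  have hne1 : rho Q ω₀ ⟨g, le_stabilizer_orbit Q ω₀ hg⟩ ≠ 1 := by
    intro h
    rw [rho_eq_one_iff] at h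
    obtain ⟨ω, hω, hω'⟩ := hne
    exact hω' (h ω hω)
  have hord := orderOf_of_mem_ne_one hp (card_orbit_type Q ω₀ hcard) (zim Q ω₀)
      (isPGroup_zim Q hQ ω₀) (zim_ne_bot Q hp ω₀ hcard) (mem_zim_of_mem Q ω₀ hg) hne1
  rw [← hord, orderOf_dvd_iff_pow_eq_one, ← map_pow, rho_eq_one_iff]
  rfl

end single

end Cfsg.Agent.Lib.Helper3.Mil
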