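import Mathlib
import Cfsg.Agent.Lib.Helper3.Mil2

set_option autoImplicit false

/-!
# Miller's theorem, part 3: the action of the normalizer on the set of nontrivial orbits
-/

namespace Cfsg.Agent.Lib.Helper3.Mil

open MulAction
open scoped Pointwise commutatorElement

variable {𝔾 : Type*} [Group 𝔾] {α : Type*} [MulAction 𝔾 α] {p : ℕ} (Q : Subgroup 𝔾)

theorem smul_orbit_eq {y : 𝔾} (hy : y ∈ Subgroup.normalizer (Q : Set 𝔾)) (ω : α) :
    y • orbit Q ω = orbit Q (y • ω) := by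
  ext x
  rw [Set.mem_smul_set_iff_inv_smul_mem, mem_orbit_sub, mem_orbit_sub]
  constructor
  · rintro ⟨g, hg, h⟩
    refine ⟨y * g * y⁻¹, (Subgroup.mem_normalizer_iff.mp hy g).mp hg, ?_⟩
    rw [mul_smul, mul_smul, inv_smul_smul, h, smul_inv_smul]
  · rintro ⟨h, hh, hx⟩
    refine ⟨y⁻¹ * h * y, (Subgroup.mem_normalizer_iff''.mp hy h).mp hh, ?_⟩
    rw [mul_smul, mul_smul, hx]

theorem smul_mem_fixedPoints_iff {y : 𝔾} (hy : y ∈ Subgroup.normalizer (Q : Set 𝔾)) (ω : α) :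
    y • ω ∈ fixedPoints Q α ↔ ω ∈ fixedPoints Q α := by
  have key : ∀ {z : 𝔾}, z ∈ Subgroup.normalizer (Q : Set 𝔾) → ∀ ω : α,
      ω ∈ fixedPoints Q α → z • ω ∈ fixedPoints Q α := by
    intro z hz ω hω
    rw [mem_fixedPoints] at hω ⊢
    rintro ⟨g, hg⟩
    have h1 : z⁻¹ * g * z ∈ Q := (Subgroup.mem_normalizer_iff''.mp hz g).mp hg
    have h2 : (z⁻¹ * g * z) • ω = ω := hω ⟨_, h1⟩
    show g • z • ω = z • ω
    calc g • z • ω = z • ((z⁻¹ * g * z) • ω) := by simp [mul_smul]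
      _ = z • ω := by rw [h2]
  constructor
  · intro h
    have := key ((Subgroup.normalizer (Q : Set 𝔾)).inv_mem hy) _ h
    rwa [inv_smul_smul] at this
  · exact key hy ω

theorem not_fixed_of_mem_orbit {ω ω' : α} (h : ω' ∈ orbit Q ω) (hω : ω ∉ fixedPoints Q α) :
    ω' ∉ fixedPoints Q α := by
  intro hfix
  apply hω
  obtain ⟨g, hg, rfl⟩ := (mem_orbit_sub Q).mp h
  rw [mem_fixedPoints] at hfix ⊢
  rintro ⟨k, hk⟩
  have h1 := hfix ⟨g * k * g⁻¹, Q.mul_mem (Q.mul_mem hg hk) (Q.inv_mem hg)⟩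
  rw [Subgroup.mk_smul] at h1 ⊢
  rw [mul_smul, mul_smul, inv_smul_smul] at h1
  exact smul_left_cancel g h1

variable (α) in
/-- `y` maps every nontrivial `Q`-orbit to itself. -/
def PresOrb (y : 𝔾) : Prop :=
  ∀ ω : α, ω ∉ fixedPoints Q α → y • ω ∈ orbit Q ω

variable (α) in
/-- the subgroup of the normalizer fixing every orbit -/
def Mker : Subgroup 𝔾 where
  carrier := {y | y ∈ Subgroup.normalizer (Q : Set 𝔾) ∧ PresOrb α Q y}
  one_mem' := ⟨Subgroup.one_mem _, fun ω _ => by rw [one_smul]; exact mem_orbit_self ω⟩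
  mul_mem' := by
    rintro a b ⟨ha, ha'⟩ ⟨hb, hb'⟩
    refine ⟨Subgroup.mul_mem _ ha hb, fun ω hω => ?_⟩
    have h1 := hb' ω hω
    have h2 := ha' (b • ω) (not_fixed_of_mem_orbit Q h1 hω)
    rw [mul_smul, ← orbit_eq_iff.mpr h1]
    exact h2
  inv_mem' := by
    rintro a ⟨ha, ha'⟩
    refine ⟨Subgroup.inv_mem _ ha, fun ω hω => ?_⟩
    have hω' : a⁻¹ • ω ∉ fixedPoints Q α := by
      rw [smul_mem_fixedPoints_iff Q (Subgroup.inv_mem _ ha)]; exact hω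
    have h1 := ha' _ hω'
    rw [smul_inv_smul] at h1
    have := orbit_eq_iff.mpr h1
    rw [this]
    exact mem_orbit_self _

theorem mem_Mker {y : 𝔾} : y ∈ Mker α Q ↔ y ∈ Subgroup.normalizer (Q : Set 𝔾) ∧ PresOrb α Q y :=
  Iff.rfl

theorem conj_mem_Mker {x y : 𝔾} (hx : x ∈ Subgroup.normalizer (Q : Set 𝔾)) (hy : y ∈ Mker α Q) :
    x * y * x⁻¹ ∈ Mker α Q := by
  refine ⟨Subgroup.mul_mem _ (Subgroup.mul_mem _ hx hy.1) (Subgroup.inv_mem _ hx), fun ω hω => ?_⟩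
  have hx' := Subgroup.inv_mem _ hx
  have hω' : x⁻¹ • ω ∉ fixedPoints Q α := by
    rw [smul_mem_fixedPoints_iff Q hx']; exact hω
  have h1 := hy.2 _ hω'
  have h2 : x • (y • x⁻¹ • ω) ∈ x • orbit Q (x⁻¹ • ω) := Set.smul_mem_smul_set h1
  rw [smul_orbit_eq Q hx, smul_inv_smul] at h2
  rw [mul_smul, mul_smul]
  exact h2

section global

variable [Finite α] (hp : p.Prime) (hQ : IsPGroup p Q)
  (horb : ∀ ω, ω ∉ fixedPoints Q α → (orbit Q ω).ncard = p)

include hp hQ horb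

theorem Mker_centralizer_pow {y : 𝔾} (hy : y ∈ Mker α Q) (hc : ∀ g ∈ Q, y * g = g * y) :
    ∀ ω, ω ∉ fixedPoints Q α → (y ^ p) • ω = ω := fun ω hω =>
  pow_smul_eq_of_centralizes Q hp hQ ω (horb ω hω) hc (hy.2 ω hω) ω (mem_orbit_self ω)

theorem Mker_commutator_pow {z w : 𝔾} (hz : z ∈ Mker α Q) (hw : w ∈ Mker α Q) :
    ∀ ω, ω ∉ fixedPoints Q α → (⁅z, w⁆ ^ p) • ω = ω := fun ω hω =>
  commutator_pow_smul_eq Q hp hQ ω (horb ω hω) hz.1 hw.1 (hz.2 ω hω) (hw.2 ω hω) ω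
    (mem_orbit_self ω)

theorem mem_pow_smul {g : 𝔾} (hg : g ∈ Q) (ω : α) : (g ^ p) • ω = ω := by
  by_cases hω : ω ∈ fixedPoints Q α
  · rw [mem_fixedPoints] at hω
    exact hω ⟨g ^ p, Q.pow_mem hg p⟩
  · exact pow_smul_eq_of_mem Q hp hQ ω (horb ω hω) hg ω (mem_orbit_self ω)

end global

/-! ### the set of nontrivial orbits -/

variable (α) in
/-- the type of nontrivial orbits -/
def Orb : Type _ :=
  {B : Set α // ∃ ω, ω ∉ fixedPoints Q α ∧ B = orbit Q ω}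

instance [Finite α] : Finite (Orb α Q) := by unfold Orb; infer_instance

/-- the orbit of a non-fixed point -/
def Orb.mk' (ω : α) (hω : ω ∉ fixedPoints Q α) : Orb α Q := ⟨orbit Q ω, ω, hω, rfl⟩

variable (α) in
/-- the permutation of the orbits induced by a normalizing element -/
def orbEquiv (y : 𝔾) (hy : y ∈ Subgroup.normalizer (Q : Set 𝔾)) : Orb α Q ≃ Orb α Q where
  toFun B := ⟨y • B.1, by
    obtain ⟨ω, hω, hB⟩ := B.2
    exact ⟨y • ω, by rw [smul_mem_fixedPoints_iff Q hy]; exact hω, by rw [hB, smul_orbit_eq Q hy]⟩⟩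
  invFun B := ⟨y⁻¹ • B.1, by
    have hy' := Subgroup.inv_mem _ hy
    obtain ⟨ω, hω, hB⟩ := B.2
    exact ⟨y⁻¹ • ω, by rw [smul_mem_fixedPoints_iff Q hy']; exact hω,
      by rw [hB, smul_orbit_eq Q hy']⟩⟩
  left_inv B := Subtype.ext (inv_smul_smul y B.1)
  right_inv B := Subtype.ext (smul_inv_smul y B.1)

theorem orbEquiv_apply_val (y : 𝔾) (hy : y ∈ Subgroup.normalizer (Q : Set 𝔾)) (B : Orb α Q) :
    (orbEquiv α Q y hy B).1 = y • B.1 := rfl

theorem mem_Mker_of_orbEquiv_eq {y₁ y₂ : 𝔾} (h1 : y₁ ∈ Subgroup.normalizer (Q : Set 𝔾))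
    (h2 : y₂ ∈ Subgroup.normalizer (Q : Set 𝔾))
    (h : orbEquiv α Q y₁ h1 = orbEquiv α Q y₂ h2) : y₁⁻¹ * y₂ ∈ Mker α Q := by
  refine ⟨Subgroup.mul_mem _ (Subgroup.inv_mem _ h1) h2, fun ω hω => ?_⟩
  have e : y₁ • orbit Q ω = y₂ • orbit Q ω := congrArg (fun f => (f (Orb.mk' Q ω hω)).1) h
  -- y₁ • orbit = y₂ • orbit
  have h3 : y₂ • ω ∈ y₁ • orbit Q ω := by
    rw [e]; exact Set.smul_mem_smul_set (mem_orbit_self ω)
  rw [Set.mem_smul_set_iff_inv_smul_mem] at h3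
  rw [mul_smul]; exact h3

theorem mem_Mker_of_orbEquiv_eq_refl {y : 𝔾} (hy : y ∈ Subgroup.normalizer (Q : Set 𝔾))
    (h : ∀ B, orbEquiv α Q y hy B = B) : y ∈ Mker α Q := by
  refine ⟨hy, fun ω hω => ?_⟩
  have e : y • orbit Q ω = orbit Q ω := congrArg Subtype.val (h (Orb.mk' Q ω hω))
  rw [← e]
  exact Set.smul_mem_smul_set (mem_orbit_self ω)

theorem orbEquiv_mul {y₁ y₂ : 𝔾} (h1 : y₁ ∈ Subgroup.normalizer (Q : Set 𝔾))
    (h2 : y₂ ∈ Subgroup.normalizer (Q : Set 𝔾)) (B : Orb α Q) :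
    orbEquiv α Q (y₁ * y₂) (Subgroup.mul_mem _ h1 h2) B = orbEquiv α Q y₁ h1 (orbEquiv α Q y₂ h2 B) :=
  Subtype.ext (mul_smul y₁ y₂ B.1)

/-- pigeonhole: among more than `(card Orb)!` normalizing elements two differ by an element of
`Mker`. -/
theorem exists_pair_mem_Mker [Finite α] {ι : Type*} [Fintype ι] (f : ι → 𝔾)
    (hf : ∀ i, f i ∈ Subgroup.normalizer (Q : Set 𝔾))
    (hcard : (Nat.card (Orb α Q)).factorial < Fintype.card ι) :
    ∃ i j, i ≠ j ∧ (f i)⁻¹ * f j ∈ Mker α Q := by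
  classical
  haveI : Fintype (Orb α Q) := Fintype.ofFinite _
  have hc : Fintype.card (Orb α Q ≃ Orb α Q) < Fintype.card ι := by
    rw [Fintype.card_perm, ← Nat.card_eq_fintype_card]; exact hcard
  obtain ⟨i, j, hij, h⟩ := Fintype.exists_ne_map_eq_of_card_lt
    (fun i => orbEquiv α Q (f i) (hf i)) hc
  exact ⟨i, j, hij, mem_Mker_of_orbEquiv_eq Q (hf i) (hf j) h⟩

/-- with two orbits, squares of normalizing elements fix every orbit. -/
theorem sq_mem_Mker [Finite α] (hcard : Nat.card (Orb α Q) = 2) {y : 𝔾}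
    (hy : y ∈ Subgroup.normalizer (Q : Set 𝔾)) : y * y ∈ Mker α Q := by
  classical
  haveI : Fintype (Orb α Q) := Fintype.ofFinite _
  apply mem_Mker_of_orbEquiv_eq_refl Q (Subgroup.mul_mem _ hy hy)
  intro B
  rw [orbEquiv_mul Q hy hy]
  have h2 : (orbEquiv α Q y hy : Equiv.Perm (Orb α Q)) ^ 2 = 1 := by
    have := pow_card_eq_one' (G := Equiv.Perm (Orb α Q)) (x := orbEquiv α Q y hy)
    rwa [Nat.card_perm, hcard] at this
  have := congrArg (fun f : Equiv.Perm (Orb α Q) => f B) h2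
  simpa [pow_two] using this

/-- counting: the non-fixed points are partitioned into `card Orb` orbits of size `p`. -/
theorem card_Orb_mul [Finite α]
    (horb : ∀ ω, ω ∉ fixedPoints Q α → (orbit Q ω).ncard = p) :
    Nat.card (Orb α Q) * p = (fixedPoints Q α)ᶜ.ncard := by
  classical
  haveI : Fintype (Orb α Q) := Fintype.ofFinite _
  let proj : {ω : α // ω ∉ fixedPoints Q α} → Orb α Q := fun ω => Orb.mk' Q ω.1 ω.2
  have e1 : Nat.card {ω : α // ω ∉ fixedPoints Q α} =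
      Nat.card (Σ B : Orb α Q, {ω : {ω : α // ω ∉ fixedPoints Q α} // proj ω = B}) :=
    Nat.card_congr (Equiv.sigmaFiberEquiv proj).symm
  have e2 : ∀ B : Orb α Q, Nat.card {ω : {ω : α // ω ∉ fixedPoints Q α} // proj ω = B} = p := by
    intro B
    obtain ⟨ω₀, hω₀, hB⟩ := B.2
    rw [← horb ω₀ hω₀, ← Nat.card_coe_set_eq]
    apply Nat.card_congr
    refine ⟨fun x => ⟨x.1.1, ?_⟩, fun x => ⟨⟨x.1, not_fixed_of_mem_orbit Q x.2 hω₀⟩, ?_⟩, ?_, ?_⟩
    · have h := congrArg Subtype.val x.2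
      simp only [proj, Orb.mk'] at h
      rw [hB] at h
      rw [← h]; exact mem_orbit_self _
    · apply Subtype.ext
      simp only [proj, Orb.mk']
      rw [hB]; exact orbit_eq_iff.mpr x.2
    · intro x; rfl
    · intro x; rfl
  rw [Nat.card_sigma] at e1
  simp only [e2] at e1
  rw [Finset.sum_const, Finset.card_univ, smul_eq_mul, ← Nat.card_eq_fintype_card] at e1
  rw [← e1, ← Nat.card_coe_set_eq]
  rfl

end Cfsg.Agent.Lib.Helper3.Mil
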