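import Mathlib
import Cfsg.Agent.Lib.Helper3.Mil3
import Cfsg.Agent.S4219
import Cfsg.Agent.S0711
import Cfsg.Agent.S0713

set_option autoImplicit false

/-!
# Miller's theorem, part 4: the set-up

`G ≤ Perm α` is `(r+1)`-transitive of degree `k p + r`, `k < p`.  `Q` is a Sylow `p`-subgroup of
the stabilizer of `r` points.
-/

namespace Cfsg.Agent.Lib.Helper3.Mil

open MulAction
open scoped Pointwise commutatorElement

/-- Sylow orbit lemma. -/
theorem sylow_orbit_dvd {G : Type*} [Group G] [Finite G] {p m : ℕ} [hp : Fact p.Prime]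
    {Ω : Type*} [MulAction G Ω] (P : Sylow p G) (x : Ω)
    (hm : p ^ m ∣ (orbit G x).ncard) : p ^ m ∣ (orbit (P : Subgroup G) x).ncard := by
  set H : Subgroup G := stabilizer G x with hH
  have hHidx : H.index = (orbit G x).ncard := index_stabilizer G x
  have hstab : stabilizer (P : Subgroup G) x = H.subgroupOf (P : Subgroup G) := by
    ext g
    simp [hH, Subgroup.mem_subgroupOf, mem_stabilizer_iff, Subgroup.smul_def]
  have horb : (H.subgroupOf (P : Subgroup G)).index = (orbit (P : Subgroup G) x).ncard := by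
    rw [← hstab, index_stabilizer]
  have h1 : (H ⊓ (P : Subgroup G)).relIndex (P : Subgroup G) * (P : Subgroup G).index
      = (H ⊓ (P : Subgroup G)).index := Subgroup.relIndex_mul_index inf_le_right
  have h2 : H.index ∣ (H ⊓ (P : Subgroup G)).index := Subgroup.index_dvd_of_le inf_le_left
  rw [Subgroup.inf_relIndex_right] at h1
  have h3 : p ^ m ∣ H.relIndex (P : Subgroup G) * (P : Subgroup G).index := by
    rw [h1]; exact (hHidx ▸ hm).trans h2
  have hcop : (p ^ m).Coprime (P : Subgroup G).index := by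
    apply Nat.Coprime.pow_left
    rw [Nat.Prime.coprime_iff_not_dvd hp.out]
    exact P.not_dvd_index
  have h4 : p ^ m ∣ H.relIndex (P : Subgroup G) := hcop.dvd_of_dvd_mul_right h3
  rw [← horb]
  exact h4

variable {α : Type*} [Fintype α] [DecidableEq α]

/-- the data of the set-up -/
structure Ctx (G : Subgroup (Equiv.Perm α)) (k p r : ℕ) where
  x₀ : Fin r ↪ α
  Q : Subgroup G
  hQ : IsPGroup p Q
  hfix : ∀ ω : α, ω ∈ fixedPoints Q α ↔ ω ∈ Set.range x₀
  horb : ∀ ω : α, ω ∉ fixedPoints Q α → (orbit Q ω).ncard = p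
  hlift : ∀ σ : Equiv.Perm (Fin r), ∃ g : G, g ∈ Subgroup.normalizer (Q : Set G) ∧
    ∀ i, g • x₀ i = x₀ (σ i)
  hOrb : Nat.card (Orb α Q) = k

theorem exists_ctx (G : Subgroup (Equiv.Perm α)) {k p r : ℕ} (hp : p.Prime)
    (hn : Fintype.card α = k * p + r) (hk : 1 ≤ k) (hpk : k < p)
    (hG : IsMultiplyPretransitive G α (r + 1)) : Nonempty (Ctx G k p r) := by
  haveI : Fact p.Prime := ⟨hp⟩
  have hkp : 0 < k * p := Nat.mul_pos hk hp.pos
  obtain ⟨x₀⟩ : Nonempty (Fin r ↪ α) :=
    Function.Embedding.nonempty_of_card_le (by rw [Fintype.card_fin]; omega)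
  have hGr : IsMultiplyPretransitive G α r :=
    isMultiplyPretransitive_of_le (n := r + 1) (Nat.le_succ r)
      (by rw [Nat.card_eq_fintype_card]; omega)
  set H : Subgroup G := stabilizer G x₀ with hH
  let P : Sylow p H := default
  set Q : Subgroup G := (P : Subgroup H).map H.subtype with hQdef
  have hQH : Q ≤ H := by
    rw [hQdef]; intro g hg
    obtain ⟨h, -, rfl⟩ := Subgroup.mem_map.mp hg
    exact h.2
  have hHfix : ∀ g : G, g ∈ H ↔ ∀ i, g • x₀ i = x₀ i := by
    intro g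
    rw [hH, mem_stabilizer_iff]
    constructor
    · intro h i
      have := congrArg (fun f => f i) h
      exact this
    · intro h
      ext i
      exact h i
  have hQp : IsPGroup p Q := P.2.map _
  -- fixed points contain the range
  have hfix1 : ∀ ω : α, ω ∈ Set.range x₀ → ω ∈ fixedPoints Q α := by
    rintro ω ⟨i, rfl⟩
    rw [mem_fixedPoints]
    rintro ⟨g, hg⟩
    exact (hHfix g).mp (hQH hg) i
  -- orbits of H off the range
  have hHorb : ∀ ω : α, ω ∉ Set.range x₀ → orbit H ω = (Set.range x₀)ᶜ := by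
    intro ω hω
    ext ω'
    constructor
    · rintro ⟨⟨g, hg⟩, rfl⟩
      rintro ⟨i, hi⟩
      apply hω
      refine ⟨i, ?_⟩
      have := (hHfix g).mp hg i
      change x₀ i = g • ω at hi
      rw [← this] at hi
      exact smul_left_cancel g hi
    · intro hω'
      have h1 : IsMultiplyPretransitive (fixingSubgroup G (Set.range x₀))
          (SubMulAction.ofFixingSubgroup G (Set.range x₀)) 1 := by
        apply SubMulAction.ofFixingSubgroup.isMultiplyPretransitive G (n := r + 1)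
        rw [Set.ncard_range_of_injective x₀.injective, Nat.card_eq_fintype_card, Fintype.card_fin]
      rw [is_one_pretransitive_iff] at h1
      obtain ⟨⟨g, hg⟩, hgg⟩ := h1.exists_smul_eq
        (⟨ω, (SubMulAction.mem_ofFixingSubgroup_iff G).mpr hω⟩ :
          SubMulAction.ofFixingSubgroup G (Set.range x₀))
        ⟨ω', (SubMulAction.mem_ofFixingSubgroup_iff G).mpr hω'⟩
      have hgH : g ∈ H := by
        rw [hHfix]; intro i
        exact (mem_fixingSubgroup_iff G).mp hg _ ⟨i, rfl⟩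
      refine ⟨⟨g, hgH⟩, ?_⟩
      have := congrArg Subtype.val hgg
      exact this
  have hcompl : (Set.range x₀)ᶜ.ncard = k * p := by
    rw [Set.ncard_compl, Set.ncard_range_of_injective x₀.injective, Nat.card_eq_fintype_card,
      Nat.card_eq_fintype_card, Fintype.card_fin, hn]
    omega
  -- orbits of Q = orbits of P
  have horbPQ : ∀ ω : α, orbit Q ω = orbit (P : Subgroup H) ω := by
    intro ω
    ext ω'
    rw [mem_orbit_sub, mem_orbit_sub]
    constructor
    · rintro ⟨g, hg, rfl⟩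
      obtain ⟨h, hh, rfl⟩ := Subgroup.mem_map.mp hg
      exact ⟨h, hh, rfl⟩
    · rintro ⟨h, hh, rfl⟩
      exact ⟨H.subtype h, Subgroup.mem_map.mpr ⟨h, hh, rfl⟩, rfl⟩
  have hdvd : ∀ ω : α, ω ∉ Set.range x₀ → p ∣ (orbit Q ω).ncard := by
    intro ω hω
    rw [horbPQ]
    have := sylow_orbit_dvd (m := 1) P ω (by
      rw [hHorb ω hω, hcompl, pow_one]; exact Dvd.intro_left k rfl)
    rwa [pow_one] at this
  have hsize : ∀ ω : α, ω ∉ Set.range x₀ → (orbit Q ω).ncard = p := by
    intro ω hω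
    obtain ⟨n, hn'⟩ := hQp.card_orbit ω
    rw [Nat.card_coe_set_eq] at hn'
    have h1 := hdvd ω hω
    have h2 : (orbit Q ω).ncard ≤ k * p := by
      rw [← hcompl]
      apply Set.ncard_le_ncard _ (Set.toFinite _)
      rw [horbPQ]
      intro ω' hω'
      have : ω' ∈ orbit H ω := by
        obtain ⟨h, hh, rfl⟩ := (mem_orbit_sub _).mp hω'
        exact ⟨h, rfl⟩
      rwa [hHorb ω hω] at this
    rw [hn'] at h1 h2 ⊢
    have hn1 : n ≠ 0 := by
      rintro rfl
      rw [pow_zero] at h1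
      exact hp.one_lt.ne' (Nat.dvd_one.mp h1)
    have hn2 : n < 2 := by
      by_contra hcon
      push Not at hcon
      have : p ^ 2 ≤ p ^ n := Nat.pow_le_pow_right hp.pos hcon
      have h3 : k * p < p * p := Nat.mul_lt_mul_of_pos_right hpk hp.pos
      rw [pow_two] at this
      omega
    have : n = 1 := by omega
    rw [this, pow_one]
  have hfix : ∀ ω : α, ω ∈ fixedPoints Q α ↔ ω ∈ Set.range x₀ := by
    intro ω
    refine ⟨fun h => ?_, hfix1 ω⟩
    by_contra hω
    have h1 := hsize ω hω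
    have h2 : orbit Q ω = {ω} := by
      ext ω'
      rw [mem_orbit_iff, Set.mem_singleton_iff]
      constructor
      · rintro ⟨g, rfl⟩; exact mem_fixedPoints.mp h g
      · rintro rfl; exact ⟨1, one_smul _ _⟩
    rw [h2, Set.ncard_singleton] at h1
    exact hp.one_lt.ne h1
  have horb : ∀ ω : α, ω ∉ fixedPoints Q α → (orbit Q ω).ncard = p := by
    intro ω hω
    exact hsize ω (fun h => hω ((hfix ω).mpr h))
  have hlift : ∀ σ : Equiv.Perm (Fin r), ∃ g : G, g ∈ Subgroup.normalizer (Q : Set G) ∧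
      ∀ i, g • x₀ i = x₀ (σ i) := by
    intro σ
    obtain ⟨g, hg, hgg⟩ := Cfsg.Agent.S4219.result hGr x₀ P x₀ (σ.toEmbedding.trans x₀)
      (fun i => hfix1 _ ⟨i, rfl⟩) (fun i => hfix1 _ ⟨σ i, rfl⟩)
    refine ⟨g, hg, fun i => ?_⟩
    have := congrArg (fun f => f i) hgg
    simpa using this
  have hOrb : Nat.card (Orb α Q) = k := by
    have h1 := card_Orb_mul Q horb
    have h2 : (fixedPoints Q α)ᶜ = (Set.range x₀)ᶜ := by
      ext ω; simp only [Set.mem_compl_iff, hfix ω]
    rw [h2, hcompl] at h1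
    exact Nat.eq_of_mul_eq_mul_right hp.pos h1
  exact ⟨⟨x₀, Q, hQp, hfix, horb, hlift, hOrb⟩⟩


namespace Ctx

variable {G : Subgroup (Equiv.Perm α)} {k p r : ℕ} (c : Ctx G k p r)

/-- `y` acts on the fixed points `x₀ i` as `σ`. -/
def Lifts (y : G) (σ : Equiv.Perm (Fin r)) : Prop := ∀ i, y • c.x₀ i = c.x₀ (σ i)

theorem Lifts.one : c.Lifts 1 1 := fun i => by simp

theorem Lifts.mul {y₁ y₂ : G} {σ₁ σ₂ : Equiv.Perm (Fin r)} (h1 : c.Lifts y₁ σ₁)
    (h2 : c.Lifts y₂ σ₂) : c.Lifts (y₁ * y₂) (σ₁ * σ₂) := fun i => by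
  rw [mul_smul, h2 i, h1 (σ₂ i)]; rfl

theorem Lifts.inv {y : G} {σ : Equiv.Perm (Fin r)} (h : c.Lifts y σ) : c.Lifts y⁻¹ σ⁻¹ :=
  fun i => by
    have := h (σ⁻¹ i)
    have e : σ (σ⁻¹ i) = i := by simp
    rw [e] at this
    rw [← this, inv_smul_smul]

theorem Lifts.pow {y : G} {σ : Equiv.Perm (Fin r)} (h : c.Lifts y σ) (n : ℕ) :
    c.Lifts (y ^ n) (σ ^ n) := by
  induction n with
  | zero => simpa using Lifts.one c
  | succ n ih => rw [pow_succ, pow_succ]; exact ih.mul c h

theorem Lifts.commutator {y₁ y₂ : G} {σ₁ σ₂ : Equiv.Perm (Fin r)} (h1 : c.Lifts y₁ σ₁)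
    (h2 : c.Lifts y₂ σ₂) : c.Lifts ⁅y₁, y₂⁆ ⁅σ₁, σ₂⁆ := by
  rw [commutatorElement_def, commutatorElement_def]
  exact ((h1.mul c h2).mul c (h1.inv c)).mul c (h2.inv c)

theorem Lifts.exists_ne {y : G} {σ : Equiv.Perm (Fin r)} (h : c.Lifts y σ) (hσ : σ ≠ 1) :
    ∃ i, y • c.x₀ i ≠ c.x₀ i := by
  by_contra hcon
  push Not at hcon
  apply hσ
  ext i
  have := (h i).symm.trans (hcon i)
  exact congrArg Fin.val (c.x₀.injective this)

theorem mem_pow_eq_one (hp : p.Prime) {g : G} (hg : g ∈ c.Q) : g ^ p = 1 := by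
  apply Subtype.ext
  ext ω
  have := mem_pow_smul c.Q hp c.hQ c.horb hg ω
  exact this

include c in
/-- final step: a nontrivial element fixing all non-fixed points of `Q`. -/
theorem finish (hn : Fintype.card α = k * p + r) (hk : 1 ≤ k) (hp : p.Prime) (hr : 2 ≤ r)
    (hG : IsMultiplyPretransitive G α (r + 1)) (y : G)
    (hy : ∀ ω : α, ω ∉ fixedPoints c.Q α → y • ω = ω) (hy1 : ∃ i, y • c.x₀ i ≠ c.x₀ i) :
    alternatingGroup α ≤ G := by
  have hkp : 0 < k * p := Nat.mul_pos hk hp.pos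
  refine (Cfsg.Agent.S0711.result G (k := r + 1) (by omega) (by omega) hG (y : Equiv.Perm α) y.2
    ?_ ?_).2
  · obtain ⟨i, hi⟩ := hy1
    intro h
    apply hi
    change (y : Equiv.Perm α) (c.x₀ i) = c.x₀ i
    rw [h]; rfl
  · have hsub : (y : Equiv.Perm α).support ⊆ Finset.univ.map c.x₀ := by
      intro ω hω
      rw [Equiv.Perm.mem_support] at hω
      have : ω ∈ fixedPoints c.Q α := by
        by_contra hcon
        exact hω (hy ω hcon)
      obtain ⟨i, rfl⟩ := (c.hfix ω).mp this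
      exact Finset.mem_map_of_mem _ (Finset.mem_univ i)
    have := Finset.card_le_card hsub
    rw [Finset.card_map, Finset.card_univ, Fintype.card_fin] at this
    omega

include c in
theorem finish_lift (hn : Fintype.card α = k * p + r) (hk : 1 ≤ k) (hp : p.Prime) (hr : 2 ≤ r)
    (hG : IsMultiplyPretransitive G α (r + 1)) {y : G} {σ : Equiv.Perm (Fin r)}
    (hl : c.Lifts y σ) (hσ : σ ≠ 1)
    (hy : ∀ ω : α, ω ∉ fixedPoints c.Q α → y • ω = ω) : alternatingGroup α ≤ G :=
  c.finish hn hk hp hr hG y hy (hl.exists_ne c hσ)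

include c in
/-- `Q` contains a `p`-cycle. -/
theorem of_pcycle (hn : Fintype.card α = k * p + r) (hk : 1 ≤ k) (hp : p.Prime) (hr : 3 ≤ r)
    (hG : IsMultiplyPretransitive G α (r + 1)) {g : G} (hg : g ∈ c.Q) (hg1 : g ≠ 1) (ω₀ : α)
    (hsupp : ∀ ω : α, g • ω ≠ ω → ω ∈ orbit c.Q ω₀) : alternatingGroup α ≤ G := by
  have hkp : p ≤ k * p := Nat.le_mul_of_pos_left p hk
  have hp2 := hp.two_le
  have hprim : IsPreprimitive G α := by
    apply isPreprimitive_of_is_two_pretransitive
    exact isMultiplyPretransitive_of_le (n := r + 1) (by omega)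
      (by rw [Nat.card_eq_fintype_card]; omega)
  have hg1' : (g : Equiv.Perm α) ≠ 1 := fun h => hg1 (Subtype.ext h)
  have hpow : (g : Equiv.Perm α) ^ p = 1 := by
    have := congrArg Subtype.val (c.mem_pow_eq_one hp hg)
    simpa using this
  have hord : orderOf (g : Equiv.Perm α) = p := by
    rcases (Nat.dvd_prime hp).mp (orderOf_dvd_of_pow_eq_one hpow) with h | h
    · exact absurd (orderOf_eq_one_iff.mp h) hg1'
    · exact h
  -- ω₀ is not fixed
  have hω₀ : ω₀ ∉ fixedPoints c.Q α := by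
    intro hfix
    obtain ⟨ω, hω⟩ : ∃ ω : α, g • ω ≠ ω := by
      by_contra hcon
      push Not at hcon
      exact hg1' (Equiv.ext hcon)
    have h1 := hsupp ω hω
    obtain ⟨q, hq, rfl⟩ := (mem_orbit_sub _).mp h1
    rw [mem_fixedPoints] at hfix
    have h2 : q • ω₀ = ω₀ := hfix ⟨q, hq⟩
    rw [h2] at hω
    exact hω (hfix ⟨g, hg⟩)
  have hcard := c.horb ω₀ hω₀
  have hsub : (g : Equiv.Perm α).support ⊆ (orbit c.Q ω₀).toFinset := by
    intro ω hω
    rw [Equiv.Perm.mem_support] at hω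
    rw [Set.mem_toFinset]
    exact hsupp ω hω
  have hle : (g : Equiv.Perm α).support.card ≤ p := by
    have := Finset.card_le_card hsub
    rwa [← Set.ncard_eq_toFinset_card', hcard] at this
  have hcyc : (g : Equiv.Perm α).IsCycle :=
    Equiv.Perm.isCycle_of_prime_order (hord.symm ▸ hp) (by rw [hord]; omega)
  exact Cfsg.Agent.S0713.result G hprim hp (by omega) (by omega) hcyc
    (by rw [← hcyc.orderOf, hord]) g.2

include c in
/-- the commutator case. -/
theorem caseA (hn : Fintype.card α = k * p + r) (hk : 1 ≤ k) (hp : p.Prime) (hr : 2 ≤ r)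
    (hG : IsMultiplyPretransitive G α (r + 1)) {z w : G} (hz : z ∈ Mker α c.Q)
    (hw : w ∈ Mker α c.Q) {u v : Equiv.Perm (Fin r)} (hu : c.Lifts z u) (hv : c.Lifts w v)
    (hne : ⁅u, v⁆ ^ p ≠ 1) : alternatingGroup α ≤ G :=
  c.finish_lift hn hk hp hr hG ((hu.commutator c hv).pow c p) hne
    (Mker_commutator_pow c.Q hp c.hQ c.horb hz hw)

include c in
/-- the centralizer case. -/
theorem caseB (hn : Fintype.card α = k * p + r) (hk : 1 ≤ k) (hp : p.Prime) (hr : 2 ≤ r)
    (hG : IsMultiplyPretransitive G α (r + 1)) {y : G} (hy : y ∈ Mker α c.Q)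
    (hc : ∀ g ∈ c.Q, y * g = g * y) {σ : Equiv.Perm (Fin r)} (hl : c.Lifts y σ)
    (hne : σ ^ p ≠ 1) : alternatingGroup α ≤ G :=
  c.finish_lift hn hk hp hr hG (hl.pow c p) hne
    (Mker_centralizer_pow c.Q hp c.hQ c.horb hy hc)

end Ctx

end Cfsg.Agent.Lib.Helper3.Mil
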