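import Mathlib
import Cfsg.Agent.Lib.Helper3.Mil4

set_option autoImplicit false

/-!
# Miller's theorem, part 5: the generic cases (`r ≥ 5`, and `(r, k) = (4, 2)`)
-/

namespace Cfsg.Agent.Lib.Helper3.Mil

open MulAction Equiv
open scoped Pointwise commutatorElement

variable {α : Type*} [Fintype α] [DecidableEq α]

namespace Ctx

variable {G : Subgroup (Equiv.Perm α)} {k p r : ℕ} (c : Ctx G k p r)

/-- the group induced by `Mker` on the fixed points -/
def MΔ : Subgroup (Perm (Fin r)) where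
  carrier := {σ | ∃ y ∈ Mker α c.Q, c.Lifts y σ}
  one_mem' := ⟨1, one_mem _, Lifts.one c⟩
  mul_mem' := by
    rintro σ τ ⟨y, hy, hl⟩ ⟨y', hy', hl'⟩
    exact ⟨y * y', mul_mem hy hy', hl.mul c hl'⟩
  inv_mem' := by
    rintro σ ⟨y, hy, hl⟩
    exact ⟨y⁻¹, inv_mem hy, hl.inv c⟩

theorem mem_MΔ {σ : Perm (Fin r)} : σ ∈ c.MΔ ↔ ∃ y ∈ Mker α c.Q, c.Lifts y σ := Iff.rfl

instance : (c.MΔ).Normal := ⟨by
  rintro σ ⟨y, hy, hl⟩ τ
  obtain ⟨x, hx, hxl⟩ := c.hlift τ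
  have hxl' : c.Lifts x τ := hxl
  exact ⟨x * y * x⁻¹, conj_mem_Mker c.Q hx hy, (hxl'.mul c hl).mul c (hxl'.inv c)⟩⟩

theorem exists_ne_one_mem_MΔ (hk : 1 ≤ k) (hkr : k < r) : ∃ σ ∈ c.MΔ, σ ≠ 1 := by
  classical
  choose f hf hfl using c.hlift
  have hcard : (Nat.card (Orb α c.Q)).factorial < Fintype.card (Perm (Fin r)) := by
    rw [c.hOrb, Fintype.card_perm, Fintype.card_fin]
    exact (Nat.factorial_lt (by omega)).mpr hkr
  obtain ⟨σ, τ, hne, hmem⟩ := exists_pair_mem_Mker c.Q f hf hcard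
  refine ⟨σ⁻¹ * τ, ⟨(f σ)⁻¹ * f τ, hmem, ?_⟩, ?_⟩
  · have h1 : c.Lifts (f σ) σ := hfl σ
    have h2 : c.Lifts (f τ) τ := hfl τ
    exact (h1.inv c).mul c h2
  · intro h
    apply hne
    rw [inv_mul_eq_one] at h
    exact h

/-- the two `3`-cycles of `Fin 4` whose commutator is a double transposition -/
def u₀ : Perm (Fin 4) := swap 0 1 * swap 1 2
/-- the two `3`-cycles of `Fin 4` whose commutator is a double transposition -/
def v₀ : Perm (Fin 4) := swap 0 1 * swap 1 3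

/-- embedding of `Perm (Fin 4)` -/
noncomputable def iota (h4 : 4 ≤ r) : Perm (Fin 4) →* Perm (Fin r) :=
  Perm.viaEmbeddingHom (Fin.castLEEmb h4)

theorem iota_injective (h4 : 4 ≤ r) : Function.Injective (iota h4) :=
  Perm.viaEmbeddingHom_injective _

theorem sign_iota (h4 : 4 ≤ r) (σ : Perm (Fin 4)) : Perm.sign (iota h4 σ) = Perm.sign σ := by
  classical
  unfold iota
  rw [Perm.viaEmbeddingHom_apply]
  unfold Perm.viaEmbedding
  exact @Perm.sign_extendDomain (Fin 4) _ (Fin r) _ _ _ σ _ (fun _ => Classical.propDecidable _) _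

theorem comm_pow_ne (h4 : 4 ≤ r) (hp : p.Prime) (hp2 : p ≠ 2) :
    ⁅iota h4 u₀, iota h4 v₀⁆ ^ p ≠ 1 := by
  rw [← map_commutatorElement, ← map_pow]
  intro h
  have h1 : ⁅u₀, v₀⁆ ^ p = 1 := iota_injective h4 (by rw [h, map_one])
  have h2 : ⁅u₀, v₀⁆ ^ 2 = 1 := by decide
  have h3 : ⁅u₀, v₀⁆ ≠ 1 := by decide
  have hodd : Odd p := hp.odd_of_ne_two hp2
  obtain ⟨m, rfl⟩ := hodd
  rw [pow_succ, pow_mul, h2, one_pow, one_mul] at h1
  exact h3 h1

include c in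
/-- if both `3`-cycles are induced by `Mker`, we are done. -/
theorem comm_case (hn : Fintype.card α = k * p + r) (hk : 1 ≤ k) (hp : p.Prime) (hp2 : p ≠ 2)
    (h4 : 4 ≤ r) (hG : IsMultiplyPretransitive G α (r + 1))
    (hu : iota h4 u₀ ∈ c.MΔ) (hv : iota h4 v₀ ∈ c.MΔ) : alternatingGroup α ≤ G := by
  obtain ⟨z, hz, hzl⟩ := hu
  obtain ⟨w, hw, hwl⟩ := hv
  exact c.caseA hn hk hp (by omega) hG hz hw hzl hwl (comm_pow_ne h4 hp hp2)

include c in
/-- the case `r ≥ 5`, `k ≥ 2`. -/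
theorem case_ge5 (hn : Fintype.card α = k * p + r) (hk : 2 ≤ k) (hpk : k < p) (hkr : k < r)
    (hp : p.Prime) (h5 : 5 ≤ r) (hG : IsMultiplyPretransitive G α (r + 1)) :
    alternatingGroup α ≤ G := by
  have hp2 : p ≠ 2 := by omega
  obtain ⟨σ, hσ, hσ1⟩ := c.exists_ne_one_mem_MΔ (by omega) hkr
  have hnt : Nontrivial c.MΔ := ⟨⟨⟨σ, hσ⟩, 1, fun h => hσ1 (congrArg Subtype.val h)⟩⟩
  have hle : alternatingGroup (Fin r) ≤ c.MΔ :=
    Perm.alternatingGroup_le_of_normal (by rw [Nat.card_eq_fintype_card, Fintype.card_fin]; exact h5)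
      hnt
  have h4 : 4 ≤ r := by omega
  refine c.comm_case hn (by omega) hp hp2 h4 hG (hle ?_) (hle ?_)
  · rw [Perm.mem_alternatingGroup, sign_iota]; decide
  · rw [Perm.mem_alternatingGroup, sign_iota]; decide

include c in
theorem sq_mem_MΔ (hk2 : k = 2) (σ : Perm (Fin r)) : σ * σ ∈ c.MΔ := by
  obtain ⟨x, hx, hxl⟩ := c.hlift σ
  have hxl' : c.Lifts x σ := hxl
  exact ⟨x * x, sq_mem_Mker c.Q (by rw [c.hOrb, hk2]) hx, hxl'.mul c hxl'⟩

include c in
/-- the case `k = 2`, `r ≥ 4`. -/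
theorem case_k2 (hn : Fintype.card α = k * p + r) (hk2 : k = 2) (hpk : k < p)
    (hp : p.Prime) (h4 : 4 ≤ r) (hG : IsMultiplyPretransitive G α (r + 1)) :
    alternatingGroup α ≤ G := by
  have hp2 : p ≠ 2 := by omega
  have key : ∀ w : Perm (Fin 4), w ^ 3 = 1 → iota h4 w ∈ c.MΔ := by
    intro w hw
    have h1 := c.sq_mem_MΔ hk2 (iota h4 w * iota h4 w)
    have e : iota h4 w * iota h4 w * (iota h4 w * iota h4 w) = iota h4 w := by
      rw [← map_mul, ← map_mul]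
      congr 1
      calc w * w * (w * w) = w ^ 3 * w := by
            simp only [pow_succ, pow_zero, one_mul, mul_assoc]
        _ = w := by rw [hw, one_mul]
    rwa [e] at h1
  exact c.comm_case hn (by omega) hp hp2 h4 hG (key u₀ (by decide)) (key v₀ (by decide))

end Ctx

end Cfsg.Agent.Lib.Helper3.Mil
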