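import Mathlib
import Cfsg.Agent.Lib.Helper3.Mil3

set_option autoImplicit false

/-!
# Miller's theorem, part 6: restriction of `Q` to an orbit, conjugation on `Q`
-/

namespace Cfsg.Agent.Lib.Helper3.Mil

open MulAction
open scoped Pointwise commutatorElement

variable {𝔾 : Type*} [Group 𝔾] {α : Type*} [MulAction 𝔾 α] {p : ℕ} (Q : Subgroup 𝔾)

/-- conjugation by a normalizing element, as an endomorphism of `Q`. -/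
def theta (z : 𝔾) (hz : z ∈ Subgroup.normalizer (Q : Set 𝔾)) : ↥Q →* ↥Q where
  toFun g := ⟨z * g * z⁻¹, (Subgroup.mem_normalizer_iff.mp hz g).mp g.2⟩
  map_one' := by ext; simp
  map_mul' a b := by ext; simp

@[simp] theorem theta_coe (z : 𝔾) (hz : z ∈ Subgroup.normalizer (Q : Set 𝔾)) (g : Q) :
    ((theta Q z hz g : Q) : 𝔾) = z * g * z⁻¹ := rfl

/-- commutators of elements acting on `Q` by power maps centralize `Q`. -/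
theorem commutator_centralizes {x₁ x₂ : 𝔾} {a b : ℕ}
    (hn1 : x₁ ∈ Subgroup.normalizer (Q : Set 𝔾)) (hn2 : x₂ ∈ Subgroup.normalizer (Q : Set 𝔾))
    (h1 : ∀ g ∈ Q, x₁ * g * x₁⁻¹ = g ^ a) (h2 : ∀ g ∈ Q, x₂ * g * x₂⁻¹ = g ^ b) :
    ∀ g ∈ Q, ⁅x₁, x₂⁆ * g = g * ⁅x₁, x₂⁆ := by
  have hconj : ∀ w ∈ Q, (x₁ * x₂) * w * (x₁ * x₂)⁻¹ = (x₂ * x₁) * w * (x₂ * x₁)⁻¹ := by
    intro w hw
    have hwb : w ^ b ∈ Q := Q.pow_mem hw b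
    have hwa : w ^ a ∈ Q := Q.pow_mem hw a
    have e1 : (x₁ * x₂) * w * (x₁ * x₂)⁻¹ = x₁ * (x₂ * w * x₂⁻¹) * x₁⁻¹ := by group
    have e2 : (x₂ * x₁) * w * (x₂ * x₁)⁻¹ = x₂ * (x₁ * w * x₁⁻¹) * x₂⁻¹ := by group
    rw [e1, e2, h2 w hw, h1 w hw, h1 _ hwb, h2 _ hwa, ← pow_mul, ← pow_mul, mul_comm]
  intro g hg
  have ht : x₂ * x₁ ∈ Subgroup.normalizer (Q : Set 𝔾) := Subgroup.mul_mem _ hn2 hn1
  have hg' : (x₂ * x₁)⁻¹ * g * (x₂ * x₁) ∈ Q := (Subgroup.mem_normalizer_iff''.mp ht g).mp hg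
  have := hconj _ hg'
  have e : ⁅x₁, x₂⁆ * g * ⁅x₁, x₂⁆⁻¹ =
      (x₁ * x₂) * ((x₂ * x₁)⁻¹ * g * (x₂ * x₁)) * (x₁ * x₂)⁻¹ := by
    rw [commutatorElement_def]; group
  have e2 : ⁅x₁, x₂⁆ * g * ⁅x₁, x₂⁆⁻¹ = g := by
    rw [e, this]; group
  calc ⁅x₁, x₂⁆ * g = (⁅x₁, x₂⁆ * g * ⁅x₁, x₂⁆⁻¹) * ⁅x₁, x₂⁆ := by group
    _ = g * ⁅x₁, x₂⁆ := by rw [e2]

/-- power-map actions compose. -/
theorem scalar_mul {x₁ x₂ : 𝔾} {a b : ℕ}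
    (h1 : ∀ g ∈ Q, x₁ * g * x₁⁻¹ = g ^ a) (h2 : ∀ g ∈ Q, x₂ * g * x₂⁻¹ = g ^ b) :
    ∀ g ∈ Q, (x₁ * x₂) * g * (x₁ * x₂)⁻¹ = g ^ (b * a) := by
  intro g hg
  have e1 : (x₁ * x₂) * g * (x₁ * x₂)⁻¹ = x₁ * (x₂ * g * x₂⁻¹) * x₁⁻¹ := by group
  rw [e1, h2 g hg, h1 _ (Q.pow_mem hg b), ← pow_mul]

theorem scalar_pow {x : 𝔾} {a : ℕ} (h1 : ∀ g ∈ Q, x * g * x⁻¹ = g ^ a) (n : ℕ) :
    ∀ g ∈ Q, (x ^ n) * g * (x ^ n)⁻¹ = g ^ (a ^ n) := by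
  induction n with
  | zero => intro g _; simp
  | succ n ih =>
    intro g hg
    have := scalar_mul Q ih h1 g hg
    rw [← pow_succ] at this
    rw [this, pow_succ, mul_comm]

section single

variable [Finite α] (hp : p.Prime) (hQ : IsPGroup p Q) (ω₀ : α)
  (hcard : (orbit Q ω₀).ncard = p)

/-- restriction of `Q` to an orbit -/
noncomputable def phi : ↥Q →* Equiv.Perm (orbit Q ω₀) :=
  (rho Q ω₀).comp (Subgroup.inclusion (le_stabilizer_orbit Q ω₀))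

theorem phi_apply (g : Q) (x : orbit Q ω₀) :
    ((phi Q ω₀ g x : orbit Q ω₀) : α) = (g : 𝔾) • (x : α) := rfl

theorem phi_eq_one_iff (g : Q) :
    phi Q ω₀ g = 1 ↔ ∀ ω ∈ orbit Q ω₀, (g : 𝔾) • ω = ω := by
  unfold phi
  rw [MonoidHom.comp_apply, rho_eq_one_iff]
  rfl

theorem phi_mem_zim (g : Q) : phi Q ω₀ g ∈ zim Q ω₀ :=
  mem_zim_of_mem Q ω₀ g.2

include hp hQ hcard

theorem orderOf_phi {g : Q} (h : phi Q ω₀ g ≠ 1) : orderOf (phi Q ω₀ g) = p := by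
  classical
  exact orderOf_of_mem_ne_one hp (card_orbit_type Q ω₀ hcard) (zim Q ω₀)
      (isPGroup_zim Q hQ ω₀) (zim_ne_bot Q hp ω₀ hcard) (phi_mem_zim Q ω₀ g) h

theorem phi_pow_p (g : Q) : phi Q ω₀ g ^ p = 1 := by
  classical
  exact pow_eq_one_of_mem hp (card_orbit_type Q ω₀ hcard) (zim Q ω₀)
      (isPGroup_zim Q hQ ω₀) (zim_ne_bot Q hp ω₀ hcard) (phi_mem_zim Q ω₀ g)

theorem exists_phi_ne_one : ∃ g : Q, phi Q ω₀ g ≠ 1 := by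
  have h2 : 1 < (orbit Q ω₀).ncard := by rw [hcard]; exact hp.one_lt
  obtain ⟨b, hb, hne⟩ := Set.exists_ne_of_one_lt_ncard h2 ω₀
  obtain ⟨g, hg, rfl⟩ := (mem_orbit_sub Q).mp hb
  refine ⟨⟨g, hg⟩, fun h => hne ?_⟩
  exact (phi_eq_one_iff Q ω₀ _).mp h ω₀ (mem_orbit_self ω₀)

theorem phi_zpow_eq_one_iff {g : Q} (h : phi Q ω₀ g ≠ 1) (m : ℤ) :
    phi Q ω₀ g ^ m = 1 ↔ (p : ℤ) ∣ m := by
  rw [← orderOf_phi Q hp hQ ω₀ hcard h, orderOf_dvd_iff_zpow_eq_one]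

theorem phi_mem_zpowers {g₀ : Q} (h : phi Q ω₀ g₀ ≠ 1) (g : Q) :
    ∃ j : ℕ, phi Q ω₀ g = phi Q ω₀ g₀ ^ j := by
  classical
  have hcardZ := card_of_pgroup hp (card_orbit_type Q ω₀ hcard) (zim Q ω₀)
      (isPGroup_zim Q hQ ω₀) (zim_ne_bot Q hp ω₀ hcard)
  have hle : Subgroup.zpowers (phi Q ω₀ g₀) ≤ zim Q ω₀ := by
    rw [Subgroup.zpowers_le]; exact phi_mem_zim Q ω₀ g₀
  have heq : Subgroup.zpowers (phi Q ω₀ g₀) = zim Q ω₀ := by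
    apply Subgroup.eq_of_le_of_card_ge hle
    rw [hcardZ, Nat.card_zpowers, orderOf_phi Q hp hQ ω₀ hcard h]
  have hmem : phi Q ω₀ g ∈ Subgroup.zpowers (phi Q ω₀ g₀) := by
    rw [heq]; exact phi_mem_zim Q ω₀ g
  rw [← mem_powers_iff_mem_zpowers] at hmem
  obtain ⟨j, hj⟩ := hmem
  exact ⟨j, hj.symm⟩

theorem phi_theta {z : 𝔾} (hz : z ∈ Subgroup.normalizer (Q : Set 𝔾))
    (hz0 : z • ω₀ ∈ orbit Q ω₀) :
    ∃ a : ℕ, ∀ g : Q, phi Q ω₀ (theta Q z hz g) = phi Q ω₀ g ^ a := by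
  classical
  have hzS := mem_stabilizer_orbit Q hz hz0
  obtain ⟨a, ha⟩ := exists_scalar hp (card_orbit_type Q ω₀ hcard) (zim Q ω₀)
      (isPGroup_zim Q hQ ω₀) (zim_ne_bot Q hp ω₀ hcard) (rho_mem_normalizer Q ω₀ hz hzS)
  refine ⟨a, fun g => ?_⟩
  have h1 := ha _ (phi_mem_zim Q ω₀ g)
  rw [← h1]
  unfold phi
  rw [MonoidHom.comp_apply, MonoidHom.comp_apply, ← map_inv, ← map_mul, ← map_mul]
  rfl

end single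

end Cfsg.Agent.Lib.Helper3.Mil
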