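import Mathlib
import Cfsg.Agent.Lib.Helper3.Mil5
import Cfsg.Agent.Lib.Helper3.Mil6
import Cfsg.Agent.S0415

set_option autoImplicit false

/-!
# Miller's theorem, part 7: `k = 1`, `(r, k) = (3, 2)` and degree `9`
-/

namespace Cfsg.Agent.Lib.Helper3.Mil

open MulAction Equiv
open scoped Pointwise commutatorElement

variable {α : Type*} [Fintype α] [DecidableEq α]

/-- a `4`-transitive group of degree `9` contains the alternating group. -/
theorem nine (G : Subgroup (Equiv.Perm α)) (h9 : Fintype.card α = 9)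
    (hG : IsMultiplyPretransitive G α 4) : alternatingGroup α ≤ G := by
  by_cases h : ∀ x : Fin 4 ↪ α, stabilizer G x = ⊥
  · haveI := hG
    have := Cfsg.Agent.S0415.result G (by omega) h
    omega
  · push Not at h
    obtain ⟨x, hx⟩ := h
    obtain ⟨⟨g, hg⟩, hg1⟩ := (Subgroup.ne_bot_iff_exists_ne_one).mp hx
    have hg1' : (g : Equiv.Perm α) ≠ 1 := by
      intro h
      apply hg1
      apply Subtype.ext
      apply Subtype.ext
      exact h
    have hfix : ∀ i, (g : Equiv.Perm α) (x i) = x i := by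
      intro i
      rw [mem_stabilizer_iff] at hg
      have := congrArg (fun f => f i) hg
      exact this
    refine (Cfsg.Agent.S0711.result G (k := 4) (by omega) (by omega) hG (g : Equiv.Perm α) g.2
      hg1' ?_).2
    have hsub : (g : Equiv.Perm α).support ⊆ (Finset.univ.map x)ᶜ := by
      intro ω hω
      rw [Finset.mem_compl]
      intro hmem
      obtain ⟨i, -, rfl⟩ := Finset.mem_map.mp hmem
      exact (Equiv.Perm.mem_support.mp hω) (hfix i)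
    have := Finset.card_le_card hsub
    rw [Finset.card_compl, Finset.card_map, Finset.card_univ, Fintype.card_fin, h9] at this
    omega

namespace Ctx

variable {G : Subgroup (Equiv.Perm α)} {k p r : ℕ} (c : Ctx G k p r)

theorem not_fixed_of_moved {g : G} (hg : g ∈ c.Q) {ω : α} (h : g • ω ≠ ω) :
    ω ∉ fixedPoints c.Q α := by
  intro hfix
  rw [mem_fixedPoints] at hfix
  exact h (hfix ⟨g, hg⟩)

theorem exists_moving {ω : α} (hω : ω ∉ fixedPoints c.Q α) : ∃ g ∈ c.Q, g • ω ≠ ω := by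
  by_contra hcon
  push Not at hcon
  apply hω
  rw [mem_fixedPoints]
  rintro ⟨g, hg⟩
  exact hcon g hg

theorem eq_one_of_forall {g : G} (h : ∀ ω : α, g • ω = ω) : g = 1 := by
  apply Subtype.ext
  ext ω
  exact h ω

theorem eq_one_of_forall_notfixed {g : G} (hg : g ∈ c.Q)
    (h : ∀ ω : α, ω ∉ fixedPoints c.Q α → g • ω = ω) : g = 1 := by
  apply eq_one_of_forall
  intro ω
  by_cases hω : ω ∈ fixedPoints c.Q α
  · rw [mem_fixedPoints] at hω
    exact hω ⟨g, hg⟩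
  · exact h ω hω

end Ctx

/-- the case `k = 1`. -/
theorem case_k1 {G : Subgroup (Equiv.Perm α)} {p r : ℕ} (c : Ctx G 1 p r)
    (hn : Fintype.card α = 1 * p + r) (hp : p.Prime) (hr : 3 ≤ r)
    (hG : IsMultiplyPretransitive G α (r + 1)) : alternatingGroup α ≤ G := by
  have hne : Nonempty (Orb α c.Q) := by
    have := c.hOrb
    exact (Nat.card_pos_iff.mp (by omega)).1
  obtain ⟨B⟩ := hne
  obtain ⟨ω, hω, hB⟩ := B.2
  obtain ⟨g, hg, hgω⟩ := c.exists_moving hω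
  have hg1 : g ≠ 1 := by
    rintro rfl
    exact hgω (one_smul _ _)
  have hsub : Subsingleton (Orb α c.Q) :=
    (Nat.card_eq_one_iff_unique.mp c.hOrb).1
  refine c.of_pcycle hn le_rfl hp hr hG hg hg1 ω ?_
  intro ω' hω'
  have h1 := c.not_fixed_of_moved hg hω'
  have h2 : Orb.mk' c.Q ω' h1 = Orb.mk' c.Q ω hω := Subsingleton.elim _ _
  have h3 : orbit c.Q ω' = orbit c.Q ω := congrArg Subtype.val h2
  rw [← h3]
  exact mem_orbit_self ω'

set_option maxRecDepth 8000 in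
theorem c32_pow : (⁅swap (0 : Fin 3) 1, swap (0 : Fin 3) 2⁆ *
    ⁅swap (0 : Fin 3) 1, swap (0 : Fin 3) 2⁆) ^ 3 = 1 := by decide

set_option maxRecDepth 8000 in
theorem c32_ne : (⁅swap (0 : Fin 3) 1, swap (0 : Fin 3) 2⁆ *
    ⁅swap (0 : Fin 3) 1, swap (0 : Fin 3) 2⁆) ≠ 1 := by decide

/-- the case `(r, k) = (3, 2)`, `p ≠ 3`. -/
theorem case_32 {G : Subgroup (Equiv.Perm α)} {p : ℕ} (c : Ctx G 2 p 3)
    (hn : Fintype.card α = 2 * p + 3) (hp : p.Prime) (hp3 : p ≠ 3)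
    (hG : IsMultiplyPretransitive G α (3 + 1)) : alternatingGroup α ≤ G := by
  classical
  by_cases hPC : ∃ g ∈ c.Q, g ≠ 1 ∧ ∃ ω₀ : α, ∀ ω : α, g • ω ≠ ω → ω ∈ orbit c.Q ω₀
  · obtain ⟨g, hg, hg1, ω₀, hs⟩ := hPC
    exact c.of_pcycle hn (by omega) hp le_rfl hG hg hg1 ω₀ hs
  push Not at hPC
  -- two orbits
  obtain ⟨B₁, B₂, hB, huniv⟩ := Nat.card_eq_two_iff.mp c.hOrb
  obtain ⟨ω₁, hω₁, hB₁⟩ := B₁.2
  obtain ⟨ω₂, hω₂, hB₂⟩ := B₂.2
  have hcases : ∀ ω : α, ω ∉ fixedPoints c.Q α → ω ∈ orbit c.Q ω₁ ∨ ω ∈ orbit c.Q ω₂ := by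
    intro ω hω
    have : Orb.mk' c.Q ω hω ∈ ({B₁, B₂} : Set (Orb α c.Q)) := by rw [huniv]; trivial
    rcases this with h | h
    · left
      have h3 : orbit c.Q ω = B₁.1 := congrArg Subtype.val h
      rw [← hB₁, ← h3]; exact mem_orbit_self ω
    · right
      have h3 : orbit c.Q ω = B₂.1 := congrArg Subtype.val h
      rw [← hB₂, ← h3]; exact mem_orbit_self ω
  have hc1 := c.horb ω₁ hω₁
  -- injectivity of phi on the first orbit
  have hinj : ∀ g : c.Q, phi c.Q ω₁ g = 1 → g = 1 := by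
    intro g hg
    by_contra hne
    have hne' : (g : G) ≠ 1 := fun h => hne (Subtype.ext h)
    obtain ⟨ω, hω, hω'⟩ := hPC g g.2 hne' ω₂
    apply hω'
    rcases hcases ω (c.not_fixed_of_moved g.2 hω) with h | h
    · exact absurd ((phi_eq_one_iff c.Q ω₁ g).mp hg ω h) hω
    · exact h
  obtain ⟨g₀, hg₀⟩ := exists_phi_ne_one c.Q hp c.hQ ω₁ hc1
  have hcyc : ∀ g : c.Q, ∃ j : ℕ, g = g₀ ^ j := by
    intro g
    obtain ⟨j, hj⟩ := phi_mem_zpowers c.Q hp c.hQ ω₁ hc1 hg₀ g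
    refine ⟨j, ?_⟩
    have : phi c.Q ω₁ (g * (g₀ ^ j)⁻¹) = 1 := by
      rw [map_mul, map_inv, map_pow, hj, mul_inv_cancel]
    have := hinj _ this
    exact mul_inv_eq_one.mp this
  have hR : ∀ x : G, x ∈ Subgroup.normalizer (c.Q : Set G) →
      ∃ a : ℕ, ∀ g ∈ c.Q, x * g * x⁻¹ = g ^ a := by
    intro x hx
    obtain ⟨a, ha⟩ := hcyc (theta c.Q x hx g₀)
    refine ⟨a, ?_⟩
    intro g hg
    obtain ⟨j, hj⟩ := hcyc ⟨g, hg⟩
    have e1 : g = (g₀ : G) ^ j := by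
      have := congrArg Subtype.val hj
      simpa using this
    have e2 : x * (g₀ : G) * x⁻¹ = (g₀ : G) ^ a := by
      have := congrArg Subtype.val ha
      simpa using this
    have e3 : x * (g₀ : G) ^ j * x⁻¹ = (x * (g₀ : G) * x⁻¹) ^ j := by
      simp
    rw [e1, e3, e2, ← pow_mul, ← pow_mul, mul_comm]
  obtain ⟨x₁, hx₁, hl₁⟩ := c.hlift (swap 0 1)
  obtain ⟨x₂, hx₂, hl₂⟩ := c.hlift (swap 0 2)
  have hl₁' : c.Lifts x₁ (swap 0 1) := hl₁
  have hl₂' : c.Lifts x₂ (swap 0 2) := hl₂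
  obtain ⟨a, ha⟩ := hR x₁ hx₁
  obtain ⟨b, hb⟩ := hR x₂ hx₂
  have hcen := commutator_centralizes c.Q hx₁ hx₂ ha hb
  have hyN : ⁅x₁, x₂⁆ ∈ Subgroup.normalizer (c.Q : Set G) := by
    rw [commutatorElement_def]
    exact Subgroup.mul_mem _ (Subgroup.mul_mem _ (Subgroup.mul_mem _ hx₁ hx₂)
      (Subgroup.inv_mem _ hx₁)) (Subgroup.inv_mem _ hx₂)
  have hyy : ⁅x₁, x₂⁆ * ⁅x₁, x₂⁆ ∈ Mker α c.Q := sq_mem_Mker c.Q c.hOrb hyN
  have hcc : ∀ g ∈ c.Q, (⁅x₁, x₂⁆ * ⁅x₁, x₂⁆) * g = g * (⁅x₁, x₂⁆ * ⁅x₁, x₂⁆) := by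
    intro g hg
    rw [mul_assoc, hcen g hg, ← mul_assoc, hcen g hg, mul_assoc]
  have hlift : c.Lifts (⁅x₁, x₂⁆ * ⁅x₁, x₂⁆)
      (⁅swap (0 : Fin 3) 1, swap (0 : Fin 3) 2⁆ * ⁅swap (0 : Fin 3) 1, swap (0 : Fin 3) 2⁆) :=
    (hl₁'.commutator c hl₂').mul c (hl₁'.commutator c hl₂')
  refine c.caseB hn (by omega) hp (by omega) hG hyy hcc hlift ?_
  intro h
  have h3 := c32_pow
  have h1 := c32_ne
  have hd1 := orderOf_dvd_of_pow_eq_one h
  have hd3 := orderOf_dvd_of_pow_eq_one h3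
  rcases (Nat.dvd_prime hp).mp hd1 with h' | h'
  · exact h1 (orderOf_eq_one_iff.mp h')
  · rw [h'] at hd3
    exact hp3 ((Nat.prime_dvd_prime_iff_eq hp Nat.prime_three).mp hd3)

end Cfsg.Agent.Lib.Helper3.Mil
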