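import Mathlib
import Cfsg.Agent.Lib.Helper3.Mil7

set_option autoImplicit false

/-!
# Miller's theorem, part 8: the case `(r, k) = (4, 3)`
-/

namespace Cfsg.Agent.Lib.Helper3.Mil

open MulAction Equiv
open scoped Pointwise commutatorElement

/-- arithmetic: two units mod an odd prime satisfy a relation with exponents not both even. -/
theorem exists_exponents {p : ℕ} (hp : p.Prime) (hp2 : p ≠ 2) {a₁ a₂ : ℕ} (h1 : ¬ p ∣ a₁)
    (h2 : ¬ p ∣ a₂) :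
    ∃ e₁ e₂ : ℕ, a₁ ^ e₁ * a₂ ^ e₂ ≡ 1 [MOD p] ∧ (Odd e₁ ∨ Odd e₂) := by
  haveI : Fact p.Prime := ⟨hp⟩
  have hne1 : (a₁ : ZMod p) ≠ 0 := fun h => h1 ((ZMod.natCast_eq_zero_iff _ _).mp h)
  have hne2 : (a₂ : ZMod p) ≠ 0 := fun h => h2 ((ZMod.natCast_eq_zero_iff _ _).mp h)
  set u₁ : (ZMod p)ˣ := Units.mk0 _ hne1 with hu₁
  set u₂ : (ZMod p)ˣ := Units.mk0 _ hne2 with hu₂
  obtain ⟨b, hb⟩ := IsCyclic.exists_generator (α := (ZMod p)ˣ)
  have hbp : b ^ (p - 1) = 1 := by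
    have := pow_card_eq_one' (G := (ZMod p)ˣ) (x := b)
    rwa [Nat.card_eq_fintype_card, ZMod.card_units] at this
  have hex : ∀ u : (ZMod p)ˣ, ∃ m : ℕ, 0 < m ∧ b ^ m = u := by
    intro u
    have := hb u
    rw [← mem_powers_iff_mem_zpowers] at this
    obtain ⟨m, hm⟩ := this
    refine ⟨m + (p - 1), ?_, ?_⟩
    · have := hp.two_le; omega
    · rw [pow_add, hbp, mul_one]; exact hm
  obtain ⟨m₁, hm₁, hbm₁⟩ := hex u₁
  obtain ⟨m₂, hm₂, hbm₂⟩ := hex u₂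
  obtain ⟨n₁, n₂, hcop, hn₁, hn₂⟩ := Nat.exists_coprime m₁ m₂
  set d := Nat.gcd m₁ m₂ with hd
  have hodd : Odd p := hp.odd_of_ne_two hp2
  have hp2' : Odd (p - 2) := by
    obtain ⟨t, ht⟩ := hodd
    have := hp.two_le
    exact ⟨t - 1, by omega⟩
  refine ⟨n₂, (p - 2) * n₁, ?_, ?_⟩
  · have hunit : u₁ ^ n₂ * u₂ ^ ((p - 2) * n₁) = 1 := by
      rw [← hbm₁, ← hbm₂, ← pow_mul, ← pow_mul, ← pow_add, hn₁, hn₂]
      have e : n₁ * d * n₂ + n₂ * d * ((p - 2) * n₁) = (p - 1) * (n₁ * d * n₂) := by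
        have := hp.two_le
        obtain ⟨q, hq⟩ : ∃ q, p = q + 2 := ⟨p - 2, by omega⟩
        subst hq
        simp only [Nat.add_sub_cancel]
        have : q + 2 - 1 = q + 1 := by omega
        rw [this]; ring
      rw [e, pow_mul, hbp, one_pow]
    have hval := congrArg Units.val hunit
    simp only [Units.val_mul, Units.val_pow_eq_pow_val, Units.val_one, hu₁, hu₂,
      Units.val_mk0] at hval
    have : ((a₁ ^ n₂ * a₂ ^ ((p - 2) * n₁) : ℕ) : ZMod p) = ((1 : ℕ) : ZMod p) := by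
      push_cast; exact hval
    exact (ZMod.natCast_eq_natCast_iff _ _ _).mp this
  · by_cases hn2 : Odd n₂
    · left; exact hn2
    · right
      rw [Nat.not_odd_iff_even] at hn2
      have hn1 : Odd n₁ := by
        by_contra hcon
        rw [Nat.not_odd_iff_even] at hcon
        have h2 : 2 ∣ Nat.gcd n₁ n₂ := Nat.dvd_gcd hcon.two_dvd hn2.two_dvd
        rw [hcop] at h2
        omega
      exact hp2'.mul hn1

set_option maxRecDepth 100000 in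
theorem s4_normal_aux : ∀ σ : Perm (Fin 4), σ ≠ 1 → ∃ τ₁ τ₂ : Perm (Fin 4),
    (τ₁ * σ * τ₁⁻¹) * (τ₂ * σ * τ₂⁻¹) = swap (0 : Fin 4) 1 * swap (2 : Fin 4) 3 := by decide

/-- the first double transposition -/
def t₁ : Perm (Fin 4) := swap (0 : Fin 4) 1 * swap (2 : Fin 4) 3
/-- the second double transposition -/
def t₂ : Perm (Fin 4) := swap (0 : Fin 4) 2 * swap (1 : Fin 4) 3

theorem t₂_eq : t₂ = swap (1 : Fin 4) 2 * t₁ * (swap (1 : Fin 4) 2)⁻¹ := by decide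
theorem t₁_sq : t₁ * t₁ = 1 := by decide
theorem t₂_sq : t₂ * t₂ = 1 := by decide
theorem t_comm : t₁ * t₂ = t₂ * t₁ := by decide
theorem t₁_ne : t₁ ≠ 1 := by decide
theorem t₂_ne : t₂ ≠ 1 := by decide
theorem t₁₂_ne : t₁ * t₂ ≠ 1 := by decide

theorem mem_of_normal_S4 (N : Subgroup (Perm (Fin 4))) [hN : N.Normal] {σ : Perm (Fin 4)}
    (hσ : σ ∈ N) (hσ1 : σ ≠ 1) : t₁ ∈ N ∧ t₂ ∈ N := by
  obtain ⟨τ₁, τ₂, h⟩ := s4_normal_aux σ hσ1
  have h1 : t₁ ∈ N := by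
    unfold t₁
    rw [← h]
    exact N.mul_mem (hN.conj_mem σ hσ τ₁) (hN.conj_mem σ hσ τ₂)
  exact ⟨h1, by rw [t₂_eq]; exact hN.conj_mem _ h1 _⟩

theorem t_pow_ne {e₁ e₂ : ℕ} (h : Odd e₁ ∨ Odd e₂) {p : ℕ} (hp : Odd p) :
    (t₁ ^ e₁ * t₂ ^ e₂) ^ p ≠ 1 := by
  have hpow : ∀ (t : Perm (Fin 4)), t * t = 1 → ∀ e : ℕ, t ^ e = if Odd e then t else 1 := by
    intro t ht e
    split_ifs with he
    · obtain ⟨m, rfl⟩ := he
      rw [pow_succ, pow_mul, pow_two, ht, one_pow, one_mul]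
    · rw [Nat.not_odd_iff_even] at he
      obtain ⟨m, rfl⟩ := he
      rw [← two_mul, pow_mul, pow_two, ht, one_pow]
  set σ := t₁ ^ e₁ * t₂ ^ e₂ with hσ
  have hσ1 : σ ≠ 1 := by
    rw [hσ, hpow t₁ t₁_sq, hpow t₂ t₂_sq]
    by_cases h1 : Odd e₁ <;> by_cases h2 : Odd e₂
    · simp only [h1, h2, if_true]; exact t₁₂_ne
    · simp only [h1, h2, if_true, if_false, mul_one]; exact t₁_ne
    · simp only [h1, h2, if_true, if_false, one_mul]; exact t₂_ne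
    · exact absurd h (by tauto)
  have hσ2 : σ * σ = 1 := by
    have hc : Commute (t₁ ^ e₁) (t₂ ^ e₂) := (show Commute t₁ t₂ from t_comm).pow_pow e₁ e₂
    rw [hσ]
    calc t₁ ^ e₁ * t₂ ^ e₂ * (t₁ ^ e₁ * t₂ ^ e₂)
        = (t₁ ^ e₁ * t₁ ^ e₁) * (t₂ ^ e₂ * t₂ ^ e₂) := by
          rw [mul_assoc, ← mul_assoc (t₂ ^ e₂), ← hc.eq, mul_assoc, ← mul_assoc]
      _ = 1 := by
          rw [← pow_add, ← pow_add, ← two_mul, ← two_mul, pow_mul, pow_mul, pow_two, pow_two,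
            t₁_sq, t₂_sq, one_pow, one_pow, one_mul]
  rw [hpow σ hσ2 p, if_pos hp]
  exact hσ1

end Cfsg.Agent.Lib.Helper3.Mil
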