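import Mathlib
import Cfsg.Agent.Lib.Helper3.Mil8

set_option autoImplicit false

/-!
# Miller's theorem, part 9: the case `(r, k) = (4, 3)`, main argument
-/

namespace Cfsg.Agent.Lib.Helper3.Mil

open MulAction Equiv
open scoped Pointwise commutatorElement

section abstract

variable {𝔾 : Type*} [Group 𝔾] {α : Type*} [MulAction 𝔾 α] [Finite α] {p : ℕ} (Q : Subgroup 𝔾)

/-- twisted difference -/
def Dz (z : 𝔾) (hz : z ∈ Subgroup.normalizer (Q : Set 𝔾)) (a : ℕ) (g : Q) : Q :=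
  theta Q z hz g * (g ^ a)⁻¹

theorem phi_Dz {z : 𝔾} (hz : z ∈ Subgroup.normalizer (Q : Set 𝔾)) (ω₀ : α) {a₀ : ℕ}
    (h0 : ∀ g : Q, phi Q ω₀ (theta Q z hz g) = phi Q ω₀ g ^ a₀) (a : ℕ) (g : Q) :
    phi Q ω₀ (Dz Q z hz a g) = phi Q ω₀ g ^ ((a₀ : ℤ) - a) := by
  unfold Dz
  rw [map_mul, map_inv, map_pow, h0, zpow_sub, zpow_natCast, zpow_natCast]

variable (hp : p.Prime) (hQ : IsPGroup p Q)

include hp hQ in
theorem step43 {z : 𝔾} (hz : z ∈ Subgroup.normalizer (Q : Set 𝔾)) {ωi ωj ωl : α}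
    (hci : (orbit Q ωi).ncard = p) {ai aj al : ℕ}
    (hi : ∀ g : Q, phi Q ωi (theta Q z hz g) = phi Q ωi g ^ ai)
    (hj : ∀ g : Q, phi Q ωj (theta Q z hz g) = phi Q ωj g ^ aj)
    (hl : ∀ g : Q, phi Q ωl (theta Q z hz g) = phi Q ωl g ^ al)
    (hkey : ∀ g : Q, phi Q ωj g = 1 → phi Q ωl g = 1 → g = 1) :
    (p : ℤ) ∣ ((ai : ℤ) - al) * ((ai : ℤ) - aj) := by
  obtain ⟨g, hg⟩ := exists_phi_ne_one Q hp hQ ωi hci
  set h := Dz Q z hz aj (Dz Q z hz al g) with hh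
  have h1 : phi Q ωj h = 1 := by
    rw [hh, phi_Dz Q hz ωj hj, sub_self, zpow_zero]
  have h2 : phi Q ωl h = 1 := by
    rw [hh, phi_Dz Q hz ωl hl, phi_Dz Q hz ωl hl, sub_self, zpow_zero, one_zpow]
  have h3 : h = 1 := hkey h h1 h2
  have h4 : phi Q ωi h = 1 := by rw [h3, map_one]
  rw [hh, phi_Dz Q hz ωi hi, phi_Dz Q hz ωi hi, ← zpow_mul] at h4
  exact (phi_zpow_eq_one_iff Q hp hQ ωi hci hg _).mp h4

end abstract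

variable {α : Type*} [Fintype α] [DecidableEq α] {G : Subgroup (Equiv.Perm α)} {p : ℕ}

/-- no `p`-cycle: an element trivial on two of the three orbits is trivial. -/
theorem key43 {k r : ℕ} (c : Ctx G k p r)
    (hPC : ∀ g ∈ c.Q, g ≠ 1 → ∀ ω₀ : α, ∃ ω : α, g • ω ≠ ω ∧ ω ∉ orbit c.Q ω₀)
    {ωa ωb ωc : α}
    (hcases : ∀ ω : α, ω ∉ fixedPoints c.Q α →
      ω ∈ orbit c.Q ωa ∨ ω ∈ orbit c.Q ωb ∨ ω ∈ orbit c.Q ωc)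
    (g : c.Q) (ha : phi c.Q ωa g = 1) (hb : phi c.Q ωb g = 1) : g = 1 := by
  by_contra hne
  have hne' : (g : G) ≠ 1 := fun h => hne (Subtype.ext h)
  obtain ⟨ω, hω, hω'⟩ := hPC g g.2 hne' ωc
  apply hω'
  rcases hcases ω (c.not_fixed_of_moved g.2 hω) with h | h | h
  · exact absurd ((phi_eq_one_iff c.Q ωa g).mp ha ω h) hω
  · exact absurd ((phi_eq_one_iff c.Q ωb g).mp hb ω h) hω
  · exact h

/-- in the case `(4,3)` without `p`-cycles, `Mker` acts on `Q` by power maps. -/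
theorem scalar43 {k r : ℕ} (c : Ctx G k p r) (hp : p.Prime)
    (hPC : ∀ g ∈ c.Q, g ≠ 1 → ∀ ω₀ : α, ∃ ω : α, g • ω ≠ ω ∧ ω ∉ orbit c.Q ω₀)
    {ω₁ ω₂ ω₃ : α} (hω₁ : ω₁ ∉ fixedPoints c.Q α) (hω₂ : ω₂ ∉ fixedPoints c.Q α)
    (hω₃ : ω₃ ∉ fixedPoints c.Q α)
    (hcases : ∀ ω : α, ω ∉ fixedPoints c.Q α →
      ω ∈ orbit c.Q ω₁ ∨ ω ∈ orbit c.Q ω₂ ∨ ω ∈ orbit c.Q ω₃)
    {z : G} (hz : z ∈ Mker α c.Q) :
    ∃ a : ℕ, ∀ g ∈ c.Q, z * g * z⁻¹ = g ^ a := by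
  have hzN := hz.1
  obtain ⟨a₁, h₁⟩ := phi_theta c.Q hp c.hQ ω₁ (c.horb ω₁ hω₁) hzN (hz.2 ω₁ hω₁)
  obtain ⟨a₂, h₂⟩ := phi_theta c.Q hp c.hQ ω₂ (c.horb ω₂ hω₂) hzN (hz.2 ω₂ hω₂)
  obtain ⟨a₃, h₃⟩ := phi_theta c.Q hp c.hQ ω₃ (c.horb ω₃ hω₃) hzN (hz.2 ω₃ hω₃)
  have hc132 : ∀ ω : α, ω ∉ fixedPoints c.Q α →
      ω ∈ orbit c.Q ω₁ ∨ ω ∈ orbit c.Q ω₃ ∨ ω ∈ orbit c.Q ω₂ := by
    intro ω hω; rcases hcases ω hω with h | h | h <;> tauto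
  have hc231 : ∀ ω : α, ω ∉ fixedPoints c.Q α →
      ω ∈ orbit c.Q ω₂ ∨ ω ∈ orbit c.Q ω₃ ∨ ω ∈ orbit c.Q ω₁ := by
    intro ω hω; rcases hcases ω hω with h | h | h <;> tauto
  have key12 := key43 c hPC hcases
  have key13 := key43 c hPC hc132
  have key23 := key43 c hPC hc231
  -- p ∣ (a₁ - a₃)(a₁ - a₂)
  have s1 := step43 c.Q hp c.hQ hzN (c.horb ω₁ hω₁) h₁ h₂ h₃ key23
  -- p ∣ (a₂ - a₃)(a₂ - a₁)
  have s2 := step43 c.Q hp c.hQ hzN (c.horb ω₂ hω₂) h₂ h₁ h₃ key13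
  have hpi : Prime (p : ℤ) := Nat.prime_iff_prime_int.mp hp
  have h21 : (p : ℤ) ∣ (a₂ : ℤ) - a₁ := by
    rcases hpi.dvd_or_dvd s2 with h | h
    · rcases hpi.dvd_or_dvd s1 with h' | h'
      · obtain ⟨x, hx⟩ := h
        obtain ⟨y, hy⟩ := h'
        exact ⟨x - y, by linear_combination hx - hy⟩
      · obtain ⟨y, hy⟩ := h'
        exact ⟨-y, by linear_combination -hy⟩
    · exact h
  refine ⟨a₁, ?_⟩
  intro g hg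
  have e1 : phi c.Q ω₁ (Dz c.Q z hzN a₁ ⟨g, hg⟩) = 1 := by
    rw [phi_Dz c.Q hzN ω₁ h₁, sub_self, zpow_zero]
  have e2 : phi c.Q ω₂ (Dz c.Q z hzN a₁ ⟨g, hg⟩) = 1 := by
    rw [phi_Dz c.Q hzN ω₂ h₂]
    obtain ⟨x, hx⟩ := h21
    rw [hx, zpow_mul, zpow_natCast, phi_pow_p c.Q hp c.hQ ω₂ (c.horb ω₂ hω₂), one_zpow]
  have e3 := key12 _ e1 e2
  unfold Dz at e3
  rw [mul_inv_eq_one] at e3
  have := congrArg Subtype.val e3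
  simpa using this

/-- the case `(r, k) = (4, 3)`. -/
theorem case_43 (c : Ctx G 3 p 4) (hn : Fintype.card α = 3 * p + 4) (hp : p.Prime)
    (hpk : 3 < p) (hG : IsMultiplyPretransitive G α (4 + 1)) : alternatingGroup α ≤ G := by
  classical
  by_cases hPC : ∃ g ∈ c.Q, g ≠ 1 ∧ ∃ ω₀ : α, ∀ ω : α, g • ω ≠ ω → ω ∈ orbit c.Q ω₀
  · obtain ⟨g, hg, hg1, ω₀, hs⟩ := hPC
    exact c.of_pcycle hn (by omega) hp (by omega) hG hg hg1 ω₀ hs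
  push Not at hPC
  have hp2 : p ≠ 2 := by omega
  -- three orbits
  haveI : Fintype (Orb α c.Q) := Fintype.ofFinite _
  have hcard3 : (Finset.univ : Finset (Orb α c.Q)).card = 3 := by
    rw [Finset.card_univ, ← Nat.card_eq_fintype_card, c.hOrb]
  obtain ⟨B₁, B₂, B₃, -, -, -, huniv⟩ := Finset.card_eq_three.mp hcard3
  obtain ⟨ω₁, hω₁, hB₁⟩ := B₁.2
  obtain ⟨ω₂, hω₂, hB₂⟩ := B₂.2
  obtain ⟨ω₃, hω₃, hB₃⟩ := B₃.2
  have hcases : ∀ ω : α, ω ∉ fixedPoints c.Q α →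
      ω ∈ orbit c.Q ω₁ ∨ ω ∈ orbit c.Q ω₂ ∨ ω ∈ orbit c.Q ω₃ := by
    intro ω hω
    have : Orb.mk' c.Q ω hω ∈ (Finset.univ : Finset (Orb α c.Q)) := Finset.mem_univ _
    rw [huniv] at this
    simp only [Finset.mem_insert, Finset.mem_singleton] at this
    rcases this with h | h | h
    · left
      have h3 : orbit c.Q ω = B₁.1 := congrArg Subtype.val h
      rw [← hB₁, ← h3]; exact mem_orbit_self ω
    · right; left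
      have h3 : orbit c.Q ω = B₂.1 := congrArg Subtype.val h
      rw [← hB₂, ← h3]; exact mem_orbit_self ω
    · right; right
      have h3 : orbit c.Q ω = B₃.1 := congrArg Subtype.val h
      rw [← hB₃, ← h3]; exact mem_orbit_self ω
  -- the double transpositions are induced by Mker
  obtain ⟨σ, hσ, hσ1⟩ := c.exists_ne_one_mem_MΔ (by omega) (by omega)
  obtain ⟨ht₁, ht₂⟩ := mem_of_normal_S4 c.MΔ hσ hσ1
  obtain ⟨z₁, hz₁, hl₁⟩ := ht₁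
  obtain ⟨z₂, hz₂, hl₂⟩ := ht₂
  obtain ⟨a₁, ha₁⟩ := scalar43 c hp hPC hω₁ hω₂ hω₃ hcases hz₁
  obtain ⟨a₂, ha₂⟩ := scalar43 c hp hPC hω₁ hω₂ hω₃ hcases hz₂
  -- Q is nontrivial
  obtain ⟨g₀, hg₀⟩ := exists_phi_ne_one c.Q hp c.hQ ω₁ (c.horb ω₁ hω₁)
  have hg₀1 : (g₀ : G) ≠ 1 := by
    intro h
    apply hg₀
    have : g₀ = 1 := Subtype.ext h
    rw [this, map_one]
  have hnd : ∀ {z : G} {a : ℕ}, (∀ g ∈ c.Q, z * g * z⁻¹ = g ^ a) → ¬ p ∣ a := by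
    intro z a ha hdvd
    obtain ⟨m, rfl⟩ := hdvd
    have h1 := ha g₀ g₀.2
    rw [pow_mul, c.mem_pow_eq_one hp g₀.2, one_pow] at h1
    apply hg₀1
    have : (g₀ : G) = z⁻¹ * (z * g₀ * z⁻¹) * z := by group
    rw [this, h1]; group
  obtain ⟨e₁, e₂, hmod, hodd⟩ := exists_exponents hp hp2 (hnd ha₁) (hnd ha₂)
  -- the element y
  have hy : z₁ ^ e₁ * z₂ ^ e₂ ∈ Mker α c.Q :=
    (Mker α c.Q).mul_mem ((Mker α c.Q).pow_mem hz₁ e₁) ((Mker α c.Q).pow_mem hz₂ e₂)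
  have hsc := scalar_mul c.Q (scalar_pow c.Q ha₁ e₁) (scalar_pow c.Q ha₂ e₂)
  have hcen : ∀ g ∈ c.Q, (z₁ ^ e₁ * z₂ ^ e₂) * g = g * (z₁ ^ e₁ * z₂ ^ e₂) := by
    intro g hg
    have h1 := hsc g hg
    have h2 : g ^ (a₂ ^ e₂ * a₁ ^ e₁) = g := by
      have hord : orderOf g ∣ p := orderOf_dvd_of_pow_eq_one (c.mem_pow_eq_one hp hg)
      have hm : a₂ ^ e₂ * a₁ ^ e₁ ≡ 1 [MOD orderOf g] := by
        rw [mul_comm]; exact hmod.of_dvd hord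
      have := (pow_eq_pow_iff_modEq (x := g)).mpr hm
      rw [this, pow_one]
    rw [h2] at h1
    calc (z₁ ^ e₁ * z₂ ^ e₂) * g
        = ((z₁ ^ e₁ * z₂ ^ e₂) * g * (z₁ ^ e₁ * z₂ ^ e₂)⁻¹) * (z₁ ^ e₁ * z₂ ^ e₂) := by group
      _ = g * (z₁ ^ e₁ * z₂ ^ e₂) := by rw [h1]
  have hlift : c.Lifts (z₁ ^ e₁ * z₂ ^ e₂) (t₁ ^ e₁ * t₂ ^ e₂) :=
    (Ctx.Lifts.pow c hl₁ e₁).mul c (Ctx.Lifts.pow c hl₂ e₂)
  exact c.caseB hn (by omega) hp (by omega) hG hy hcen hlift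
    (t_pow_ne hodd (hp.odd_of_ne_two hp2))

end Cfsg.Agent.Lib.Helper3.Mil
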