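import Mathlib
import Cfsg.Prelude.Def_GeometricClasses
import Cfsg.Agent.Lib.Helper1.S5630CoreFF
import Cfsg.Agent.Lib.Helper7.OETypeB
import Cfsg.Agent.Lib.Helper13.SubfField

/-!
# E-FRAME-SUBFIELD (helper3): the stabiliser of an orthogonal frame of isometric lines lies in every subfield group

`D : Fin t → Submodule F (Fin n → F)` with `IsOrthogonalMDecomposition Q 1 D`.  Normalise the frame: `w i ∈ D i` with
`Q (w i) = a ≠ 0` for all `i`; `P` = the matrix with columns `w i`, `ζ = a⁻¹`.  Then `ζ Q (P u) = ∑ u i ^ 2`, and an isometry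
permuting the lines `D i` is a signed permutation matrix in the basis `w`.  So `decompositionStabilizer D ⊓ isometryGroup F Q`
lies in `subfieldSubgroup F₀ P` for EVERY subfield `F₀`; for a non-prime field this is the class-5 clause of the rows.
-/

set_option autoImplicit false

namespace Cfsg.Agent.Lib.Helper3.OECorFrame

open Matrix Cfsg Cfsg.Geo Module QuadraticMap

variable {F : Type*} [Field F] {n : ℕ} {Q : (Fin n → F) → F}

theorem Q_add' (x y : Fin n → F) : Q (x + y) = Q x + Q y + polar Q x y := by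
  unfold polar
  ring

theorem Q_zero' (hQ : IsNondegenerateQuadraticForm Q) : Q 0 = 0 := by
  have := hQ.smul 0 (0 : Fin n → F)
  rw [zero_smul] at this
  rw [this]
  ring

theorem polar_self' (hQ : IsNondegenerateQuadraticForm Q) (v : Fin n → F) : polar Q v v = 2 * Q v := by
  unfold polar
  rw [← two_smul F v, hQ.smul]
  ring

theorem polar_zero_right (hQ : IsNondegenerateQuadraticForm Q) (x : Fin n → F) : polar Q x 0 = 0 := by
  have := hQ.polar_bilinear.smul_right 0 x 0
  rw [zero_smul, zero_mul] at this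
  exact this

theorem polar_sum_right {κ : Type*} (hQ : IsNondegenerateQuadraticForm Q) (x : Fin n → F) (c : κ → F)
    (w : κ → Fin n → F) (s : Finset κ) :
    polar Q x (∑ j ∈ s, c j • w j) = ∑ j ∈ s, c j * polar Q x (w j) := by
  classical
  induction s using Finset.induction_on with
  | empty => simp [polar_zero_right hQ]
  | insert a s ha ih =>
    rw [Finset.sum_insert ha, Finset.sum_insert ha, hQ.polar_bilinear.add_right, hQ.polar_bilinear.smul_right, ih]

/-- `Q` of a combination of pairwise orthogonal vectors -/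
theorem Q_sum_orth {κ : Type*} (hQ : IsNondegenerateQuadraticForm Q) (w : κ → Fin n → F)
    (horth : ∀ i j, i ≠ j → polar Q (w i) (w j) = 0) (c : κ → F) (s : Finset κ) :
    Q (∑ j ∈ s, c j • w j) = ∑ j ∈ s, c j ^ 2 * Q (w j) := by
  classical
  induction s using Finset.induction_on with
  | empty => simp [Q_zero' hQ]
  | insert a s ha ih =>
    rw [Finset.sum_insert ha, Finset.sum_insert ha, Q_add' (Q := Q), hQ.smul, ih, polar_sum_right hQ]
    have h0 : ∑ j ∈ s, c j * polar Q (c a • w a) (w j) = 0 := by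
      apply Finset.sum_eq_zero
      intro j hj
      have hne : a ≠ j := fun h => ha (h ▸ hj)
      rw [hQ.polar_bilinear.smul_left, horth a j hne, mul_zero, mul_zero]
    rw [h0, add_zero]

variable [Fintype F]

/-- **E-FRAME-SUBFIELD**, square frame (`t = n`) -/
theorem frame_le_subfield_aux (hQ : IsNondegenerateQuadraticForm Q) (D : Fin n → Submodule F (Fin n → F))
    (hD : IsOrthogonalMDecomposition Q 1 D) (F₀ : Subfield F) :
    ∃ (P : GL (Fin n) F) (ζ : F), ζ ≠ 0 ∧ IsQuadFormRationalStructure (fun v => ζ * Q v) F₀ P ∧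
      decompositionStabilizer D ⊓ isometryGroup F Q ≤ subfieldSubgroup F₀ P := by
  classical
  have hdec := hD.decomp.decomp
  have hn2 : 2 ≤ n := hdec.two_le
  let i₀ : Fin n := ⟨0, by omega⟩
  -- a generator of `D i₀`
  obtain ⟨v₀, hv₀, hgen₀⟩ := finrank_eq_one_iff'.mp (hdec.finrank_eq i₀)
  -- the normalised frame
  have hex : ∀ i, ∃ w : Fin n → F, w ∈ D i ∧ w ≠ 0 ∧ Q w = Q (v₀ : Fin n → F) := by
    intro i
    obtain ⟨e, he⟩ := hD.isometric i₀ i
    refine ⟨(e v₀ : Fin n → F), (e v₀).2, ?_, he v₀⟩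
    intro h0
    apply hv₀
    have : e v₀ = 0 := Subtype.ext h0
    exact e.map_eq_zero_iff.mp this
  choose w hwD hw0 hwQ using hex
  set a : F := Q (v₀ : Fin n → F) with ha
  -- each line is spanned by its frame vector
  have hspan : ∀ i, ∀ x ∈ D i, ∃ c : F, x = c • w i := by
    intro i x hx
    have h1 := (finrank_eq_one_iff_of_nonzero' (⟨w i, hwD i⟩ : D i)
      (fun h => hw0 i (congrArg Subtype.val h))).mp (hdec.finrank_eq i) ⟨x, hx⟩
    obtain ⟨c, hc⟩ := h1
    exact ⟨c, (congrArg Subtype.val hc).symm⟩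
  -- `a ≠ 0`
  have ha0 : a ≠ 0 := by
    intro h0
    obtain ⟨⟨x, hx, hxne⟩, _⟩ := hD.decomp.nondegenerate i₀ (w i₀) (hwD i₀) (hw0 i₀)
    obtain ⟨c, rfl⟩ := hspan i₀ x hx
    apply hxne
    rw [hQ.polar_bilinear.smul_left, polar_self' hQ, hwQ, h0]
    ring
  -- orthogonality of the frame
  have horth : ∀ i j, i ≠ j → polar Q (w i) (w j) = 0 := fun i j hij =>
    hD.decomp.orthogonal i j hij (w i) (hwD i) (w j) (hwD j)
  -- the frame is a basis
  have hli : LinearIndependent F w := iSupIndep.linearIndependent D hdec.indep hwD hw0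
  let Pm : Matrix (Fin n) (Fin n) F := Matrix.of fun i j => w j i
  have hPcol : Pm.col = w := by
    ext j i
    rfl
  have hPunit : IsUnit Pm := by
    rw [← linearIndependent_cols_iff_isUnit, hPcol]
    exact hli
  have hPdet : Pm.det ≠ 0 := ((Matrix.isUnit_iff_isUnit_det Pm).mp hPunit).ne_zero
  let P : GL (Fin n) F := Matrix.GeneralLinearGroup.mkOfDetNeZero Pm hPdet
  have hPval : (P : Matrix (Fin n) (Fin n) F) = Pm := rfl
  have hPmul : ∀ u : Fin n → F, Pm *ᵥ u = ∑ j, u j • w j := by
    intro u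
    ext i
    rw [Matrix.mulVec, dotProduct, Finset.sum_apply]
    apply Finset.sum_congr rfl
    intro j _
    rw [Pi.smul_apply, smul_eq_mul, mul_comm]
    rfl
  refine ⟨P, a⁻¹, inv_ne_zero ha0, ?_, ?_⟩
  · -- the rational structure
    intro u hu
    show a⁻¹ * Q ((P : Matrix (Fin n) (Fin n) F) *ᵥ u) ∈ F₀
    rw [hPval, hPmul, Q_sum_orth hQ w horth u Finset.univ]
    have h1 : ∑ j, u j ^ 2 * Q (w j) = a * ∑ j, u j ^ 2 := by
      rw [Finset.mul_sum]
      apply Finset.sum_congr rfl
      intro j _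
      rw [hwQ]
      ring
    rw [h1, ← mul_assoc, inv_mul_cancel₀ ha0, one_mul]
    exact F₀.sum_mem (fun j _ => F₀.pow_mem (hu j) 2)
  · -- the stabiliser consists of signed permutation matrices
    rintro g ⟨⟨σ, hσ⟩, hgI⟩
    have hgQ : ∀ u, Q ((g : Matrix (Fin n) (Fin n) F) *ᵥ u) = Q u := fun u => hgI u u
    have hex2 : ∀ i, ∃ c : F, (g : Matrix (Fin n) (Fin n) F) *ᵥ w i = c • w (σ i) ∧ (c = 1 ∨ c = -1) := by
      intro i
      have hmem : (g : Matrix (Fin n) (Fin n) F) *ᵥ w i ∈ D (σ i) := by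
        rw [← hσ i]
        exact ⟨w i, hwD i, by rw [Matrix.toLin'_apply]⟩
      obtain ⟨c, hc⟩ := hspan (σ i) _ hmem
      refine ⟨c, hc, ?_⟩
      have h1 := hgQ (w i)
      rw [hc, hQ.smul, hwQ, hwQ] at h1
      have h2 : (c - 1) * (c + 1) = 0 := by
        have : (c ^ 2 - 1) * a = 0 := by linear_combination h1
        rcases mul_eq_zero.mp this with h | h
        · linear_combination h
        · exact absurd h ha0
      rcases mul_eq_zero.mp h2 with h | h
      · left
        linear_combination h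
      · right
        linear_combination h
    choose c hc hc1 using hex2
    have hcmem : ∀ i, c i ∈ F₀ := by
      intro i
      rcases hc1 i with h | h
      · rw [h]
        exact F₀.one_mem
      · rw [h]
        exact F₀.neg_mem F₀.one_mem
    let B : Matrix (Fin n) (Fin n) F₀ := Matrix.of fun k i => if k = σ i then ⟨c i, hcmem i⟩ else 0
    apply Cfsg.Agent.Lib.Helper13.mem_subfieldSubgroup_of_eq F₀ P g 1 one_ne_zero B
    rw [one_smul]
    -- `g P = P M`
    have hgP : (g : Matrix (Fin n) (Fin n) F) * Pm = Pm * Cfsg.Agent.Lib.Helper13.rmat F₀ B := by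
      ext k i
      have hl : ((g : Matrix (Fin n) (Fin n) F) * Pm) k i = ((g : Matrix (Fin n) (Fin n) F) *ᵥ w i) k := by
        rw [Matrix.mul_apply, Matrix.mulVec, dotProduct]
        rfl
      have hr : (Pm * Cfsg.Agent.Lib.Helper13.rmat F₀ B) k i = (c i • w (σ i)) k := by
        rw [Matrix.mul_apply]
        have : ∀ l, Pm k l * Cfsg.Agent.Lib.Helper13.rmat F₀ B l i = if l = σ i then w l k * c i else 0 := by
          intro l
          unfold Cfsg.Agent.Lib.Helper13.rmat
          rw [Matrix.map_apply]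
          change w l k * (F₀.subtype (if l = σ i then (⟨c i, hcmem i⟩ : F₀) else 0)) = _
          split_ifs with h
          · rfl
          · rw [map_zero, mul_zero]
        rw [Finset.sum_congr rfl (fun l _ => this l), Finset.sum_ite_eq' Finset.univ (σ i)]
        simp [mul_comm]
      rw [hl, hr, hc i]
    have h3 : ((P⁻¹ * g * P : GL (Fin n) F) : Matrix (Fin n) (Fin n) F) =
        ((P⁻¹ : GL (Fin n) F) : Matrix (Fin n) (Fin n) F) * ((g : Matrix (Fin n) (Fin n) F) * Pm) := by
      rw [Units.val_mul, Units.val_mul, hPval, Matrix.mul_assoc]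
    rw [h3, hgP, ← Matrix.mul_assoc, ← hPval, ← Units.val_mul, inv_mul_cancel, Units.val_one, Matrix.one_mul]

/-- **E-FRAME-SUBFIELD**: the stabiliser in the isometry group of an orthogonal frame of isometric lines lies in the
subfield group of `F₀` attached to the normalised frame, for EVERY subfield `F₀` -/
theorem frame_le_subfield (hQ : IsNondegenerateQuadraticForm Q) {t : ℕ} (D : Fin t → Submodule F (Fin n → F))
    (hD : IsOrthogonalMDecomposition Q 1 D) (F₀ : Subfield F) :
    ∃ (P : GL (Fin n) F) (ζ : F), ζ ≠ 0 ∧ IsQuadFormRationalStructure (fun v => ζ * Q v) F₀ P ∧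
      decompositionStabilizer D ⊓ isometryGroup F Q ≤ subfieldSubgroup F₀ P := by
  have hcard := Cfsg.Agent.Lib.Helper7.OEType.card_eq_of_decomposition D hD.decomp.decomp
  rw [Fintype.card_fin, one_mul] at hcard
  subst hcard
  exact frame_le_subfield_aux hQ D hD F₀

/-- a non-prime finite field has a subfield of prime index -/
theorem exists_prime_index_of_not_prime (hnp : ¬ (Fintype.card F).Prime) :
    ∃ (F₀ : Subfield F) (r : ℕ), r.Prime ∧ Fintype.card F = Nat.card F₀ ^ r := by
  obtain ⟨p, hp⟩ := CharP.exists F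
  haveI : Fact p.Prime := ⟨CharP.char_is_prime F p⟩
  have h0 : (⊥ : Subfield F) ≠ ⊤ := by
    intro h
    apply hnp
    have hcardF : Fintype.card F = p := by
      rw [Fintype.card_eq_nat_card, ← Subfield.card_bot F p, h]
      exact (Nat.card_congr (Subfield.topEquiv (K := F)).toEquiv).symm
    rw [hcardF]
    exact Fact.out
  obtain ⟨F₁, r, _, hr, hc⟩ := Cfsg.Agent.Lib.Helper1.S5630FF.exists_prime_index_subfield ⊥ h0
  exact ⟨F₁, r, hr, hc⟩

/-- **E-FRAME-SUBFIELD, row form**: over a non-prime field the frame stabiliser lies in a class-5 member -/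
theorem frame_le_subfield_of_not_prime (hQ : IsNondegenerateQuadraticForm Q) {t : ℕ}
    (D : Fin t → Submodule F (Fin n → F)) (hD : IsOrthogonalMDecomposition Q 1 D)
    (hnp : ¬ (Fintype.card F).Prime) :
    ∃ (F₀ : Subfield F) (r : ℕ) (P : GL (Fin n) F) (ζ : F), r.Prime ∧ Fintype.card F = Nat.card F₀ ^ r ∧ ζ ≠ 0 ∧
      IsQuadFormRationalStructure (fun v => ζ * Q v) F₀ P ∧
      decompositionStabilizer D ⊓ isometryGroup F Q ≤ subfieldSubgroup F₀ P := by
  obtain ⟨F₀, r, hr, hc⟩ := exists_prime_index_of_not_prime (F := F) hnp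
  obtain ⟨P, ζ, hζ, hrat, hle⟩ := frame_le_subfield hQ D hD F₀
  exact ⟨F₀, r, P, ζ, hr, hc, hζ, hrat, hle⟩

end Cfsg.Agent.Lib.Helper3.OECorFrame
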