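import Mathlib
import Cfsg.Prelude.Def_GeometricClasses
import Cfsg.Agent.Lib.Helper18.AschC3

/-!
# OE-F5CORE, piece P3 (UNIT): the quadratic subfield of `K₂` is of unitary type  (helper3)

EXACT signature of `notes/OEField5Skel_helper17.lean.txt`.  `K ≤ K₂` field subalgebras of degrees `r` (odd) and `2r`, `K₂` closed
under the adjoint of the symmetric form `f`, the self-adjoint elements of `K₂` all in `K`.  Then `K' := {x ∈ K₂ | x^(q²) = x}` is a field
subalgebra of degree `2`, adjoint-closed (the adjoint commutes with powers), meets `K` in the scalars (`x^(q²) = x`, `x^(q^r) = x`, `r` odd give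
`x^q = x`) and hence is not self-adjoint.
-/

set_option autoImplicit false
set_option linter.unusedVariables false

namespace Cfsg.Agent.Lib.Helper3.OEField5P3

open Matrix Module Cfsg.Geo Cfsg.Agent.Lib.Helper18.AschC3

variable {F : Type*} [Field F] [Fintype F] {ι : Type} [Fintype ι] [DecidableEq ι] [Nonempty ι]

omit [Fintype F] [Nonempty ι] in
/-- adjoints commute with powers -/
theorem adj_pow {f : (ι → F) → (ι → F) → F} (k k' : Matrix ι ι F)
    (h : ∀ u v, f (k *ᵥ u) v = f u (k' *ᵥ v)) (j : ℕ) :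
    ∀ u v, f ((k ^ j) *ᵥ u) v = f u ((k' ^ j) *ᵥ v) := by
  induction j with
  | zero => intro u v; simp
  | succ j ih =>
    intro u v
    rw [pow_succ, pow_succ', ← Matrix.mulVec_mulVec, ← Matrix.mulVec_mulVec, ih, h]

omit [Fintype F] [Nonempty ι] in
/-- a non-degenerate bilinear form separates the second argument -/
theorem eq_of_forall_left {f : (ι → F) → (ι → F) → F} (hb : IsBilinearForm f) (hnd : IsNondegenerateForm f)
    (x y : ι → F) (h : ∀ u, f u x = f u y) : x = y := by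
  by_contra hne
  have hxy : x - y ≠ 0 := sub_ne_zero.mpr hne
  obtain ⟨⟨u, hu⟩, _⟩ := hnd (x - y) hxy
  apply hu
  have h1 : f u (x - y) + f u y = f u x := by
    rw [← hb.add_right, sub_add_cancel]
  rw [h u] at h1
  exact add_eq_right.mp h1

omit [Fintype F] [Nonempty ι] in
theorem eq_of_mulVec_eq' (A B : Matrix ι ι F) (h : ∀ v, A *ᵥ v = B *ᵥ v) : A = B := by
  apply Matrix.toLin'.injective
  apply LinearMap.ext
  intro v
  rw [Matrix.toLin'_apply, Matrix.toLin'_apply, h v]

/-- every element of a field subalgebra of degree `r` satisfies `x ^ (q ^ r) = x` -/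
theorem pow_card_pow_eq {r : ℕ} (K : Subalgebra F (Matrix ι ι F)) (hK : IsFieldSubalgebra r K)
    (m : Matrix ι ι F) (hm : m ∈ K) : m ^ (Fintype.card F ^ r) = m := by
  have h1 : finrank F (subfieldOfDegree K hK r) = r := finrank_subfieldOfDegree K hK (dvd_refl r)
  have hle : Subalgebra.toSubmodule (subfieldOfDegree K hK r) ≤ Subalgebra.toSubmodule K :=
    subfieldOfDegree_le K hK r
  have h2 : finrank F (Subalgebra.toSubmodule (subfieldOfDegree K hK r)) = finrank F (Subalgebra.toSubmodule K) := by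
    have e1 : finrank F (Subalgebra.toSubmodule K) = r := hK.finrank_eq
    rw [e1]
    exact h1
  have h3 := Submodule.eq_of_le_of_finrank_eq hle h2
  have hm' : m ∈ Subalgebra.toSubmodule (subfieldOfDegree K hK r) := by
    rw [h3]
    exact hm
  exact ((mem_subfieldOfDegree_iff K hK r m).1 hm').2

omit [Fintype F] [Fintype ι] [DecidableEq ι] [Nonempty ι] in
/-- `x ^ (N ^ 2) = x` iterates -/
theorem pow_pow_two_mul {M : Type*} [Monoid M] (x : M) (N : ℕ) (h : x ^ (N ^ 2) = x) (j : ℕ) :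
    x ^ (N ^ (2 * j)) = x := by
  induction j with
  | zero => simp
  | succ j ih =>
    have : N ^ (2 * (j + 1)) = N ^ (2 * j) * N ^ 2 := by
      rw [← pow_add, Nat.mul_succ]
    rw [this, pow_mul, ih, h]

/-- **P3 (UNIT)** -/
theorem unitary_subfield {f : (ι → F) → (ι → F) → F} (hf : IsSymmetricForm f)
    (r : ℕ) (hodd : Odd r) (K K₂ : Subalgebra F (Matrix ι ι F))
    (hK : IsFieldSubalgebra r K) (hK₂ : IsFieldSubalgebra (2 * r) K₂) (hle : K ≤ K₂)
    (hadj : IsAdjointClosedFor f K₂)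
    (hfix : ∀ m ∈ K₂, (∀ u v, f (m *ᵥ u) v = f u (m *ᵥ v)) → m ∈ K) :
    IsFieldSubalgebra 2 (subfieldOfDegree K₂ hK₂ 2) ∧
    IsAdjointClosedFor f (subfieldOfDegree K₂ hK₂ 2) ∧
    ¬ IsSelfAdjointFor f (subfieldOfDegree K₂ hK₂ 2) ∧
    (∀ m ∈ subfieldOfDegree K₂ hK₂ 2, m ∈ K → ∃ c : F, m = c • (1 : Matrix ι ι F)) := by
  have hfs : IsFieldSubalgebra 2 (subfieldOfDegree K₂ hK₂ 2) :=
    subfieldOfDegree_isFieldSubalgebra K₂ hK₂ (Dvd.intro r rfl)
  -- the intersection with `K` consists of scalars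
  have h4 : ∀ m ∈ subfieldOfDegree K₂ hK₂ 2, m ∈ K → ∃ c : F, m = c • (1 : Matrix ι ι F) := by
    intro m hm hmK
    obtain ⟨_, hm2⟩ := (mem_subfieldOfDegree_iff K₂ hK₂ 2 m).1 hm
    have hmr := pow_card_pow_eq K hK m hmK
    obtain ⟨j, hj⟩ := hodd
    have hmq : m ^ (Fintype.card F) = m := by
      have e : Fintype.card F ^ r = Fintype.card F ^ (2 * j) * Fintype.card F := by
        rw [hj, pow_succ]
      rw [e, pow_mul, pow_pow_two_mul m (Fintype.card F) hm2 j] at hmr
      exact hmr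
    have hm1 : m ∈ subfieldOfDegree K hK 1 := by
      rw [mem_subfieldOfDegree_iff, pow_one]
      exact ⟨hmK, hmq⟩
    have hbot : subfieldOfDegree K hK 1 = ⊥ :=
      Subalgebra.finrank_eq_one_iff.mp (finrank_subfieldOfDegree K hK (one_dvd r))
    rw [hbot, Algebra.mem_bot] at hm1
    obtain ⟨c, hc⟩ := hm1
    exact ⟨c, by rw [← hc, Algebra.algebraMap_eq_smul_one]⟩
  refine ⟨hfs, ?_, ?_, h4⟩
  · -- adjoint-closed
    intro k hk
    obtain ⟨hkE, hkN⟩ := (mem_subfieldOfDegree_iff K₂ hK₂ 2 k).1 hk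
    obtain ⟨k', hk'E, hk'⟩ := hadj k hkE
    refine ⟨k', (mem_subfieldOfDegree_iff K₂ hK₂ 2 k').2 ⟨hk'E, ?_⟩, hk'⟩
    apply eq_of_mulVec_eq'
    intro v
    apply eq_of_forall_left hf.bilinear hf.nondegenerate
    intro u
    rw [← adj_pow k k' hk' (Fintype.card F ^ 2), hkN, hk']
  · -- not self-adjoint
    intro hsa
    have hall : ∀ m ∈ subfieldOfDegree K₂ hK₂ 2, m ∈ (⊥ : Subalgebra F (Matrix ι ι F)) := by
      intro m hm
      have hmK : m ∈ K := hfix m (subfieldOfDegree_le K₂ hK₂ 2 hm) (hsa m hm)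
      obtain ⟨c, hc⟩ := h4 m hm hmK
      rw [Algebra.mem_bot]
      exact ⟨c, by rw [hc, Algebra.algebraMap_eq_smul_one]⟩
    have hbot : subfieldOfDegree K₂ hK₂ 2 = ⊥ := le_antisymm hall bot_le
    have h2 := hfs.finrank_eq
    rw [hbot, Subalgebra.finrank_bot] at h2
    omega

end Cfsg.Agent.Lib.Helper3.OEField5P3
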