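import Mathlib
import Cfsg.Prelude.Def_GeometricClasses
import Cfsg.Agent.Lib.Helper7.AschDefs
import Cfsg.Agent.Lib.Helper8.S5630I1
import Cfsg.Agent.Lib.Helper23.S5630I5
import Cfsg.Agent.Lib.Helper1.OEDefs
import Cfsg.Agent.Lib.Helper14.OEReducible
import Cfsg.Agent.Lib.Helper18.OE2
import Cfsg.Agent.Lib.Helper17.AschOE4Main
import Cfsg.Agent.Lib.Helper22.OE7
import Cfsg.Agent.Lib.Helper12.OE8
import Cfsg.Agent.Lib.Helper3.OE6

/-!
# Aschbacher's theorem for the isometry group of a non-degenerate quadratic function: top-level assembly (helper3, SPARE)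

A spare assembly of the even-orthogonal hub from the six generic blocks on main (architect of the hub: helper19; this file is
only the `mainO` flow re-run on the blocks, stated against helper1's `InClassOE` / `HubOE`):
OE1 reducible (helper14), OE2 field (helper18), OE4 Clifford exits (helper17 `q` odd / helper16 `q` even), OE6 class 6 (helper3),
OE7 tensor-induced (helper22), OE8 almost simple / descent (helper12).  ANY `n ≥ 3`, ANY `q`, no parity of `n`.
-/

set_option autoImplicit false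

namespace Cfsg.Agent.Lib.Helper3.OEHub

open Matrix Cfsg Cfsg.Geo Cfsg.Agent.Lib.Helper7.Asch Cfsg.Agent.Lib.Helper1.OE
open scoped commutatorElement

variable {F : Type*} [Field F] [Fintype F] {n : ℕ} {Q : (Fin n → F) → F}

/-- **Aschbacher's theorem for `I(Q)`**, `Q` a non-degenerate quadratic function on `F^n`, `n ≥ 3`, any `q` -/
theorem mainOE (hQ : IsNondegenerateQuadraticForm Q) (hn : 3 ≤ n) (H : Subgroup (GL (Fin n) F))
    (hHI : H ≤ isometryGroup F Q) : InClassOE Q H ∨ InOrthogonalResidualClass H := by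
  by_cases h1 : Irr H
  swap
  · left
    rcases Cfsg.Agent.Lib.Helper14.OEReducible.reducible_cases hQ H hHI h1 with
      ⟨W, hW0, hts, hle⟩ | ⟨W, hW0, hW1, hnd, hle⟩ | ⟨hq, v, hv, hle⟩
    · exact InClassOE.of_singular H hHI W hW0 hts hle
    · exact InClassOE.of_nondeg H hHI W hW0 hW1 hnd hle
    · exact InClassOE.of_nonsingular H hHI hq v hv hle
  by_cases h2 : AbsIrr H
  swap
  · exact Or.inl (Cfsg.Agent.Lib.Helper18.OE2.inClassOE_of_not_absIrr hQ hn H hHI h1 h2)
  by_cases h4 : QP H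
  swap
  · unfold QP at h4
    push Not at h4
    obtain ⟨N, hNH, hnorm, hns, hna⟩ := h4
    rcases Cfsg.Agent.Lib.Helper17.AschOE.cliffordOE hQ hn H N h2 hHI hNH hnorm with h | h | h
    · exact Or.inl h
    · exact absurd h hns
    · exact absurd h hna
  have hHs : ¬ H ≤ scalars (Fin n) F := Cfsg.Agent.Lib.Helper8.S5630I1.not_scalar_of_irr (by omega) H h1
  rcases Cfsg.Agent.Lib.Helper23.S5630I5.group_dichotomy H hHs with
    ⟨N, r, hNH, hnorm, hNs, hmin, hr, hpow, hcomm⟩ | ⟨L, hLH, hLs, hperf, hqs, hconj⟩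
  · exact Or.inl (Cfsg.Agent.Lib.Helper3.OE6.c6_caseOE' hQ (by omega) H N r hHI h4 hNH hnorm hNs hmin hr hpow hcomm)
  · by_cases hnL : NormBy H L
    · rcases Cfsg.Agent.Lib.Helper12.OE8.s_case_core hQ (by omega) H L hHI h4 hLH hLs hperf hqs hnL with
        ⟨F₁, r, P, ζ, hr, hc, hζ, hrat, hle⟩ | h
      · exact Or.inl (InClassOE.of_subfield H hHI F₁ r P ζ hr hc hζ hrat hle)
      · exact Or.inr h
    · exact Or.inl (Cfsg.Agent.Lib.Helper22.OE7.c7_caseOE hQ hn H L h2 hHI h4 hLH hLs hperf hqs hconj hnL)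

/-- the hub in helper1's vocabulary -/
theorem hubOE (hQ : IsNondegenerateQuadraticForm Q) (hn : 3 ≤ n) : HubOE Q :=
  fun H hHI => mainOE hQ hn H hHI

end Cfsg.Agent.Lib.Helper3.OEHub
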