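import Mathlib
import Cfsg.Prelude.Def_GeometricClasses
import Cfsg.Agent.Lib.Helper3.OEC6Plus

/-!
# OEPlus piece Y1 (helper3): exact signature of `notes/OEPlusSkel_helper13.lean.txt`
-/

set_option autoImplicit false
set_option linter.unusedVariables false

namespace Cfsg.Agent.Lib.Helper3.OEPlusY1

open Matrix Cfsg Cfsg.Geo Module

variable {F : Type*} [Field F] [Fintype F]

variable {n : ℕ} {Q : (Fin n → F) → F}

/-- **Y1**: the degree of a class-6 member is a power of two -/
theorem c6_pow (hQ : IsNondegenerateQuadraticForm Q) (hodd : Odd (Fintype.card F)) (R : Subgroup (GL (Fin n) F))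
    (hR : IsSymplecticTypeGroup 2 R) (hirr : ActsAbsolutelyIrreducibly (matrixSet R))
    (hRI : R ≤ isometryGroup F Q) : ∃ k : ℕ, n = 2 ^ k := by
  by_cases hn : 2 ≤ n
  · obtain ⟨k, hk, _⟩ := Cfsg.Agent.Lib.Helper3.OEC6.c6_exists_pow hQ hn R hR hirr hRI
    exact ⟨k, hk⟩
  · have h01 : n = 0 ∨ n = 1 := by omega
    rcases h01 with rfl | rfl
    · exfalso
      have h1 : Monoid.exponent ↥R = 1 := Monoid.exp_eq_one_of_subsingleton
      have h2 := hR.exponent_eq
      rw [h1] at h2
      norm_num at h2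
    · exact ⟨0, rfl⟩

end Cfsg.Agent.Lib.Helper3.OEPlusY1
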