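import Mathlib
import Cfsg.Agent.Lib.Helper28.OTDefs
import Cfsg.Agent.Lib.Helper28.OTExitDefs
import Cfsg.Agent.Lib.Helper16.OTRootC
import Cfsg.Agent.Lib.Helper8.OTRel
import Cfsg.Agent.Lib.Helper8.OTSComm
import Cfsg.Agent.Lib.Helper2.OTSkewProd
import Cfsg.Agent.Lib.Helper6.OmegaList
import Cfsg.Agent.Lib.Helper6.SiegelOmega
import Cfsg.Agent.Lib.Helper13.OrthMax
import Cfsg.Agent.Lib.Helper25.OTKone
import Cfsg.Agent.Lib.Helper20.OTTorus
import Cfsg.Agent.Lib.Helper3.OTT4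

/-!
# S5681 (O ⊗ O), EXIT T3, REFL-AVAIL (helper3): the elements `r_u ⊗ B` of `N0 ⊓ Ω(V)`

`V = U ⊗ W`, `a = dim U` odd, `π = ⟨k₁,k₂⟩` totally singular in `W`.  For an anisotropic `u ∈ U` there is an isometry `B` of `W`
with `B k₁ = c₁ k₁`, `B k₂ = c₂ k₂` such that `r_u ⊗ B ∈ Ω(V)` (`r_u` the reflection of `U` along `u`).

Proof: `r_u ⊗ 1 = ∏_j r_{u ⊗ w_j}` (`w_j` an orthogonal basis of `W`), `1 ⊗ r_y = ∏_i r_{v_i ⊗ y}` (`v_i` an orthogonal basis of `U`);
`B ∈ {B₀, B₀ h_t}`, `B₀ = 1` (`b` even) or `-1 = ∏_j r_{w_j}` (`b` odd), `h_t = r_{k₁ - l} r_{k₁ - t l}` (`l` singular, `f₂(k₁,l) = 1`,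
`f₂(k₂,l) = 0`), `t` a non-square: the two candidates are products of an even number of reflections of `V` whose norm products
differ by `t^a` times a square, so exactly one of them is a square; helper6's spinor-norm criterion `mem_Omega_iff_list_all'`.
-/

set_option autoImplicit false
set_option linter.unusedSectionVars false
set_option linter.unusedVariables false

namespace Cfsg.Agent.Lib.Helper3.OTRefl

open Matrix Module
open Cfsg.Agent.Lib.Helper16.Tens Cfsg.Agent.Lib.Helper10.TensFund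
open Cfsg.Agent.Lib.Helper3.SpT (bf E adj uni Over E_mul_E E_mulVec mat_ext_mulVec bf_add_left bf_add_right bf_smul_left
  bf_smul_right bf_sub_left bf_sub_right bf_neg_left bf_neg_right bf_kron_pur)
open Cfsg.Agent.Lib.Helper13.TensSO (OrthG IsoG)
open Cfsg.Agent.Lib.Helper28.OT
open Cfsg.Agent.Lib.Helper16.OTRootC (oneK oneK_val oneK_mem_IsoG mem_iso_of_IsoG two_mul_Q)
open Cfsg.Agent.Lib.Helper8.OTSComm (rfM rfM_mulVec)
open Cfsg.Agent.Lib.Helper25.OTKone (Kone Kone_val Kone_mem_kron Kone_mem_IsoG)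
open scoped Kronecker

/-! ### a ring lemma: `∏ (1 - xᵢ) = 1 - ∑ xᵢ` if `xᵢ xⱼ = 0` for `i < j` -/

theorem mul_list_sum_eq_zero {R : Type*} [Ring R] (x : R) (l : List R) (h : ∀ y ∈ l, x * y = 0) : x * l.sum = 0 := by
  induction l with
  | nil => simp
  | cons y l ih =>
    rw [List.sum_cons, mul_add, h y List.mem_cons_self, zero_add]
    exact ih (fun z hz => h z (List.mem_cons_of_mem _ hz))

theorem prod_one_sub {R : Type*} [Ring R] (l : List R) (h : l.Pairwise (fun x y => x * y = 0)) :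
    (l.map (fun x => 1 - x)).prod = 1 - l.sum := by
  induction l with
  | nil => simp
  | cons x l ih =>
    rw [List.pairwise_cons] at h
    rw [List.map_cons, List.prod_cons, List.sum_cons, ih h.2, sub_mul, one_mul, mul_sub, mul_one,
      mul_list_sum_eq_zero x l h.1]
    abel

/-- `ofFn` version -/
theorem prod_one_sub_ofFn {R : Type*} [Ring R] {n : ℕ} (x : Fin n → R) (h : ∀ i j, i ≠ j → x i * x j = 0) :
    ((List.ofFn x).map (fun y => 1 - y)).prod = 1 - ∑ i, x i := by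
  rw [prod_one_sub, List.sum_ofFn]
  rw [List.pairwise_ofFn]
  intro i j hij
  exact h i j (ne_of_lt hij)

/-! ### reflections `rfM J y` -/

section refl
variable {F : Type*} [Field F] {κ : Type} [Fintype κ] [DecidableEq κ] {J : Matrix κ κ F}

theorem rfM_mul_self (hJ : OrthG J) (h2 : (2 : F) ≠ 0) (y : κ → F) (hy : bf J y y ≠ 0) : rfM J y * rfM J y = 1 := by
  apply mat_ext_mulVec
  intro x
  rw [← Matrix.mulVec_mulVec, rfM_mulVec, rfM_mulVec, Matrix.one_mulVec, bf_sub_left, bf_smul_left]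
  have e : 2 / bf J y y * (bf J x y - 2 / bf J y y * bf J x y * bf J y y) = -(2 / bf J y y * bf J x y) := by
    field_simp
    ring
  rw [e, neg_smul, sub_neg_eq_add, sub_add_cancel]

theorem rfM_isom (hJ : OrthG J) (y : κ → F) (hy : bf J y y ≠ 0) (x x' : κ → F) :
    bf J (rfM J y *ᵥ x) (rfM J y *ᵥ x') = bf J x x' := by
  rw [rfM_mulVec, rfM_mulVec]
  simp only [bf_sub_left, bf_sub_right, bf_smul_left, bf_smul_right]
  rw [hJ.symm y x']
  field_simp
  ring

/-- the reflection along an anisotropic vector, in `GL` -/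
noncomputable def rfGL (hJ : OrthG J) (h2 : (2 : F) ≠ 0) (y : κ → F) (hy : bf J y y ≠ 0) : GL κ F :=
  ⟨rfM J y, rfM J y, rfM_mul_self hJ h2 y hy, rfM_mul_self hJ h2 y hy⟩

theorem rfGL_val (hJ : OrthG J) (h2 : (2 : F) ≠ 0) (y : κ → F) (hy : bf J y y ≠ 0) :
    ((rfGL hJ h2 y hy : GL κ F) : Matrix κ κ F) = rfM J y := rfl

theorem rfGL_inv_val (hJ : OrthG J) (h2 : (2 : F) ≠ 0) (y : κ → F) (hy : bf J y y ≠ 0) :
    (((rfGL hJ h2 y hy)⁻¹ : GL κ F) : Matrix κ κ F) = rfM J y := rfl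

theorem rfGL_mem_IsoG (hJ : OrthG J) (h2 : (2 : F) ≠ 0) (y : κ → F) (hy : bf J y y ≠ 0) : rfGL hJ h2 y hy ∈ IsoG J := by
  intro x x'
  rw [rfGL_val]
  exact rfM_isom hJ y hy x x'

/-- a product of reflections along anisotropic vectors is (the matrix of) an isometry -/
theorem exists_GL_list (hJ : OrthG J) (h2 : (2 : F) ≠ 0) (ys : List (κ → F)) (hys : ∀ y ∈ ys, bf J y y ≠ 0) :
    ∃ B : GL κ F, B ∈ IsoG J ∧ (B : Matrix κ κ F) = (ys.map (rfM J)).prod := by
  induction ys with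
  | nil => exact ⟨1, Subgroup.one_mem _, by simp⟩
  | cons y ys ih =>
    obtain ⟨B, hB, hBv⟩ := ih (fun z hz => hys z (List.mem_cons_of_mem _ hz))
    refine ⟨rfGL hJ h2 y (hys y List.mem_cons_self) * B,
      Subgroup.mul_mem _ (rfGL_mem_IsoG hJ h2 y _) hB, ?_⟩
    rw [Units.val_mul, rfGL_val, hBv, List.map_cons, List.prod_cons]

/-- completeness of an orthogonal basis -/
theorem sum_E_basis {n : ℕ} (v : Basis (Fin n) F (κ → F))
    (hortho : ∀ i j, i ≠ j → bf J (v i) (v j) = 0) (hne : ∀ i, bf J (v i) (v i) ≠ 0) :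
    ∑ i, (1 / bf J (v i) (v i)) • E J (v i) (v i) = 1 := by
  apply mat_ext_mulVec
  intro x
  rw [Matrix.one_mulVec, Matrix.sum_mulVec]
  conv_rhs => rw [Cfsg.Agent.Lib.Helper2.OTSkewProd.orth_expand v hortho hne x]
  refine Finset.sum_congr rfl (fun i _ => ?_)
  rw [Matrix.smul_mulVec, E_mulVec, smul_smul]
  congr 1
  field_simp

/-- the product of the reflections along an orthogonal basis is `-1` -/
theorem prod_rfM_basis {n : ℕ} (v : Basis (Fin n) F (κ → F))
    (hortho : ∀ i j, i ≠ j → bf J (v i) (v j) = 0) (hne : ∀ i, bf J (v i) (v i) ≠ 0) :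
    ((List.ofFn (fun i => v i)).map (rfM J)).prod = -1 := by
  have e : (List.ofFn (fun i => v i)).map (rfM J) =
      (List.ofFn (fun i => (2 / bf J (v i) (v i)) • E J (v i) (v i))).map (fun y => 1 - y) := by
    rw [List.map_ofFn, List.map_ofFn]
    rfl
  rw [e, prod_one_sub_ofFn]
  · have e2 : ∑ i, (2 / bf J (v i) (v i)) • E J (v i) (v i) = (2 : F) • (1 : Matrix κ κ F) := by
      rw [← sum_E_basis v hortho hne, Finset.smul_sum]
      refine Finset.sum_congr rfl (fun i _ => ?_)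
      rw [smul_smul]
      congr 1
      ring
    rw [e2, two_smul]
    abel
  · intro i j hij
    rw [Matrix.smul_mul, Matrix.mul_smul, E_mul_E, hortho j i (Ne.symm hij), zero_smul, smul_zero, smul_zero]

end refl

/-! ### reflections along pure tensors -/

section tens
variable {F : Type*} [Field F] {a b : ℕ}
variable {J1 : Matrix (Fin a) (Fin a) F} {J2 : Matrix (Fin b) (Fin b) F}

theorem vecMulVec_pur (x x' : Fin a → F) (y y' : Fin b → F) :
    vecMulVec (pur x y) (pur x' y') = vecMulVec x x' ⊗ₖ vecMulVec y y' := by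
  ext ⟨i, j⟩ ⟨i', j'⟩
  simp only [vecMulVec_apply, pur, Matrix.kroneckerMap_apply]
  ring

theorem E_kron_pur (u u' : Fin a → F) (w w' : Fin b → F) :
    E (J1 ⊗ₖ J2) (pur u w) (pur u' w') = E J1 u u' ⊗ₖ E J2 w w' := by
  unfold E
  rw [kron_mulVec_pur, vecMulVec_pur]

theorem rfM_pur (u : Fin a → F) (w : Fin b → F) :
    rfM (J1 ⊗ₖ J2) (pur u w) = 1 - (2 / (bf J1 u u * bf J2 w w)) • (E J1 u u ⊗ₖ E J2 w w) := by
  unfold rfM
  rw [bf_kron_pur, E_kron_pur]

theorem kron_sum_right {n : ℕ} (X : Matrix (Fin a) (Fin a) F) (Y : Fin n → Matrix (Fin b) (Fin b) F) :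
    X ⊗ₖ (∑ j, Y j) = ∑ j, X ⊗ₖ Y j := by
  ext ⟨i, j⟩ ⟨i', j'⟩
  simp only [Matrix.kroneckerMap_apply, Matrix.sum_apply, Finset.mul_sum]

theorem kron_sum_left {n : ℕ} (X : Fin n → Matrix (Fin a) (Fin a) F) (Y : Matrix (Fin b) (Fin b) F) :
    (∑ j, X j) ⊗ₖ Y = ∑ j, X j ⊗ₖ Y := by
  ext ⟨i, j⟩ ⟨i', j'⟩
  simp only [Matrix.kroneckerMap_apply, Matrix.sum_apply, Finset.sum_mul]

/-- `r_u ⊗ 1 = ∏_j r_{u ⊗ w_j}` -/
theorem prod_left {n : ℕ} (w : Basis (Fin n) F (Fin b → F))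
    (hortho : ∀ i j, i ≠ j → bf J2 (w i) (w j) = 0) (hne : ∀ i, bf J2 (w i) (w i) ≠ 0) (u : Fin a → F) :
    ((List.ofFn (fun j => pur u (w j))).map (rfM (J1 ⊗ₖ J2))).prod =
      rfM J1 u ⊗ₖ (1 : Matrix (Fin b) (Fin b) F) := by
  have e : (List.ofFn (fun j => pur u (w j))).map (rfM (J1 ⊗ₖ J2)) =
      (List.ofFn (fun j => (2 / (bf J1 u u * bf J2 (w j) (w j))) • (E J1 u u ⊗ₖ E J2 (w j) (w j)))).map
        (fun y => 1 - y) := by
    rw [List.map_ofFn, List.map_ofFn]
    congr 1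
    funext j
    exact rfM_pur u (w j)
  rw [e, prod_one_sub_ofFn]
  · have e2 : ∑ j, (2 / (bf J1 u u * bf J2 (w j) (w j))) • (E J1 u u ⊗ₖ E J2 (w j) (w j)) =
        ((2 / bf J1 u u) • E J1 u u) ⊗ₖ (1 : Matrix (Fin b) (Fin b) F) := by
      rw [← sum_E_basis w hortho hne, kron_sum_right]
      refine Finset.sum_congr rfl (fun j _ => ?_)
      rw [Matrix.smul_kronecker, Matrix.kronecker_smul, smul_smul]
      congr 1
      rw [div_mul_div_comm, mul_one]
    rw [e2]
    unfold rfM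
    rw [Cfsg.Agent.Lib.Helper8.OTRel.sub_kron, Matrix.one_kronecker_one]
  · intro i j hij
    rw [Matrix.smul_mul, Matrix.mul_smul, ← Matrix.mul_kronecker_mul, E_mul_E J2, hortho j i (Ne.symm hij), zero_smul,
      Matrix.kronecker_zero, smul_zero, smul_zero]

/-- `1 ⊗ r_y = ∏_i r_{v_i ⊗ y}` -/
theorem prod_right {n : ℕ} (v : Basis (Fin n) F (Fin a → F))
    (hortho : ∀ i j, i ≠ j → bf J1 (v i) (v j) = 0) (hne : ∀ i, bf J1 (v i) (v i) ≠ 0) (y : Fin b → F) :
    ((List.ofFn (fun i => pur (v i) y)).map (rfM (J1 ⊗ₖ J2))).prod =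
      (1 : Matrix (Fin a) (Fin a) F) ⊗ₖ rfM J2 y := by
  have e : (List.ofFn (fun i => pur (v i) y)).map (rfM (J1 ⊗ₖ J2)) =
      (List.ofFn (fun i => (2 / (bf J1 (v i) (v i) * bf J2 y y)) • (E J1 (v i) (v i) ⊗ₖ E J2 y y))).map
        (fun z => 1 - z) := by
    rw [List.map_ofFn, List.map_ofFn]
    congr 1
    funext i
    exact rfM_pur (v i) y
  rw [e, prod_one_sub_ofFn]
  · have e2 : ∑ i, (2 / (bf J1 (v i) (v i) * bf J2 y y)) • (E J1 (v i) (v i) ⊗ₖ E J2 y y) =
        (1 : Matrix (Fin a) (Fin a) F) ⊗ₖ ((2 / bf J2 y y) • E J2 y y) := by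
      rw [← sum_E_basis v hortho hne, kron_sum_left]
      refine Finset.sum_congr rfl (fun i _ => ?_)
      rw [Matrix.smul_kronecker, Matrix.kronecker_smul, smul_smul]
      congr 1
      rw [div_mul_div_comm, one_mul]
    rw [e2]
    unfold rfM
    rw [Cfsg.Agent.Lib.Helper8.OTRel.sub_kron_right, Matrix.one_kronecker_one]
  · intro i j hij
    rw [Matrix.smul_mul, Matrix.mul_smul, ← Matrix.mul_kronecker_mul, E_mul_E J1, hortho j i (Ne.symm hij), zero_smul,
      Matrix.zero_kronecker, smul_zero, smul_zero]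

/-- the list of pure tensors `v_i ⊗ y`, `y ∈ ys` -/
def lstR {n : ℕ} (v : Fin n → Fin a → F) (ys : List (Fin b → F)) : List (Fin a × Fin b → F) :=
  ys.flatMap (fun y => List.ofFn (fun i => pur (v i) y))

theorem lstR_nil {n : ℕ} (v : Fin n → Fin a → F) : lstR v ([] : List (Fin b → F)) = [] := rfl

theorem lstR_cons {n : ℕ} (v : Fin n → Fin a → F) (y : Fin b → F) (ys : List (Fin b → F)) :
    lstR v (y :: ys) = List.ofFn (fun i => pur (v i) y) ++ lstR v ys := by
  unfold lstR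
  rw [List.flatMap_cons]

theorem lstR_append {n : ℕ} (v : Fin n → Fin a → F) (ys ys' : List (Fin b → F)) :
    lstR v (ys ++ ys') = lstR v ys ++ lstR v ys' := by
  unfold lstR
  rw [List.flatMap_append]

theorem lstR_length {n : ℕ} (v : Fin n → Fin a → F) (ys : List (Fin b → F)) :
    (lstR v ys).length = n * ys.length := by
  induction ys with
  | nil => simp [lstR_nil]
  | cons y ys ih =>
    rw [lstR_cons, List.length_append, List.length_ofFn, ih, List.length_cons]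
    ring

/-- `1 ⊗ ∏ r_y = ∏_y ∏_i r_{v_i ⊗ y}` -/
theorem prod_right_list {n : ℕ} (v : Basis (Fin n) F (Fin a → F))
    (hortho : ∀ i j, i ≠ j → bf J1 (v i) (v j) = 0) (hne : ∀ i, bf J1 (v i) (v i) ≠ 0) (ys : List (Fin b → F)) :
    ((lstR (fun i => v i) ys).map (rfM (J1 ⊗ₖ J2))).prod =
      (1 : Matrix (Fin a) (Fin a) F) ⊗ₖ (ys.map (rfM J2)).prod := by
  induction ys with
  | nil => rw [lstR_nil, List.map_nil, List.map_nil, List.prod_nil, List.prod_nil, Matrix.one_kronecker_one]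
  | cons y ys ih =>
    rw [lstR_cons, List.map_append, List.prod_append, ih, prod_right v hortho hne y, ← Matrix.mul_kronecker_mul, one_mul,
      List.map_cons, List.prod_cons]

end tens

/-! ### the spinor norm criterion in the `O ⊗ O` setup -/

section main
variable {F : Type*} [Field F] {a b : ℕ}
variable {J1 : Matrix (Fin a) (Fin a) F} {J2 : Matrix (Fin b) (Fin b) F}
variable {Q : QuadraticForm F (Fin a × Fin b → F)}

theorem refl_eq_rfM (hS : SetupO J1 J2 Q) (v : Fin a × Fin b → F) :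
    Cfsg.reflectionMatrix ⇑Q v = rfM (J1 ⊗ₖ J2) v := by
  apply mat_ext_mulVec
  intro x
  have hs : bf (J1 ⊗ₖ J2) v x = bf (J1 ⊗ₖ J2) x v := by
    rw [← hS.polar, ← hS.polar, QuadraticMap.polar_comm]
  have e : 2 / bf (J1 ⊗ₖ J2) v v = (Q v)⁻¹ := by
    rw [← two_mul_Q hS, ← div_div, div_self hS.two, one_div]
  rw [Cfsg.Agent.Lib.Helper6.reflectionMatrix_mulVec, rfM_mulVec, hS.polar, hs, e]

theorem Q_pur (hS : SetupO J1 J2 Q) (x : Fin a → F) (y : Fin b → F) :
    Q (pur x y) = bf J1 x x * bf J2 y y / 2 := by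
  rw [eq_div_iff hS.two, mul_comm, two_mul_Q hS, bf_kron_pur]

theorem Q_pur_ne_zero (hS : SetupO J1 J2 Q) (x : Fin a → F) (y : Fin b → F) (hx : bf J1 x x ≠ 0) (hy : bf J2 y y ≠ 0) :
    Q (pur x y) ≠ 0 := by
  rw [Q_pur hS]
  exact div_ne_zero (mul_ne_zero hx hy) hS.two

theorem mem_lstR {n : ℕ} (v : Fin n → Fin a → F) (ys : List (Fin b → F)) (x : Fin a × Fin b → F) :
    x ∈ lstR v ys ↔ ∃ y ∈ ys, ∃ i, x = pur (v i) y := by
  unfold lstR
  rw [List.mem_flatMap]
  constructor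
  · rintro ⟨y, hy, hx⟩
    rw [List.mem_ofFn] at hx
    obtain ⟨i, hi⟩ := hx
    exact ⟨y, hy, i, hi.symm⟩
  · rintro ⟨y, hy, i, hi⟩
    refine ⟨y, hy, ?_⟩
    rw [List.mem_ofFn]
    exact ⟨i, hi.symm⟩

theorem lstR_map_prod_cons {n : ℕ} (v : Fin n → Fin a → F) (y : Fin b → F) (ys : List (Fin b → F))
    (f : (Fin a × Fin b → F) → F) :
    ((lstR v (y :: ys)).map f).prod = (∏ i, f (pur (v i) y)) * ((lstR v ys).map f).prod := by
  rw [lstR_cons, List.map_append, List.prod_append, List.map_ofFn, List.prod_ofFn]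
  rfl

/-- a product of reflections along anisotropic vectors is an isometry -/
theorem exists_iso_list (vs : List (Fin a × Fin b → F)) (hvs : ∀ v ∈ vs, Q v ≠ 0) :
    ∃ g : ↥(Cfsg.isometryGroup F ⇑Q), ((g.1 : GL (Fin a × Fin b) F) : Matrix (Fin a × Fin b) (Fin a × Fin b) F) =
      (vs.map (fun v => Cfsg.reflectionMatrix ⇑Q v)).prod := by
  induction vs with
  | nil => exact ⟨1, by simp⟩
  | cons v vs ih =>
    obtain ⟨g, hg⟩ := ih (fun z hz => hvs z (List.mem_cons_of_mem _ hz))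
    refine ⟨Cfsg.Agent.Lib.Helper6.reflIso Q v (hvs v List.mem_cons_self) * g, ?_⟩
    rw [List.map_cons, List.prod_cons, ← hg]
    rfl

/-- the spinor norm criterion, in the vocabulary of the `O ⊗ O` setup -/
theorem mem_omegaGL_of_list [Fintype F] (hS : SetupO J1 J2 Q) (hab : 2 ≤ a * b) (n : GL (Fin a × Fin b) F)
    (vs : List (Fin a × Fin b → F)) (hvs : ∀ v ∈ vs, Q v ≠ 0)
    (hn : (n : Matrix (Fin a × Fin b) (Fin a × Fin b) F) = (vs.map (rfM (J1 ⊗ₖ J2))).prod)
    (hev : Even vs.length) (hsq : IsSquare (vs.map (fun v => Q v)).prod) :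
    n ∈ Cfsg.Geo.omegaGL (⇑Q) := by
  obtain ⟨g, hg⟩ := exists_iso_list (Q := Q) vs hvs
  have hS' : Cfsg.Agent.Lib.Helper3.OTT.SetupO J1 J2 Q :=
    ⟨⟨hS.h1.symm, hS.h1.nondeg⟩, ⟨hS.h2.symm, hS.h2.nondeg⟩, hS.polar, hS.two⟩
  have hcardF : Fintype.card F ≠ 2 := by
    intro hc
    apply hS.two
    have := Nat.cast_card_eq_zero F
    rw [hc] at this
    exact_mod_cast this
  have hcard : 2 ≤ Fintype.card (Fin a × Fin b) := by
    rw [Fintype.card_prod, Fintype.card_fin, Fintype.card_fin]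
    exact hab
  have hmem := (Cfsg.Agent.Lib.Helper6.mem_Omega_iff_list_all' Q hS'.nondeg hcard (Or.inl hcardF) g vs hvs hg).mpr
    ⟨hev, fun _ => hsq⟩
  rw [Cfsg.Agent.Lib.Helper13.mem_omegaGL_iff]
  refine ⟨g, hmem, ?_⟩
  apply Units.ext
  rw [hg, hn]
  congr 1
  apply List.map_congr_left
  intro v _
  exact refl_eq_rfM hS v

/-- in a finite field of odd characteristic the product of two non-squares is a square -/
theorem isSquare_mul_of_not [Fintype F] {x t : F} (hx : ¬ IsSquare x) (ht : ¬ IsSquare t) : IsSquare (x * t) := by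
  classical
  have hx0 : x ≠ 0 := by
    rintro rfl
    exact hx (IsSquare.zero)
  have ht0 : t ≠ 0 := by
    rintro rfl
    exact ht (IsSquare.zero)
  rw [← quadraticChar_one_iff_isSquare (mul_ne_zero hx0 ht0), map_mul, quadraticChar_neg_one_iff_not_isSquare.mpr hx,
    quadraticChar_neg_one_iff_not_isSquare.mpr ht]
  norm_num

end main

/-! ### availability of `r_u ⊗ B` in `N0 ⊓ Ω` -/

section avail
variable {F : Type*} [Field F] [Fintype F] {a b : ℕ}
variable {J1 : Matrix (Fin a) (Fin a) F} {J2 : Matrix (Fin b) (Fin b) F}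
variable {Q : QuadraticForm F (Fin a × Fin b → F)}
variable {k1 k2 : Fin b → F}

theorem core (hS : SetupO J1 J2 Q) (hao : Odd a) (hab : 2 ≤ a * b) (h : Ts2 J2 k1 k2) (u : Fin a → F)
    (hu : bf J1 u u ≠ 0) {nW : ℕ} (w : Basis (Fin nW) F (Fin b → F))
    (hwo : ∀ i j, i ≠ j → bf J2 (w i) (w j) = 0) (hwn : ∀ i, bf J2 (w i) (w i) ≠ 0)
    (ys0 : List (Fin b → F)) (hys0 : ∀ y ∈ ys0, bf J2 y y ≠ 0) (hev : Even (nW + a * ys0.length))
    (c0 : F) (hc0 : c0 ≠ 0) (hk1 : (ys0.map (rfM J2)).prod *ᵥ k1 = c0 • k1)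
    (hk2 : (ys0.map (rfM J2)).prod *ᵥ k2 = c0 • k2) :
    ∃ (B : GL (Fin b) F) (c1 c2 : F), B ∈ IsoG J2 ∧ c1 ≠ 0 ∧ c2 ≠ 0 ∧
      (B : Matrix (Fin b) (Fin b) F) *ᵥ k1 = c1 • k1 ∧ (B : Matrix (Fin b) (Fin b) F) *ᵥ k2 = c2 • k2 ∧
      Kone (b := b) (rfGL hS.h1 hS.two u hu) * oneK (a := a) B ∈ Cfsg.Geo.omegaGL (⇑Q) := by
  obtain ⟨v, hvo, hvn⟩ := Cfsg.Agent.Lib.Helper2.OTSkewProd.exists_orth_basis hS.h1 hS.two
  have hnU : finrank F (Fin a → F) = a := by rw [Module.finrank_fintype_fun_eq_card, Fintype.card_fin]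
  have key : ∀ (ys : List (Fin b → F)) (hys : ∀ y ∈ ys, bf J2 y y ≠ 0) (B : GL (Fin b) F)
      (hBv : (B : Matrix (Fin b) (Fin b) F) = (ys.map (rfM J2)).prod), Even (nW + a * ys.length) →
      IsSquare (((List.ofFn (fun j => pur u (w j)) ++ lstR (fun i => v i) ys).map (fun x => Q x)).prod) →
      Kone (b := b) (rfGL hS.h1 hS.two u hu) * oneK (a := a) B ∈ Cfsg.Geo.omegaGL (⇑Q) := by
    intro ys hys B hBv hev' hsq
    apply mem_omegaGL_of_list hS hab _ (List.ofFn (fun j => pur u (w j)) ++ lstR (fun i => v i) ys)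
    · intro x hx
      rw [List.mem_append] at hx
      rcases hx with hx | hx
      · rw [List.mem_ofFn] at hx
        obtain ⟨j, rfl⟩ := hx
        exact Q_pur_ne_zero hS _ _ hu (hwn j)
      · rw [mem_lstR] at hx
        obtain ⟨y, hy, i, rfl⟩ := hx
        exact Q_pur_ne_zero hS _ _ (hvn i) (hys y hy)
    · rw [Units.val_mul, Kone_val, oneK_val, rfGL_val, List.map_append, List.prod_append, prod_left w hwo hwn u,
        prod_right_list v hvo hvn ys, hBv]
    · rw [List.length_append, List.length_ofFn, lstR_length, hnU]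
      exact hev'
    · exact hsq
  by_cases hsq : IsSquare (((List.ofFn (fun j => pur u (w j)) ++ lstR (fun i => v i) ys0).map (fun x => Q x)).prod)
  · obtain ⟨B, hB, hBv⟩ := exists_GL_list hS.h2 hS.two ys0 hys0
    exact ⟨B, c0, c0, hB, hc0, hc0, by rw [hBv]; exact hk1, by rw [hBv]; exact hk2, key ys0 hys0 B hBv hev hsq⟩
  · obtain ⟨l1, l2, h1l1, h2l1, hl1l1, -, -, -, -⟩ := Cfsg.Agent.Lib.Helper20.OTTorus.exists_frame hS.h2 hS.two h
    have hchar : ringChar F ≠ 2 := by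
      intro hc
      apply hS.two
      have := ringChar.Nat.cast_ringChar (R := F)
      rw [hc] at this
      exact_mod_cast this
    obtain ⟨t, ht⟩ := FiniteField.exists_nonsquare (F := F) hchar
    have ht0 : t ≠ 0 := by
      rintro rfl
      exact ht IsSquare.zero
    have hl1k1 : bf J2 l1 k1 = 1 := by rw [hS.h2.symm, h1l1]
    have hl1k2 : bf J2 l1 k2 = 0 := by rw [hS.h2.symm, h2l1]
    have hk2k1 : bf J2 k2 k1 = 0 := by rw [hS.h2.symm, h.h12]
    have hy1 : bf J2 (k1 - l1) (k1 - l1) = -2 := by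
      simp only [bf_sub_left, bf_sub_right, h.h11, h1l1, hl1k1, hl1l1]
      ring
    have hy2 : bf J2 (k1 - t • l1) (k1 - t • l1) = -2 * t := by
      simp only [bf_sub_left, bf_sub_right, bf_smul_left, bf_smul_right, h.h11, h1l1, hl1k1, hl1l1]
      ring
    have hy1n : bf J2 (k1 - l1) (k1 - l1) ≠ 0 := by
      rw [hy1]
      exact neg_ne_zero.mpr hS.two
    have hy2n : bf J2 (k1 - t • l1) (k1 - t • l1) ≠ 0 := by
      rw [hy2]
      exact mul_ne_zero (neg_ne_zero.mpr hS.two) ht0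
    have hys : ∀ y ∈ ys0 ++ [k1 - l1, k1 - t • l1], bf J2 y y ≠ 0 := by
      intro y hy
      rw [List.mem_append] at hy
      rcases hy with hy | hy
      · exact hys0 y hy
      · rw [List.mem_cons, List.mem_singleton] at hy
        rcases hy with rfl | rfl
        · exact hy1n
        · exact hy2n
    obtain ⟨B, hB, hBv⟩ := exists_GL_list hS.h2 hS.two _ hys
    have hprod : ((ys0 ++ [k1 - l1, k1 - t • l1]).map (rfM J2)).prod =
        (ys0.map (rfM J2)).prod * (rfM J2 (k1 - l1) * rfM J2 (k1 - t • l1)) := by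
      rw [List.map_append, List.prod_append, List.map_cons, List.prod_cons, List.map_cons, List.prod_cons,
        List.map_nil, List.prod_nil, mul_one]
    -- the action on `k1`
    have e1 : rfM J2 (k1 - t • l1) *ᵥ k1 = t • l1 := by
      rw [rfM_mulVec, hy2, bf_sub_right, bf_smul_right, h.h11, h1l1]
      have : 2 / (-2 * t) * (0 - t * 1) = 1 := by
        have h2 := hS.two
        field_simp
        ring
      rw [this, one_smul]
      abel
    have e2 : rfM J2 (k1 - l1) *ᵥ l1 = k1 := by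
      rw [rfM_mulVec, hy1, bf_sub_right, hl1k1, hl1l1]
      have : 2 / (-2 : F) * (1 - 0) = -1 := by
        have h2 := hS.two
        field_simp
        ring
      rw [this, neg_one_smul]
      abel
    have e3 : rfM J2 (k1 - t • l1) *ᵥ k2 = k2 := by
      have e0 : bf J2 k2 (k1 - t • l1) = 0 := by
        rw [bf_sub_right, bf_smul_right, hk2k1, h2l1, mul_zero, sub_zero]
      rw [rfM_mulVec, e0, mul_zero, zero_smul, sub_zero]
    have e4 : rfM J2 (k1 - l1) *ᵥ k2 = k2 := by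
      have e0 : bf J2 k2 (k1 - l1) = 0 := by
        rw [bf_sub_right, hk2k1, h2l1, sub_zero]
      rw [rfM_mulVec, e0, mul_zero, zero_smul, sub_zero]
    have hBk1 : (B : Matrix (Fin b) (Fin b) F) *ᵥ k1 = (t * c0) • k1 := by
      rw [hBv, hprod, ← Matrix.mulVec_mulVec, ← Matrix.mulVec_mulVec, e1, Matrix.mulVec_smul, e2, Matrix.mulVec_smul, hk1,
        smul_smul]
    have hBk2 : (B : Matrix (Fin b) (Fin b) F) *ᵥ k2 = c0 • k2 := by
      rw [hBv, hprod, ← Matrix.mulVec_mulVec, ← Matrix.mulVec_mulVec, e3, e4, hk2]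
    refine ⟨B, t * c0, c0, hB, mul_ne_zero ht0 hc0, hc0, hBk1, hBk2, key _ hys B hBv ?_ ?_⟩
    · rw [List.length_append, List.length_cons, List.length_singleton]
      have : nW + a * (ys0.length + (1 + 1)) = (nW + a * ys0.length) + 2 * a := by ring
      rw [this]
      exact hev.add (even_two_mul a)
    · obtain ⟨m, hm⟩ := hao
      have hQ1 : ∀ i, Q (pur (v i) (k1 - l1)) * Q (pur (v i) (k1 - t • l1)) =
          t * (bf J1 (v i) (v i)) ^ 2 := by
        intro i
        rw [Q_pur hS, Q_pur hS, hy1, hy2]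
        have h2 := hS.two
        field_simp
      have e5 : ((List.ofFn (fun j => pur u (w j)) ++ lstR (fun i => v i) (ys0 ++ [k1 - l1, k1 - t • l1])).map
          (fun x => Q x)).prod =
          ((List.ofFn (fun j => pur u (w j)) ++ lstR (fun i => v i) ys0).map (fun x => Q x)).prod *
            (t * (t ^ m * ∏ i, bf J1 (v i) (v i)) ^ 2) := by
        rw [lstR_append, ← List.append_assoc, List.map_append, List.prod_append, lstR_map_prod_cons,
          lstR_map_prod_cons, lstR_nil, List.map_nil, List.prod_nil, mul_one, ← Finset.prod_mul_distrib]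
        congr 1
        have hpow : t ^ (finrank F (Fin a → F)) = t * (t ^ m) ^ 2 := by
          rw [hnU, hm]
          ring
        rw [Finset.prod_congr rfl (fun i _ => hQ1 i), Finset.prod_mul_distrib, Finset.prod_const, Finset.prod_pow,
          Finset.card_univ, Fintype.card_fin, hpow]
        ring
      rw [e5]
      obtain ⟨r, hr⟩ := isSquare_mul_of_not hsq ht
      refine ⟨r * (t ^ m * ∏ i, bf J1 (v i) (v i)), ?_⟩
      linear_combination ((t ^ m * ∏ i, bf J1 (v i) (v i)) ^ 2) * hr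

/-- **REFL-AVAIL** : for anisotropic `u ∈ U` (`a = dim U` odd) there is an isometry `B` of `W` scaling `k₁` and `k₂` with
`r_u ⊗ B ∈ Ω(V)` -/
theorem exists_reflK (hS : SetupO J1 J2 Q) (hao : Odd a) (hb : 5 ≤ b) (h : Ts2 J2 k1 k2) (u : Fin a → F)
    (hu : bf J1 u u ≠ 0) :
    ∃ (B : GL (Fin b) F) (c1 c2 : F), B ∈ IsoG J2 ∧ c1 ≠ 0 ∧ c2 ≠ 0 ∧
      (B : Matrix (Fin b) (Fin b) F) *ᵥ k1 = c1 • k1 ∧ (B : Matrix (Fin b) (Fin b) F) *ᵥ k2 = c2 • k2 ∧
      Kone (b := b) (rfGL hS.h1 hS.two u hu) * oneK (a := a) B ∈ Cfsg.Geo.omegaGL (⇑Q) := by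
  obtain ⟨w, hwo, hwn⟩ := Cfsg.Agent.Lib.Helper2.OTSkewProd.exists_orth_basis hS.h2 hS.two
  have hnW : finrank F (Fin b → F) = b := by rw [Module.finrank_fintype_fun_eq_card, Fintype.card_fin]
  have hab : 2 ≤ a * b := by
    obtain ⟨m, rfl⟩ := hao
    nlinarith
  rcases Nat.even_or_odd b with hbe | hbo
  · refine core hS hao hab h u hu w hwo hwn [] (by simp) ?_ 1 one_ne_zero ?_ ?_
    · rw [List.length_nil, mul_zero, add_zero, hnW]
      exact hbe
    · rw [List.map_nil, List.prod_nil, Matrix.one_mulVec, one_smul]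
    · rw [List.map_nil, List.prod_nil, Matrix.one_mulVec, one_smul]
  · refine core hS hao hab h u hu w hwo hwn (List.ofFn (fun j => w j)) ?_ ?_ (-1) (neg_ne_zero.mpr one_ne_zero) ?_ ?_
    · intro y hy
      rw [List.mem_ofFn] at hy
      obtain ⟨j, rfl⟩ := hy
      exact hwn j
    · rw [List.length_ofFn, hnW]
      have : b + a * b = (a + 1) * b := by ring
      rw [this]
      exact (hao.add_one).mul_right b
    · rw [prod_rfM_basis w hwo hwn, Matrix.neg_mulVec, Matrix.one_mulVec, neg_one_smul]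
    · rw [prod_rfM_basis w hwo hwn, Matrix.neg_mulVec, Matrix.one_mulVec, neg_one_smul]

end avail

end Cfsg.Agent.Lib.Helper3.OTRefl
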