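import Mathlib

/-!
# Order 4680, part A: an element of order 39 forbids subgroups of small index (helper3)

If `g` (order 13) and `x` (order 3) commute in a simple group of order 4680, then no subgroup of
order `> 120` and prime to 13 exists: `x` would lie in each of its conjugates.
-/

set_option autoImplicit false
set_option linter.unusedSectionVars false

namespace Cfsg.Agent.Lib.Helper3.Ord4680

variable {G : Type*} [Group G] [Finite G]

/-- `x` lies in every subgroup of order `> 120` prime to 13. -/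
theorem mem_of_big (hn : Nat.card G = 4680)
    (g x : G) (hg : orderOf g = 13) (hx : orderOf x = 3) (hgx : Commute g x)
    (H : Subgroup G) (h13 : ¬ 13 ∣ Nat.card H) (hbig : 120 < Nat.card H) : x ∈ H := by
  set z : G := g * x with hz
  have hzo : orderOf z = 39 := by
    rw [hz, hgx.orderOf_mul_eq_mul_orderOf_of_coprime (by rw [hg, hx]; norm_num), hg, hx]
  have hzc : Nat.card (Subgroup.zpowers z) = 39 := by rw [Nat.card_zpowers, hzo]
  have hidx : H.index < 39 := by
    have h1 := Subgroup.card_mul_index H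
    rw [hn] at h1
    by_contra hcon
    push Not at hcon
    have : 121 * 39 ≤ Nat.card H * H.index := Nat.mul_le_mul hbig hcon
    omega
  have hz13 : z ^ 13 = x := by
    have hg13 : g ^ 13 = 1 := by rw [← hg]; exact pow_orderOf_eq_one g
    have hx3' : x ^ 3 = 1 := by rw [← hx]; exact pow_orderOf_eq_one x
    rw [hz, hgx.mul_pow, hg13, one_mul]
    have : x ^ 13 = x ^ (3 * 4 + 1) := by norm_num
    rw [this, pow_add, pow_mul, hx3', one_pow, one_mul, pow_one]
  have hx3 : x ^ 3 = 1 := by rw [← hx]; exact pow_orderOf_eq_one x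
  let f : Subgroup.zpowers z → G ⧸ H := fun w => ((w : G) : G ⧸ H)
  have hcardlt : Nat.card (G ⧸ H) < Nat.card (Subgroup.zpowers z) := by
    rw [hzc, ← Subgroup.index_eq_card]; exact hidx
  have hninj : ¬ Function.Injective f := fun hinj =>
    absurd (Nat.card_le_card_of_injective f hinj) (by omega)
  unfold Function.Injective at hninj
  push Not at hninj
  obtain ⟨w1, w2, heq, hne⟩ := hninj
  have hwH : (w1 : G)⁻¹ * (w2 : G) ∈ H := QuotientGroup.eq.mp heq
  set w : G := (w1 : G)⁻¹ * (w2 : G) with hw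
  have hw1 : w ≠ 1 := by
    intro h
    apply hne
    apply Subtype.ext
    have : (w1 : G) * w = (w1 : G) := by rw [h, mul_one]
    rw [hw, mul_inv_cancel_left] at this
    exact this.symm
  have hwz : w ∈ Subgroup.zpowers z :=
    (Subgroup.zpowers z).mul_mem ((Subgroup.zpowers z).inv_mem w1.2) w2.2
  obtain ⟨j, hj⟩ := Subgroup.mem_zpowers_iff.mp hwz
  have hw39 : w ^ 39 = 1 := by
    rw [← hj, ← zpow_natCast, ← zpow_mul, mul_comm, zpow_mul, zpow_natCast, ← hzo,
      pow_orderOf_eq_one, one_zpow]
  have ho39 : orderOf w ∣ 39 := orderOf_dvd_of_pow_eq_one hw39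
  have hoH : orderOf w ∣ Nat.card H := Subgroup.orderOf_dvd_natCard H hwH
  have ho3 : orderOf w ∣ 3 := by
    have hcop : Nat.Coprime (orderOf w) 13 := by
      rw [Nat.coprime_comm, Nat.Prime.coprime_iff_not_dvd (by norm_num)]
      intro h
      exact h13 (h.trans hoH)
    have : orderOf w ∣ 13 * 3 := by norm_num; exact ho39
    exact hcop.dvd_of_dvd_mul_left this
  have hw3 : w ^ 3 = 1 := orderOf_dvd_iff_pow_eq_one.mp ho3
  have hz3j : z ^ (j * 3) = 1 := by
    rw [zpow_mul, hj]
    exact_mod_cast hw3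
  have hdvd : (39 : ℤ) ∣ j * 3 := by
    have := orderOf_dvd_iff_zpow_eq_one.mpr hz3j
    rwa [hzo] at this
  have h13j : (13 : ℤ) ∣ j := by omega
  obtain ⟨i, hi⟩ := h13j
  have hwx : w = x ^ i := by
    rw [← hj, hi, zpow_mul]
    have : z ^ (13 : ℤ) = x := by exact_mod_cast hz13
    rw [this]
  have hmod : x ^ (i % 3) = x ^ i := by
    have := zpow_mod_orderOf x i
    rwa [hx] at this
  have hcases : i % 3 = 0 ∨ i % 3 = 1 ∨ i % 3 = 2 := by omega
  rcases hcases with h | h | h
  · rw [h, zpow_zero] at hmod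
    exact absurd (hwx.trans hmod.symm) hw1
  · rw [h, zpow_one] at hmod
    rw [hmod, ← hwx]
    exact hwH
  · have h2 : w = x ^ 2 := by
      rw [hwx, ← hmod, h]; exact_mod_cast rfl
    have : x = w ^ 2 := by
      rw [h2, ← pow_mul]
      have : x ^ (2 * 2) = x ^ 3 * x := by rw [← pow_succ]
      rw [this, hx3, one_mul]
    rw [this]
    exact H.pow_mem hwH 2

/-- No subgroup of order `> 120` prime to 13. -/
theorem big_absurd [IsSimpleGroup G] (hn : Nat.card G = 4680)
    (g x : G) (hg : orderOf g = 13) (hx : orderOf x = 3) (hgx : Commute g x)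
    (H : Subgroup G) (h13 : ¬ 13 ∣ Nat.card H) (hbig : 120 < Nat.card H) : False := by
  have hxcore : x ∈ H.normalCore := by
    rw [Subgroup.normalCore]
    intro a
    have hg' : orderOf (a * g * a⁻¹) = 13 := by
      have hs : SemiconjBy a g (a * g * a⁻¹) := by
        unfold SemiconjBy; group
      rw [← hs.orderOf_eq, hg]
    have hx' : orderOf (a * x * a⁻¹) = 3 := by
      have hs : SemiconjBy a x (a * x * a⁻¹) := by
        unfold SemiconjBy; group
      rw [← hs.orderOf_eq, hx]
    have hc' : Commute (a * g * a⁻¹) (a * x * a⁻¹) := by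
      have h1 : g * x = x * g := hgx
      show (a * g * a⁻¹) * (a * x * a⁻¹) = (a * x * a⁻¹) * (a * g * a⁻¹)
      calc (a * g * a⁻¹) * (a * x * a⁻¹) = a * (g * x) * a⁻¹ := by group
        _ = a * (x * g) * a⁻¹ := by rw [h1]
        _ = _ := by group
    exact mem_of_big hn (a * g * a⁻¹) (a * x * a⁻¹) hg' hx' hc' H h13 hbig
  rcases (Subgroup.normalCore_normal H).eq_bot_or_eq_top with hb | ht
  · rw [hb, Subgroup.mem_bot] at hxcore
    rw [hxcore, orderOf_one] at hx
    omega
  · have hH : H = ⊤ := top_le_iff.mp (ht ▸ Subgroup.normalCore_le H)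
    rw [hH, Subgroup.card_top, hn] at h13
    exact h13 (by norm_num)

end Cfsg.Agent.Lib.Helper3.Ord4680
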