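import Mathlib
import Cfsg.Agent.H5.SylowTupleS
import Cfsg.Agent.Lib.Helper18.Ord45
import Cfsg.Agent.Lib.Helper18.Ord3960
import Cfsg.Agent.Lib.Helper3.Ord4680A

/-!
# No non-abelian simple group of order 4680 (helper3, for S0983)

`n₁₃ = 40`, `|C(P₁₃)| = 39`: an element of order 39 forbids subgroups of order 180 and 360.
This kills `n₅ = 26`; `n₅ = 36` dies by adjacency, so `n₅ = 156`, `|C(P₅)| = 15`.  For `y` of
order 3 in `C(P₅)`, `|C(y)| = 45 k` with `k ∣ 8` (`13 ∣ |C(y)|` gives index `≤ 8`); orders 180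
and 360 are forbidden and in a group of order 45 or 90 a Sylow 3-subgroup centralizes `P₅`.
-/

set_option autoImplicit false
set_option linter.unusedSectionVars false
set_option maxRecDepth 100000

namespace Cfsg.Agent.Lib.Helper3.Ord4680

open scoped Nat
open Cfsg.H5.SmallOrd Cfsg.H5.SylowTuple

variable {G : Type*} [Group G] [Finite G]

theorem no_4680 [IsSimpleGroup G] (hG : ¬ IsMulCommutative G) : Nat.card G ≠ 4680 := by
  intro hn
  classical
  haveI h13 : Fact (Nat.Prime 13) := ⟨by norm_num⟩
  haveI h5 : Fact (Nat.Prime 5) := ⟨by norm_num⟩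
  haveI h3 : Fact (Nat.Prime 3) := ⟨by norm_num⟩
  have hcenter := Cfsg.Agent.Lib.Helper18.Ord3960.center_eq_bot hG
  -- Sylow data at 13
  obtain ⟨t13, ht13, hp13, hsd13⟩ :=
    exists_mem_triples hG 4680 13 hn (by norm_num) (by norm_num) (by norm_num) (by norm_num)
  have htr13 : triples 4680 13 = [(40, 3, 3)] := by decide +kernel
  rw [htr13, List.mem_singleton] at ht13
  subst ht13
  have hsd : IsSD G 13 40 3 3 := hsd13
  obtain ⟨P13⟩ : Nonempty (Sylow 13 G) := inferInstance
  have hP13c : Nat.card (P13 : Subgroup G) = 13 := hsd.card_P P13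
  have hC13 : Nat.card (Subgroup.centralizer ((P13 : Subgroup G) : Set G)) = 13 * 3 :=
    hsd.card_C P13
  obtain ⟨g0, hg0⟩ := exists_prime_orderOf_dvd_card' (G := (P13 : Subgroup G)) 13
    (by rw [hP13c])
  obtain ⟨x0, hx0⟩ := exists_prime_orderOf_dvd_card'
    (G := Subgroup.centralizer ((P13 : Subgroup G) : Set G)) 3 (by rw [hC13]; norm_num)
  set g : G := (g0 : G) with hgdef
  set x : G := (x0 : G) with hxdef
  have hg : orderOf g = 13 := by rw [hgdef, Subgroup.orderOf_coe]; exact hg0
  have hx : orderOf x = 3 := by rw [hxdef, Subgroup.orderOf_coe]; exact hx0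
  have hgx : Commute g x := (Subgroup.mem_centralizer_iff.mp x0.2) g g0.2
  have big := fun (H : Subgroup G) => big_absurd hn g x hg hx hgx H
  -- Sylow data at 5
  obtain ⟨t5, ht5, hp5, hsd5⟩ :=
    exists_mem_triples hG 4680 5 hn (by norm_num) (by norm_num) (by norm_num) (by norm_num)
  have htr5 : triples 4680 5 = [(26, 2, 18), (26, 4, 9), (36, 2, 13), (156, 2, 3)] := by
    decide +kernel
  rw [htr5] at ht5
  obtain ⟨P5⟩ : Nonempty (Sylow 5 G) := inferInstance
  simp only [List.mem_cons, List.not_mem_nil, or_false] at ht5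
  rcases ht5 with rfl | rfl | rfl | rfl
  · have hsd' : IsSD G 5 26 2 18 := hsd5
    refine big (Subgroup.normalizer ((P5 : Subgroup G) : Set G)) ?_ ?_ <;>
      rw [hsd'.card_N P5] <;> norm_num
  · have hsd' : IsSD G 5 26 4 9 := hsd5
    refine big (Subgroup.normalizer ((P5 : Subgroup G) : Set G)) ?_ ?_ <;>
      rw [hsd'.card_N P5] <;> norm_num
  · have hsd' : IsSD G 5 36 2 13 := hsd5
    have := hsd'.adj hsd (by norm_num) (dvd_refl 13)
    omega
  have hsd' : IsSD G 5 156 2 3 := hsd5
  have hP5c : Nat.card (P5 : Subgroup G) = 5 := hsd'.card_P P5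
  have hC5 : Nat.card (Subgroup.centralizer ((P5 : Subgroup G) : Set G)) = 5 * 3 :=
    hsd'.card_C P5
  obtain ⟨f0, hf0⟩ := exists_prime_orderOf_dvd_card' (G := (P5 : Subgroup G)) 5
    (by rw [hP5c])
  obtain ⟨y0, hy0⟩ := exists_prime_orderOf_dvd_card'
    (G := Subgroup.centralizer ((P5 : Subgroup G) : Set G)) 3 (by rw [hC5]; norm_num)
  set f : G := (f0 : G) with hfdef
  set y : G := (y0 : G) with hydef
  have hf : orderOf f = 5 := by rw [hfdef, Subgroup.orderOf_coe]; exact hf0
  have hy : orderOf y = 3 := by rw [hydef, Subgroup.orderOf_coe]; exact hy0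
  have hfy : f * y = y * f := (Subgroup.mem_centralizer_iff.mp y0.2) f f0.2
  have hy1 : y ≠ 1 := by
    intro h
    rw [h, orderOf_one] at hy
    omega
  -- the centralizer of y
  set K : Subgroup G := Subgroup.centralizer ({y} : Set G) with hKdef
  have hmemK : ∀ a : G, a ∈ K ↔ y * a = a * y := by
    intro a
    rw [hKdef, Subgroup.mem_centralizer_iff]
    constructor
    · intro h; exact h y rfl
    · intro h b hb
      rw [Set.mem_singleton_iff] at hb
      rw [hb]; exact h
  have hfK : f ∈ K := (hmemK f).2 hfy.symm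
  have hKtop : K ≠ ⊤ := by
    intro hK
    have huc : y ∈ Subgroup.center G := by
      rw [Subgroup.mem_center_iff]
      intro a
      have : a ∈ K := by rw [hK]; trivial
      exact ((hmemK a).1 this).symm
    rw [hcenter, Subgroup.mem_bot] at huc
    exact hy1 huc
  -- a Sylow 3-subgroup containing y
  have hpg : IsPGroup 3 (Subgroup.zpowers y) :=
    IsPGroup.of_card (n := 1) (by rw [Nat.card_zpowers, hy, pow_one])
  obtain ⟨S, hS⟩ := hpg.exists_le_sylow
  have hSc : Nat.card (S : Subgroup G) = 3 ^ 2 :=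
    sylow_card 3 2 520 (by norm_num) (by rw [hn]; norm_num) S
  have hyS : y ∈ (S : Subgroup G) := hS (Subgroup.mem_zpowers y)
  have hScomm : ∀ a b : (S : Subgroup G), a * b = b * a :=
    (IsPGroup.isMulCommutative_of_card_eq_prime_sq (p := 3) hSc).is_comm.comm
  have hSK : (S : Subgroup G) ≤ K := by
    intro s hs
    rw [hmemK]
    exact congrArg Subtype.val (hScomm ⟨y, hyS⟩ ⟨s, hs⟩)
  have h9 : 9 ∣ Nat.card K := by
    have := Subgroup.card_dvd_of_le hSK
    rwa [hSc] at this
  have h5d : 5 ∣ Nat.card K := by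
    have := Subgroup.orderOf_dvd_natCard K hfK
    rwa [hf] at this
  have h45 : 45 ∣ Nat.card K :=
    (show (45 : ℕ) = 9 * 5 by norm_num) ▸
      Nat.Coprime.mul_dvd_of_dvd_of_dvd (by norm_num) h9 h5d
  have hKdvd : Nat.card K ∣ 4680 := by rw [← hn]; exact Subgroup.card_subgroup_dvd_card K
  have hKidx := Subgroup.card_mul_index K
  rw [hn] at hKidx
  have hfact := two_card_dvd_factorial_index hG K hKtop
  rw [hn] at hfact
  -- 13 does not divide |K|
  have h13K : ¬ 13 ∣ Nat.card K := by
    intro h13d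
    have h585 : 585 ∣ Nat.card K :=
      (show (585 : ℕ) = 45 * 13 by norm_num) ▸
        Nat.Coprime.mul_dvd_of_dvd_of_dvd (by norm_num) h45 h13d
    obtain ⟨m, hm⟩ := h585
    have hidx8 : K.index ≤ 8 := by
      rw [hm] at hKidx
      have : m * K.index = 8 := by
        have : 585 * (m * K.index) = 585 * 8 := by rw [← mul_assoc, hKidx]
        exact Nat.eq_of_mul_eq_mul_left (by norm_num) this
      have hpos : 0 < m := by
        rcases Nat.eq_zero_or_pos m with h | h
        · rw [h] at this; omega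
        · exact h
      calc K.index ≤ m * K.index := Nat.le_mul_of_pos_left _ hpos
        _ = 8 := this
    have h8 : (K.index)! ∣ 8 ! := Nat.factorial_dvd_factorial hidx8
    have : 2 * 4680 ∣ 8 ! := hfact.trans h8
    revert this
    decide
  -- the possible orders of K
  obtain ⟨m, hm⟩ := h45
  have hm8 : m ∣ 8 := by
    have h1 : m ∣ 104 := by
      have : 45 * m ∣ 45 * 104 := by rw [← hm]; exact hKdvd
      exact Nat.dvd_of_mul_dvd_mul_left (by norm_num) this
    have hcop : Nat.Coprime m 13 := by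
      rw [Nat.coprime_comm, Nat.Prime.coprime_iff_not_dvd (by norm_num)]
      intro h
      exact h13K (hm ▸ Dvd.dvd.mul_left h 45)
    exact hcop.dvd_of_dvd_mul_right (show m ∣ 8 * 13 by norm_num; exact h1)
  have hmle : m ≤ 8 := Nat.le_of_dvd (by norm_num) hm8
  have hmcases : m = 1 ∨ m = 2 ∨ m = 4 ∨ m = 8 := by
    interval_cases m <;> omega
  have hsmall : Nat.card K = 45 ∨ Nat.card K = 90 := by
    rcases hmcases with rfl | rfl | rfl | rfl
    · left; rw [hm]
    · right; rw [hm]
    · exact (big K h13K (by rw [hm]; norm_num)).elim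
    · exact (big K h13K (by rw [hm]; norm_num)).elim
  -- in K, f commutes with S
  have hcomm : ∀ s ∈ (S : Subgroup G), f * s = s * f := by
    intro s hs
    have hf5 : f ^ 5 = 1 := by rw [← hf]; exact pow_orderOf_eq_one f
    have hs9 : s ^ 9 = 1 := by
      have : orderOf s ∣ 9 := by
        have := Subgroup.orderOf_dvd_natCard (S : Subgroup G) hs
        rwa [hSc] at this
      exact orderOf_dvd_iff_pow_eq_one.mp this
    have := Cfsg.Agent.Lib.Helper18.Ord45.comm_of_card_45_or_90 (H := K) hsmall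
      ⟨f, hfK⟩ ⟨s, hSK hs⟩ (by apply Subtype.ext; simpa using hf5)
      (by apply Subtype.ext; simpa using hs9)
    exact congrArg Subtype.val this
  -- so S centralizes P5
  have hP5z : (P5 : Subgroup G) = Subgroup.zpowers f := by
    symm
    apply Subgroup.eq_of_le_of_card_ge
    · rw [Subgroup.zpowers_le]; exact f0.2
    · rw [Nat.card_zpowers, hf, hP5c]
  have hSC : (S : Subgroup G) ≤ Subgroup.centralizer ((P5 : Subgroup G) : Set G) := by
    intro s hs
    rw [Subgroup.mem_centralizer_iff]
    intro b hb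
    rw [SetLike.mem_coe, hP5z, Subgroup.mem_zpowers_iff] at hb
    obtain ⟨j, rfl⟩ := hb
    have : Commute f s := hcomm s hs
    exact (this.zpow_left j)
  have := Subgroup.card_dvd_of_le hSC
  rw [hSc, hC5] at this
  omega

end Cfsg.Agent.Lib.Helper3.Ord4680
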