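import Mathlib
import Cfsg.Agent.Lib.Helper3.Ord5040L36A

/-!
# Order 5040, the case `n₅ = 36`: `N(P₅) = N(P₇)` (helper3, for helper29's S0978)
-/

set_option autoImplicit false
set_option linter.unusedSectionVars false
set_option maxRecDepth 100000

namespace Cfsg.Agent.Lib.Helper3.Ord5040L36

open Cfsg.H5.SmallOrd Cfsg.H5.SylowTuple Cfsg.Agent.Lib.Helper29.Ord5040

variable {G : Type*} [Group G] [Finite G]

/-- a Sylow 5- and a Sylow 7-subgroup that commute and have the same normalizer -/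
theorem setup [Fact (Nat.Prime 5)] [Fact (Nat.Prime 7)] {e c : ℕ}
    (h5 : IsSD G 5 36 e c) (hec : (e = 2 ∧ c = 14) ∨ (e = 4 ∧ c = 7))
    (h7 : IsSD G 7 36 2 10) :
    ∃ (P5 : Sylow 5 G) (P7 : Sylow 7 G),
      (∀ a ∈ (P5 : Subgroup G), ∀ b ∈ (P7 : Subgroup G), a * b = b * a) ∧
      Subgroup.normalizer ((P5 : Subgroup G) : Set G) =
        Subgroup.normalizer ((P7 : Subgroup G) : Set G) := by
  obtain ⟨P5⟩ : Nonempty (Sylow 5 G) := inferInstance
  have hN5 : Nat.card (Subgroup.normalizer ((P5 : Subgroup G) : Set G)) = 140 := by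
    rw [h5.card_N P5]
    rcases hec with ⟨rfl, rfl⟩ | ⟨rfl, rfl⟩ <;> norm_num
  obtain ⟨c₁, hc, hc₁⟩ : ∃ c₁ : ℕ, c = 7 * c₁ ∧ (c₁ = 1 ∨ c₁ = 2) := by
    rcases hec with ⟨_, rfl⟩ | ⟨_, rfl⟩
    · exact ⟨2, by norm_num, Or.inr rfl⟩
    · exact ⟨1, by norm_num, Or.inl rfl⟩
  have hPH : (P5 : Subgroup G) ≤ Subgroup.centralizer ((P5 : Subgroup G) : Set G) := by
    have hcyc : IsCyclic (P5 : Subgroup G) := by
      have : Fact (Nat.card (P5 : Subgroup G)).Prime := ⟨by rw [h5.card_P P5]; norm_num⟩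
      exact isCyclic_of_prime_card rfl
    have hcomm : IsMulCommutative (P5 : Subgroup G) := IsCyclic.isMulCommutative
    exact Subgroup.le_centralizer (P5 : Subgroup G)
  have hcentral : ∀ x ∈ (P5 : Subgroup G),
      ∀ z ∈ Subgroup.centralizer ((P5 : Subgroup G) : Set G), x * z = z * x := by
    intro x hx z hz
    rw [Subgroup.mem_centralizer_iff] at hz
    exact hz x hx
  obtain ⟨Q', hQ'c, hQ'H, hQ'all⟩ := exists_unique_sylow_image (p := 5) (q := 7)
    (Subgroup.centralizer ((P5 : Subgroup G) : Set G)) (P5 : Subgroup G) hPH hcentral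
    (h5.card_P P5) c₁ (by rw [h5.card_C P5, hc])
    (by rcases hc₁ with rfl | rfl <;> norm_num) (by norm_num)
    (by
      intro j hj hj7
      have : j ≤ 2 := by
        rcases hc₁ with rfl | rfl
        · exact (Nat.le_of_dvd (by norm_num) hj).trans (by norm_num)
        · exact Nat.le_of_dvd (by norm_num) hj
      interval_cases j <;> omega)
  have hpgQ' : IsPGroup 7 Q' := IsPGroup.of_card (n := 1) (by rw [hQ'c, pow_one])
  obtain ⟨P7, hP7⟩ := hpgQ'.exists_le_sylow
  have hP7eq : Q' = (P7 : Subgroup G) :=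
    Subgroup.eq_of_le_of_card_ge hP7 (by rw [hQ'c, h7.card_P P7])
  refine ⟨P5, P7, ?_, ?_⟩
  · intro a ha b hb
    rw [← hP7eq] at hb
    exact hcentral a ha b (hQ'H hb)
  · -- `N(P5)` normalizes `Q'`
    have hconj : ∀ g ∈ Subgroup.normalizer ((P5 : Subgroup G) : Set G), ∀ x ∈ Q',
        g * x * g⁻¹ ∈ Q' := by
      intro g hg x hx
      apply hQ'all
      · exact Cfsg.Agent.Lib.Helper18.Ord3960.conj_mem_centralizer (P5 : Subgroup G) hg (hQ'H hx)
      · rw [conj_pow]
        have hxq : x ^ 7 = 1 := by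
          have : (⟨x, hx⟩ : Q') ^ Nat.card Q' = 1 := pow_card_eq_one'
          rw [hQ'c] at this
          have := congrArg Subtype.val this
          simpa using this
        rw [hxq, mul_one, mul_inv_cancel]
    have hNle : Subgroup.normalizer ((P5 : Subgroup G) : Set G) ≤
        Subgroup.normalizer ((P7 : Subgroup G) : Set G) := by
      intro g hg
      rw [Subgroup.mem_normalizer_iff, ← hP7eq]
      intro x
      constructor
      · exact hconj g hg x
      · intro hx
        have hg' : g⁻¹ ∈ Subgroup.normalizer ((P5 : Subgroup G) : Set G) :=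
          Subgroup.inv_mem _ hg
        have := hconj g⁻¹ hg' _ hx
        simpa [mul_assoc] using this
    apply Subgroup.eq_of_le_of_card_ge hNle
    rw [hN5, h7.card_N P7]

end Cfsg.Agent.Lib.Helper3.Ord5040L36
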