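import Mathlib
import Cfsg.Agent.Lib.Helper3.Ord5040L36B

/-!
# Order 5040, the case `n₅ = 36`: more common lemmas (helper3, for helper29's S0978)
-/

set_option autoImplicit false
set_option linter.unusedSectionVars false
set_option maxRecDepth 100000

namespace Cfsg.Agent.Lib.Helper3.Ord5040L36

open Cfsg.H5.SmallOrd Cfsg.H5.SylowTuple Cfsg.Agent.Lib.Helper29.Ord5040

variable {G : Type*} [Group G] [Finite G]

/-- an element commuting with a nontrivial element of a subgroup of prime order centralizes it -/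
theorem mem_centralizer_of_commute {p : ℕ} [hp : Fact p.Prime] (P : Subgroup G)
    (hP : Nat.card P = p) (t f : G) (hf : f ∈ P) (hf1 : f ≠ 1) (htf : t * f = f * t) :
    t ∈ Subgroup.centralizer (P : Set G) := by
  have hgen : ∀ b ∈ P, b ∈ Subgroup.zpowers f := by
    intro b hb
    have hwo : orderOf (⟨f, hf⟩ : P) = Nat.card P := by
      have hd : orderOf (⟨f, hf⟩ : P) ∣ Nat.card P := orderOf_dvd_natCard _
      rw [hP] at hd ⊢
      rcases (Nat.dvd_prime hp.out).mp hd with h | h
      · exfalso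
        rw [orderOf_eq_one_iff] at h
        exact hf1 (congrArg Subtype.val h)
      · exact h
    have h1 : (⟨b, hb⟩ : P) ∈ Subgroup.zpowers (⟨f, hf⟩ : P) := by
      have htop : Subgroup.zpowers (⟨f, hf⟩ : P) = ⊤ := by
        apply Subgroup.eq_top_of_card_eq
        rw [Nat.card_zpowers, hwo]
      rw [htop]; trivial
    rw [Subgroup.mem_zpowers_iff] at h1 ⊢
    obtain ⟨i, hi⟩ := h1
    refine ⟨i, ?_⟩
    have := congrArg Subtype.val hi
    simpa using this
  rw [Subgroup.mem_centralizer_iff]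
  intro b hb
  obtain ⟨i, rfl⟩ := Subgroup.mem_zpowers_iff.mp (hgen b hb)
  have hc : Commute t f := htf
  exact (hc.zpow_right i).symm

/-- the order of `K ⊓ N` when it contains a four-group, a subgroup of order `p` and no element of
order `q`, where `{p, q} = {5, 7}` and `|N| = 140` -/
theorem card_inf_eq (N K T P : Subgroup G) (hN : Nat.card N = 140) (p q : ℕ) [Fact q.Prime]
    (hpq : (p = 7 ∧ q = 5) ∨ (p = 5 ∧ q = 7))
    (hT : Nat.card T = 4) (hTK : T ≤ K ⊓ N) (hP : Nat.card P = p) (hPK : P ≤ K ⊓ N)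
    (hq : ∀ f ∈ K ⊓ N, orderOf f ≠ q) : Nat.card (K ⊓ N : Subgroup G) = 4 * p := by
  have h1 : Nat.card (K ⊓ N : Subgroup G) ∣ 140 := hN ▸ Subgroup.card_dvd_of_le inf_le_right
  have h2 : 4 ∣ Nat.card (K ⊓ N : Subgroup G) := hT ▸ Subgroup.card_dvd_of_le hTK
  have h3 : p ∣ Nat.card (K ⊓ N : Subgroup G) := hP ▸ Subgroup.card_dvd_of_le hPK
  have h4 : ¬ q ∣ Nat.card (K ⊓ N : Subgroup G) := by
    intro h
    obtain ⟨f, hf⟩ := exists_prime_orderOf_dvd_card' q h
    exact hq f f.2 (by rw [← hf, Subgroup.orderOf_coe])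
  have h5 : Nat.card (K ⊓ N : Subgroup G) ≤ 140 := Nat.le_of_dvd (by norm_num) h1
  generalize Nat.card (K ⊓ N : Subgroup G) = d at h1 h2 h3 h4 h5
  rcases hpq with ⟨rfl, rfl⟩ | ⟨rfl, rfl⟩
  · interval_cases d <;> omega
  · interval_cases d <;> omega

/-- two involutions whose product lies in a subgroup `C` of odd order are conjugate under `C` -/
theorem conj_of_mul_mem_odd (C : Subgroup G) (hC : Odd (Nat.card C)) (x t : G)
    (hx : x * x = 1) (ht : t * t = 1) (hw : x * t ∈ C) : ∃ v ∈ C, x = v * t * v⁻¹ := by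
  have htinv : t⁻¹ = t := inv_eq_of_mul_eq_one_right ht
  have hxinv : x⁻¹ = x := inv_eq_of_mul_eq_one_right hx
  have hodd : Odd (orderOf (x * t)) := by
    have hd : orderOf (x * t) ∣ Nat.card C := Subgroup.orderOf_dvd_natCard _ hw
    exact Odd.of_dvd_nat hC hd
  obtain ⟨k, hk⟩ := hodd
  refine ⟨(x * t) ^ (k + 1), C.pow_mem hw _, ?_⟩
  have hvv : (x * t) ^ (k + 1) * (x * t) ^ (k + 1) = x * t := by
    rw [← pow_add]
    have : k + 1 + (k + 1) = orderOf (x * t) + 1 := by omega
    rw [this, pow_succ, pow_orderOf_eq_one, one_mul]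
  have hinv : t * (x * t) * t⁻¹ = (x * t)⁻¹ := by
    rw [mul_inv_rev, htinv, hxinv]
    calc t * (x * t) * t = t * x * (t * t) := by group
      _ = t * x := by rw [ht, mul_one]
  have hinvv : t * (x * t) ^ (k + 1) * t⁻¹ = ((x * t) ^ (k + 1))⁻¹ := by
    rw [← conj_pow, hinv, inv_pow]
  have h2 : t * ((x * t) ^ (k + 1))⁻¹ = (x * t) ^ (k + 1) * t := by
    have h3 : ((x * t) ^ (k + 1))⁻¹ = t * (x * t) ^ (k + 1) * t⁻¹ := hinvv.symm
    rw [h3, htinv]
    calc t * (t * (x * t) ^ (k + 1) * t) = (t * t) * (x * t) ^ (k + 1) * t := by group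
      _ = (x * t) ^ (k + 1) * t := by rw [ht, one_mul]
  calc x = x * (t * t) := by rw [ht, mul_one]
    _ = (x * t) * t := by group
    _ = (x * t) ^ (k + 1) * (x * t) ^ (k + 1) * t := by rw [hvv]
    _ = (x * t) ^ (k + 1) * ((x * t) ^ (k + 1) * t) := by group
    _ = (x * t) ^ (k + 1) * (t * ((x * t) ^ (k + 1))⁻¹) := by rw [h2]
    _ = (x * t) ^ (k + 1) * t * ((x * t) ^ (k + 1))⁻¹ := by group

/-- a Sylow subgroup of prime order lies in its centralizer -/
theorem sylow_le_centralizer {p : ℕ} [hp : Fact p.Prime] (P : Sylow p G)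
    (hP : Nat.card (P : Subgroup G) = p) :
    (P : Subgroup G) ≤ Subgroup.centralizer ((P : Subgroup G) : Set G) := by
  have hcyc : IsCyclic (P : Subgroup G) := by
    have : Fact (Nat.card (P : Subgroup G)).Prime := ⟨by rw [hP]; exact hp.out⟩
    exact isCyclic_of_prime_card rfl
  have hcomm : IsMulCommutative (P : Subgroup G) := IsCyclic.isMulCommutative
  exact Subgroup.le_centralizer (P : Subgroup G)

/-- an element of a subgroup of odd order whose square is trivial is trivial -/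
theorem eq_one_of_sq_of_odd (C : Subgroup G) (hC : Odd (Nat.card C)) (x : G) (hx : x ∈ C)
    (hxx : x * x = 1) : x = 1 := by
  have h1 : orderOf x ∣ 2 := orderOf_dvd_of_pow_eq_one (by rw [pow_two, hxx])
  have h2 : orderOf x ∣ Nat.card C := Subgroup.orderOf_dvd_natCard _ hx
  have h3 : Odd (orderOf x) := Odd.of_dvd_nat hC h2
  have h4 : orderOf x = 1 := by
    rcases (Nat.dvd_prime Nat.prime_two).mp h1 with h | h
    · exact h
    · rw [h] at h3; exact absurd h3 (by decide)
  exact orderOf_eq_one_iff.mp h4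

end Cfsg.Agent.Lib.Helper3.Ord5040L36
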