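import Mathlib
import Cfsg.Agent.S4304
import Cfsg.Agent.Lib.Helper3.Ord5040L36C

/-!
# Order 5040, the case `n₅ = 36`, `|C(P₅)| = 35` (helper3, for helper29's S0978)
-/

set_option autoImplicit false
set_option linter.unusedSectionVars false
set_option maxRecDepth 100000

namespace Cfsg.Agent.Lib.Helper3.Ord5040L36

open Cfsg.H5.SmallOrd Cfsg.H5.SylowTuple Cfsg.Agent.Lib.Helper29.Ord5040

variable {G : Type*} [Group G] [Finite G]

/-- the case `e = 4`, `c = 7` -/
theorem case_A1 [IsSimpleGroup G] (hG : ¬ IsMulCommutative G) (hn : Nat.card G = 5040)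
    [Fact (Nat.Prime 5)] [Fact (Nat.Prime 7)] (h5 : IsSD G 5 36 4 7) (h7 : IsSD G 7 36 2 10)
    (P5 : Sylow 5 G) (P7 : Sylow 7 G)
    (hNeq : Subgroup.normalizer ((P5 : Subgroup G) : Set G) =
        Subgroup.normalizer ((P7 : Subgroup G) : Set G)) : False := by
  haveI : Fact (Nat.Prime 2) := ⟨by norm_num⟩
  obtain ⟨N, hNdef⟩ : ∃ N : Subgroup G, N = Subgroup.normalizer ((P5 : Subgroup G) : Set G) :=
    ⟨_, rfl⟩
  have hN7 : N = Subgroup.normalizer ((P7 : Subgroup G) : Set G) := hNdef.trans hNeq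
  have hN : Nat.card N = 140 := by rw [hNdef, h5.card_N P5]
  have hC5 : Nat.card (Subgroup.centralizer ((P5 : Subgroup G) : Set G)) = 35 := by
    rw [h5.card_C P5]
  have hC7 : Nat.card (Subgroup.centralizer ((P7 : Subgroup G) : Set G)) = 70 := by
    rw [h7.card_C P7]
  have hC5odd : Odd (Nat.card (Subgroup.centralizer ((P5 : Subgroup G) : Set G))) := by
    rw [hC5]; decide
  have hC5N : Subgroup.centralizer ((P5 : Subgroup G) : Set G) ≤ N := by
    rw [hNdef]; exact Subgroup.centralizer_le_normalizer _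
  have hC7N : Subgroup.centralizer ((P7 : Subgroup G) : Set G) ≤ N := by
    rw [hN7]; exact Subgroup.centralizer_le_normalizer _
  -- the involution `t` of `C(P7)`
  obtain ⟨t0, ht0⟩ := exists_prime_orderOf_dvd_card'
    (G := Subgroup.centralizer ((P7 : Subgroup G) : Set G)) 2 (by rw [hC7]; norm_num)
  obtain ⟨t, htdef⟩ : ∃ t : G, t = (t0 : G) := ⟨_, rfl⟩
  have ht : orderOf t = 2 := by rw [htdef, Subgroup.orderOf_coe]; exact ht0
  have htC7 : t ∈ Subgroup.centralizer ((P7 : Subgroup G) : Set G) := by rw [htdef]; exact t0.2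
  have htN : t ∈ N := hC7N htC7
  have htt : t * t = 1 := by rw [← pow_two, ← ht]; exact pow_orderOf_eq_one t
  have ht1 : t ≠ 1 := by
    intro h
    rw [h, orderOf_one] at ht
    omega
  have htC5 : t ∉ Subgroup.centralizer ((P5 : Subgroup G) : Set G) := fun h =>
    ht1 (eq_one_of_sq_of_odd _ hC5odd t h htt)
  have htP7 : ∀ b ∈ (P7 : Subgroup G), t * b = b * t := by
    intro b hb
    rw [Subgroup.mem_centralizer_iff] at htC7
    exact (htC7 b hb).symm
  -- the four-group
  obtain ⟨T, hTN, hT4, htT, hTc⟩ := exists_four N hN t htN ht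
  obtain ⟨K, hKdef⟩ : ∃ K : Subgroup G, K = Subgroup.centralizer ({t} : Set G) := ⟨_, rfl⟩
  have hmemK : ∀ g : G, g ∈ K ↔ t * g = g * t := by
    intro g; rw [hKdef]; exact mem_centralizer_singleton
  have hTK : T ≤ K ⊓ N := le_inf (fun x hx => (hmemK x).mpr (hTc x hx).symm) hTN
  have hP7K : (P7 : Subgroup G) ≤ K := fun b hb => (hmemK b).mpr (htP7 b hb)
  have hP7N : (P7 : Subgroup G) ≤ N := by rw [hN7]; exact Subgroup.le_normalizer
  have hP7KN : (P7 : Subgroup G) ≤ K ⊓ N := le_inf hP7K hP7N
  have hKN : Nat.card (K ⊓ N : Subgroup G) = 4 * 7 := by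
    apply card_inf_eq N K T (P7 : Subgroup G) hN 7 5 (Or.inl ⟨rfl, rfl⟩) hT4 hTK (h7.card_P P7)
      hP7KN
    intro f hf hfo
    have hfP : f ∈ (P5 : Subgroup G) :=
      mem_sylow_of_mem_normalizer P5 f hfo (by rw [← hNdef]; exact hf.2)
    have hf1 : f ≠ 1 := by
      intro h
      rw [h, orderOf_one] at hfo
      omega
    exact htC5 (mem_centralizer_of_commute (P5 : Subgroup G) (h5.card_P P5) t f hfP hf1
      ((hmemK f).mp hf.1))
  -- Sylow count in `K`
  have hT4' := card_eq_card_inf_normalizer_mul P7 K hP7K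
  rw [← hN7, hKN] at hT4'
  have hmod : Nat.card (Sylow 7 K) % 7 = 1 := by
    have := card_sylow_modEq_one 7 K
    unfold Nat.ModEq at this
    rw [this]
  have hKdvd : Nat.card K ∣ 5040 := hn ▸ Subgroup.card_subgroup_dvd_card K
  have h15 : Nat.card (Sylow 7 K) ≠ 15 := Cfsg.Agent.S4304.result
  have hKtop : Nat.card K = 1008 → False := by
    intro h
    have hne : K ≠ ⊤ := by
      intro htop
      rw [htop, Subgroup.card_top, hn] at h
      omega
    have h1 := index_gt_seven hG hn K hne
    have h2 := Subgroup.card_mul_index K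
    rw [h, hn] at h2
    omega
  have hone : Nat.card (Sylow 7 K) = 1 := by
    generalize Nat.card (Sylow 7 K) = n at hT4' hmod h15
    rw [hT4'] at hKdvd hKtop
    have hd : n ∣ 180 := by
      have : 4 * 7 * n ∣ 4 * 7 * 180 := hKdvd
      exact Nat.dvd_of_mul_dvd_mul_left (by norm_num) this
    have hle : n ≤ 180 := Nat.le_of_dvd (by norm_num) hd
    have h36 : n ≠ 36 := by
      intro h
      apply hKtop
      rw [h]
    interval_cases n <;> omega
  have hKN' : K ≤ N := by
    rw [hN7]
    exact le_normalizer_of_card_sylow_eq_one P7 K hP7K hone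
  -- cosets of `N` fixed by `t`
  have hfix : ∀ g : G, g⁻¹ * t * g ∈ N → g ∈ N := by
    intro g hg
    obtain ⟨x, hxdef⟩ : ∃ x : G, x = g⁻¹ * t * g := ⟨_, rfl⟩
    rw [← hxdef] at hg
    have hxx : x * x = 1 := by
      rw [hxdef]
      calc g⁻¹ * t * g * (g⁻¹ * t * g) = g⁻¹ * (t * t) * g := by group
        _ = 1 := by rw [htt]; group
    have hx1 : x ≠ 1 := by
      intro h
      apply ht1
      calc t = g * x * g⁻¹ := by rw [hxdef]; group
        _ = 1 := by rw [h]; group
    have hxC5 : x ∉ Subgroup.centralizer ((P5 : Subgroup G) : Set G) := fun h =>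
      hx1 (eq_one_of_sq_of_odd _ hC5odd x h hxx)
    have invX := inverts_of_not_centralizes (P5 : Subgroup G) (h5.card_P P5) x hxx
      (by rw [← hNdef]; exact hg) hxC5
    have invT := inverts_of_not_centralizes (P5 : Subgroup G) (h5.card_P P5) t htt
      (by rw [← hNdef]; exact htN) htC5
    have hw : x * t ∈ Subgroup.centralizer ((P5 : Subgroup G) : Set G) := by
      rw [Subgroup.mem_centralizer_iff]
      intro a ha
      have h1 := invT a ha
      have h2 := invX a⁻¹ (inv_mem ha)
      rw [inv_inv] at h2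
      calc a * (x * t) = (x * a⁻¹ * x⁻¹) * x * t := by rw [h2]; group
        _ = x * a⁻¹ * t := by group
        _ = x * (t * a * t⁻¹) * t := by rw [h1]
        _ = x * t * a := by group
    obtain ⟨v, hvC, hv⟩ := conj_of_mul_mem_odd _ hC5odd x t hxx htt hw
    have hgvK : g * v ∈ K := by
      rw [hmemK]
      calc t * (g * v) = g * (g⁻¹ * t * g) * v := by group
        _ = g * (v * t * v⁻¹) * v := by rw [← hxdef, hv]
        _ = g * v * t := by group
    have hgvN : g * v ∈ N := hKN' hgvK
    have hvN : v ∈ N := hC5N hvC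
    have := N.mul_mem hgvN (N.inv_mem hvN)
    simpa using this
  have hsub : Subsingleton (MulAction.fixedBy (G ⧸ N) t) := by
    constructor
    have key : ∀ q : G ⧸ N, q ∈ MulAction.fixedBy (G ⧸ N) t → q = ((1 : G) : G ⧸ N) := by
      intro q hq
      induction q using QuotientGroup.induction_on with
      | H g =>
        rw [mem_fixedBy_mk] at hq
        have hgN := hfix g hq
        rw [QuotientGroup.eq]
        simpa using N.inv_mem hgN
    rintro ⟨q, hq⟩ ⟨q', hq'⟩
    apply Subtype.ext
    show q = q'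
    rw [key q hq, key q' hq']
  have hle : Nat.card (MulAction.fixedBy (G ⧸ N) t) ≤ 1 :=
    Finite.card_le_one_iff_subsingleton.mpr hsub
  have hmod7 := fixed_mod_p P7 N (by rw [← hN7]) t htP7
  have hNtop : N ≠ ⊤ := by
    intro htop
    rw [htop, Subgroup.card_top, hn] at hN
    omega
  obtain ⟨m, hm0, hm⟩ := fixed_parity hG N hNtop t ht
  have hidx : N.index = 36 := by
    have h2 := Subgroup.card_mul_index N
    rw [hN, hn] at h2
    omega
  rw [hidx] at hm
  omega

end Cfsg.Agent.Lib.Helper3.Ord5040L36
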