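import Mathlib
import Cfsg.Agent.Lib.Helper3.Ord5040L36D

/-!
# Order 5040, the case `n₅ = 36` (helper3, for helper29's S0978)

`kill_36`: a simple group of order 5040 has no Sylow 5-datum `(36, 2, 14)` or `(36, 4, 7)`.
-/

set_option autoImplicit false
set_option linter.unusedSectionVars false
set_option maxRecDepth 100000

namespace Cfsg.Agent.Lib.Helper3.Ord5040L36

open Cfsg.H5.SmallOrd Cfsg.H5.SylowTuple Cfsg.Agent.Lib.Helper29.Ord5040

variable {G : Type*} [Group G] [Finite G]

/-- the case `e = 2`, `c = 14` -/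
theorem case_A2 [IsSimpleGroup G] (hG : ¬ IsMulCommutative G) (hn : Nat.card G = 5040)
    [Fact (Nat.Prime 5)] [Fact (Nat.Prime 7)] (h5 : IsSD G 5 36 2 14) (h7 : IsSD G 7 36 2 10)
    (P5 : Sylow 5 G) (P7 : Sylow 7 G)
    (hcomm : ∀ a ∈ (P5 : Subgroup G), ∀ b ∈ (P7 : Subgroup G), a * b = b * a)
    (hNeq : Subgroup.normalizer ((P5 : Subgroup G) : Set G) =
        Subgroup.normalizer ((P7 : Subgroup G) : Set G)) : False := by
  haveI : Fact (Nat.Prime 2) := ⟨by norm_num⟩
  obtain ⟨N, hNdef⟩ : ∃ N : Subgroup G, N = Subgroup.normalizer ((P5 : Subgroup G) : Set G) :=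
    ⟨_, rfl⟩
  have hN7 : N = Subgroup.normalizer ((P7 : Subgroup G) : Set G) := hNdef.trans hNeq
  have hN : Nat.card N = 140 := by rw [hNdef, h5.card_N P5]
  have hC5 : Nat.card (Subgroup.centralizer ((P5 : Subgroup G) : Set G)) = 70 := by
    rw [h5.card_C P5]
  have hC7 : Nat.card (Subgroup.centralizer ((P7 : Subgroup G) : Set G)) = 70 := by
    rw [h7.card_C P7]
  have hC5N : Subgroup.centralizer ((P5 : Subgroup G) : Set G) ≤ N := by
    rw [hNdef]; exact Subgroup.centralizer_le_normalizer _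
  have hC7N : Subgroup.centralizer ((P7 : Subgroup G) : Set G) ≤ N := by
    rw [hN7]; exact Subgroup.centralizer_le_normalizer _
  -- the involution `r` of `C(P5)`
  obtain ⟨r0, hr0⟩ := exists_prime_orderOf_dvd_card'
    (G := Subgroup.centralizer ((P5 : Subgroup G) : Set G)) 2 (by rw [hC5]; norm_num)
  obtain ⟨r, hrdef⟩ : ∃ r : G, r = (r0 : G) := ⟨_, rfl⟩
  have hr : orderOf r = 2 := by rw [hrdef, Subgroup.orderOf_coe]; exact hr0
  have hrC5 : r ∈ Subgroup.centralizer ((P5 : Subgroup G) : Set G) := by rw [hrdef]; exact r0.2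
  have hrN : r ∈ N := hC5N hrC5
  have hrr : r * r = 1 := by rw [← pow_two, ← hr]; exact pow_orderOf_eq_one r
  have hr1 : r ≠ 1 := by
    intro h
    rw [h, orderOf_one] at hr
    omega
  have hrP5 : ∀ a ∈ (P5 : Subgroup G), r * a = a * r := by
    intro a ha
    rw [Subgroup.mem_centralizer_iff] at hrC5
    exact (hrC5 a ha).symm
  -- fixed points of `r` on `G ⧸ N`
  have hNtop : N ≠ ⊤ := by
    intro htop
    rw [htop, Subgroup.card_top, hn] at hN
    omega
  have hidx : N.index = 36 := by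
    have h2 := Subgroup.card_mul_index N
    rw [hN, hn] at h2
    omega
  obtain ⟨m, hm0, hm⟩ := fixed_parity hG N hNtop r hr
  rw [hidx] at hm
  have hmod5 := fixed_mod_p P5 N (by rw [← hNdef]) r hrP5
  have hf : Nat.card (MulAction.fixedBy (G ⧸ N) r) = 16 := by omega
  have hrC7 : r ∉ Subgroup.centralizer ((P7 : Subgroup G) : Set G) := by
    intro h
    have hrP7 : ∀ b ∈ (P7 : Subgroup G), r * b = b * r := by
      intro b hb
      rw [Subgroup.mem_centralizer_iff] at h
      exact (h b hb).symm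
    have hmod7 := fixed_mod_p P7 N (by rw [← hN7]) r hrP7
    omega
  -- the four-group
  obtain ⟨T, hTN, hT4, hrT, hTc⟩ := exists_four N hN r hrN hr
  obtain ⟨K, hKdef⟩ : ∃ K : Subgroup G, K = Subgroup.centralizer ({r} : Set G) := ⟨_, rfl⟩
  have hmemK : ∀ g : G, g ∈ K ↔ r * g = g * r := by
    intro g; rw [hKdef]; exact mem_centralizer_singleton
  have hTK : T ≤ K ⊓ N := le_inf (fun x hx => (hmemK x).mpr (hTc x hx).symm) hTN
  have hP5K : (P5 : Subgroup G) ≤ K := fun a ha => (hmemK a).mpr (hrP5 a ha)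
  have hP5N : (P5 : Subgroup G) ≤ N := by rw [hNdef]; exact Subgroup.le_normalizer
  have hP7N : (P7 : Subgroup G) ≤ N := by rw [hN7]; exact Subgroup.le_normalizer
  have hP5KN : (P5 : Subgroup G) ≤ K ⊓ N := le_inf hP5K hP5N
  have hKN : Nat.card (K ⊓ N : Subgroup G) = 4 * 5 := by
    apply card_inf_eq N K T (P5 : Subgroup G) hN 5 7 (Or.inr ⟨rfl, rfl⟩) hT4 hTK (h5.card_P P5)
      hP5KN
    intro f hf hfo
    have hfP : f ∈ (P7 : Subgroup G) :=
      mem_sylow_of_mem_normalizer P7 f hfo (by rw [← hN7]; exact hf.2)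
    have hf1 : f ≠ 1 := by
      intro h
      rw [h, orderOf_one] at hfo
      omega
    exact hrC7 (mem_centralizer_of_commute (P7 : Subgroup G) (h7.card_P P7) r f hfP hf1
      ((hmemK f).mp hf.1))
  -- Sylow count in `K`
  have hT4' := card_eq_card_inf_normalizer_mul P5 K hP5K
  rw [← hNdef, hKN] at hT4'
  have hmod : Nat.card (Sylow 5 K) % 5 = 1 := by
    have := card_sylow_modEq_one 5 K
    unfold Nat.ModEq at this
    rw [this]
  have hKdvd : Nat.card K ∣ 5040 := hn ▸ Subgroup.card_subgroup_dvd_card K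
  have hcf := card_mul_fixed N r
  rw [hN, hf, ← hKdef, hT4'] at hcf
  -- the number of conjugates of `r` in `N` is 112
  have hj : Nat.card {y : G // IsConj r y ∧ y ∈ N} = 112 := by
    generalize Nat.card {y : G // IsConj r y ∧ y ∈ N} = j at hcf
    generalize Nat.card (Sylow 5 K) = n at hT4' hmod hcf
    rw [hT4'] at hKdvd
    have hd : n ∣ 252 := by
      have : 4 * 5 * n ∣ 4 * 5 * 252 := hKdvd
      exact Nat.dvd_of_mul_dvd_mul_left (by norm_num) this
    have hnj : n * j = 112 := by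
      have : 4 * 5 * (n * j) = 4 * 5 * 112 := by rw [← mul_assoc, ← hcf]
      exact Nat.eq_of_mul_eq_mul_left (by norm_num) this
    have hd2 : n ∣ 112 := ⟨j, hnj.symm⟩
    have hd3 : n ∣ 28 := Nat.dvd_gcd hd hd2
    have hle : n ≤ 28 := Nat.le_of_dvd (by norm_num) hd3
    have hn1 : n = 1 := by
      interval_cases n <;> omega
    rw [hn1, one_mul] at hnj
    exact hnj
  -- but the odd-order subgroup `M = C(P5) ⊓ C(P7)` contains none of them
  obtain ⟨M, hMdef⟩ : ∃ M : Subgroup G, M = Subgroup.centralizer ((P5 : Subgroup G) : Set G) ⊓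
      Subgroup.centralizer ((P7 : Subgroup G) : Set G) := ⟨_, rfl⟩
  have hMN : M ≤ N := by rw [hMdef]; exact inf_le_left.trans hC5N
  have hM : Nat.card M = 35 := by
    have h1 : Nat.card M ∣ 70 := by
      rw [← hC5, hMdef]; exact Subgroup.card_dvd_of_le inf_le_left
    have hP5M : (P5 : Subgroup G) ≤ M := by
      rw [hMdef]
      refine le_inf (sylow_le_centralizer P5 (h5.card_P P5)) ?_
      intro a ha
      rw [Subgroup.mem_centralizer_iff]
      intro b hb
      exact (hcomm a ha b hb).symm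
    have hP7M : (P7 : Subgroup G) ≤ M := by
      rw [hMdef]
      refine le_inf ?_ (sylow_le_centralizer P7 (h7.card_P P7))
      intro b hb
      rw [Subgroup.mem_centralizer_iff]
      intro a ha
      exact hcomm a ha b hb
    have h2 : 5 ∣ Nat.card M := (h5.card_P P5) ▸ Subgroup.card_dvd_of_le hP5M
    have h3 : 7 ∣ Nat.card M := (h7.card_P P7) ▸ Subgroup.card_dvd_of_le hP7M
    have h4 : Nat.card M ≠ 70 := by
      intro h
      have hle : M ≤ Subgroup.centralizer ((P5 : Subgroup G) : Set G) := by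
        rw [hMdef]; exact inf_le_left
      have heq := Subgroup.eq_of_le_of_card_ge hle (by rw [h, hC5])
      apply hrC7
      have : r ∈ M := by rw [heq]; exact hrC5
      rw [hMdef] at this
      exact this.2
    have h5' : Nat.card M ≤ 70 := Nat.le_of_dvd (by norm_num) h1
    generalize Nat.card M = d at h1 h2 h3 h4 h5'
    interval_cases d <;> omega
  have hModd : Odd (Nat.card M) := by rw [hM]; decide
  have hsub : {y : G | IsConj r y ∧ y ∈ N} ⊆ (N : Set G) \ (M : Set G) := by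
    rintro y ⟨hy, hyN⟩
    refine ⟨hyN, ?_⟩
    intro hyM
    rw [isConj_iff] at hy
    obtain ⟨c, hc⟩ := hy
    have hyy : y * y = 1 := by
      rw [← hc]
      calc c * r * c⁻¹ * (c * r * c⁻¹) = c * (r * r) * c⁻¹ := by group
        _ = 1 := by rw [hrr]; group
    have hy1 := eq_one_of_sq_of_odd M hModd y hyM hyy
    apply hr1
    calc r = c⁻¹ * (c * r * c⁻¹) * c := by group
      _ = 1 := by rw [hc, hy1]; group
  have hcard1 : Nat.card {y : G // IsConj r y ∧ y ∈ N} =
      Set.ncard {y : G | IsConj r y ∧ y ∈ N} := Nat.card_coe_set_eq _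
  have hcard2 : Set.ncard ((N : Set G) \ (M : Set G)) = 140 - 35 := by
    rw [Set.ncard_sdiff (by exact_mod_cast hMN), ← hN, ← hM]
    rfl
  have hle := Set.ncard_le_ncard hsub (Set.toFinite _)
  rw [← hcard1, hj, hcard2] at hle
  omega

/-- **L36**: a simple group of order 5040 has no Sylow 5-datum `(36, 2, 14)` or `(36, 4, 7)`. -/
theorem kill_36 {G : Type*} [Group G] [Finite G] [IsSimpleGroup G] (hG : ¬ IsMulCommutative G)
    (hn : Nat.card G = 5040) [Fact (Nat.Prime 5)] {e c : ℕ}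
    (h5 : Cfsg.H5.SylowTuple.IsSD G 5 36 e c) (hec : (e = 2 ∧ c = 14) ∨ (e = 4 ∧ c = 7)) :
    False := by
  haveI : Fact (Nat.Prime 7) := ⟨by norm_num⟩
  have h7 : IsSD G 7 36 2 10 :=
    sd7 hG hn h5 (by rcases hec with ⟨_, rfl⟩ | ⟨_, rfl⟩ <;> norm_num)
  obtain ⟨P5, P7, hcomm, hNeq⟩ := setup h5 hec h7
  rcases hec with ⟨rfl, rfl⟩ | ⟨rfl, rfl⟩
  · exact case_A2 hG hn h5 h7 P5 P7 hcomm hNeq
  · exact case_A1 hG hn h5 h7 P5 P7 hNeq

end Cfsg.Agent.Lib.Helper3.Ord5040L36
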