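import Mathlib
import Cfsg.Agent.Lib.Helper3.OrthUni2
import Cfsg.Agent.Lib.Helper6.OrthForms

/-!
# Explicit unipotent isometries of the standard odd-dimensional quadratic form
-/

set_option autoImplicit false

namespace Cfsg.Agent.Lib.Helper3.Orth

open Module Submodule QuadraticMap Cfsg.Agent.Lib.Helper6

section defs

variable {F : Type*} [Field F] {d : ℕ}
variable (σ : Equiv.Perm (Fin d)) (s t : Fin d → F)

/-- the functional `v ↦ Σ t_j c_j` -/
noncomputable def tauF (t : Fin d → F) : (Unit ⊕ (Fin d ⊕ Fin d) → F) →ₗ[F] F :=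
  ∑ j, t j • LinearMap.proj (Sum.inr (Sum.inr j))

theorem tauF_apply (v : Unit ⊕ (Fin d ⊕ Fin d) → F) :
    tauF t v = ∑ j, t j * v (Sum.inr (Sum.inr j)) := by
  unfold tauF
  rw [LinearMap.sum_apply]
  rfl

/-- the nilpotent part -/
noncomputable def uniN :
    (Unit ⊕ (Fin d ⊕ Fin d) → F) →ₗ[F] (Unit ⊕ (Fin d ⊕ Fin d) → F) :=
  LinearMap.pi (fun idx => Sum.elim (fun _ => tauF t)
    (Sum.elim (fun i => s (σ i) • LinearMap.proj (Sum.inr (Sum.inr (σ i))) -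
      (2 * t i) • LinearMap.proj (Sum.inl ()) - t i • tauF t) (fun _ => 0)) idx)

theorem uniN_inl (v : Unit ⊕ (Fin d ⊕ Fin d) → F) :
    uniN σ s t v (Sum.inl ()) = tauF t v := rfl

theorem uniN_e (v : Unit ⊕ (Fin d ⊕ Fin d) → F) (i : Fin d) :
    uniN σ s t v (Sum.inr (Sum.inl i)) =
      s (σ i) * v (Sum.inr (Sum.inr (σ i))) - 2 * t i * v (Sum.inl ()) - t i * tauF t v := rfl

theorem uniN_f (v : Unit ⊕ (Fin d ⊕ Fin d) → F) (j : Fin d) :
    uniN σ s t v (Sum.inr (Sum.inr j)) = 0 := rfl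

theorem tauF_uniN (v : Unit ⊕ (Fin d ⊕ Fin d) → F) : tauF t (uniN σ s t v) = 0 := by
  rw [tauF_apply]
  apply Finset.sum_eq_zero
  intro j _
  rw [uniN_f, mul_zero]

/-- `N²` -/
theorem uniN_uniN (v : Unit ⊕ (Fin d ⊕ Fin d) → F) :
    uniN σ s t (uniN σ s t v) =
      tauF t v • (Sum.elim (fun _ => 0) (Sum.elim (fun i => -2 * t i) (fun _ => 0)) :
        Unit ⊕ (Fin d ⊕ Fin d) → F) := by
  funext idx
  rcases idx with ⟨⟩ | i | j
  · rw [uniN_inl, tauF_uniN]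
    simp
  · rw [uniN_e, tauF_uniN, uniN_f, uniN_inl]
    simp
    ring
  · rw [uniN_f]
    simp

/-- `N³ = 0` -/
theorem uniN_cube (v : Unit ⊕ (Fin d ⊕ Fin d) → F) :
    uniN σ s t (uniN σ s t (uniN σ s t v)) = 0 := by
  rw [uniN_uniN, tauF_uniN, zero_smul]

/-- the unipotent element preserves the form -/
theorem QOdd_uni (h2 : (2 : F) ≠ 0) (hσ : ∀ j, σ (σ j) = j) (hs : ∀ j, s (σ j) = - s j)
    (v : Unit ⊕ (Fin d ⊕ Fin d) → F) : QOdd F d (v + uniN σ s t v) = QOdd F d v := by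
  rw [QOdd_apply, QOdd_apply]
  unfold Cfsg.quadFormOdd
  simp only [Pi.add_apply, uniN_inl, uniN_e, uniN_f, add_zero]
  have hS : ∑ i, s (σ i) * v (Sum.inr (Sum.inr (σ i))) * v (Sum.inr (Sum.inr i)) = 0 := by
    have h1 : ∑ i, s (σ i) * v (Sum.inr (Sum.inr (σ i))) * v (Sum.inr (Sum.inr i)) =
        - ∑ i, s (σ i) * v (Sum.inr (Sum.inr (σ i))) * v (Sum.inr (Sum.inr i)) := by
      calc ∑ i, s (σ i) * v (Sum.inr (Sum.inr (σ i))) * v (Sum.inr (Sum.inr i))
          = ∑ i, s (σ (σ i)) * v (Sum.inr (Sum.inr (σ (σ i)))) * v (Sum.inr (Sum.inr (σ i))) :=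
            (Equiv.sum_comp σ (fun i => s (σ i) * v (Sum.inr (Sum.inr (σ i))) *
              v (Sum.inr (Sum.inr i)))).symm
        _ = ∑ i, -(s (σ i) * v (Sum.inr (Sum.inr (σ i))) * v (Sum.inr (Sum.inr i))) := by
            apply Finset.sum_congr rfl
            intro i _
            rw [hσ i, hs i]
            ring
        _ = - ∑ i, s (σ i) * v (Sum.inr (Sum.inr (σ i))) * v (Sum.inr (Sum.inr i)) :=
            Finset.sum_neg_distrib _
    have h3 : (2 : F) * ∑ i, s (σ i) * v (Sum.inr (Sum.inr (σ i))) * v (Sum.inr (Sum.inr i)) = 0 := by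
      linear_combination h1
    rcases mul_eq_zero.mp h3 with h | h
    · exact absurd h h2
    · exact h
  have e1 : ∑ i, (v (Sum.inr (Sum.inl i)) + (s (σ i) * v (Sum.inr (Sum.inr (σ i))) -
      2 * t i * v (Sum.inl ()) - t i * tauF t v)) * v (Sum.inr (Sum.inr i)) =
      ∑ i, v (Sum.inr (Sum.inl i)) * v (Sum.inr (Sum.inr i)) +
      ∑ i, s (σ i) * v (Sum.inr (Sum.inr (σ i))) * v (Sum.inr (Sum.inr i)) -
      2 * v (Sum.inl ()) * ∑ i, t i * v (Sum.inr (Sum.inr i)) -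
      tauF t v * ∑ i, t i * v (Sum.inr (Sum.inr i)) := by
    rw [Finset.mul_sum, Finset.mul_sum, ← Finset.sum_add_distrib, ← Finset.sum_sub_distrib,
      ← Finset.sum_sub_distrib]
    apply Finset.sum_congr rfl
    intro i _
    ring
  rw [e1, hS, ← tauF_apply t v]
  ring

end defs

end Cfsg.Agent.Lib.Helper3.Orth
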