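import Mathlib
import Cfsg.Agent.Lib.Helper3.OrthUni3

/-!
# The unipotent element as a member of `Ω_{2d+1}(q)` of order `p`
-/

set_option autoImplicit false

namespace Cfsg.Agent.Lib.Helper3.Orth

open Module Submodule QuadraticMap Cfsg.Agent.Lib.Helper15 Cfsg.Agent.Lib.Helper15.PSpI
  Cfsg.Agent.Lib.Helper6 Cfsg.Agent.Lib.Helper6.OrtS

universe u

section elt

variable {F : Type u} [Field F] [Fintype F] {d : ℕ}
variable (σ : Equiv.Perm (Fin d)) (s t : Fin d → F)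

/-- the matrix of the unipotent element -/
noncomputable def uniM : Matrix (Unit ⊕ (Fin d ⊕ Fin d)) (Unit ⊕ (Fin d ⊕ Fin d)) F :=
  1 + LinearMap.toMatrix' (uniN σ s t)

omit [Fintype F] in
theorem toLin'_uniM_apply (v : Unit ⊕ (Fin d ⊕ Fin d) → F) :
    Matrix.toLin' (uniM σ s t) v = v + uniN σ s t v := by
  unfold uniM
  rw [map_add, Matrix.toLin'_one, Matrix.toLin'_toMatrix']
  rfl

omit [Fintype F] in
theorem uniM_pow (p : ℕ) [Fact p.Prime] [CharP F p] (hp : 3 ≤ p) : uniM σ s t ^ p = 1 := by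
  unfold uniM
  rw [add_pow_char_of_commute p (Commute.one_left _), one_pow]
  have h3 : (LinearMap.toMatrix' (uniN σ s t)) ^ 3 = 0 := by
    apply Matrix.toLin'.injective
    rw [Matrix.toLin'_pow, Matrix.toLin'_toMatrix', map_zero]
    apply LinearMap.ext
    intro v
    rw [pow_succ, pow_succ, pow_one]
    exact uniN_cube σ s t v
  have : p = 3 + (p - 3) := by omega
  rw [this, pow_add, h3, zero_mul, add_zero]

/-- the unipotent element lies in `Ω` and has order `p` -/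
theorem exists_uni_elt (h2 : (2 : F) ≠ 0) (p : ℕ) [hp : Fact p.Prime] [CharP F p] (hd : 1 ≤ d)
    (hσ : ∀ j, σ (σ j) = j) (hs : ∀ j, s (σ j) = - s j) (hne : ∃ v, uniN σ s t v ≠ 0) :
    ∃ x : GL (Unit ⊕ (Fin d ⊕ Fin d)) F,
      (x : Matrix (Unit ⊕ (Fin d ⊕ Fin d)) (Unit ⊕ (Fin d ⊕ Fin d)) F) = uniM σ s t ∧
      x ∈ Cfsg.Geo.omegaGL ⇑(QOdd F d) ∧ orderOf x = p := by
  have hp2 : p ≠ 2 := by
    rintro rfl
    apply h2
    have := CharP.cast_eq_zero F 2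
    exact_mod_cast this
  have hp3 : 3 ≤ p := by
    have := hp.out.two_le
    omega
  have hodd : Odd p := hp.out.odd_of_ne_two hp2
  obtain ⟨M, hMdef⟩ : ∃ M, M = uniM σ s t := ⟨_, rfl⟩
  have hM2 : M ^ p = 1 := by rw [hMdef]; exact uniM_pow σ s t p hp3
  have hMM : M * M ^ (p - 1) = 1 := by
    rw [← pow_succ', Nat.sub_add_cancel hp.out.pos, hM2]
  have hMM' : M ^ (p - 1) * M = 1 := by
    rw [← pow_succ, Nat.sub_add_cancel hp.out.pos, hM2]
  let x : GL (Unit ⊕ (Fin d ⊕ Fin d)) F := ⟨M, M ^ (p - 1), hMM, hMM'⟩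
  have hxv : (x : Matrix (Unit ⊕ (Fin d ⊕ Fin d)) (Unit ⊕ (Fin d ⊕ Fin d)) F) = M := rfl
  have hxr : x ^ p = 1 := by
    apply Units.ext
    rw [Units.val_pow_eq_pow_val, hxv, hM2]
    rfl
  have hM1 : ∀ v, QOdd F d (M.mulVec v) = QOdd F d v := by
    intro v
    rw [← Matrix.toLin'_apply, hMdef, toLin'_uniM_apply]
    exact QOdd_uni σ s t h2 hσ hs v
  have hQ := nondegenerate_QOdd F h2 d
  have hcard : Fintype.card (Unit ⊕ (Fin d ⊕ Fin d)) = 2 * d + 1 := by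
    simp
    omega
  have hxI : x ∈ Cfsg.isometryGroup F ⇑(QOdd F d) :=
    (OmegaAut.mem_isometryGroup_iff (QOdd F d) x).mpr hM1
  have hgΩ : (⟨x, hxI⟩ : ↥(Cfsg.isometryGroup F ⇑(QOdd F d))) ∈ Cfsg.Omega F ⇑(QOdd F d) :=
    mem_Omega_of_pow_odd' (QOdd F d) hQ (by rw [hcard]; omega) (by
      right; rw [hcard]; omega) ⟨x, hxI⟩ p hodd (Subtype.ext hxr)
  have hxΩ : x ∈ Cfsg.Geo.omegaGL ⇑(QOdd F d) := Subgroup.mem_map.mpr ⟨⟨x, hxI⟩, hgΩ, rfl⟩
  refine ⟨x, by rw [hxv, hMdef], hxΩ, ?_⟩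
  apply orderOf_eq_prime hxr
  intro h1
  obtain ⟨v, hv⟩ := hne
  apply hv
  have h3 : Matrix.toLin' M v = v := by
    rw [← hxv, h1]
    simp
  rw [hMdef, toLin'_uniM_apply] at h3
  exact add_eq_left.mp h3

end elt

end Cfsg.Agent.Lib.Helper3.Orth
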