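import Mathlib
import Cfsg.Agent.Lib.Helper3.OrthUni4

/-!
# Verification of the two abstract criteria for the explicit unipotent elements
-/

set_option autoImplicit false

namespace Cfsg.Agent.Lib.Helper3.Orth

open Module Submodule QuadraticMap Cfsg.Agent.Lib.Helper15 Cfsg.Agent.Lib.Helper15.PSpI
  Cfsg.Agent.Lib.Helper6 Cfsg.Agent.Lib.Helper6.OrtS

universe u

section typeA

variable {F : Type u} [Field F] {d : ℕ}
variable (σ : Equiv.Perm (Fin d)) (s t : Fin d → F)

theorem tauF_zero (ht : ∀ j, t j = 0) (v : Unit ⊕ (Fin d ⊕ Fin d) → F) : tauF t v = 0 := by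
  rw [tauF_apply]
  apply Finset.sum_eq_zero
  intro j _
  rw [ht j, zero_mul]

theorem typeA_NN (ht : ∀ j, t j = 0) (v : Unit ⊕ (Fin d ⊕ Fin d) → F) :
    uniN σ s t (uniN σ s t v) = 0 := by
  rw [uniN_uniN, tauF_zero t ht, zero_smul]

theorem typeA_range (hσ : ∀ j, σ (σ j) = j) (ht : ∀ j, t j = 0) (hs0 : ∀ j, s j ≠ 0)
    (v : Unit ⊕ (Fin d ⊕ Fin d) → F) (hv : uniN σ s t v = 0) (ha : v (Sum.inl ()) = 0) :
    v ∈ LinearMap.range (uniN σ s t) := by
  have hc : ∀ j, v (Sum.inr (Sum.inr j)) = 0 := by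
    intro j
    have h := congrFun hv (Sum.inr (Sum.inl (σ j)))
    rw [uniN_e, hσ j, ht, tauF_zero t ht] at h
    simp only [mul_zero, zero_mul, sub_zero, Pi.zero_apply] at h
    rcases mul_eq_zero.mp h with h | h
    · exact absurd h (hs0 j)
    · exact h
  refine ⟨Sum.elim (fun _ => 0)
    (Sum.elim (fun _ => 0) (fun j => v (Sum.inr (Sum.inl (σ j))) / s j)), ?_⟩
  funext idx
  rcases idx with ⟨⟩ | i | j
  · rw [uniN_inl, tauF_zero t ht, ha]
  · rw [uniN_e, tauF_zero t ht, ht i]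
    simp only [Sum.elim_inr, mul_zero, zero_mul, sub_zero]
    rw [hσ i, mul_div_cancel₀ _ (hs0 (σ i))]
  · rw [uniN_f, hc j]

end typeA

section typeB

variable {F : Type u} [Field F] {d : ℕ}
variable (σ : Equiv.Perm (Fin d)) (s t : Fin d → F)

theorem typeB_tau (j₀ : Fin d) (ht : ∀ j, t j = if j = j₀ then 1 else 0)
    (v : Unit ⊕ (Fin d ⊕ Fin d) → F) : tauF t v = v (Sum.inr (Sum.inr j₀)) := by
  rw [tauF_apply, Finset.sum_eq_single j₀]
  · rw [ht j₀, if_pos rfl, one_mul]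
  · intro j _ hj
    rw [ht j, if_neg hj, zero_mul]
  · intro h
    exact absurd (Finset.mem_univ j₀) h

theorem typeB_ker (h2 : (2 : F) ≠ 0) (hσ : ∀ j, σ (σ j) = j) (hs : ∀ j, s (σ j) = - s j)
    (j₀ : Fin d) (hσ0 : σ j₀ = j₀) (ht : ∀ j, t j = if j = j₀ then 1 else 0)
    (hs0 : ∀ j, j ≠ j₀ → s j ≠ 0)
    (v : Unit ⊕ (Fin d ⊕ Fin d) → F) (hv : uniN σ s t v = 0) :
    v ∈ LinearMap.range (uniN σ s t) := by
  have hsj₀ : s j₀ = 0 := by
    have h := hs j₀
    rw [hσ0] at h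
    have h3 : (2 : F) * s j₀ = 0 := by linear_combination h
    rcases mul_eq_zero.mp h3 with h | h
    · exact absurd h h2
    · exact h
  have hσne : ∀ j, j ≠ j₀ → σ j ≠ j₀ := by
    intro j hj h
    apply hj
    rw [← hσ j, h, hσ0]
  have hc0 : v (Sum.inr (Sum.inr j₀)) = 0 := by
    have h := congrFun hv (Sum.inl ())
    rw [uniN_inl, typeB_tau t j₀ ht] at h
    exact h
  have hc : ∀ j, v (Sum.inr (Sum.inr j)) = 0 := by
    intro j
    by_cases hj : j = j₀
    · rw [hj]; exact hc0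
    · have h := congrFun hv (Sum.inr (Sum.inl (σ j)))
      rw [uniN_e, hσ j, ht, if_neg (hσne j hj)] at h
      simp only [mul_zero, zero_mul, sub_zero, Pi.zero_apply] at h
      rcases mul_eq_zero.mp h with h | h
      · exact absurd h (hs0 j hj)
      · exact h
  have ha : v (Sum.inl ()) = 0 := by
    have h := congrFun hv (Sum.inr (Sum.inl j₀))
    rw [uniN_e, hσ0, ht, if_pos rfl, typeB_tau t j₀ ht, hc0, hsj₀] at h
    simp only [mul_zero, zero_mul, sub_zero, Pi.zero_apply, mul_one, zero_sub, neg_eq_zero] at h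
    rcases mul_eq_zero.mp h with h | h
    · exact absurd h h2
    · exact h
  refine ⟨Sum.elim (fun _ => -(v (Sum.inr (Sum.inl j₀))) / 2)
    (Sum.elim (fun _ => 0) (fun j => if j = j₀ then 0 else v (Sum.inr (Sum.inl (σ j))) / s j)),
    ?_⟩
  funext idx
  rcases idx with ⟨⟩ | i | j
  · rw [uniN_inl, typeB_tau t j₀ ht, ha]
    simp
  · rw [uniN_e, typeB_tau t j₀ ht, ht i]
    by_cases hi : i = j₀
    · rw [if_pos hi, hi, hσ0, hsj₀]
      simp only [Sum.elim_inr, Sum.elim_inl, if_true, mul_zero, zero_mul, sub_zero, mul_one,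
        zero_sub]
      field_simp
    · rw [if_neg hi]
      simp only [Sum.elim_inr, Sum.elim_inl, if_true, mul_zero, zero_mul, sub_zero,
        if_neg (hσne i hi)]
      rw [hσ i, mul_div_cancel₀ _ (hs0 (σ i) (hσne i hi))]
  · rw [uniN_f, hc j]

theorem typeB_rank [Fintype F] :
    finrank F (LinearMap.range (uniN σ s t ∘ₗ uniN σ s t)) ≤ 1 := by
  have hle : LinearMap.range (uniN σ s t ∘ₗ uniN σ s t) ≤
      span F {(Sum.elim (fun _ => 0) (Sum.elim (fun i => -2 * t i) (fun _ => 0)) :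
        Unit ⊕ (Fin d ⊕ Fin d) → F)} := by
    rintro _ ⟨v, rfl⟩
    rw [LinearMap.comp_apply, uniN_uniN]
    exact Submodule.smul_mem _ _ (Submodule.mem_span_singleton_self _)
  refine le_trans (Submodule.finrank_mono hle) ?_
  refine le_trans (finrank_span_le_card _) ?_
  simp

end typeB

end Cfsg.Agent.Lib.Helper3.Orth
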