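import Mathlib
import Cfsg.Agent.Lib.Helper3.OrthUni5

/-!
# An element of order `p` of `Ω_{2d+1}(q)` fixing no elliptic subspace
-/

set_option autoImplicit false

namespace Cfsg.Agent.Lib.Helper3.Orth

open Module Submodule QuadraticMap Cfsg.Agent.Lib.Helper15 Cfsg.Agent.Lib.Helper15.PSpI
  Cfsg.Agent.Lib.Helper6 Cfsg.Agent.Lib.Helper6.OrtS

universe u

section data

variable (F : Type u) [Field F] (d : ℕ)

/-- the signs -/
noncomputable def revS (i : Fin d) : F :=
  if i < Fin.rev i then 1 else if Fin.rev i < i then -1 else 0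

/-- indicator of the middle index -/
noncomputable def revT (i : Fin d) : F := if Fin.rev i = i then 1 else 0

theorem revS_rev (j : Fin d) : revS F d (Fin.revPerm j) = - revS F d j := by
  unfold revS
  rw [Fin.revPerm_apply, Fin.rev_rev]
  rcases lt_trichotomy j (Fin.rev j) with h | h | h
  · rw [if_neg (lt_asymm h), if_pos h, if_pos h]
  · have h1 : ¬ j < Fin.rev j := by rw [← h]; exact lt_irrefl j
    have h2 : ¬ Fin.rev j < j := by rw [← h]; exact lt_irrefl j
    rw [if_neg h2, if_neg h1, if_neg h1, if_neg h2, neg_zero]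
  · rw [if_pos h, if_neg (lt_asymm h), if_pos h, neg_neg]

theorem revS_ne_zero (j : Fin d) (hj : Fin.rev j ≠ j) : revS F d j ≠ 0 := by
  unfold revS
  rcases lt_trichotomy j (Fin.rev j) with h | h | h
  · rw [if_pos h]; exact one_ne_zero
  · exact absurd h.symm hj
  · rw [if_neg (lt_asymm h), if_pos h]; exact neg_ne_zero.mpr one_ne_zero

theorem rev_ne_of_even (hd : Even d) (j : Fin d) : Fin.rev j ≠ j := by
  intro h
  have h1 := congrArg Fin.val h
  rw [Fin.val_rev] at h1
  obtain ⟨e, he⟩ := hd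
  have := j.2
  omega

theorem rev_eq_iff_of_odd (k : ℕ) (hd : d = 2 * k + 1) (j : Fin d) :
    Fin.rev j = j ↔ j = ⟨k, by omega⟩ := by
  constructor
  · intro h
    have h1 := congrArg Fin.val h
    rw [Fin.val_rev] at h1
    apply Fin.ext
    have := j.2
    simp only
    omega
  · intro h
    apply Fin.ext
    rw [Fin.val_rev, h]
    simp only
    omega

end data

section main

variable {F : Type u} [Field F] [Fintype F]

/-- **The derangement for `r = p`**: an element of order `p` of `Ω_{2d+1}(q)` all of whose invariant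
nondegenerate subspaces of even dimension are of plus type. -/
theorem exists_unipotent_plus (h2 : (2 : F) ≠ 0) (p : ℕ) [hp : Fact p.Prime] [CharP F p] (d : ℕ)
    (hd : 2 ≤ d) :
    ∃ x : GL (Unit ⊕ (Fin d ⊕ Fin d)) F, x ∈ Cfsg.Geo.omegaGL ⇑(QOdd F d) ∧ orderOf x = p ∧
      ∀ W : Submodule F (Unit ⊕ (Fin d ⊕ Fin d) → F),
        W.map (Matrix.toLin'
          (x : Matrix (Unit ⊕ (Fin d ⊕ Fin d)) (Unit ⊕ (Fin d ⊕ Fin d)) F)) ≤ W →
        NondegOn (polarBilin (QOdd F d)) W → Even (finrank F W) → PlusOn (QOdd F d) W := by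
  have hσ : ∀ j : Fin d, (Fin.revPerm (Fin.revPerm j) : Fin d) = j := by
    intro j
    rw [Fin.revPerm_apply, Fin.revPerm_apply, Fin.rev_rev]
  have hs := revS_rev F d
  have hQx : ∀ v, QOdd F d (Matrix.toLin' (uniM Fin.revPerm (revS F d) (revT F d)) v) =
      QOdd F d v := by
    intro v
    rw [toLin'_uniM_apply]
    exact QOdd_uni _ _ _ h2 hσ hs v
  have hN := toLin'_uniM_apply (Fin.revPerm : Equiv.Perm (Fin d)) (revS F d) (revT F d)
  rcases Nat.even_or_odd d with hev | hodd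
  · -- type (2^d, 1)
    have hfix := rev_ne_of_even d hev
    have ht : ∀ j, revT F d j = 0 := fun j => by
      unfold revT
      rw [if_neg (hfix j)]
    have hs0 : ∀ j, revS F d j ≠ 0 := fun j => revS_ne_zero F d j (hfix j)
    have hne : ∃ v, uniN (Fin.revPerm : Equiv.Perm (Fin d)) (revS F d) (revT F d) v ≠ 0 := by
      refine ⟨Pi.single (Sum.inr (Sum.inr ⟨0, by omega⟩)) 1, fun h => ?_⟩
      have h1 := congrFun h (Sum.inr (Sum.inl (Fin.revPerm ⟨0, by omega⟩)))
      rw [uniN_e, hσ, ht, tauF_zero _ ht] at h1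
      simp only [Pi.single_eq_same, mul_one, mul_zero, zero_mul, sub_zero, Pi.zero_apply] at h1
      exact hs0 _ h1
    obtain ⟨x, hxM, hxΩ, hxo⟩ := exists_uni_elt _ _ _ h2 p (by omega) hσ hs hne
    refine ⟨x, hxΩ, hxo, ?_⟩
    intro W hWx hWn hWe
    rw [hxM] at hWx
    exact plusOn_of_typeA (QOdd F d) _ _ h2 hQx hN (typeA_NN _ _ _ ht)
      (LinearMap.proj (Sum.inl ()))
      (fun v hv ha => typeA_range _ _ _ hσ ht hs0 v hv ha) W hWx hWn hWe
  · -- type (3, 2^(d-1))
    obtain ⟨k, hk⟩ := hodd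
    have hfix := rev_eq_iff_of_odd d k hk
    obtain ⟨j₀, hj₀⟩ : ∃ j₀ : Fin d, j₀ = ⟨k, by omega⟩ := ⟨_, rfl⟩
    rw [← hj₀] at hfix
    have hσ0 : (Fin.revPerm j₀ : Fin d) = j₀ := by
      rw [Fin.revPerm_apply]
      exact (hfix j₀).mpr rfl
    have ht : ∀ j, revT F d j = if j = j₀ then 1 else 0 := fun j => by
      unfold revT
      by_cases h : j = j₀
      · rw [if_pos h, if_pos ((hfix j).mpr h)]
      · rw [if_neg h, if_neg (fun h' => h ((hfix j).mp h'))]
    have hs0 : ∀ j, j ≠ j₀ → revS F d j ≠ 0 := fun j hj =>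
      revS_ne_zero F d j (fun h' => hj ((hfix j).mp h'))
    have hne : ∃ v, uniN (Fin.revPerm : Equiv.Perm (Fin d)) (revS F d) (revT F d) v ≠ 0 := by
      refine ⟨Pi.single (Sum.inr (Sum.inr j₀)) 1, fun h => ?_⟩
      have h1 := congrFun h (Sum.inl ())
      rw [uniN_inl, typeB_tau _ j₀ ht] at h1
      simp only [Pi.single_eq_same, Pi.zero_apply] at h1
      exact one_ne_zero h1
    obtain ⟨x, hxM, hxΩ, hxo⟩ := exists_uni_elt _ _ _ h2 p (by omega) hσ hs hne
    refine ⟨x, hxΩ, hxo, ?_⟩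
    intro W hWx hWn hWe
    rw [hxM] at hWx
    exact plusOn_of_typeB (QOdd F d) _ _ h2 hQx hN
      (fun v hv => typeB_ker _ _ _ h2 hσ hs j₀ hσ0 ht hs0 v hv)
      (typeB_rank _ _ _) W hWx hWn hWe

end main

end Cfsg.Agent.Lib.Helper3.Orth
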