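import Mathlib

set_option autoImplicit false

namespace Cfsg.Agent.Lib.Helper3.PrimeGraphExt

variable {S : Type*} [Group S] {A : Type*} [AddCommGroup A] [DistribMulAction S A]

/-- the action as a homomorphism to the automorphism group of the multiplicative copy -/
def actHom (S : Type*) [Group S] (A : Type*) [AddCommGroup A] [DistribMulAction S A] :
    S →* MulAut (Multiplicative A) where
  toFun g :=
    { toFun := fun a => Multiplicative.ofAdd (g • Multiplicative.toAdd a)
      invFun := fun a => Multiplicative.ofAdd (g⁻¹ • Multiplicative.toAdd a)
      left_inv := fun a => by simp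
      right_inv := fun a => by simp
      map_mul' := fun a b => by
        show Multiplicative.ofAdd (g • (Multiplicative.toAdd a + Multiplicative.toAdd b)) = _
        rw [smul_add]; rfl }
  map_one' := by
    ext a
    show Multiplicative.ofAdd ((1 : S) • Multiplicative.toAdd a) = a
    rw [one_smul]; rfl
  map_mul' g h := by
    ext a
    show Multiplicative.ofAdd ((g * h) • Multiplicative.toAdd a) = _
    rw [mul_smul]; rfl

lemma actHom_apply (g : S) (a : Multiplicative A) :
    actHom S A g a = Multiplicative.ofAdd (g • Multiplicative.toAdd a) := rfl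

/-- the semidirect product of an additive group acted on by `S` with `S` -/
abbrev Ext (S : Type*) [Group S] (A : Type*) [AddCommGroup A] [DistribMulAction S A] :=
  Multiplicative A ⋊[actHom S A] S

lemma card_ext [Finite S] [Finite A] : Nat.card (Ext S A) = Nat.card A * Nat.card S := by
  rw [SemidirectProduct.card]
  rfl

instance [Finite S] [Finite A] : Finite (Ext S A) :=
  Finite.of_equiv _ SemidirectProduct.equivProd.symm

/-- elements of the kernel have order at most two -/
lemma sq_eq_one_of_right_eq_one (h2 : ∀ a : A, a + a = 0) (y : Ext S A) (hy : y.right = 1) :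
    y * y = 1 := by
  apply SemidirectProduct.ext
  · rw [SemidirectProduct.mul_left, hy, map_one, MulAut.one_apply, SemidirectProduct.one_left]
    exact h2 (Multiplicative.toAdd y.left)
  · rw [SemidirectProduct.mul_right, hy, SemidirectProduct.one_right, one_mul]

lemma commute_kernel {y u : Ext S A} (hy : y.right = 1) (hc : Commute y u) :
    u.right • (Multiplicative.toAdd y.left) = Multiplicative.toAdd y.left := by
  have h := congrArg SemidirectProduct.left hc.eq
  rw [SemidirectProduct.mul_left, SemidirectProduct.mul_left, hy, map_one, MulAut.one_apply,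
    mul_comm] at h
  have h' := mul_left_cancel h
  rw [actHom_apply] at h'
  exact (congrArg Multiplicative.toAdd h').symm

/-- the extension has the same edges of the prime graph as `S` -/
theorem exists_orderOf_iff [Finite S] [Finite A] (h2 : ∀ a : A, a + a = 0)
    (hfpf : ∀ g : S, Odd (orderOf g) → g ≠ 1 → ∀ a : A, g • a = a → a = 0)
    (hcent : ∀ g t : S, Odd (orderOf g) → g ≠ 1 → t * t = 1 → Commute g t → t = 1)
    (r s : ℕ) (hr : r.Prime) (hs : s.Prime) (hrs : r ≠ s) :
    (∃ x : S, orderOf x = r * s) ↔ (∃ y : Ext S A, orderOf y = r * s) := by
  constructor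
  · rintro ⟨x, hx⟩
    exact ⟨SemidirectProduct.inr x, by
      rw [orderOf_injective _ SemidirectProduct.inr_injective, hx]⟩
  · rintro ⟨y, hy⟩
    -- general fact: the order of `y` divides twice the order of its image
    have hgen : ∀ y : Ext S A, orderOf y ∣ 2 * orderOf y.right := by
      intro y
      apply orderOf_dvd_of_pow_eq_one
      have h1 : (y ^ orderOf y.right).right = 1 := by
        have : (y ^ orderOf y.right).right = y.right ^ orderOf y.right :=
          map_pow SemidirectProduct.rightHom y _
        rw [this, pow_orderOf_eq_one]
      have := sq_eq_one_of_right_eq_one h2 _ h1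
      rw [mul_comm, pow_mul, pow_two]
      exact this
    have hdvd : ∀ y : Ext S A, orderOf y.right ∣ orderOf y := fun y =>
      orderOf_map_dvd SemidirectProduct.rightHom y
    -- the case of an element of order `2 * n`, `n` an odd prime
    have hcase : ∀ n : ℕ, n.Prime → n ≠ 2 → ∀ y : Ext S A, orderOf y = 2 * n → False := by
      intro n hn hn2 y hy
      have hnodd : Odd n := hn.odd_of_ne_two hn2
      obtain ⟨u, hu⟩ : ∃ u, u = y ^ 2 := ⟨_, rfl⟩
      obtain ⟨z, hz⟩ : ∃ z, z = y ^ n := ⟨_, rfl⟩
      have hy0 : orderOf y ≠ 0 := by rw [hy]; exact mul_ne_zero two_ne_zero hn.ne_zero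
      have hou : orderOf u = n := by
        rw [hu, orderOf_pow' y two_ne_zero, hy, Nat.gcd_eq_right (dvd_mul_right 2 n)]
        exact Nat.mul_div_cancel_left n two_pos
      have hoz : orderOf z = 2 := by
        rw [hz, orderOf_pow' y hn.ne_zero, hy, Nat.gcd_eq_right (dvd_mul_left n 2)]
        exact Nat.mul_div_cancel 2 hn.pos
      have hcomm : Commute z u := by
        rw [hz, hu]
        exact (Commute.refl y).pow_pow n 2
      have hg1 : u.right ≠ 1 := by
        intro h
        have := sq_eq_one_of_right_eq_one h2 u h
        have h3 : orderOf u ∣ 2 := orderOf_dvd_of_pow_eq_one (by rw [pow_two]; exact this)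
        rw [hou] at h3
        exact hn2 ((Nat.prime_dvd_prime_iff_eq hn Nat.prime_two).1 h3)
      have hog : orderOf u.right = n := by
        have h3 := hdvd u
        rw [hou] at h3
        rcases (Nat.dvd_prime hn).1 h3 with h | h
        · exact absurd (orderOf_eq_one_iff.1 h) hg1
        · exact h
      have ht2 : z.right * z.right = 1 := by
        have : z.right * z.right = (z ^ 2).right := by
          rw [pow_two, SemidirectProduct.mul_right]
        rw [this, ← hoz, pow_orderOf_eq_one, SemidirectProduct.one_right]
      have hcr : Commute u.right z.right := by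
        have := congrArg SemidirectProduct.right hcomm.eq
        rw [SemidirectProduct.mul_right, SemidirectProduct.mul_right] at this
        exact this.symm
      have ht1 : z.right = 1 := hcent u.right z.right (by rw [hog]; exact hnodd) hg1 ht2 hcr
      have hfix := commute_kernel ht1 hcomm
      have h0 := hfpf u.right (by rw [hog]; exact hnodd) hg1 _ hfix
      have hz1 : z = 1 := by
        apply SemidirectProduct.ext
        · rw [SemidirectProduct.one_left]
          exact congrArg Multiplicative.ofAdd h0
        · rw [ht1, SemidirectProduct.one_right]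
      rw [hz1, orderOf_one] at hoz
      omega
    by_cases hr2 : r = 2
    · subst hr2
      exact (hcase s hs (Ne.symm hrs) y hy).elim
    by_cases hs2 : s = 2
    · subst hs2
      exact (hcase r hr hrs y (by rw [hy, mul_comm])).elim
    · refine ⟨y.right, ?_⟩
      have h1 := hgen y
      have h3 := hdvd y
      rw [hy] at h1 h3
      have hodd : Nat.Coprime (r * s) 2 := by
        apply Nat.Coprime.mul_left
        · exact (Nat.coprime_primes hr Nat.prime_two).2 hr2
        · exact (Nat.coprime_primes hs Nat.prime_two).2 hs2
      have h4 : r * s ∣ orderOf y.right := hodd.dvd_of_dvd_mul_left h1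
      exact Nat.dvd_antisymm h3 h4

end Cfsg.Agent.Lib.Helper3.PrimeGraphExt
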