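import Mathlib

set_option autoImplicit false

namespace Cfsg.Agent.Lib.Helper3.QuotAction

/-- transport of 2-transitivity and regularity from a transitive `G`-set to the coset space
of a point stabiliser -/
theorem quot_of_regular {G Ω : Type*} [Group G] [MulAction G Ω] (ω : Ω)
    (h2 : MulAction.IsMultiplyPretransitive G Ω 2) (Q B : Subgroup G)
    (hB : B = MulAction.stabilizer G ω)
    (hreg : ∀ x y : Ω, x ≠ ω → y ≠ ω → ∃! s : Q, (s : G) • x = y) :
    MulAction.IsMultiplyPretransitive G (G ⧸ B) 2 ∧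
    ∀ x y : G ⧸ B, x ≠ QuotientGroup.mk 1 → y ≠ QuotientGroup.mk 1 →
      ∃! s : Q, (s : G) • x = y := by
  subst hB
  have hinj := MulAction.injective_ofQuotientStabilizer G ω
  have hsm := MulAction.ofQuotientStabilizer_smul G ω
  have h1 : MulAction.ofQuotientStabilizer G ω (QuotientGroup.mk 1) = ω := by
    rw [MulAction.ofQuotientStabilizer_mk, one_smul]
  constructor
  · rw [MulAction.is_two_pretransitive_iff] at h2 ⊢
    intro a b c d hab hcd
    obtain ⟨g, hg1, hg2⟩ := h2 (fun h => hab (hinj h)) (fun h => hcd (hinj h))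
    refine ⟨g, hinj ?_, hinj ?_⟩
    · rw [hsm, hg1]
    · rw [hsm, hg2]
  · intro x y hx hy
    have hx' : MulAction.ofQuotientStabilizer G ω x ≠ ω := fun h => hx (hinj (h.trans h1.symm))
    have hy' : MulAction.ofQuotientStabilizer G ω y ≠ ω := fun h => hy (hinj (h.trans h1.symm))
    obtain ⟨s, hs, hu⟩ := hreg _ _ hx' hy'
    refine ⟨s, hinj ?_, ?_⟩
    · rw [hsm, hs]
    · intro s' hs'
      apply hu
      show (s' : G) • MulAction.ofQuotientStabilizer G ω x = _
      rw [← hsm, hs']

end Cfsg.Agent.Lib.Helper3.QuotAction
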