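import Mathlib
import Cfsg.Agent.Lib.Helper3.PP1A
import Cfsg.Agent.Lib.Helper3.PP1D
import Cfsg.Agent.Lib.Helper29.SharpThree

/-!
# Sharply 3-transitive groups of degree `q + 1`, `q` odd (helper3)

Part A: kernels of the point stabilisers, absence of regular normal subgroups.
-/

set_option autoImplicit false
set_option linter.unusedVariables false
set_option linter.unusedSectionVars false
set_option linter.style.longLine false

namespace Cfsg.Agent.Lib.Helper3.S3Q

open MulAction Cfsg.H5.SharpTwo Cfsg.Agent.Helper29.SharpThree Cfsg.Agent.Lib.Helper3.PP1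

variable {G Ω : Type*} [Group G] [MulAction G Ω]

/-- hypotheses: sharply 3-transitive of degree `q + 1`, `3 ≤ q`. -/
structure Hyp3 (G Ω : Type*) [Group G] [MulAction G Ω] (q : ℕ) : Prop where
  t3 : T3 G Ω
  s3 : S3 G Ω
  cardΩ : Nat.card Ω = q + 1
  q3 : 3 ≤ q

variable {q : ℕ}

theorem Hyp3.finiteΩ (H : Hyp3 G Ω q) : Finite Ω := by
  apply Nat.finite_of_card_ne_zero
  rw [H.cardΩ]
  omega

theorem Hyp3.exists_third (H : Hyp3 G Ω q) (a b : Ω) : ∃ c : Ω, c ≠ a ∧ c ≠ b := by
  classical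
  haveI := H.finiteΩ
  by_contra hcon
  push Not at hcon
  have h1 : (Set.univ : Set Ω) ⊆ {a, b} := by
    intro c _
    by_cases hc : c = a
    · left; exact hc
    · right; exact hcon c hc
  have h2 := Set.ncard_le_ncard h1 (Set.toFinite _)
  rw [Set.ncard_univ] at h2
  have h3 : ({a, b} : Set Ω).ncard ≤ 2 := by
    have := Set.ncard_insert_le a ({b} : Set Ω)
    rw [Set.ncard_singleton] at this
    exact this
  have := H.cardΩ
  have := H.q3
  omega

theorem Hyp3.exists_ne (H : Hyp3 G Ω q) (a : Ω) : ∃ b : Ω, b ≠ a := by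
  obtain ⟨c, hc, -⟩ := H.exists_third a a
  exact ⟨c, hc⟩

theorem Hyp3.faith (H : Hyp3 G Ω q) (g : G) (hg : ∀ x : Ω, g • x = x) : g = 1 := by
  haveI := H.finiteΩ
  obtain ⟨a⟩ : Nonempty Ω := by
    have : 0 < Nat.card Ω := by rw [H.cardΩ]; omega
    exact (Nat.card_pos_iff.1 this).1
  obtain ⟨b, hb⟩ := H.exists_ne a
  obtain ⟨c, hca, hcb⟩ := H.exists_third a b
  exact H.s3 g a b c hb.symm hca.symm hcb.symm (hg a) (hg b) (hg c)

theorem Hyp3.finiteG (H : Hyp3 G Ω q) : Finite G := by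
  haveI := H.finiteΩ
  have hinj : Function.Injective (fun g : G => (fun x : Ω => g • x)) := by
    intro g g' hgg
    have h5 : ∀ x : Ω, (g'⁻¹ * g) • x = x := by
      intro x
      rw [mul_smul]
      have : g • x = g' • x := congrFun hgg x
      rw [this, inv_smul_smul]
    have h6 := H.faith _ h5
    calc g = g' * (g'⁻¹ * g) := by group
      _ = g' := by rw [h6, mul_one]
  exact Finite.of_injective _ hinj

theorem Hyp3.twoTrans (H : Hyp3 G Ω q) (a b c e : Ω) (hab : a ≠ b) (hce : c ≠ e) :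
    ∃ g : G, g • a = c ∧ g • b = e := by
  obtain ⟨x, hxa, hxb⟩ := H.exists_third a b
  obtain ⟨y, hyc, hye⟩ := H.exists_third c e
  obtain ⟨g, h1, h2, -⟩ := H.t3 a b x c e y hab hxa.symm hxb.symm hce hyc.symm hye.symm
  exact ⟨g, h1, h2⟩

theorem Hyp3.trans (H : Hyp3 G Ω q) (a c : Ω) : ∃ g : G, g • a = c := by
  obtain ⟨b, hb⟩ := H.exists_ne a
  obtain ⟨e, he⟩ := H.exists_ne c
  obtain ⟨g, h1, -⟩ := H.twoTrans a b c e hb.symm he.symm
  exact ⟨g, h1⟩

/-- the kernel of the point stabiliser. -/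
theorem Hyp3.exists_ker (H : Hyp3 G Ω q) (a : Ω) : ∃ K : Subgroup G, Ker q a K := by
  classical
  haveI := H.finiteΩ
  haveI := H.finiteG
  have hS := sharp_stab a H.s3
  have hT := twoTrans_stab a H.t3
  have hcP : Nat.card (Pts G a) = q := by
    have h1 : Nat.card (Pts G a) + 1 = Nat.card Ω :=
      SubMulAction.nat_card_ofStabilizer_add_one_eq G a
    rw [H.cardΩ] at h1
    omega
  have hn : ∃ x y : Pts G a, x ≠ y := by
    haveI : Nontrivial (Pts G a) := by
      rw [← Finite.one_lt_card_iff_nontrivial, hcP]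
      have := H.q3
      omega
    exact exists_pair_ne _
  refine ⟨(kernel hS hT hn).map (stabilizer G a).subtype, ?_, ?_, ?_, ?_, ?_⟩
  · rw [Subgroup.card_map_of_injective (Subgroup.subtype_injective _), card_kernel hS hT hn, hcP]
  · intro u hu
    obtain ⟨k, -, rfl⟩ := Subgroup.mem_map.1 hu
    exact mem_stabilizer_iff.1 k.2
  · intro y z hy hz
    obtain ⟨k, hk, hkyz⟩ := exists_mem_kernel_smul_eq hS hT hn (mkPt (G := G) y hy) (mkPt z hz)
    have hkyz' : (k : G) • y = z := congrArg Subtype.val hkyz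
    refine ⟨⟨(k : G), Subgroup.mem_map.2 ⟨k, hk, rfl⟩⟩, hkyz', ?_⟩
    rintro ⟨v, hv⟩ hvyz
    obtain ⟨k', hk', rfl⟩ := Subgroup.mem_map.1 hv
    apply Subtype.ext
    show ((stabilizer G a).subtype k' : G) = (k : G)
    have hvyz' : (k' : G) • y = z := hvyz
    have h1 : k' • (mkPt (G := G) y hy) = k • (mkPt (G := G) y hy) := by
      apply Subtype.ext
      show (k' : G) • y = (k : G) • y
      rw [hvyz', hkyz']
    have := eq_of_mem_kernel_of_smul_eq hS hT hn hk' hk h1
    rw [this]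
    rfl
  · intro g hg u hu
    obtain ⟨k, hk, rfl⟩ := Subgroup.mem_map.1 hu
    have := (kernel_normal hS hT hn).conj_mem k hk ⟨g, mem_stabilizer_iff.2 hg⟩
    exact Subgroup.mem_map.2 ⟨_, this, rfl⟩
  · intro u hu v hv
    obtain ⟨k, hk, rfl⟩ := Subgroup.mem_map.1 hu
    obtain ⟨k', hk', rfl⟩ := Subgroup.mem_map.1 hv
    have := kernel_comm hS hT hn k hk k' hk'
    exact congrArg Subtype.val this

/-- the two-point stabiliser is transitive on the non-identity elements of the kernel. -/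
theorem Hyp3.conj_trans (H : Hyp3 G Ω q) {a b : Ω} (hab : b ≠ a) {K : Subgroup G} (hK : Ker q a K)
    {u v : G} (hu : u ∈ K) (hu1 : u ≠ 1) (hv : v ∈ K) (hv1 : v ≠ 1) :
    ∃ g : G, g • a = a ∧ g • b = b ∧ g * u * g⁻¹ = v := by
  have hub : u • b ≠ b := fun h => hu1 (hK.eq_one_of_fix hu hab h)
  have hvb : v • b ≠ b := fun h => hv1 (hK.eq_one_of_fix hv hab h)
  have hua : u • b ≠ a := hK.smul_ne hu hab
  have hva : v • b ≠ a := hK.smul_ne hv hab
  obtain ⟨g, h1, h2, h3⟩ := H.t3 a b (u • b) a b (v • b) hab.symm hua.symm hub.symm hab.symm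
    hva.symm hvb.symm
  refine ⟨g, h1, h2, ?_⟩
  apply hK.ext (hK.norm g h1 u hu) hv hab
  rw [mul_smul, mul_smul, inv_smul_eq_iff.2 h2.symm, h3]

/-- an element of the stabiliser of `a` centralising the kernel lies in the kernel. -/
theorem Hyp3.centralizer_ker (H : Hyp3 G Ω q) {a : Ω} {K : Subgroup G} (hK : Ker q a K) {n : G}
    (hna : n • a = a) (hcomm : ∀ v ∈ K, n * v = v * n) : n ∈ K := by
  obtain ⟨b, hb⟩ := H.exists_ne a
  have hnb : n • b ≠ a := by
    intro h
    rw [← hna] at h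
    exact hb (MulAction.injective n h)
  obtain ⟨w, hw, -⟩ := hK.reg b (n • b) hb hnb
  have hall : ∀ y : Ω, ((w : G)⁻¹ * n) • y = y := by
    intro y
    rw [mul_smul, inv_smul_eq_iff]
    by_cases hy : y = a
    · rw [hy, hna, hK.fix _ w.2]
    · obtain ⟨v, hv, -⟩ := hK.reg b y hb hy
      rw [← hv, ← mul_smul, hcomm _ v.2, mul_smul, ← hw, ← mul_smul, ← mul_smul,
        hK.comm _ v.2 _ w.2]
  have h1 := H.faith _ hall
  have h2 : n = w := by
    calc n = (w : G) * ((w : G)⁻¹ * n) := by group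
      _ = w := by rw [h1, mul_one]
  rw [h2]
  exact w.2

/-- in the absence of a regular normal subgroup, every non-trivial normal subgroup contains all
kernels. -/
theorem Hyp3.ker_le_normal (H : Hyp3 G Ω q) (hnoreg : ¬ HasRegNormal G Ω) (N : Subgroup G)
    (hN : N.Normal) (hNbot : N ≠ ⊥) {a : Ω} {K : Subgroup G} (hK : Ker q a K) : K ≤ N := by
  obtain ⟨⟨n₀, hn₀N⟩, hn₀1⟩ := (Subgroup.ne_bot_iff_exists_ne_one).1 hNbot
  have hn₀1' : n₀ ≠ 1 := fun h => hn₀1 (Subtype.ext h)
  obtain ⟨x₀, hx₀⟩ : ∃ x : Ω, n₀ • x ≠ x := by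
    by_contra hcon
    push Not at hcon
    exact hn₀1' (H.faith n₀ hcon)
  have hNt : ∀ x y : Ω, ∃ r ∈ N, r • x = y := by
    intro x y
    by_cases hxy : x = y
    · exact ⟨1, N.one_mem, by rw [one_smul, hxy]⟩
    · obtain ⟨g, hg1, hg2⟩ := H.twoTrans x₀ (n₀ • x₀) x y (Ne.symm hx₀) hxy
      refine ⟨g * n₀ * g⁻¹, hN.conj_mem n₀ hn₀N g, ?_⟩
      rw [mul_smul, mul_smul, ← hg1, inv_smul_smul, hg2]
  have hex : ∃ r ∈ N, r ≠ 1 ∧ ∃ x : Ω, r • x = x := by
    by_contra hcon
    push Not at hcon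
    apply hnoreg
    refine ⟨N, hN, hNt, fun r hr x hx => ?_⟩
    by_contra hr1
    exact hcon r hr hr1 x hx
  obtain ⟨r, hrN, hr1, x, hrx⟩ := hex
  obtain ⟨g, hg⟩ := H.trans x a
  obtain ⟨n, hn⟩ : ∃ n : G, n = g * r * g⁻¹ := ⟨_, rfl⟩
  have hnN : n ∈ N := by rw [hn]; exact hN.conj_mem r hrN g
  have hn1 : n ≠ 1 := by
    intro h
    apply hr1
    have : r = g⁻¹ * n * g := by rw [hn]; group
    rw [this, h]
    group
  have hna : n • a = a := by
    rw [hn, mul_smul, mul_smul, ← hg, inv_smul_smul, hrx]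
  -- a non-identity element of `N ∩ K`
  have hex2 : ∃ c ∈ K, c ≠ 1 ∧ c ∈ N := by
    by_cases hnK : n ∈ K
    · exact ⟨n, hnK, hn1, hnN⟩
    · have h1 : ¬ ∀ v ∈ K, n * v = v * n := fun h => hnK (H.centralizer_ker hK hna h)
      push Not at h1
      obtain ⟨u, hu, hc⟩ := h1
      refine ⟨n * u * n⁻¹ * u⁻¹, mul_mem (hK.norm n hna u hu) (inv_mem hu), ?_, ?_⟩
      · intro h
        apply hc
        calc n * u = (n * u * n⁻¹ * u⁻¹) * (u * n) := by group
          _ = u * n := by rw [h, one_mul]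
      · have : n * u * n⁻¹ * u⁻¹ = n * (u * n⁻¹ * u⁻¹) := by group
        rw [this]
        exact mul_mem hnN (hN.conj_mem _ (inv_mem hnN) u)
  obtain ⟨c, hcK, hc1, hcN⟩ := hex2
  obtain ⟨b, hb⟩ := H.exists_ne a
  intro v hv
  by_cases hv1 : v = 1
  · rw [hv1]; exact N.one_mem
  · obtain ⟨g', -, -, hg'⟩ := H.conj_trans hb hK hcK hc1 hv hv1
    rw [← hg']
    exact hN.conj_mem c hcN g'

/-- **No regular normal subgroup** when `q ≥ 5` is odd. -/
theorem Hyp3.not_regNormal (H : Hyp3 G Ω q) (hq : Odd q) (hq5 : 5 ≤ q) : ¬ HasRegNormal G Ω := by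
  classical
  haveI := H.finiteΩ
  haveI := H.finiteG
  rintro ⟨M, hMn, hMt, hMs⟩
  obtain ⟨a⟩ : Nonempty Ω := by
    have : 0 < Nat.card Ω := by rw [H.cardΩ]; omega
    exact (Nat.card_pos_iff.1 this).1
  obtain ⟨b, hb⟩ := H.exists_ne a
  have hMext : ∀ m ∈ M, ∀ m' ∈ M, ∀ x : Ω, m • x = m' • x → m = m' := by
    intro m hm m' hm' x h
    have h1 : (m'⁻¹ * m) • x = x := by rw [mul_smul, h, inv_smul_smul]
    have h2 := hMs _ (mul_mem (inv_mem hm') hm) x h1
    calc m = m' * (m'⁻¹ * m) := by group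
      _ = m' := by rw [h2, mul_one]
  have hcM : Nat.card M = q + 1 := by
    rw [← H.cardΩ]
    apply Nat.card_congr
    refine Equiv.ofBijective (fun m : M => (m : G) • a) ⟨?_, ?_⟩
    · intro m m' h
      exact Subtype.ext (hMext _ m.2 _ m'.2 a h)
    · intro y
      obtain ⟨m, hm, hmy⟩ := hMt a y
      exact ⟨⟨m, hm⟩, hmy⟩
  -- an involution in `M`
  haveI : Fact (Nat.Prime 2) := ⟨Nat.prime_two⟩
  have h2M : 2 ∣ Nat.card M := by
    rw [hcM]
    obtain ⟨j, hj⟩ := hq
    exact ⟨j + 1, by omega⟩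
  obtain ⟨m₀, hm₀⟩ := exists_prime_orderOf_dvd_card' 2 h2M
  have hm₀1 : (m₀ : G) ≠ 1 := by
    intro h
    have : m₀ = 1 := Subtype.ext h
    rw [this, orderOf_one] at hm₀
    omega
  have hm₀2 : (m₀ : G) * (m₀ : G) = 1 := by
    have h1 : m₀ ^ 2 = 1 := by rw [← hm₀]; exact pow_orderOf_eq_one m₀
    have h2 := congrArg Subtype.val h1
    rw [Subgroup.coe_pow, Subgroup.coe_one, pow_two] at h2
    exact h2
  -- all elements of `M` are involutions
  have hexp : ∀ m ∈ M, m * m = 1 := by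
    intro m hm
    by_cases hm1 : m = 1
    · rw [hm1, mul_one]
    · have h1 : (m₀ : G) • a ≠ a := fun h => hm₀1 (hMs _ m₀.2 a h)
      have h2 : m • a ≠ a := fun h => hm1 (hMs _ hm a h)
      obtain ⟨g, hga, hgb⟩ := H.twoTrans a ((m₀ : G) • a) a (m • a) (Ne.symm h1) (Ne.symm h2)
      have h3 : g * (m₀ : G) * g⁻¹ = m := by
        apply hMext _ (hMn.conj_mem _ m₀.2 g) _ hm a
        rw [mul_smul, mul_smul, inv_smul_eq_iff.2 hga.symm, hgb]
      rw [← h3]
      calc g * (m₀ : G) * g⁻¹ * (g * (m₀ : G) * g⁻¹) = g * ((m₀ : G) * (m₀ : G)) * g⁻¹ := by group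
        _ = 1 := by rw [hm₀2]; group
  have hMcomm : ∀ m ∈ M, ∀ m' ∈ M, m * m' = m' * m := by
    intro m hm m' hm'
    have h1 := hexp _ (mul_mem hm hm')
    have h2 := hexp m hm
    have h3 := hexp m' hm'
    have hi : m⁻¹ = m := inv_eq_of_mul_eq_one_right h2
    have hi' : m'⁻¹ = m' := inv_eq_of_mul_eq_one_right h3
    have h4 : m * m' = (m * m')⁻¹ := (inv_eq_of_mul_eq_one_right h1).symm
    rw [h4, mul_inv_rev, hi, hi']
  -- an involution fixing two points
  obtain ⟨c, hca, hcb⟩ := H.exists_third a b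
  have hcH : Nat.card ↥(stabilizer G a ⊓ stabilizer G b : Subgroup G) = q - 1 := by
    have h1 : Nat.card ↥(stabilizer G a ⊓ stabilizer G b : Subgroup G) =
        Nat.card {y : Ω // y ≠ a ∧ y ≠ b} := by
      apply Nat.card_congr
      refine Equiv.ofBijective (fun h => ⟨(h : G) • c, ?_, ?_⟩) ⟨?_, ?_⟩
      · have hh := h.2
        rw [Subgroup.mem_inf, mem_stabilizer_iff, mem_stabilizer_iff] at hh
        intro h'
        have h'' : (h : G) • c = (h : G) • a := h'.trans hh.1.symm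
        exact hca (MulAction.injective _ h'')
      · have hh := h.2
        rw [Subgroup.mem_inf, mem_stabilizer_iff, mem_stabilizer_iff] at hh
        intro h'
        have h'' : (h : G) • c = (h : G) • b := h'.trans hh.2.symm
        exact hcb (MulAction.injective _ h'')
      · intro h h' e
        have e' : (h : G) • c = (h' : G) • c := congrArg Subtype.val e
        have hh := h.2
        have hh' := h'.2
        rw [Subgroup.mem_inf, mem_stabilizer_iff, mem_stabilizer_iff] at hh hh'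
        have h1 : ((h' : G)⁻¹ * (h : G)) = 1 := by
          apply H.s3 _ a b c hb.symm hca.symm hcb.symm
          · rw [mul_smul, hh.1, inv_smul_eq_iff, hh'.1]
          · rw [mul_smul, hh.2, inv_smul_eq_iff, hh'.2]
          · rw [mul_smul, e', inv_smul_smul]
        apply Subtype.ext
        calc (h : G) = (h' : G) * ((h' : G)⁻¹ * (h : G)) := by group
          _ = h' := by rw [h1, mul_one]
      · rintro ⟨y, hya, hyb⟩
        obtain ⟨g, h1, h2, h3⟩ := H.t3 a b c a b y hb.symm hca.symm hcb.symm hb.symm hya.symm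
          hyb.symm
        exact ⟨⟨g, Subgroup.mem_inf.2 ⟨mem_stabilizer_iff.2 h1, mem_stabilizer_iff.2 h2⟩⟩,
          Subtype.ext h3⟩
    rw [h1]
    have h2 : Nat.card {y : Ω // y ≠ a ∧ y ≠ b} = Nat.card ↥(({a, b} : Set Ω)ᶜ) := by
      apply Nat.card_congr
      exact Equiv.subtypeEquivRight (fun z => by simp)
    rw [h2, Nat.card_coe_set_eq, Set.ncard_compl, Set.ncard_pair hb.symm, H.cardΩ]
    omega
  have h2H : 2 ∣ Nat.card ↥(stabilizer G a ⊓ stabilizer G b : Subgroup G) := by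
    rw [hcH]
    obtain ⟨j, hj⟩ := hq
    exact ⟨j, by omega⟩
  obtain ⟨z₀, hz₀⟩ := exists_prime_orderOf_dvd_card' 2 h2H
  obtain ⟨z, hzdef⟩ : ∃ z : G, z = (z₀ : G) := ⟨_, rfl⟩
  have hz1 : z ≠ 1 := by
    intro h
    have : z₀ = 1 := Subtype.ext (hzdef ▸ h)
    rw [this, orderOf_one] at hz₀
    omega
  have hz2 : z * z = 1 := by
    have h1 : z₀ ^ 2 = 1 := by rw [← hz₀]; exact pow_orderOf_eq_one z₀
    have h2 := congrArg Subtype.val h1
    rw [Subgroup.coe_pow, Subgroup.coe_one, pow_two] at h2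
    rw [hzdef]
    exact h2
  have hzab : z • a = a ∧ z • b = b := by
    have hh := z₀.2
    rw [Subgroup.mem_inf, mem_stabilizer_iff, mem_stabilizer_iff] at hh
    rw [hzdef]
    exact hh
  have hzinv : z⁻¹ = z := inv_eq_of_mul_eq_one_left hz2
  have hzfix : ∀ y : Ω, z • y = y → y = a ∨ y = b := by
    intro y hy
    by_contra hcon
    push Not at hcon
    exact hz1 (H.s3 z a b y hb.symm (Ne.symm hcon.1) (Ne.symm hcon.2) hzab.1 hzab.2 hy)
  -- the homomorphism `m ↦ m * z m z⁻¹`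
  let φ : M →* M :=
    { toFun := fun m => ⟨(m : G) * (z * (m : G) * z⁻¹), mul_mem m.2 (hMn.conj_mem _ m.2 z)⟩
      map_one' := by
        apply Subtype.ext
        show ((1 : M) : G) * (z * ((1 : M) : G) * z⁻¹) = ((1 : M) : G)
        rw [Subgroup.coe_one]
        group
      map_mul' := by
        intro m m'
        apply Subtype.ext
        show ((m * m' : M) : G) * (z * ((m * m' : M) : G) * z⁻¹) =
          ((m : G) * (z * (m : G) * z⁻¹)) * ((m' : G) * (z * (m' : G) * z⁻¹))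
        rw [Subgroup.coe_mul]
        have h1 := hMcomm _ m'.2 _ (hMn.conj_mem _ m.2 z)
        calc (m : G) * (m' : G) * (z * ((m : G) * (m' : G)) * z⁻¹)
            = (m : G) * ((m' : G) * (z * (m : G) * z⁻¹)) * (z * (m' : G) * z⁻¹) := by group
          _ = (m : G) * ((z * (m : G) * z⁻¹) * (m' : G)) * (z * (m' : G) * z⁻¹) := by rw [h1]
          _ = _ := by group }
  -- elements of `M` centralised by `z` are `1` or the element moving `a` to `b`
  obtain ⟨mb, hmb, hmba⟩ := hMt a b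
  have hC : ∀ m ∈ M, z * m * z⁻¹ = m → m = 1 ∨ m = mb := by
    intro m hm h
    have h1 : z • (m • a) = m • a := by
      calc z • (m • a) = (z * m * z⁻¹) • (z • a) := by
            rw [mul_smul, mul_smul, inv_smul_smul]
        _ = m • a := by rw [h, hzab.1]
    rcases hzfix _ h1 with h2 | h2
    · left; exact hMs m hm a h2
    · right; exact hMext m hm mb hmb a (h2.trans hmba.symm)
  have hker : ∀ m : M, m ∈ φ.ker → (m : G) = 1 ∨ (m : G) = mb := by
    intro m hm
    rw [MonoidHom.mem_ker] at hm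
    have h1 : (m : G) * (z * (m : G) * z⁻¹) = 1 := congrArg Subtype.val hm
    apply hC _ m.2
    have h2 := hexp _ m.2
    calc z * (m : G) * z⁻¹ = (m : G)⁻¹ * ((m : G) * (z * (m : G) * z⁻¹)) := by group
      _ = (m : G)⁻¹ := by rw [h1, mul_one]
      _ = m := by
          calc (m : G)⁻¹ = (m : G)⁻¹ * ((m : G) * (m : G)) := by rw [h2, mul_one]
            _ = m := by group
  have hrange : ∀ m : M, m ∈ φ.range → (m : G) = 1 ∨ (m : G) = mb := by
    rintro m ⟨m', rfl⟩
    apply hC _ (φ m').2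
    show z * ((m' : G) * (z * (m' : G) * z⁻¹)) * z⁻¹ = (m' : G) * (z * (m' : G) * z⁻¹)
    have h1 := hMcomm _ m'.2 _ (hMn.conj_mem _ m'.2 z)
    calc z * ((m' : G) * (z * (m' : G) * z⁻¹)) * z⁻¹
        = (z * (m' : G) * z⁻¹) * ((z * z) * (m' : G) * (z * z)⁻¹) := by group
      _ = (z * (m' : G) * z⁻¹) * (m' : G) := by rw [hz2]; group
      _ = _ := h1.symm
  have hcard2 : ∀ S : Subgroup M, (∀ m : M, m ∈ S → (m : G) = 1 ∨ (m : G) = mb) →
      Nat.card S ≤ 2 := by
    intro S hS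
    have hinj : Function.Injective (fun s : S => (if ((s : M) : G) = 1 then (0 : Fin 2) else 1)) := by
      intro s s' h
      apply Subtype.ext
      apply Subtype.ext
      by_cases h1 : ((s : M) : G) = 1
      · by_cases h2 : ((s' : M) : G) = 1
        · rw [h1, h2]
        · simp only [h1, h2, if_true, if_false] at h
          exact absurd h (by decide)
      · by_cases h2 : ((s' : M) : G) = 1
        · simp only [h1, h2, if_true, if_false] at h
          exact absurd h (by decide)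
        · rcases hS _ s.2 with h3 | h3
          · exact absurd h3 h1
          · rcases hS _ s'.2 with h4 | h4
            · exact absurd h4 h2
            · rw [h3, h4]
    have := Nat.card_le_card_of_injective _ hinj
    rwa [Nat.card_fin] at this
  have h1 := Subgroup.card_mul_index φ.ker
  rw [Subgroup.index_ker, hcM] at h1
  have h2 := hcard2 _ hker
  have h3 := hcard2 _ hrange
  have : Nat.card φ.ker * Nat.card φ.range ≤ 2 * 2 := Nat.mul_le_mul h2 h3
  omega

end Cfsg.Agent.Lib.Helper3.S3Q
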