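import Mathlib
import Cfsg.Agent.Lib.Helper3.S3QA
import Cfsg.Agent.Lib.Helper3.PP1F
import Cfsg.Agent.Lib.Helper3.Sharp3G
import Cfsg.Agent.Lib.Helper3.CardSL
import Cfsg.Agent.Lib.Helper4.SharpTrans
import Cfsg.Agent.S0731

/-!
# Sharply 3-transitive groups of degree `q + 1`, `q` odd: the normal `PSL₂(q)` (helper3)
-/

set_option autoImplicit false
set_option linter.unusedVariables false
set_option linter.unusedSectionVars false
set_option linter.style.longLine false

namespace Cfsg.Agent.Lib.Helper3.S3Q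

open MulAction Cfsg.H5.SharpTwo Cfsg.Agent.Helper29.SharpThree Cfsg.Agent.Lib.Helper3.PP1

theorem arith_r_eq_q {q d r : ℕ} (hq : Odd q) (hq3 : 3 ≤ q) (hd : d < q) (hr : Odd r)
    (hr3 : 3 ≤ r) (h : 2 * ((q + 1) * q * d) = r * (r ^ 2 - 1))
    (hdvd : q ∣ r - 1 ∨ q ∣ r ∨ q ∣ r + 1) : r = q := by
  obtain ⟨j, hj⟩ := hq
  obtain ⟨i, hi⟩ := hr
  obtain ⟨s, hs⟩ : ∃ s, r = s + 1 := ⟨r - 1, by omega⟩
  have hs2 : 2 ≤ s := by omega
  have e1 : r * (r ^ 2 - 1) = s * (s + 1) * (s + 2) := by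
    have : r ^ 2 - 1 = s * (s + 2) := by
      have h1 : r ^ 2 = s * (s + 2) + 1 := by rw [hs]; ring
      rw [h1, Nat.add_sub_cancel]
    rw [this, hs]
    ring
  rw [e1] at h
  have hlt : (q + 1) * q * d < (q + 1) * q * q := Nat.mul_lt_mul_of_pos_left hd (by positivity)
  have mono : ∀ t : ℕ, t ≤ s → t * (t + 1) * (t + 2) ≤ s * (s + 1) * (s + 2) := by
    intro t ht
    exact Nat.mul_le_mul (Nat.mul_le_mul ht (by omega)) (by omega)
  have hr1 : r - 1 = s := by omega
  have hr2 : r + 1 = s + 2 := by omega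
  rw [hr1, hr2, hs] at hdvd
  rcases hdvd with h2 | h2 | h1
  · -- `q ∣ s`
    exfalso
    obtain ⟨m, hm⟩ := h2
    have e2 : q * m = 2 * (j * m) + m := by rw [hj]; ring
    obtain ⟨m', hm'⟩ : ∃ m', m = 2 * m' := ⟨i - j * m, by omega⟩
    have hm'1 : 1 ≤ m' := by
      rcases Nat.eq_zero_or_pos m' with h0 | h0
      · rw [h0] at hm'
        rw [hm', mul_zero] at hm
        omega
      · exact h0
    have hs2p : 2 * q ≤ s := by
      rw [hm, hm']
      nlinarith
    have := mono (2 * q) hs2p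
    nlinarith
  · -- `q ∣ s + 1 = r`
    obtain ⟨m, hm⟩ := h2
    have e2 : q * m = 2 * (j * m) + m := by rw [hj]; ring
    rcases Nat.lt_or_ge m 2 with hm2 | hm2
    · interval_cases m
      · omega
      · omega
    · exfalso
      have hm3 : 3 ≤ m := by
        by_contra hc
        have : m = 2 := by omega
        subst this
        omega
      have hs3p : 3 * q - 1 ≤ s := by
        have : 3 * q ≤ q * m := by nlinarith
        omega
      obtain ⟨w, hw⟩ : ∃ w, 3 * q - 1 = w := ⟨_, rfl⟩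
      rw [hw] at hs3p
      have := mono w hs3p
      have hw' : w + 1 = 3 * q := by omega
      have e3 : w * (w + 1) * (w + 2) = w * (3 * q) * (3 * q + 1) := by
        rw [hw']
        have : w + 2 = 3 * q + 1 := by omega
        rw [this]
      have hw2 : 2 * q ≤ w := by omega
      have e4 : 2 * q * (3 * q) * (3 * q + 1) ≤ w * (3 * q) * (3 * q + 1) :=
        Nat.mul_le_mul_right _ (Nat.mul_le_mul_right _ hw2)
      nlinarith
  · -- `q ∣ s + 2 = r + 1`
    exfalso
    obtain ⟨m, hm⟩ := h1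
    have e2 : q * m = 2 * (j * m) + m := by rw [hj]; ring
    obtain ⟨m', hm'⟩ : ∃ m', m = 2 * m' := ⟨i + 1 - j * m, by omega⟩
    have hm'1 : 1 ≤ m' := by
      rcases Nat.eq_zero_or_pos m' with h0 | h0
      · rw [h0] at hm'
        rw [hm', mul_zero] at hm
        omega
      · exact h0
    have hs2p : 2 * q ≤ s + 2 := by
      rw [hm, hm']
      nlinarith
    obtain ⟨w, hw⟩ : ∃ w, 2 * q - 2 = w := ⟨_, rfl⟩
    have hws : w ≤ s := by omega
    have := mono w hws
    have hd' : d + 1 ≤ q := hd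
    have e3 : (q + 1) * q * d ≤ (q + 1) * q * (q - 1) :=
      Nat.mul_le_mul_left _ (by omega)
    obtain ⟨v, hv⟩ : ∃ v, q = v + 3 := ⟨q - 3, by omega⟩
    have hwv : w = 2 * v + 4 := by omega
    have hpv : q - 1 = v + 2 := by omega
    rw [hpv] at e3
    rw [hwv] at this
    rw [hv] at e3 h
    obtain ⟨X, hX⟩ : ∃ X, X = (v + 3) * (v + 2) := ⟨_, rfl⟩
    have hX1 : 1 ≤ X := by rw [hX]; nlinarith
    have e4 : (2 * v + 4) * (2 * v + 4 + 1) * (2 * v + 4 + 2) = 4 * X * (2 * v + 5) := by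
      rw [hX]; ring
    have e5 : (v + 3 + 1) * (v + 3) * (v + 2) = X * (v + 4) := by rw [hX]; ring
    rw [e4] at this
    rw [e5] at e3
    have e6 : 4 * X * (2 * v + 5) ≤ 2 * (X * (v + 4)) := by
      calc 4 * X * (2 * v + 5) ≤ s * (s + 1) * (s + 2) := this
        _ = 2 * ((v + 3 + 1) * (v + 3) * d) := h.symm
        _ ≤ 2 * (X * (v + 4)) := Nat.mul_le_mul_left _ e3
    have e7 : 4 * X * (2 * v + 5) = 8 * (X * v) + 20 * X := by ring
    have e8 : 2 * (X * (v + 4)) = 2 * (X * v) + 8 * X := by ring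
    rw [e7, e8] at e6
    omega

/-- an odd prime power dividing `(r-1) r (r+1)` divides one of the factors. -/
theorem primePow_dvd_three {p f r : ℕ} (hp : p.Prime) (hp2 : p ≠ 2) (hr : 1 ≤ r)
    (h : p ^ f ∣ r * (r ^ 2 - 1)) : p ^ f ∣ r - 1 ∨ p ^ f ∣ r ∨ p ^ f ∣ r + 1 := by
  have hp3 : 3 ≤ p := by
    have := hp.two_le
    omega
  have e1 : r ^ 2 - 1 = (r - 1) * (r + 1) := by
    obtain ⟨s, rfl⟩ : ∃ s, r = s + 1 := ⟨r - 1, by omega⟩
    have h1 : (s + 1) ^ 2 = s * (s + 2) + 1 := by ring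
    rw [h1, Nat.add_sub_cancel, Nat.add_sub_cancel]
  rw [e1] at h
  by_cases hpr : p ∣ r
  · right; left
    have h1 : ¬ p ∣ r - 1 := by
      intro h2
      have : p ∣ r - (r - 1) := Nat.dvd_sub hpr h2
      have e : r - (r - 1) = 1 := by omega
      rw [e] at this
      have := Nat.le_of_dvd (by norm_num) this
      omega
    have h2 : ¬ p ∣ r + 1 := by
      intro h2
      have : p ∣ r + 1 - r := Nat.dvd_sub h2 hpr
      rw [Nat.add_sub_cancel_left] at this
      have := Nat.le_of_dvd (by norm_num) this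
      omega
    have hc : Nat.Coprime (p ^ f) ((r - 1) * (r + 1)) := by
      apply Nat.Coprime.pow_left
      rw [hp.coprime_iff_not_dvd, hp.dvd_mul]
      push Not
      exact ⟨h1, h2⟩
    exact hc.dvd_of_dvd_mul_right h
  · have hc : Nat.Coprime (p ^ f) r := by
      apply Nat.Coprime.pow_left
      rw [hp.coprime_iff_not_dvd]
      exact hpr
    have h1 : p ^ f ∣ (r - 1) * (r + 1) := hc.dvd_of_dvd_mul_left h
    by_cases hpr1 : p ∣ r - 1
    · left
      have h2 : ¬ p ∣ r + 1 := by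
        intro h2
        have : p ∣ r + 1 - (r - 1) := Nat.dvd_sub h2 hpr1
        have e : r + 1 - (r - 1) = 2 := by omega
        rw [e] at this
        have := Nat.le_of_dvd (by norm_num) this
        omega
      have hc2 : Nat.Coprime (p ^ f) (r + 1) := by
        apply Nat.Coprime.pow_left
        rw [hp.coprime_iff_not_dvd]
        exact h2
      exact hc2.dvd_of_dvd_mul_right h1
    · right; right
      have hc2 : Nat.Coprime (p ^ f) (r - 1) := by
        apply Nat.Coprime.pow_left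
        rw [hp.coprime_iff_not_dvd]
        exact hpr1
      exact hc2.dvd_of_dvd_mul_left h1

variable {G Ω : Type*} [Group G] [MulAction G Ω] {q : ℕ}

/-- the normal subgroup `PSL₂(q)` of index two. -/
theorem Hyp3.exists_psl (H : Hyp3 G Ω q) {p f : ℕ} (hp : p.Prime) (hp2 : p ≠ 2) (hqpf : q = p ^ f)
    (hq5 : 5 ≤ q) (h3 : IsMultiplyPretransitive G Ω 3)
    (hsharp : ∀ t : Fin 3 ↪ Ω, stabilizer G t = ⊥) :
    ∃ (N₁ : Subgroup G) (_ : N₁.Normal) (F : Type) (_ : Field F) (_ : Fintype F),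
      Fintype.card F = q ∧ Nonempty (N₁ ≃* Matrix.ProjectiveSpecialLinearGroup (Fin 2) F) ∧
      2 * Nat.card N₁ = Nat.card G ∧ Nat.card G = q * (q ^ 2 - 1) ∧
      (∀ c : G, (∀ n ∈ N₁, c * n = n * c) → c = 1) := by
  classical
  haveI := H.finiteΩ
  haveI := H.finiteG
  have hodd : Odd q := by
    rw [hqpf]
    exact (hp.odd_of_ne_two hp2).pow
  have hnoreg := H.not_regNormal hodd hq5
  letI : Fintype Ω := Fintype.ofFinite Ω
  have hcΩ : Fintype.card Ω = q + 1 := by
    rw [← Nat.card_eq_fintype_card]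
    exact H.cardΩ
  haveI hfaith : FaithfulSMul G Ω := by
    constructor
    intro g g' h
    have h5 : ∀ x : Ω, (g'⁻¹ * g) • x = x := by
      intro x
      rw [mul_smul, h x, inv_smul_smul]
    have h6 := H.faith _ h5
    calc g = g' * (g'⁻¹ * g) := by group
      _ = g' := by rw [h6, mul_one]
  have heven : Even (Fintype.card Ω) := by
    rw [hcΩ]
    obtain ⟨j, hj⟩ := hodd
    exact ⟨j + 1, by omega⟩
  have hcG : Nat.card G = (q + 1) * q * (q - 1) := by
    have hc := Cfsg.Agent.Helper4.SharpTrans.card_eq ⟨h3, hsharp⟩ (by rw [H.cardΩ]; omega)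
    rw [H.cardΩ] at hc
    obtain ⟨m, hm⟩ : ∃ m, q = m + 1 := ⟨q - 1, by omega⟩
    rw [hm] at hc ⊢
    rw [Nat.succ_descFactorial_succ, Nat.succ_descFactorial_succ, Nat.descFactorial_one] at hc
    rw [hc, Nat.add_sub_cancel]
    ring
  obtain ⟨N, hNn, hNbot, hNtop⟩ :=
    Cfsg.Agent.Lib.Helper3.Sharp3.sharp3_even_not_simple h3 hsharp heven (by omega)
  obtain ⟨a⟩ : Nonempty Ω := by
    have : 0 < Nat.card Ω := by rw [H.cardΩ]; omega
    exact (Nat.card_pos_iff.1 this).1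
  obtain ⟨K, hK⟩ := H.exists_ker a
  have hKN : K ≤ N := H.ker_le_normal hnoreg N hNn hNbot hK
  obtain ⟨N₁, hN₁def⟩ : ∃ N₁ : Subgroup G, N₁ = Subgroup.normalClosure (K : Set G) := ⟨_, rfl⟩
  have hN₁n : N₁.Normal := by rw [hN₁def]; exact Subgroup.normalClosure_normal
  have hKN₁ : K ≤ N₁ := by rw [hN₁def]; exact Subgroup.le_normalClosure
  have hN₁N : N₁ ≤ N := by
    rw [hN₁def]
    haveI := hNn
    exact Subgroup.normalClosure_le_normal hKN
  have hN₁top : N₁ ≠ ⊤ := by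
    intro h
    rw [h] at hN₁N
    exact hNtop (top_le_iff.1 hN₁N)
  have hN₁bot : N₁ ≠ ⊥ := by
    obtain ⟨u, hu, hu1⟩ := hK.exists_ne_one (by omega)
    intro h
    have := hKN₁ hu
    rw [h, Subgroup.mem_bot] at this
    exact hu1 this
  have hall : ∀ (x : Ω) (K' : Subgroup G), Ker q x K' → K' ≤ N₁ :=
    fun x K' hK' => H.ker_le_normal hnoreg N₁ hN₁n hN₁bot hK'
  -- transitivity properties of `N₁`
  have hN₁t1 : ∀ x y : Ω, ∃ n ∈ N₁, n • x = y := by
    intro x y
    by_cases hxy : x = y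
    · exact ⟨1, N₁.one_mem, by rw [one_smul, hxy]⟩
    · obtain ⟨c, hcx, hcy⟩ := H.exists_third x y
      obtain ⟨K', hK'⟩ := H.exists_ker c
      obtain ⟨u, hu, -⟩ := hK'.reg x y (Ne.symm hcx) (Ne.symm hcy)
      exact ⟨u.1, hall c K' hK' u.2, hu⟩
  have hN₁t2 : ∀ x y u v : Ω, x ≠ y → u ≠ v → ∃ n ∈ N₁, n • x = u ∧ n • y = v := by
    intro x y u v hxy huv
    obtain ⟨n₁, hn₁, hn₁x⟩ := hN₁t1 x u
    obtain ⟨K', hK'⟩ := H.exists_ker u
    have h1 : n₁ • y ≠ u := by
      intro h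
      rw [← hn₁x] at h
      exact hxy (MulAction.injective n₁ h).symm
    obtain ⟨w, hw, -⟩ := hK'.reg (n₁ • y) v h1 huv.symm
    refine ⟨w.1 * n₁, mul_mem (hall u K' hK' w.2) hn₁, ?_, ?_⟩
    · rw [mul_smul, hn₁x, hK'.fix _ w.2]
    · rw [mul_smul, hw]
  -- `N₁` is not sharply doubly transitive
  have hsh : ¬ ∀ n ∈ N₁, ∀ x y : Ω, x ≠ y → n • x = x → n • y = y → n = 1 := by
    intro hcon
    have hS : Sharp N₁ Ω := by
      intro g x y hxy hx hy
      exact Subtype.ext (hcon g.1 g.2 x y hxy hx hy)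
    have hT : TwoTrans N₁ Ω := by
      intro x y u v hxy huv
      obtain ⟨n, hn, h1, h2⟩ := hN₁t2 x y u v hxy huv
      exact ⟨⟨n, hn⟩, h1, h2⟩
    have hn : ∃ x y : Ω, x ≠ y := by
      obtain ⟨b, hb⟩ := H.exists_ne a
      exact ⟨a, b, hb.symm⟩
    apply hnoreg
    refine ⟨(kernel hS hT hn).map N₁.subtype, ⟨?_⟩, ?_, ?_⟩
    · intro r hr g
      obtain ⟨r₀, hr₀, rfl⟩ := Subgroup.mem_map.1 hr
      have hmem : g * (r₀ : G) * g⁻¹ ∈ N₁ := hN₁n.conj_mem _ r₀.2 g
      refine Subgroup.mem_map.2 ⟨⟨_, hmem⟩, ?_, rfl⟩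
      rw [mem_kernel] at hr₀ ⊢
      rcases hr₀ with h1 | h1
      · left
        apply Subtype.ext
        show g * (r₀ : G) * g⁻¹ = 1
        rw [h1, Subgroup.coe_one]
        group
      · right
        intro x hx
        apply h1 (g⁻¹ • x)
        have hx' : (g * (r₀ : G) * g⁻¹) • x = x := hx
        show (r₀ : G) • g⁻¹ • x = g⁻¹ • x
        rw [mul_smul, mul_smul] at hx'
        rw [eq_inv_smul_iff]
        exact hx'
    · intro x y
      obtain ⟨r, hr, hrxy⟩ := exists_mem_kernel_smul_eq hS hT hn x y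
      exact ⟨r.1, Subgroup.mem_map.2 ⟨r, hr, rfl⟩, hrxy⟩
    · intro r hr x hx
      obtain ⟨r₀, hr₀, rfl⟩ := Subgroup.mem_map.1 hr
      rcases (mem_kernel hS hT hn r₀).1 hr₀ with h1 | h1
      · rw [h1]
        rfl
      · exact absurd hx (h1 x)
  -- `N₁` has no regular normal subgroup
  have hnoreg₁ : ¬ HasRegNormal N₁ Ω := by
    rintro ⟨M, hMn, hMt, hMs⟩
    apply hsh
    obtain ⟨M', hM'def⟩ : ∃ M' : Subgroup G, M' = M.map N₁.subtype := ⟨_, rfl⟩
    have hM'mem : ∀ m : G, m ∈ M' ↔ ∃ h : m ∈ N₁, (⟨m, h⟩ : N₁) ∈ M := by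
      intro m
      rw [hM'def, Subgroup.mem_map]
      constructor
      · rintro ⟨x, hx, rfl⟩
        exact ⟨x.2, hx⟩
      · rintro ⟨h, hm⟩
        exact ⟨⟨m, h⟩, hm, rfl⟩
    have hM'N₁ : M' ≤ N₁ := fun m hm => ((hM'mem m).1 hm).1
    have hM't : ∀ x y : Ω, ∃ m ∈ M', m • x = y := by
      intro x y
      obtain ⟨m, hm, hmxy⟩ := hMt x y
      exact ⟨m.1, (hM'mem _).2 ⟨m.2, hm⟩, hmxy⟩
    have hM's : ∀ m ∈ M', ∀ x : Ω, m • x = x → m = 1 := by
      intro m hm x hx
      obtain ⟨h, hmM⟩ := (hM'mem m).1 hm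
      exact congrArg Subtype.val (hMs _ hmM x hx)
    have hM'norm : ∀ n ∈ N₁, ∀ m ∈ M', n * m * n⁻¹ ∈ M' := by
      intro n hn m hm
      obtain ⟨h, hmM⟩ := (hM'mem m).1 hm
      have := hMn.conj_mem _ hmM ⟨n, hn⟩
      exact (hM'mem _).2 ⟨_, this⟩
    have hKnorm : K ≤ Subgroup.normalizer (M' : Set G) := by
      intro u hu
      rw [Subgroup.mem_normalizer_iff]
      intro m
      constructor
      · intro hm
        exact hM'norm u (hKN₁ hu) m hm
      · intro hm
        have := hM'norm u⁻¹ (inv_mem (hKN₁ hu)) _ hm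
        have e : u⁻¹ * (u * m * u⁻¹) * u⁻¹⁻¹ = m := by group
        rwa [e] at this
    have hle : N₁ ≤ M' ⊔ K := by
      have h0 : Subgroup.closure (Group.conjugatesOfSet (K : Set G)) ≤ M' ⊔ K := by
        rw [Subgroup.closure_le]
        intro y hy
        rw [Group.mem_conjugatesOfSet_iff] at hy
        obtain ⟨u, hu, huy⟩ := hy
        obtain ⟨g, hg⟩ := isConj_iff.1 huy
        obtain ⟨m, hm, hma⟩ := hM't a (g • a)
        have hh : (m⁻¹ * g) • a = a := by rw [mul_smul, ← hma, inv_smul_smul]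
        have e : y = m * ((m⁻¹ * g) * u * (m⁻¹ * g)⁻¹) * m⁻¹ := by rw [← hg]; group
        rw [e]
        have hmM : m ∈ M' ⊔ K := Subgroup.mem_sup_left hm
        exact mul_mem (mul_mem hmM (Subgroup.mem_sup_right (hK.norm _ hh u hu))) (inv_mem hmM)
      have : N₁ = Subgroup.closure (Group.conjugatesOfSet (K : Set G)) := hN₁def
      rw [this]
      exact h0
    have hstab : ∀ n ∈ N₁, n • a = a → n ∈ K := by
      intro n hn hna
      have h1 := hle hn
      rw [← SetLike.mem_coe, Subgroup.coe_mul_of_right_le_normalizer_left M' K hKnorm,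
        Set.mem_mul] at h1
      obtain ⟨m, hm, u, hu, rfl⟩ := h1
      rw [mul_smul, hK.fix u hu] at hna
      rw [hM's m hm a hna, one_mul]
      exact hu
    intro n hn x y hxy hx hy
    obtain ⟨m, hm, hmx⟩ := hM't x a
    have h1 : m * n * m⁻¹ ∈ K := by
      apply hstab _ (mul_mem (mul_mem (hM'N₁ hm) hn) (inv_mem (hM'N₁ hm)))
      rw [mul_smul, mul_smul, ← hmx, inv_smul_smul, hx]
    have h2 : m • y ≠ a := by
      intro h
      rw [← hmx] at h
      exact hxy (MulAction.injective m h).symm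
    have h3 : (m * n * m⁻¹) • (m • y) = m • y := by
      rw [mul_smul, mul_smul, inv_smul_smul, hy]
    have h4 := hK.eq_one_of_fix h1 h2 h3
    calc n = m⁻¹ * (m * n * m⁻¹) * m := by group
      _ = 1 := by rw [h4]; group
  -- `N₁` is a Zassenhaus group
  have hfaith₁ : FaithfulSMul N₁ Ω := by
    constructor
    intro g g' h
    apply Subtype.ext
    exact hfaith.eq_of_smul_eq_smul h
  have hZ : Cfsg.IsZassenhausGroup N₁ Ω := by
    refine ⟨hfaith₁, ?_, ?_, ?_, ?_⟩
    · rw [MulAction.is_two_pretransitive_iff]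
      intro x y u v hxy huv
      obtain ⟨n, hn, h1, h2⟩ := hN₁t2 x y u v hxy huv
      exact ⟨⟨n, hn⟩, h1, h2⟩
    · intro g x y z hxy hyz hxz hx hy hz
      apply Subtype.ext
      exact H.s3 g.1 x y z hxy hxz hyz hx hy hz
    · by_contra hcon
      push Not at hcon
      apply hsh
      intro n hn x y hxy hx hy
      by_contra hn1
      have hn1' : (⟨n, hn⟩ : N₁) ≠ 1 := fun h => hn1 (congrArg Subtype.val h)
      exact hcon ⟨n, hn⟩ hn1' x y hxy hx hy
    · intro M hMn hMt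
      by_contra hcon
      push Not at hcon
      apply hnoreg₁
      refine ⟨M, hMn, fun x y => ?_, fun r hr x hx => ?_⟩
      · obtain ⟨n, hn⟩ := hMt.exists_smul_eq x y
        exact ⟨n.1, n.2, hn⟩
      · have h1 : (⟨r, hr⟩ : M) ∈ stabilizer M x := mem_stabilizer_iff.2 hx
        rw [hcon x, Subgroup.mem_bot] at h1
        exact congrArg Subtype.val h1
  -- the kernel inside `N₁`
  obtain ⟨F, hFdef⟩ : ∃ F : Subgroup N₁, F = K.subgroupOf N₁ := ⟨_, rfl⟩
  have hFmem : ∀ u : N₁, u ∈ F ↔ (u : G) ∈ K := by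
    intro u
    rw [hFdef, Subgroup.mem_subgroupOf]
  have hFle : F ≤ stabilizer N₁ a := by
    intro u hu
    rw [mem_stabilizer_iff]
    exact hK.fix _ ((hFmem u).1 hu)
  have hFn : (F.subgroupOf (stabilizer N₁ a)).Normal := by
    constructor
    intro n hn g
    rw [Subgroup.mem_subgroupOf, hFmem] at hn ⊢
    have hg : ((g : N₁) : G) • a = a := mem_stabilizer_iff.1 g.2
    have := hK.norm _ hg _ hn
    simpa using this
  have hFab : IsMulCommutative F :=
    ⟨⟨fun u v => Subtype.ext (Subtype.ext (hK.comm _ ((hFmem _).1 u.2) _ ((hFmem _).1 v.2)))⟩⟩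
  have hFreg : ∀ y z : Ω, y ≠ a → z ≠ a → ∃! u : F, (u : N₁) • y = z := by
    intro y z hy hz
    obtain ⟨u, hu, huniq⟩ := hK.reg y z hy hz
    refine ⟨⟨⟨u.1, hKN₁ u.2⟩, (hFmem _).2 u.2⟩, hu, ?_⟩
    intro v hv
    have := huniq ⟨((v : N₁) : G), (hFmem _).1 v.2⟩ hv
    apply Subtype.ext
    apply Subtype.ext
    exact congrArg (fun z : K => (z : G)) this
  -- the order of `N₁`
  obtain ⟨d', hd'⟩ : ∃ d', Nat.card (stabilizer N₁ a) = q * d' := by
    have h1 : Nat.card K ∣ Nat.card (stabilizer N₁ a) := by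
      let φ : K →* stabilizer N₁ a :=
        { toFun := fun u => ⟨⟨u.1, hKN₁ u.2⟩, mem_stabilizer_iff.2 (hK.fix u.1 u.2)⟩
          map_one' := rfl
          map_mul' := fun _ _ => rfl }
      apply Subgroup.card_dvd_of_injective φ
      intro u v h
      apply Subtype.ext
      exact congrArg (fun z : stabilizer N₁ a => ((z : N₁) : G)) h
    rw [hK.card] at h1
    exact h1
  have hcX : Nat.card N₁ = (q + 1) * q * d' := by
    haveI : IsPretransitive N₁ Ω := ⟨fun x y => by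
      obtain ⟨n, hn, h⟩ := hN₁t1 x y
      exact ⟨⟨n, hn⟩, h⟩⟩
    have h1 := Subgroup.card_mul_index (stabilizer N₁ a)
    rw [MulAction.index_stabilizer_of_transitive, H.cardΩ, hd'] at h1
    rw [← h1]
    ring
  have hd'le : d' ≤ q - 1 := by
    have h1 := Subgroup.card_le_card_group N₁
    rw [hcX, hcG] at h1
    exact Nat.le_of_mul_le_mul_left h1 (by positivity)
  have hcardG' : Nat.card G = q * (q ^ 2 - 1) := by
    rw [hcG]
    obtain ⟨m, hm⟩ : ∃ m, q = m + 1 := ⟨q - 1, by omega⟩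
    rw [hm, Nat.add_sub_cancel]
    have e1 : (m + 1) ^ 2 - 1 = m * (m + 2) := by
      have h1 : (m + 1) ^ 2 = m * (m + 2) + 1 := by ring
      rw [h1, Nat.add_sub_cancel]
    rw [e1]
    ring
  rcases Cfsg.Agent.S0731.result hZ a F hFle hFn hFab hFreg with ⟨h3', hsharp'⟩ | ⟨F', iF, iFT, hchar, ⟨e⟩⟩
  · exfalso
    apply hN₁top
    have hc := Cfsg.Agent.Helper4.SharpTrans.card_eq ⟨h3', hsharp'⟩ (by rw [H.cardΩ]; omega)
    have hc' := Cfsg.Agent.Helper4.SharpTrans.card_eq ⟨h3, hsharp⟩ (by rw [H.cardΩ]; omega)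
    rw [← Subgroup.card_eq_iff_eq_top, hc, hc']
  · have h2F : (2 : F') ≠ 0 := by
      intro h
      have h0 : ((2 : ℕ) : F') = 0 := by exact_mod_cast h
      have h1 : ringChar F' ∣ 2 := ringChar.dvd h0
      rcases (Nat.dvd_prime Nat.prime_two).1 h1 with h4 | h4
      · exact absurd h4 CharP.ringChar_ne_one
      · exact hchar h4
    have hoddF : Odd (Fintype.card F') := by
      rw [← Nat.not_even_iff_odd, Nat.even_iff]
      intro h
      exact hchar (FiniteField.even_card_iff_char_two.2 h)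
    have hr3 : 3 ≤ Fintype.card F' := by
      have h1 : 1 < Fintype.card F' := Fintype.one_lt_card
      obtain ⟨i, hi⟩ := hoddF
      omega
    have hcN : Nat.card N₁ = Nat.card (Matrix.ProjectiveSpecialLinearGroup (Fin 2) F') :=
      Nat.card_congr e.toEquiv
    have hcP := Cfsg.Agent.Lib.Helper3.CardSL.card_PSL_mul (F := F') 2
    rw [Cfsg.Agent.Lib.Helper3.CardSL.card_center_SL2 h2F,
      Cfsg.Agent.Lib.Helper3.CardSL.card_SL2, ← hcN, hcX] at hcP
    have heq : 2 * ((q + 1) * q * d') = Fintype.card F' * (Fintype.card F' ^ 2 - 1) := by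
      rw [← hcP, mul_comm]
    have hrq : Fintype.card F' = q := by
      apply arith_r_eq_q hodd (by omega) (by omega) hoddF hr3 heq
      rw [hqpf]
      apply primePow_dvd_three hp hp2 (by omega)
      rw [← heq, ← hqpf]
      exact Dvd.dvd.mul_left (Dvd.dvd.mul_right (Dvd.intro_left _ rfl) _) _
    refine ⟨N₁, hN₁n, F', iF, iFT, hrq, ⟨e⟩, ?_, hcardG', ?_⟩
    · rw [hrq] at heq
      rw [hcX, heq, hcardG']
    · intro c hc
      apply H.faith
      intro x
      obtain ⟨K', hK'⟩ := H.exists_ker x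
      obtain ⟨u, hu, hu1⟩ := hK'.exists_ne_one (by omega)
      by_contra hcx
      have h1 : u • (c • x) = c • x := by
        rw [← mul_smul, ← hc u (hall x K' hK' hu), mul_smul, hK'.fix u hu]
      exact hu1 (hK'.eq_one_of_fix hu hcx h1)

end Cfsg.Agent.Lib.Helper3.S3Q
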