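import Mathlib
import Cfsg.Agent.Lib.Helper3.PP1E
import Cfsg.Agent.Lib.Helper15.Dk27

/-!
# A group with a normal `PSL₂(q)` of index two, `q = p^f` with `f` odd, is `PGL₂(q)` (helper3)
-/

set_option autoImplicit false
set_option linter.unusedVariables false
set_option linter.unusedSectionVars false
set_option linter.style.longLine false

namespace Cfsg.Agent.Lib.Helper3.S3Q

open Cfsg.Agent.Lib.Helper6.AutPSL Cfsg.Agent.Lib.Helper3.PP1

variable {F : Type*} [Field F] [Fintype F]

theorem isType_cP (g : GL (Fin 2) F) :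
    Cfsg.Agent.Lib.Helper15.Dk.IsType (cP g : MulAut (Matrix.ProjectiveSpecialLinearGroup (Fin 2) F))
      (1 : RingAut F) := by
  intro x
  obtain ⟨s, rfl⟩ := Cfsg.Agent.Lib.Helper15.toPSL2_surjective x
  have h1 : Cfsg.Agent.Lib.Helper15.toPSL2 F s = pm s := rfl
  rw [h1, cP_mk]
  have h2 : pm (cG g s) = Cfsg.Agent.Lib.Helper15.toPSL2 F (cG g s) := rfl
  rw [h2, ← h1, Cfsg.Agent.Lib.Helper15.Dk.trsq_toPSL2, Cfsg.Agent.Lib.Helper15.Dk.trsq_toPSL2]
  show _ = _
  congr 1
  show Matrix.trace ((cG g s).1) = Matrix.trace s.1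
  rw [cG_val, Matrix.trace_mul_comm, ← mul_assoc, gl_inv_mul, one_mul]

open Cfsg.Agent.Lib.Helper15.Dk in
theorem pgl_of_normal_psl_odd {G : Type*} [Group G] [Finite G] {p f : ℕ} [Fact p.Prime]
    (hf : Odd f) (hF : Fintype.card F = p ^ f)
    (N : Subgroup G) [N.Normal]
    (e : N ≃* Matrix.ProjectiveSpecialLinearGroup (Fin 2) F)
    (hcent : ∀ c : G, (∀ n ∈ N, c * n = n * c) → c = 1)
    (hidx : 2 * Nat.card N = Nat.card G)
    (hcard : Nat.card G = Fintype.card F * (Fintype.card F ^ 2 - 1)) :
    Nonempty (G ≃* Matrix.ProjGenLinGroup (Fin 2) F) := by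
  classical
  have hf1 : 1 ≤ f := by
    obtain ⟨j, hj⟩ := hf
    omega
  haveI : CharP F p := charP_of_card_eq_prime_pow hF
  have hA := card_aut_two (F := F) hF hf1
  have hPGL : Nat.card (GL (Fin 2) F ⧸ Subgroup.center (GL (Fin 2) F)) =
      Fintype.card F * (Fintype.card F ^ 2 - 1) := by
    have h1 := Cfsg.Agent.S0265.result (F := F) 2
    have h2 : Nat.card (Matrix.ProjGenLinGroup (Fin 2) F) =
        Nat.card (GL (Fin 2) F ⧸ Subgroup.center (GL (Fin 2) F)) := rfl
    rw [← h2, h1, Cfsg.Agent.Lib.Helper3.CardSL.card_SL2]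
  have hq1 : 1 < Fintype.card F := Fintype.one_lt_card
  have hpos : 0 < Fintype.card F * (Fintype.card F ^ 2 - 1) := by
    have h3 : 0 < Fintype.card F ^ 2 - 1 := by
      have : 4 ≤ Fintype.card F ^ 2 := by nlinarith
      omega
    positivity
  haveI : Finite (MulAut (Matrix.ProjectiveSpecialLinearGroup (Fin 2) F)) := by
    apply Nat.finite_of_card_ne_zero
    rw [hA, hPGL]
    have : 0 < f := hf1
    positivity
  let φ : G →* MulAut (Matrix.ProjectiveSpecialLinearGroup (Fin 2) F) :=
    (MulAut.congr e).toMonoidHom.comp (MulAut.conjNormal (H := N))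
  have hφinj : Function.Injective φ := by
    rw [injective_iff_map_eq_one]
    intro c hc
    have h1 : (MulAut.congr e) (MulAut.conjNormal (H := N) c) = 1 := hc
    have h2 : MulAut.conjNormal (H := N) c = 1 := by
      have := (MulAut.congr e).injective (h1.trans (map_one _).symm)
      exact this
    apply hcent
    intro n hn
    have h3 := congrArg (fun f : MulAut N => ((f ⟨n, hn⟩ : N) : G)) h2
    simp only [MulAut.conjNormal_apply, MulAut.one_apply] at h3
    calc c * n = (c * n * c⁻¹) * c := by group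
      _ = n * c := by rw [h3]
  -- elements of `N` induce inner automorphisms
  have hφN : ∀ n : N, φ (n : G) = MulAut.conj (e n) := by
    intro n
    apply MulEquiv.ext
    intro x
    show e (MulAut.conjNormal (H := N) (n : G) (e.symm x)) = e n * x * (e n)⁻¹
    have h1 : MulAut.conjNormal (H := N) (n : G) (e.symm x) = n * e.symm x * n⁻¹ := by
      apply Subtype.ext
      rw [MulAut.conjNormal_apply]
      rfl
    rw [h1, map_mul, map_mul, map_inv, e.apply_symm_apply]
  let ψ : G →* RingAut F := (autTypeHom p).comp φ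
  have hNker : N ≤ ψ.ker := by
    intro n hn
    rw [MonoidHom.mem_ker]
    show autTypeHom p (φ n) = 1
    rw [hφN ⟨n, hn⟩, autTypeHom_conj]
  have hψtriv : ∀ g : G, ψ g = 1 := by
    have h1 : Nat.card ψ.range ∣ 2 := by
      rw [← Subgroup.index_ker]
      have h2 : ψ.ker.index ∣ N.index := Subgroup.index_dvd_of_le hNker
      have h3 : N.index = 2 := by
        have := Subgroup.card_mul_index N
        rw [← hidx] at this
        have hNpos : 0 < Nat.card N := Nat.card_pos
        have h4 : Nat.card N * N.index = Nat.card N * 2 := by rw [this, mul_comm]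
        exact Nat.eq_of_mul_eq_mul_left hNpos h4
      rwa [h3] at h2
    have h2 : Nat.card ψ.range ∣ f := by
      have := Subgroup.card_subgroup_dvd_card ψ.range
      rwa [card_ringAut hF hf1] at this
    have h3 : Nat.card ψ.range = 1 := by
      have h4 := Nat.dvd_gcd h1 h2
      have h5 : Nat.gcd 2 f = 1 := Nat.coprime_two_left.2 hf
      rw [h5] at h4
      exact Nat.dvd_one.1 h4
    intro g
    have h4 : ψ.range = ⊥ := Subgroup.card_eq_one.1 h3
    have h5 : ψ g ∈ ψ.range := ⟨g, rfl⟩
    rw [h4, Subgroup.mem_bot] at h5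
    exact h5
  -- the kernel of the type homomorphism
  have hsurj : Function.Surjective (autTypeHom (F := F) p) := by
    intro σ
    exact ⟨fieldAut σ, autTypeHom_fieldAut p σ⟩
  have hcker : Nat.card (autTypeHom (F := F) p).ker = Fintype.card F * (Fintype.card F ^ 2 - 1) := by
    have h1 := Subgroup.card_mul_index (autTypeHom (F := F) p).ker
    rw [Subgroup.index_ker, MonoidHom.range_eq_top.2 hsurj, Subgroup.card_top,
      card_ringAut hF hf1, hA, hPGL] at h1
    have h2 : Nat.card (autTypeHom (F := F) p).ker * f =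
        (Fintype.card F * (Fintype.card F ^ 2 - 1)) * f := by rw [h1, mul_comm]
    exact Nat.eq_of_mul_eq_mul_right (by omega) h2
  let φ' : G →* (autTypeHom (F := F) p).ker :=
    φ.codRestrict _ (fun g => by
      rw [MonoidHom.mem_ker]
      exact hψtriv g)
  have hφ'inj : Function.Injective φ' := by
    intro g g' h
    apply hφinj
    exact congrArg Subtype.val h
  have hφ'bij : Function.Bijective φ' :=
    hφ'inj.bijective_of_nat_card_le (by rw [hcker, hcard])
  let c' : (GL (Fin 2) F ⧸ Subgroup.center (GL (Fin 2) F)) →* (autTypeHom (F := F) p).ker :=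
    (cPbar (ι := Fin 2) (F := F)).codRestrict _ (fun x => by
      obtain ⟨g, rfl⟩ := QuotientGroup.mk_surjective x
      rw [MonoidHom.mem_ker, cPbar_mk]
      exact autTypeHom_eq p (isType_cP g))
  have hc'inj : Function.Injective c' := by
    intro x y h
    apply cPbar_injective
    exact congrArg Subtype.val h
  have hc'bij : Function.Bijective c' :=
    hc'inj.bijective_of_nat_card_le (by rw [hcker, hPGL])
  exact ⟨(MulEquiv.ofBijective φ' hφ'bij).trans (MulEquiv.ofBijective c' hc'bij).symm⟩

end Cfsg.Agent.Lib.Helper3.S3Q
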