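import Mathlib
import Cfsg.Agent.Lib.Helper3.CardSL
import Cfsg.Agent.S0265
import Cfsg.Agent.S0266

/-!
# The symmetric group of degree 4 is `PGL₂(3)` (helper3)
-/

set_option autoImplicit false
set_option linter.unusedVariables false
set_option linter.unusedSectionVars false
set_option linter.style.longLine false

namespace Cfsg.Agent.Lib.Helper3.S3Q

theorem pgl_three {α : Type*} [Fintype α] [DecidableEq α] (hα : Fintype.card α = 4)
    (G : Subgroup (Equiv.Perm α)) (hG : Nat.card G = 24) :
    Nonempty (G ≃* Matrix.ProjGenLinGroup (Fin 2) (ZMod 3)) := by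
  classical
  haveI : Fact (Nat.Prime 3) := ⟨Nat.prime_three⟩
  have hGtop : G = ⊤ := by
    rw [← Subgroup.card_eq_iff_eq_top, hG, Nat.card_eq_fintype_card, Fintype.card_perm, hα]
    rfl
  have hcP : Nat.card (Projectivization (ZMod 3) (Fin 2 → ZMod 3)) = 4 := by
    rw [Projectivization.card_of_finrank_two (ZMod 3) (Fin 2 → ZMod 3) (by simp),
      Nat.card_eq_fintype_card, ZMod.card]
  haveI : Finite (Projectivization (ZMod 3) (Fin 2 → ZMod 3)) :=
    Nat.finite_of_card_ne_zero (by rw [hcP]; norm_num)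
  letI : Fintype (Projectivization (ZMod 3) (Fin 2 → ZMod 3)) := Fintype.ofFinite _
  have hcP' : Fintype.card (Projectivization (ZMod 3) (Fin 2 → ZMod 3)) = 4 := by
    rw [← Nat.card_eq_fintype_card]
    exact hcP
  obtain ⟨a, b, c, hab, hac, hbc⟩ :=
    Fintype.two_lt_card_iff.1 (by rw [hcP']; norm_num :
      2 < Fintype.card (Projectivization (ZMod 3) (Fin 2 → ZMod 3)))
  let ρ : Matrix.ProjGenLinGroup (Fin 2) (ZMod 3) →*
      Equiv.Perm (Projectivization (ZMod 3) (Fin 2 → ZMod 3)) := MulAction.toPermHom _ _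
  have hρinj : Function.Injective ρ := by
    rw [injective_iff_map_eq_one]
    intro g hg
    have hfix : ∀ x : Projectivization (ZMod 3) (Fin 2 → ZMod 3), g • x = x := by
      intro x
      have := congrArg (fun σ : Equiv.Perm _ => σ x) hg
      exact this
    exact (Cfsg.Agent.S0266.result (F := ZMod 3)).2 g a b c hab hac hbc (hfix a) (hfix b) (hfix c)
  have hcPGL : Nat.card (Matrix.ProjGenLinGroup (Fin 2) (ZMod 3)) = 24 := by
    rw [Cfsg.Agent.S0265.result (F := ZMod 3) 2, Cfsg.Agent.Lib.Helper3.CardSL.card_SL2, ZMod.card]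
    norm_num
  have hcPerm : Nat.card (Equiv.Perm (Projectivization (ZMod 3) (Fin 2 → ZMod 3))) = 24 := by
    rw [Nat.card_eq_fintype_card, Fintype.card_perm, hcP']
    rfl
  haveI : Finite (Matrix.ProjGenLinGroup (Fin 2) (ZMod 3)) :=
    Nat.finite_of_card_ne_zero (by rw [hcPGL]; norm_num)
  have hρbij : Function.Bijective ρ :=
    hρinj.bijective_of_nat_card_le (by rw [hcPGL, hcPerm])
  have e0 : α ≃ Projectivization (ZMod 3) (Fin 2 → ZMod 3) :=
    Fintype.equivOfCardEq (by rw [hα, hcP'])
  exact ⟨(MulEquiv.subgroupCongr hGtop).trans (Subgroup.topEquiv.trans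
    (e0.permCongrHom.trans (MulEquiv.ofBijective ρ hρbij).symm))⟩

end Cfsg.Agent.Lib.Helper3.S3Q
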