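import Mathlib
import Cfsg.Agent.Lib.Helper7.NormalComplement

/-!
FO-T of helper11's S4707 farm-out (Burnside transfer): a primitive faithful group of degree `2p`
with a Sylow `p`-subgroup `P` of order `p` and `|N(P)| = 2p` is simple and `C(P) = P`.
-/

set_option autoImplicit false

namespace Cfsg.Agent.Lib.Helper3.S4707FOT

open Subgroup MulAction

/-- A nontrivial normal subgroup of a faithful primitive group is transitive, so its order is
divisible by the degree. -/
theorem card_dvd_of_normal {G : Type*} [Group G] [Finite G] {Ω : Type*} [Fintype Ω] [Nonempty Ω]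
    [MulAction G Ω] (hprim : MulAction.IsPreprimitive G Ω)
    (hfaith : ∀ g : G, (∀ a : Ω, g • a = a) → g = 1)
    (N : Subgroup G) [hNn : N.Normal] (hN : N ≠ ⊥) : Fintype.card Ω ∣ Nat.card N := by
  classical
  obtain ⟨n, hnN, hn1⟩ : ∃ n ∈ N, n ≠ 1 := by
    by_contra hcon
    push Not at hcon
    exact hN ((Subgroup.eq_bot_iff_forall N).2 hcon)
  have hfix : MulAction.fixedPoints N Ω ≠ Set.univ := by
    intro hall
    apply hn1
    apply hfaith
    intro a
    have ha : a ∈ MulAction.fixedPoints N Ω := by rw [hall]; exact Set.mem_univ a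
    exact ha ⟨n, hnN⟩
  have htr : MulAction.IsPretransitive N Ω :=
    MulAction.IsQuasiPreprimitive.isPretransitive_of_normal hfix
  obtain ⟨x⟩ := ‹Nonempty Ω›
  have h1 := MulAction.index_stabilizer_of_transitive N x
  rw [← Nat.card_eq_fintype_card, ← h1]
  exact Subgroup.index_dvd_card _

/-- A normal subgroup of order divisible by `p` contains a Sylow `p`-subgroup of order `p`. -/
theorem sylow_le_of_dvd {G : Type*} [Group G] [Finite G] {p : ℕ} [Fact p.Prime]
    (P : Sylow p G) (hP : Nat.card (P : Subgroup G) = p)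
    (N : Subgroup G) [hNn : N.Normal] (hN : p ∣ Nat.card N) : (P : Subgroup G) ≤ N := by
  classical
  have hp : p.Prime := Fact.out
  obtain ⟨x, hx⟩ := exists_prime_orderOf_dvd_card' p hN
  -- x : N of order p
  have hx' : orderOf (x : G) = p := by rw [Subgroup.orderOf_coe]; exact hx
  have hcard : Nat.card (Subgroup.zpowers (x : G)) = p ^ (Nat.card G).factorization p := by
    rw [Nat.card_zpowers, hx', ← P.card_eq_multiplicity, hP]
  let Q : Sylow p G := Sylow.ofCard (Subgroup.zpowers (x : G)) hcard
  obtain ⟨g, hg⟩ := MulAction.exists_smul_eq G Q P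
  intro y hy
  have hy' : y ∈ ((g • Q : Sylow p G) : Subgroup G) := by rw [hg]; exact hy
  rw [Sylow.coe_subgroup_smul, Subgroup.mem_pointwise_smul_iff_inv_smul_mem] at hy'
  have hz : (MulAut.conj g)⁻¹ • y ∈ Subgroup.zpowers (x : G) := hy'
  have hzN : (MulAut.conj g)⁻¹ • y ∈ N := by
    have : Subgroup.zpowers (x : G) ≤ N := by
      rw [Subgroup.zpowers_le]; exact x.2
    exact this hz
  rw [MulAut.smul_def, MulAut.conj_inv_apply] at hzN
  have := hNn.conj_mem _ hzN g
  simpa [mul_assoc] using this

/-- A group of prime order is commutative. -/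
theorem mul_comm_of_card_prime {G : Type*} [Group G] {p : ℕ} [Fact p.Prime]
    (H : Subgroup G) (hH : Nat.card H = p) (a b : G) (ha : a ∈ H) (hb : b ∈ H) :
    a * b = b * a := by
  haveI : IsCyclic H := isCyclic_of_prime_card hH
  have h := (IsCyclic.commGroup (α := H)).mul_comm ⟨a, ha⟩ ⟨b, hb⟩
  exact congrArg Subtype.val h

/-- A subgroup `K` of `N` (normal in `G`) consisting of ALL elements of `N` of order prime to `p`
is normalised by `G`. -/
theorem map_normal_of_pPrime {G : Type*} [Group G] [Finite G] {p : ℕ} [Fact p.Prime]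
    (N : Subgroup G) [hNn : N.Normal] (K : Subgroup N) (hpK : ¬ p ∣ Nat.card K)
    (hK : ∀ x : N, (orderOf x).Coprime p → x ∈ K) : (K.map N.subtype).Normal := by
  have hpp : p.Prime := Fact.out
  constructor
  intro y hy g
  obtain ⟨k, hk, rfl⟩ := hy
  have hkN : g * (k : G) * g⁻¹ ∈ N := hNn.conj_mem k k.2 g
  refine ⟨⟨g * (k : G) * g⁻¹, hkN⟩, ?_, rfl⟩
  apply hK
  have h1 : orderOf (⟨g * (k : G) * g⁻¹, hkN⟩ : N) = orderOf k := by
    rw [← Subgroup.orderOf_coe, ← Subgroup.orderOf_coe k]
    exact orderOf_injective (MulAut.conj g).toMonoidHom (MulAut.conj g).injective (k : G)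
  rw [h1]
  have h2 : orderOf k ∣ Nat.card K := by
    have := orderOf_dvd_natCard (⟨k, hk⟩ : K)
    rwa [Subgroup.orderOf_mk] at this
  exact Nat.Coprime.coprime_dvd_left h2 ((Nat.Prime.coprime_iff_not_dvd hpp).2 hpK).symm

theorem transfer_simple {G : Type*} [Group G] [Finite G] {Ω : Type*} [Fintype Ω] [MulAction G Ω]
    {p : ℕ} [Fact p.Prime] (hp : 3 < p) (hΩ : Fintype.card Ω = 2 * p)
    (hprim : MulAction.IsPreprimitive G Ω)
    (hfaith : ∀ g : G, (∀ a : Ω, g • a = a) → g = 1)
    (P : Sylow p G) (hP : Nat.card (P : Subgroup G) = p)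
    (hN : Nat.card (Subgroup.normalizer ((P : Subgroup G) : Set G)) = 2 * p) :
    Subgroup.centralizer ((P : Subgroup G) : Set G) = (P : Subgroup G) ∧
    ∀ N : Subgroup G, N.Normal → N = ⊥ ∨ N = ⊤ := by
  classical
  have hpp : p.Prime := Fact.out
  have hp0 : 0 < p := hpp.pos
  have hcop2 : Nat.Coprime 2 p := (Nat.coprime_primes Nat.prime_two hpp).2 (by omega)
  haveI : Nonempty Ω := by
    apply Fintype.card_pos_iff.1; rw [hΩ]; omega
  -- nontrivial normal subgroups have order divisible by `2p`
  have key : ∀ N : Subgroup G, N.Normal → N ≠ ⊥ → 2 * p ∣ Nat.card N := by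
    intro N hNn hN'
    rw [← hΩ]; exact card_dvd_of_normal hprim hfaith N hN'
  have noK : ∀ K : Subgroup G, K.Normal → ¬ p ∣ Nat.card K → K = ⊥ := by
    intro K hKn hpK
    by_contra hK
    exact hpK (dvd_trans (dvd_mul_left p 2) (key K hKn hK))
  have hrelP : (P : Subgroup G).relIndex (normalizer ((P : Subgroup G) : Set G)) = 2 := by
    have h2 := relIndex_mul_relIndex (⊥ : Subgroup G) (P : Subgroup G)
      (normalizer ((P : Subgroup G) : Set G)) bot_le le_normalizer
    rw [relIndex_bot_left, relIndex_bot_left, hP, hN] at h2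
    nlinarith
  have hsimple : ∀ N : Subgroup G, N.Normal → N = ⊥ ∨ N = ⊤ := by
    intro N hNn
    by_cases hN0 : N = ⊥
    · exact Or.inl hN0
    right
    have h2p := key N hNn hN0
    have hPN : (P : Subgroup G) ≤ N := sylow_le_of_dvd P hP N (dvd_trans (dvd_mul_left p 2) h2p)
    have hfr : normalizer ((P : Subgroup G) : Set G) ⊔ N = ⊤ :=
      Sylow.normalizer_sup_eq_top' P hPN
    have hidx : N.index = N.relIndex (normalizer ((P : Subgroup G) : Set G)) := by
      rw [← relIndex_top_right, ← hfr, relIndex_sup_right]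
    have hdvd2 : N.relIndex (normalizer ((P : Subgroup G) : Set G)) ∣ 2 := by
      have h1 := relIndex_dvd_of_le_left (normalizer ((P : Subgroup G) : Set G)) hPN
      rwa [hrelP] at h1
    rcases (Nat.dvd_prime Nat.prime_two).1 hdvd2 with h1 | h2
    · rw [← hidx] at h1
      exact index_eq_one.1 h1
    exfalso
    -- `N ⊓ N(P) = P`
    have hcardinf : Nat.card (N ⊓ normalizer ((P : Subgroup G) : Set G) : Subgroup G) = p := by
      have h3 := relIndex_mul_relIndex (⊥ : Subgroup G)
        (N ⊓ normalizer ((P : Subgroup G) : Set G))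
        (normalizer ((P : Subgroup G) : Set G)) bot_le inf_le_right
      rw [relIndex_bot_left, relIndex_bot_left, inf_relIndex_right, h2, hN] at h3
      omega
    have hinf : (P : Subgroup G) = N ⊓ normalizer ((P : Subgroup G) : Set G) :=
      eq_of_le_of_card_ge (le_inf hPN le_normalizer) (by rw [hcardinf, hP])
    let Q : Sylow p N := P.subtype hPN
    have hQmem : ∀ x : N, x ∈ (Q : Subgroup N) ↔ (x : G) ∈ (P : Subgroup G) := by
      intro x
      rw [Sylow.coe_subtype, mem_subgroupOf]
    have hQ : normalizer ((Q : Subgroup N) : Set N) ≤ centralizer ((Q : Subgroup N) : Set N) := by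
      intro x hx
      have hxP : (x : G) ∈ (P : Subgroup G) := by
        rw [hinf, Subgroup.mem_inf]
        refine ⟨x.2, ?_⟩
        rw [mem_normalizer_iff]
        intro h
        constructor
        · intro hh
          have hhN : h ∈ N := hPN hh
          have := (mem_normalizer_iff.1 hx ⟨h, hhN⟩).1 ((hQmem _).2 hh)
          exact (hQmem _).1 this
        · intro hh
          have hhN : h ∈ N := by
            have h5 : (x : G)⁻¹ * ((x : G) * h * (x : G)⁻¹) * (x : G) ∈ N :=
              N.mul_mem (N.mul_mem (N.inv_mem x.2) (hPN hh)) x.2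
            have h6 : (x : G)⁻¹ * ((x : G) * h * (x : G)⁻¹) * (x : G) = h := by group
            rwa [h6] at h5
          have := (mem_normalizer_iff.1 hx ⟨h, hhN⟩).2 ((hQmem _).2 hh)
          exact (hQmem _).1 this
      rw [mem_centralizer_iff]
      intro y hy
      have hyP : (y : G) ∈ (P : Subgroup G) := (hQmem y).1 hy
      apply Subtype.ext
      exact mul_comm_of_card_prime (P : Subgroup G) hP _ _ hyP hxP
    obtain ⟨K, hKn, hpK, hK⟩ :=
      Cfsg.Agent.Lib.Helper7.exists_normal_pPrime_of_normalizer_le_centralizer Q hQ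
    have hK'n : (K.map N.subtype).Normal := map_normal_of_pPrime N K hpK hK
    have hK'card : Nat.card (K.map N.subtype) = Nat.card K :=
      card_map_of_injective N.subtype_injective
    have hK'bot : K.map N.subtype = ⊥ := noK _ hK'n (by rwa [hK'card])
    -- an involution of `N` lies in `K`
    obtain ⟨x, hx⟩ := exists_prime_orderOf_dvd_card' (G := N) 2
      (dvd_trans (dvd_mul_right 2 p) h2p)
    have hxK : x ∈ K := hK x (by rw [hx]; exact hcop2)
    have hx1 : (x : G) ∈ K.map N.subtype := ⟨x, hxK, rfl⟩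
    rw [hK'bot, mem_bot] at hx1
    have hx2 : x = 1 := Subtype.ext hx1
    rw [hx2, orderOf_one] at hx
    omega
  refine ⟨?_, hsimple⟩
  -- `C(P) = P`
  have hPC : (P : Subgroup G) ≤ centralizer ((P : Subgroup G) : Set G) := by
    intro x hx
    rw [mem_centralizer_iff]
    intro y hy
    exact mul_comm_of_card_prime (P : Subgroup G) hP _ _ hy hx
  have hCN : centralizer ((P : Subgroup G) : Set G) ≤ normalizer ((P : Subgroup G) : Set G) :=
    centralizer_le_normalizer _
  have hd1 : p ∣ Nat.card (centralizer ((P : Subgroup G) : Set G)) := by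
    have := card_dvd_of_le hPC
    rwa [hP] at this
  have hd2 : Nat.card (centralizer ((P : Subgroup G) : Set G)) ∣ 2 * p := by
    have := card_dvd_of_le hCN
    rwa [hN] at this
  obtain ⟨m, hm⟩ := hd1
  have hm2 : m ∣ 2 := by
    rw [hm, mul_comm] at hd2
    exact Nat.dvd_of_mul_dvd_mul_right hp0 hd2
  rcases (Nat.dvd_prime Nat.prime_two).1 hm2 with h1 | h2
  · symm
    apply eq_of_le_of_card_ge hPC
    rw [hm, h1, hP, mul_one]
  exfalso
  have hCeq : centralizer ((P : Subgroup G) : Set G) = normalizer ((P : Subgroup G) : Set G) := by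
    apply eq_of_le_of_card_ge hCN
    rw [hm, h2, hN, mul_comm]
  have hQ : normalizer ((P : Subgroup G) : Set G) ≤ centralizer ((P : Subgroup G) : Set G) := by
    rw [hCeq]
  obtain ⟨K, hKn, hpK, hK⟩ :=
    Cfsg.Agent.Lib.Helper7.exists_normal_pPrime_of_normalizer_le_centralizer P hQ
  have hKbot : K = ⊥ := noK K hKn hpK
  have h2G : 2 ∣ Nat.card G := by
    have h3 : Nat.card (normalizer ((P : Subgroup G) : Set G)) ∣ Nat.card G :=
      Subgroup.card_subgroup_dvd_card _
    rw [hN] at h3
    exact dvd_trans (dvd_mul_right 2 p) h3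
  obtain ⟨x, hx⟩ := exists_prime_orderOf_dvd_card' (G := G) 2 h2G
  have hxK : x ∈ K := hK x (by rw [hx]; exact hcop2)
  rw [hKbot, mem_bot] at hxK
  rw [hxK, orderOf_one] at hx
  omega

end Cfsg.Agent.Lib.Helper3.S4707FOT
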