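import Mathlib
import Cfsg.Agent.Lib.Helper24.Heis3

/-!
# S5663 U4T-92 piece K1 (helper3): `GU_3(2)` normalises the Heisenberg group `3^(1+2)`

Over a field with four elements, a matrix `A` with `Aᵀ * A^(2) = a • 1` (`a ≠ 0`) is monomial or has no zero entry
(columns have norm `1`, i.e. `1` or `3` non-zero entries, and are pairwise orthogonal); monomial matrices normalise
`{hm c j k}` (every permutation of `ℤ/3` is affine, every `μ_3`-valued function with product `1` is affine), and a matrix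
without zero entry is `D₁ Φ D₂` or `D₁ Φ̄ D₂` with `Φ = (ω^(xy))` the Fourier matrix, which swaps `X` and `Z`.
-/

set_option autoImplicit false

namespace Cfsg.Agent.Lib.Helper3.S5663K1

open Matrix Cfsg.Agent.Lib.Helper24.Heis

variable {F : Type*} [Field F]

/-! ## generic part: the normalising condition -/

/-- the Heisenberg set -/
def InH (ω : F) (M : Matrix (Fin 3) (Fin 3) F) : Prop :=
  ∃ (c : F) (j k : Fin 3), c ≠ 0 ∧ M = hm (chi3 ω) c j k

/-- `A` normalises the Heisenberg set -/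
def Nrm (ω : F) (A : Matrix (Fin 3) (Fin 3) F) : Prop :=
  ∀ M, InH ω M → ∃ M', InH ω M' ∧ A * M = M' * A

theorem Nrm.mul {ω : F} {A B : Matrix (Fin 3) (Fin 3) F} (hA : Nrm ω A) (hB : Nrm ω B) : Nrm ω (A * B) := by
  intro M hM
  obtain ⟨M₁, h1, e1⟩ := hB M hM
  obtain ⟨M₂, h2, e2⟩ := hA M₁ h1
  exact ⟨M₂, h2, by rw [Matrix.mul_assoc, e1, ← Matrix.mul_assoc, e2, Matrix.mul_assoc]⟩

theorem mul_hm_apply (χ : Fin 3 → Fin 3 → F) (A : Matrix (Fin 3) (Fin 3) F) (c : F) (j k x z : Fin 3) :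
    (A * hm χ c j k) x z = A x (z + k) * (c * χ j z) := by
  rw [Matrix.mul_apply, Finset.sum_eq_single (z + k)]
  · rw [hm_apply, if_pos rfl]
  · intro y _ hy
    rw [hm_apply, if_neg hy, mul_zero]
  · intro hn
    exact absurd (Finset.mem_univ _) hn

theorem hm_mul_apply (χ : Fin 3 → Fin 3 → F) (A : Matrix (Fin 3) (Fin 3) F) (c : F) (j k x z : Fin 3) :
    (hm χ c j k * A) x z = c * χ j (x - k) * A (x - k) z := by
  rw [Matrix.mul_apply, Finset.sum_eq_single (x - k)]
  · rw [hm_apply, if_pos (by abel)]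
  · intro y _ hy
    rw [hm_apply, if_neg (by intro h'; apply hy; rw [h']; abel), zero_mul]
  · intro hn
    exact absurd (Finset.mem_univ _) hn

/-- criterion for `Nrm` -/
theorem nrm_of (ω : F) (A : Matrix (Fin 3) (Fin 3) F)
    (h : ∀ (c : F) (j k : Fin 3), c ≠ 0 → ∃ (c' : F) (j' k' : Fin 3), c' ≠ 0 ∧
      ∀ x z, A x (z + k) * (c * chi3 ω j z) = c' * chi3 ω j' (x - k') * A (x - k') z) : Nrm ω A := by
  rintro M ⟨c, j, k, hc, rfl⟩
  obtain ⟨c', j', k', hc', h1⟩ := h c j k hc
  refine ⟨_, ⟨c', j', k', hc', rfl⟩, ?_⟩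
  ext x z
  rw [mul_hm_apply, hm_mul_apply, h1]

theorem chi3_mul_right (ω : F) (j u z : Fin 3) : chi3 ω j (u * z) = chi3 ω (j * u) z := by
  unfold chi3
  rw [mul_assoc]

/-- diagonal matrices whose translates differ by an affine character normalise -/
theorem nrm_diagonal {ω : F} (hω : ω ^ 3 = 1) (d : Fin 3 → F)
    (haff : ∀ k : Fin 3, ∃ (c₀ : F) (t : Fin 3), c₀ ≠ 0 ∧ ∀ y, d (y + k) = c₀ * chi3 ω t y * d y) :
    Nrm ω (diagonal d) := by
  apply nrm_of
  intro c j k hc
  obtain ⟨c₀, t, hc₀, hd⟩ := haff k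
  refine ⟨c * c₀, j + t, k, mul_ne_zero hc hc₀, ?_⟩
  intro x z
  rw [diagonal_apply, diagonal_apply]
  by_cases hx : x = z + k
  · subst hx
    have h1 : z + k - k = z := by abel
    rw [if_pos rfl, h1, if_pos rfl, hd z, (isBichar_chi3 hω).add_left]
    ring
  · have h1 : ¬ x - k = z := by
      intro h
      apply hx
      rw [← h]
      abel
    rw [if_neg hx, if_neg h1, zero_mul, mul_zero]

/-- the matrix of the affine permutation `y ↦ u * y + v` -/
def Pm (F : Type*) [Field F] (u v : Fin 3) : Matrix (Fin 3) (Fin 3) F :=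
  fun x y => if x = u * y + v then 1 else 0

theorem nrm_Pm {ω : F} (hω : ω ^ 3 = 1) (u v : Fin 3) (hu : u * u = 1) : Nrm ω (Pm F u v) := by
  apply nrm_of
  intro c j k hc
  have hχ := isBichar_chi3 hω
  refine ⟨c * (chi3 ω (j * u) v)⁻¹, j * u, u * k, mul_ne_zero hc (inv_ne_zero (hχ.ne_zero _ _)), ?_⟩
  intro x z
  unfold Pm
  by_cases hx : x = u * (z + k) + v
  · have h1 : x - u * k = u * z + v := by
      revert hx
      revert x z k u v
      decide
    have h2 : j * u * u = j := by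
      have h3 : ∀ j u : Fin 3, u * u = 1 → j * u * u = j := by decide
      exact h3 j u hu
    rw [if_pos hx, h1, if_pos rfl, hχ.add_right, chi3_mul_right, h2]
    have := hχ.ne_zero (j * u) v
    field_simp
  · have h1 : ¬ x - u * k = u * z + v := by
      revert hx
      revert x z k u v
      decide
    rw [if_neg hx, if_neg h1, zero_mul, mul_zero]

/-- the Fourier matrix -/
def Phi (ω : F) : Matrix (Fin 3) (Fin 3) F := fun x y => chi3 ω x y

theorem nrm_Phi {ω : F} (hω : ω ^ 3 = 1) : Nrm ω (Phi ω) := by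
  apply nrm_of
  intro c j k hc
  have hχ := isBichar_chi3 hω
  refine ⟨c * (chi3 ω k j)⁻¹, k, -j, mul_ne_zero hc (inv_ne_zero (hχ.ne_zero _ _)), ?_⟩
  intro x z
  unfold Phi
  rw [sub_neg_eq_add, hχ.add_right, hχ.add_right, hχ.add_left, chi3_symm ω x k]
  have := hχ.ne_zero k j
  field_simp

/-- the conjugate Fourier matrix -/
def PhiBar (ω : F) : Matrix (Fin 3) (Fin 3) F := fun x y => chi3 ω x (-y)

theorem phiBar_eq (ω : F) : PhiBar ω = Phi ω * Pm F (-1) 0 := by
  ext x y
  rw [Matrix.mul_apply, Finset.sum_eq_single (-y)]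
  · unfold PhiBar Phi Pm
    rw [if_pos (by revert y; decide), mul_one]
  · intro z _ hz
    unfold Pm
    rw [if_neg (by revert hz; revert z y; decide), mul_zero]
  · intro hn
    exact absurd (Finset.mem_univ _) hn

theorem nrm_PhiBar {ω : F} (hω : ω ^ 3 = 1) : Nrm ω (PhiBar ω) := by
  rw [phiBar_eq]
  exact (nrm_Phi hω).mul (nrm_Pm hω (-1) 0 (by decide))

/-! ## the field with four elements -/

section four

variable [Fintype F] (hF : Fintype.card F = 4) (ω : F) (hω : ω ^ 2 + ω + 1 = 0)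

include hF in
theorem add_self (x : F) : x + x = 0 := by
  have h4 : (4 : F) = 0 := by
    have := card_nsmul_eq_zero (G := F) (x := (1 : F))
    rw [hF] at this
    simpa using this
  have h2 : (2 : F) = 0 := by
    have : (2 : F) * 2 = 0 := by rw [← h4]; norm_num
    exact mul_self_eq_zero.mp this
  have : x + x = 2 * x := by ring
  rw [this, h2, zero_mul]

include hF in
theorem neg_eq' (x : F) : -x = x := by
  have := add_self hF x
  exact neg_eq_of_add_eq_zero_left this

include hF in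
theorem cube_eq_one (x : F) (hx : x ≠ 0) : x ^ 3 = 1 := by
  have := FiniteField.pow_card_sub_one_eq_one x hx
  rwa [hF] at this

include hω in
theorem omega_cube : ω ^ 3 = 1 := by
  have : ω ^ 3 - 1 = (ω - 1) * (ω ^ 2 + ω + 1) := by ring
  rw [hω, mul_zero] at this
  exact sub_eq_zero.mp this

include hω in
theorem omega_ne_zero : ω ≠ 0 := by
  rintro rfl
  norm_num at hω

include hF hω in
theorem omega_ne_one : ω ≠ 1 := by
  rintro rfl
  have h1 : (1 : F) + 1 = 0 := add_self hF 1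
  have h2 : (1 : F) ^ 2 + 1 + 1 = 1 := by rw [one_pow, add_assoc, h1, add_zero]
  rw [h2] at hω
  exact one_ne_zero hω

include hF hω in
theorem omega_sq : ω ^ 2 = ω + 1 := by
  have h1 : ω ^ 2 = -(ω + 1) := by linear_combination hω
  rw [h1, neg_eq' hF]

include hF hω in
/-- the four elements -/
theorem eq_cases (x : F) : x = 0 ∨ x = 1 ∨ x = ω ∨ x = ω + 1 := by
  by_cases hx : x = 0
  · exact Or.inl hx
  right
  have h3 := cube_eq_one hF x hx
  have h4 : (x - 1) * (x ^ 2 + x + 1) = 0 := by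
    have : (x - 1) * (x ^ 2 + x + 1) = x ^ 3 - 1 := by ring
    rw [this, h3, sub_self]
  rcases mul_eq_zero.mp h4 with h | h
  · exact Or.inl (sub_eq_zero.mp h)
  right
  have h5 : (x - ω) * (x + ω + 1) = 0 := by
    have : (x - ω) * (x + ω + 1) = (x ^ 2 + x + 1) - (ω ^ 2 + ω + 1) := by ring
    rw [this, h, hω, sub_self]
  rcases mul_eq_zero.mp h5 with h | h
  · exact Or.inl (sub_eq_zero.mp h)
  · right
    have h6 : x = -(ω + 1) := by linear_combination h
    rw [h6, neg_eq' hF]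

include hF in
theorem norm_eq_one (x : F) (hx : x ≠ 0) : x * x ^ 2 = 1 := by
  have : x * x ^ 2 = x ^ 3 := by ring
  rw [this, cube_eq_one hF x hx]

theorem norm_eq_zero (x : F) (hx : x = 0) : x * x ^ 2 = 0 := by
  rw [hx, zero_mul]

include hF in
/-- a column of non-zero norm has one or three non-zero entries -/
theorem col_type (x : Fin 3 → F) (a : F) (ha : a ≠ 0) (h : ∑ i, x i * x i ^ 2 = a) :
    (∀ i, x i ≠ 0) ∨ ∃ i₀, x i₀ ≠ 0 ∧ ∀ i, i ≠ i₀ → x i = 0 := by
  rw [Fin.sum_univ_three] at h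
  have h11 : (1 : F) + 1 = 0 := add_self hF 1
  by_cases h0 : x 0 = 0 <;> by_cases h1 : x 1 = 0 <;> by_cases h2 : x 2 = 0
  · exfalso
    rw [norm_eq_zero _ h0, norm_eq_zero _ h1, norm_eq_zero _ h2] at h
    apply ha
    rw [← h]
    simp
  · right
    refine ⟨2, h2, ?_⟩
    intro i hi
    fin_cases i
    · exact h0
    · exact h1
    · exact absurd rfl hi
  · right
    refine ⟨1, h1, ?_⟩
    intro i hi
    fin_cases i
    · exact h0
    · exact absurd rfl hi
    · exact h2
  · exfalso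
    rw [norm_eq_zero _ h0, norm_eq_one hF _ h1, norm_eq_one hF _ h2, zero_add, h11] at h
    exact ha h.symm
  · right
    refine ⟨0, h0, ?_⟩
    intro i hi
    fin_cases i
    · exact absurd rfl hi
    · exact h1
    · exact h2
  · exfalso
    rw [norm_eq_one hF _ h0, norm_eq_zero _ h1, norm_eq_one hF _ h2, add_zero, h11] at h
    exact ha h.symm
  · exfalso
    rw [norm_eq_one hF _ h0, norm_eq_one hF _ h1, norm_eq_zero _ h2, add_zero, h11] at h
    exact ha h.symm
  · left
    intro i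
    fin_cases i
    · exact h0
    · exact h1
    · exact h2

omit [Fintype F] in
theorem chi3_one_one : chi3 ω 1 1 = ω := by
  show ω ^ ((1 * 1 : Fin 3) : ℕ) = ω
  have : ((1 * 1 : Fin 3) : ℕ) = 1 := rfl
  rw [this, pow_one]

omit [Fintype F] in
theorem chi3_one_two : chi3 ω 1 2 = ω ^ 2 := by
  show ω ^ ((1 * 2 : Fin 3) : ℕ) = ω ^ 2
  have : ((1 * 2 : Fin 3) : ℕ) = 2 := rfl
  rw [this]

omit [Fintype F] in
theorem chi3_two_one : chi3 ω 2 1 = ω ^ 2 := by
  show ω ^ ((2 * 1 : Fin 3) : ℕ) = ω ^ 2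
  have : ((2 * 1 : Fin 3) : ℕ) = 2 := rfl
  rw [this]

omit [Fintype F] in
theorem chi3_two_two : chi3 ω 2 2 = ω := by
  show ω ^ ((2 * 2 : Fin 3) : ℕ) = ω
  have : ((2 * 2 : Fin 3) : ℕ) = 1 := rfl
  rw [this, pow_one]

omit [Fintype F] in
theorem chi3_zero_left (y : Fin 3) : chi3 ω 0 y = 1 := by
  show ω ^ ((0 * y : Fin 3) : ℕ) = 1
  have : ((0 * y : Fin 3) : ℕ) = 0 := by revert y; decide
  rw [this, pow_zero]

omit [Fintype F] in
theorem chi3_zero_right (y : Fin 3) : chi3 ω y 0 = 1 := by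
  show ω ^ ((y * 0 : Fin 3) : ℕ) = 1
  have : ((y * 0 : Fin 3) : ℕ) = 0 := by revert y; decide
  rw [this, pow_zero]

include hF hω in
/-- a `μ_3`-valued function on `ℤ/3` with product `1` is an affine character -/
theorem laff (g0 g1 g2 : F) (h0 : g0 ≠ 0) (h1 : g1 ≠ 0) (hprod : g0 * g1 * g2 = 1) :
    ∃ (c₀ : F) (t : Fin 3), c₀ ≠ 0 ∧ g0 = c₀ * chi3 ω t 0 ∧ g1 = c₀ * chi3 ω t 1 ∧ g2 = c₀ * chi3 ω t 2 := by
  have hω3 := omega_cube ω hω
  have hc3 := cube_eq_one hF g0 h0
  have hu0 : g1 * g0⁻¹ ≠ 0 := mul_ne_zero h1 (inv_ne_zero h0)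
  -- `g2` is determined
  have hg2 : ∀ w : F, w * (g0 * g1) = 1 → g2 = w := by
    intro w hw
    have h01 : g0 * g1 ≠ 0 := mul_ne_zero h0 h1
    have e1 : g2 * (g0 * g1) = 1 := by rw [mul_comm]; exact hprod
    exact mul_right_cancel₀ h01 (e1.trans hw.symm)
  rcases eq_cases hF ω hω (g1 * g0⁻¹) with h | h | h | h
  · exact absurd h hu0
  · have e1 : g1 = g0 := by
      field_simp at h
      exact h
    refine ⟨g0, 0, h0, ?_, ?_, ?_⟩
    · rw [chi3_zero_left, mul_one]
    · rw [chi3_zero_left, mul_one, e1]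
    · rw [chi3_zero_left, mul_one]
      apply hg2
      rw [e1]
      linear_combination hc3
  · have e1 : g1 = g0 * ω := by
      field_simp at h
      rw [h]
    refine ⟨g0, 1, h0, ?_, ?_, ?_⟩
    · rw [chi3_zero_right, mul_one]
    · rw [chi3_one_one, e1]
    · rw [chi3_one_two]
      apply hg2
      rw [e1]
      linear_combination (ω ^ 3) * hc3 + hω3
  · have e1 : g1 = g0 * ω ^ 2 := by
      field_simp at h
      rw [h, omega_sq hF ω hω]
    refine ⟨g0, 2, h0, ?_, ?_, ?_⟩
    · rw [chi3_zero_right, mul_one]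
    · rw [chi3_two_one, e1]
    · rw [chi3_two_two]
      apply hg2
      rw [e1]
      linear_combination (ω ^ 3) * hc3 + hω3

include hF hω in
/-- invertible diagonal matrices normalise -/
theorem nrm_diagonal4 (d : Fin 3 → F) (hd : ∀ y, d y ≠ 0) : Nrm ω (diagonal d) := by
  apply nrm_diagonal (omega_cube ω hω)
  intro k
  have hprod : (d (0 + k) * (d 0)⁻¹) * (d (1 + k) * (d 1)⁻¹) * (d (2 + k) * (d 2)⁻¹) = 1 := by
    have h0 := hd 0
    have h1 := hd 1
    have h2 := hd 2
    fin_cases k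
    · simp only [Fin.zero_eta, add_zero]
      field_simp
    · have e0 : (0 : Fin 3) + 1 = 1 := rfl
      have e1 : (1 : Fin 3) + 1 = 2 := rfl
      have e2 : (2 : Fin 3) + 1 = 0 := rfl
      simp only [Fin.mk_one, e0, e1, e2]
      field_simp
    · have e0 : (0 : Fin 3) + 2 = 2 := rfl
      have e1 : (1 : Fin 3) + 2 = 0 := rfl
      have e2 : (2 : Fin 3) + 2 = 1 := rfl
      have e3 : (⟨2, by norm_num⟩ : Fin 3) = 2 := rfl
      simp only [e3, e0, e1, e2]
      field_simp
  obtain ⟨c₀, t, hc₀, e0, e1, e2⟩ := laff hF ω hω _ _ _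
    (mul_ne_zero (hd _) (inv_ne_zero (hd 0))) (mul_ne_zero (hd _) (inv_ne_zero (hd 1))) hprod
  refine ⟨c₀, t, hc₀, ?_⟩
  intro y
  fin_cases y
  · have := hd 0
    have e : d (0 + k) = (d (0 + k) * (d 0)⁻¹) * d 0 := by field_simp
    simp only [Fin.zero_eta]
    rw [e, e0]
  · have := hd 1
    have e : d (1 + k) = (d (1 + k) * (d 1)⁻¹) * d 1 := by field_simp
    simp only [Fin.mk_one]
    rw [e, e1]
  · have := hd 2
    have e : d (2 + k) = (d (2 + k) * (d 2)⁻¹) * d 2 := by field_simp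
    have e3 : (⟨2, by norm_num⟩ : Fin 3) = 2 := rfl
    simp only [e3]
    rw [e, e2]

include hF hω in
/-- a matrix without zero entry, with first row and column `1` and orthogonal columns, is `Φ` or `Φ̄` -/
theorem eq_Phi_or_PhiBar (B : Matrix (Fin 3) (Fin 3) F) (hB0 : ∀ x y, B x y ≠ 0) (hrow : ∀ y, B 0 y = 1)
    (hcol : ∀ x, B x 0 = 1) (horth : ∀ y y', y ≠ y' → ∑ i, B i y * B i y' ^ 2 = 0) :
    B = Phi ω ∨ B = PhiBar ω := by
  have h11 : (1 : F) + 1 = 0 := add_self hF 1
  have hsq := omega_sq hF ω hω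
  have o10 := horth 1 0 (by decide)
  have o20 := horth 2 0 (by decide)
  have o12 := horth 1 2 (by decide)
  rw [Fin.sum_univ_three] at o10 o20 o12
  rw [hrow, hcol, hcol, hcol] at o10
  rw [hrow, hcol, hcol, hcol] at o20
  rw [hrow, hrow] at o12
  have er : B 2 1 = 1 + B 1 1 := by
    have : B 2 1 = -(1 + B 1 1) := by linear_combination o10
    rw [this, neg_eq' hF]
  have es : B 2 2 = 1 + B 1 2 := by
    have : B 2 2 = -(1 + B 1 2) := by linear_combination o20
    rw [this, neg_eq' hF]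
  have hp1 : B 1 1 ≠ 1 := by
    intro h
    apply hB0 2 1
    rw [er, h, h11]
  have hq1 : B 1 2 ≠ 1 := by
    intro h
    apply hB0 2 2
    rw [es, h, h11]
  have hne : B 1 1 ≠ B 1 2 := by
    intro h
    have h3 : B 2 1 = B 2 2 := by rw [er, es, h]
    rw [h, h3, norm_eq_one hF _ (hB0 1 2), norm_eq_one hF _ (hB0 2 2), one_pow, one_mul, h11, zero_add] at o12
    exact one_ne_zero o12
  have hww : ω + 1 + 1 = ω := by rw [add_assoc, h11, add_zero]
  rcases eq_cases hF ω hω (B 1 1) with h | h | h | h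
  · exact absurd h (hB0 1 1)
  · exact absurd h hp1
  · -- `B 1 1 = ω`
    have hq : B 1 2 = ω + 1 := by
      rcases eq_cases hF ω hω (B 1 2) with h' | h' | h' | h'
      · exact absurd h' (hB0 1 2)
      · exact absurd h' hq1
      · exact absurd (h.trans h'.symm) hne
      · exact h'
    left
    ext x y
    unfold Phi
    fin_cases x <;> fin_cases y
    · exact (hrow 0).trans (chi3_zero_left ω 0).symm
    · exact (hrow 1).trans (chi3_zero_left ω 1).symm
    · exact (hrow 2).trans (chi3_zero_left ω 2).symm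
    · exact (hcol 1).trans (chi3_zero_right ω 1).symm
    · exact h.trans (chi3_one_one ω).symm
    · show B 1 2 = chi3 ω 1 2
      rw [hq, chi3_one_two, hsq]
    · exact (hcol 2).trans (chi3_zero_right ω 2).symm
    · show B 2 1 = chi3 ω 2 1
      rw [er, h, chi3_two_one, hsq, add_comm]
    · show B 2 2 = chi3 ω 2 2
      rw [es, hq, chi3_two_two, add_comm, hww]
  · -- `B 1 1 = ω + 1`
    have hq : B 1 2 = ω := by
      rcases eq_cases hF ω hω (B 1 2) with h' | h' | h' | h'
      · exact absurd h' (hB0 1 2)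
      · exact absurd h' hq1
      · exact h'
      · exact absurd (h.trans h'.symm) hne
    right
    ext x y
    unfold PhiBar
    have n0 : (-0 : Fin 3) = 0 := rfl
    have n1 : (-1 : Fin 3) = 2 := rfl
    have n2 : (-2 : Fin 3) = 1 := rfl
    fin_cases x <;> fin_cases y
    · exact (hrow 0).trans (chi3_zero_left ω _).symm
    · exact (hrow 1).trans (chi3_zero_left ω _).symm
    · exact (hrow 2).trans (chi3_zero_left ω _).symm
    · show B 1 0 = chi3 ω 1 (-0)
      rw [n0]
      exact (hcol 1).trans (chi3_zero_right ω 1).symm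
    · show B 1 1 = chi3 ω 1 (-1)
      rw [n1, h, chi3_one_two, hsq]
    · show B 1 2 = chi3 ω 1 (-2)
      rw [n2, hq, chi3_one_one]
    · show B 2 0 = chi3 ω 2 (-0)
      rw [n0]
      exact (hcol 2).trans (chi3_zero_right ω 2).symm
    · show B 2 1 = chi3 ω 2 (-1)
      rw [n1, er, h, chi3_two_two, add_comm, hww]
    · show B 2 2 = chi3 ω 2 (-2)
      rw [n2, es, hq, chi3_two_one, hsq, add_comm]

include hF hω in
/-- **every unitary similitude of `F_4^3` normalises the Heisenberg set** -/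
theorem nrm_of_unitary (A : Matrix (Fin 3) (Fin 3) F) (a : F) (ha : a ≠ 0)
    (hA : Aᵀ * A.map (fun x => x ^ 2) = a • (1 : Matrix (Fin 3) (Fin 3) F)) : Nrm ω A := by
  classical
  have hω3 := omega_cube ω hω
  have horth : ∀ y y', ∑ i, A i y * A i y' ^ 2 = if y = y' then a else 0 := by
    intro y y'
    have := congrFun (congrFun hA y) y'
    rw [Matrix.mul_apply, Matrix.smul_apply, Matrix.one_apply, smul_eq_mul, mul_ite, mul_one, mul_zero] at this
    rw [← this]
    apply Finset.sum_congr rfl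
    intro i _
    rw [Matrix.transpose_apply, Matrix.map_apply]
  have hcol : ∀ y, (∀ i, A i y ≠ 0) ∨ ∃ i₀, A i₀ y ≠ 0 ∧ ∀ i, i ≠ i₀ → A i y = 0 := by
    intro y
    apply col_type hF (fun i => A i y) a ha
    have := horth y y
    rwa [if_pos rfl] at this
  -- a full column and a single column are not orthogonal
  have hmix : ∀ y y', (∀ i, A i y ≠ 0) → (∃ i₀, A i₀ y' ≠ 0 ∧ ∀ i, i ≠ i₀ → A i y' = 0) → y = y' := by
    intro y y' hy ⟨i₀, h0, hz⟩
    by_contra hne
    have h1 := horth y y'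
    rw [if_neg hne, Finset.sum_eq_single i₀] at h1
    · exact mul_ne_zero (hy i₀) (pow_ne_zero 2 h0) h1
    · intro i _ hi
      rw [hz i hi]
      ring
    · intro hn
      exact absurd (Finset.mem_univ _) hn
  by_cases hfull : ∀ y, ∀ i, A i y ≠ 0
  · -- no zero entry
    let r : Fin 3 → F := fun x => A x 0
    let s : Fin 3 → F := fun y => A 0 y * (A 0 0)⁻¹
    have hr : ∀ x, r x ≠ 0 := fun x => hfull 0 x
    have hs : ∀ y, s y ≠ 0 := fun y => mul_ne_zero (hfull y 0) (inv_ne_zero (hfull 0 0))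
    let B : Matrix (Fin 3) (Fin 3) F := fun x y => A x y * (r x)⁻¹ * (s y)⁻¹
    have hAB : ∀ x y, A x y = r x * B x y * s y := by
      intro x y
      have h1 := hr x
      have h2 := hs y
      show A x y = r x * (A x y * (r x)⁻¹ * (s y)⁻¹) * s y
      field_simp
    have hA' : A = diagonal r * B * diagonal s := by
      ext x y
      rw [Matrix.mul_diagonal, Matrix.diagonal_mul]
      exact hAB x y
    have hB0 : ∀ x y, B x y ≠ 0 := fun x y =>
      mul_ne_zero (mul_ne_zero (hfull y x) (inv_ne_zero (hr x))) (inv_ne_zero (hs y))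
    have hrow : ∀ y, B 0 y = 1 := by
      intro y
      have h1 := hfull y 0
      have h2 := hfull 0 0
      show A 0 y * (A 0 0)⁻¹ * (A 0 y * (A 0 0)⁻¹)⁻¹ = 1
      field_simp
    have hcol' : ∀ x, B x 0 = 1 := by
      intro x
      have h1 := hfull 0 x
      have h2 := hfull 0 0
      show A x 0 * (A x 0)⁻¹ * (A 0 0 * (A 0 0)⁻¹)⁻¹ = 1
      field_simp
    have horthB : ∀ y y', y ≠ y' → ∑ i, B i y * B i y' ^ 2 = 0 := by
      intro y y' hne
      have h1 := horth y y'
      rw [if_neg hne] at h1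
      have h2 : ∑ i, A i y * A i y' ^ 2 = (s y * s y' ^ 2) * ∑ i, B i y * B i y' ^ 2 := by
        rw [Finset.mul_sum]
        apply Finset.sum_congr rfl
        intro i _
        rw [hAB i y, hAB i y']
        have h3 : r i * r i ^ 2 = 1 := norm_eq_one hF _ (hr i)
        linear_combination (B i y * s y * (B i y' * s y') ^ 2) * h3
      rw [h2] at h1
      exact (mul_eq_zero.mp h1).resolve_left (mul_ne_zero (hs y) (pow_ne_zero 2 (hs y')))
    have hBn : Nrm ω B := by
      rcases eq_Phi_or_PhiBar hF ω hω B hB0 hrow hcol' horthB with h | h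
      · rw [h]
        exact nrm_Phi hω3
      · rw [h]
        exact nrm_PhiBar hω3
    rw [hA']
    exact ((nrm_diagonal4 hF ω hω r hr).mul hBn).mul (nrm_diagonal4 hF ω hω s hs)
  · -- monomial
    have hsingle : ∀ y, ∃ i₀, A i₀ y ≠ 0 ∧ ∀ i, i ≠ i₀ → A i y = 0 := by
      push Not at hfull
      obtain ⟨y₁, i₁, h1⟩ := hfull
      have hy₁ : ∃ i₀, A i₀ y₁ ≠ 0 ∧ ∀ i, i ≠ i₀ → A i y₁ = 0 := by
        rcases hcol y₁ with h | h
        · exact absurd h1 (h i₁)
        · exact h
      intro y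
      rcases hcol y with h | h
      · have := hmix y y₁ h hy₁
        rw [this]
        exact hy₁
      · exact h
    choose σ hσ0 hσz using hsingle
    have hinj : ∀ y y', y ≠ y' → σ y ≠ σ y' := by
      intro y y' hne he
      have h1 := horth y y'
      rw [if_neg hne, Finset.sum_eq_single (σ y')] at h1
      · rw [← he] at h1
        exact mul_ne_zero (hσ0 y) (pow_ne_zero 2 (he ▸ hσ0 y')) h1
      · intro i _ hi
        rw [hσz y' i hi]
        ring
      · intro hn
        exact absurd (Finset.mem_univ _) hn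
    have haffine : ∀ s0 s1 s2 : Fin 3, s0 ≠ s1 → s0 ≠ s2 → s1 ≠ s2 →
        ((s1 - s0) * (s1 - s0) = 1 ∧ s0 = (s1 - s0) * 0 + s0 ∧ s1 = (s1 - s0) * 1 + s0 ∧
          s2 = (s1 - s0) * 2 + s0) := by decide
    obtain ⟨hu, e0, e1, e2⟩ := haffine (σ 0) (σ 1) (σ 2) (hinj 0 1 (by decide)) (hinj 0 2 (by decide))
      (hinj 1 2 (by decide))
    have hσ : ∀ y, σ y = (σ 1 - σ 0) * y + σ 0 := by
      intro y
      fin_cases y
      · exact e0
      · exact e1
      · exact e2
    let d : Fin 3 → F := fun y => A (σ y) y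
    have hA' : A = Pm F (σ 1 - σ 0) (σ 0) * diagonal d := by
      ext x y
      rw [Matrix.mul_diagonal]
      unfold Pm
      by_cases hx : x = σ y
      · rw [if_pos (hx.trans (hσ y)), one_mul, hx]
      · rw [if_neg (fun h => hx (h.trans (hσ y).symm)), zero_mul]
        exact hσz y x hx
    rw [hA']
    exact (nrm_Pm hω3 _ _ hu).mul (nrm_diagonal4 hF ω hω d hσ0)

include hF hω in
/-- **K1** `GU_3(2)` normalises the Heisenberg group `3^(1+2)` (exact statement of the farm-out) -/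
theorem gu32_normalizes (A : Matrix (Fin 3) (Fin 3) F) (a : F) (ha : a ≠ 0)
    (hA : Aᵀ * A.map (fun x => x ^ 2) = a • (1 : Matrix (Fin 3) (Fin 3) F)) (c : F) (hc : c ≠ 0)
    (j k : Fin 3) : ∃ (c' : F) (j' k' : Fin 3), c' ≠ 0 ∧ A * hm (chi3 ω) c j k = hm (chi3 ω) c' j' k' * A := by
  obtain ⟨M', ⟨c', j', k', hc', rfl⟩, h⟩ := nrm_of_unitary hF ω hω A a ha hA _ ⟨c, j, k, hc, rfl⟩
  exact ⟨c', j', k', hc', h⟩

end four

end Cfsg.Agent.Lib.Helper3.S5663K1
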