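import Mathlib
import Cfsg.Agent.Lib.Helper3.SFDefs
import Cfsg.Agent.Lib.Helper12.S4130FO1
import Cfsg.Agent.Lib.Helper7.S4130FO2a
import Cfsg.Agent.Lib.Helper7.S4130FO2b
import Cfsg.Agent.Lib.Helper7.S4130FO2c

/-!
# S4130, Part I: a group with squarefree class sizes is solvable (helper3)
-/

set_option autoImplicit false

namespace Cfsg.Agent.Lib.Helper3.SF

open Subgroup

/-- arithmetic contradiction -/
theorem arith_false {p m a r : ℕ} (hp : 2 ≤ p) (_hm : 1 ≤ m) (ha : p + 1 ≤ a)
    (hr : p * m + 1 ≤ r) (h : r * a ≤ p ^ 2 * m + (a - 1) * m) : False := by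
  obtain ⟨b, rfl⟩ : ∃ b, a = b + 1 := ⟨a - 1, by omega⟩
  have hb : p ≤ b := by omega
  simp only [Nat.add_sub_cancel] at h
  have h1 : (p * m + 1) * (b + 1) ≤ r * (b + 1) := Nat.mul_le_mul_right _ hr
  have h2 : (p * m + 1) * (b + 1) ≤ p ^ 2 * m + b * m := h1.trans h
  have h3 : p * m * p ≤ p * m * b := Nat.mul_le_mul_left _ hb
  nlinarith [h2, h3]

/-- Assembly of FO-2a/b/c: `N_G(P) ≤ C_G(P)` for an elementary abelian Sylow `p`-subgroup,
`p` the least prime divisor, when `p²` divides no class size. -/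
theorem normalizer_le_centralizer {G : Type*} [Group G] [Finite G] (p : ℕ) [hp : Fact p.Prime]
    (hmin : ∀ q : ℕ, q.Prime → q ∣ Nat.card G → p ≤ q)
    (h : ∀ x : G, ¬ p ^ 2 ∣ (centralizer ({x} : Set G)).index)
    (P : Sylow p G)
    (hab : ∀ a ∈ (P : Subgroup G), ∀ b ∈ (P : Subgroup G), a * b = b * a)
    (hexp : ∀ a ∈ (P : Subgroup G), a ^ p = 1) :
    normalizer ((P : Subgroup G) : Set G) ≤ centralizer ((P : Subgroup G) : Set G) := by
  classical
  by_contra hle
  obtain ⟨g₀, hg₀N, hg₀C⟩ := SetLike.not_le_iff_exists.mp hle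
  obtain ⟨n, hn⟩ := (P.2).exists_card_eq
  have hn' : Nat.card (P : Subgroup G) = p ^ n := hn
  set N := normalizer ((P : Subgroup G) : Set G) with hN
  set C := centralizer ((P : Subgroup G) : Set G) with hC
  have hp2 : 2 ≤ p := hp.out.two_le
  -- n ≥ 2
  have hfix0 := Cfsg.Agent.Lib.Helper7.S4130.FO2a_card_fixed_le p hmin P hab g₀ hg₀N hg₀C
  have hn2 : 2 ≤ n := by
    by_contra hlt
    have hlt' : n < 2 := not_le.mp hlt
    have hpos : 1 ≤ Nat.card ↥((P : Subgroup G) ⊓ centralizer ({g₀} : Set G)) := Nat.card_pos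
    rw [hn'] at hfix0
    have h1 : p ^ 2 ≤ p ^ n := by nlinarith [hfix0, hpos]
    have := (Nat.pow_le_pow_iff_right hp.out.one_lt).mp h1
    omega
  have hfix : ∀ g ∈ N, g ∉ C →
      p ^ 2 * Nat.card ↥((P : Subgroup G) ⊓ centralizer ({g} : Set G)) ≤ p ^ n := by
    intro g hg hgc
    have := Cfsg.Agent.Lib.Helper7.S4130.FO2a_card_fixed_le p hmin P hab g hg hgc
    rwa [hn'] at this
  -- the index a = |N : C|
  set a := C.relIndex N with ha
  have hPC : (P : Subgroup G) ≤ C := by
    intro x hx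
    rw [hC, Subgroup.mem_centralizer_iff]
    intro y hy
    exact hab y hy x hx
  have hCN : C ≤ N := Subgroup.centralizer_le_normalizer _
  have hPN : (P : Subgroup G) ≤ N := Subgroup.le_normalizer
  have ha1 : a ≠ 1 := by
    intro h1
    apply hle
    exact Subgroup.relIndex_eq_one.mp h1
  have hapos : 0 < a := by
    rw [ha, Subgroup.relIndex]
    exact Nat.pos_of_ne_zero Subgroup.index_ne_zero_of_finite
  -- a divides |G : P|, so is coprime to p and all its prime factors are > p
  have hadvd : a ∣ (P : Subgroup G).index := by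
    have h1 : (P : Subgroup G).relIndex C * C.relIndex N = (P : Subgroup G).relIndex N :=
      Subgroup.relIndex_mul_relIndex _ _ _ hPC hCN
    have h2 : (P : Subgroup G).relIndex N ∣ (P : Subgroup G).index :=
      Subgroup.relIndex_dvd_index_of_le hPN
    exact (Dvd.intro_left _ h1).trans h2
  have hpa : p + 1 ≤ a := by
    have hq := Nat.minFac_prime ha1
    have hqa : a.minFac ∣ a := Nat.minFac_dvd a
    have hqG : a.minFac ∣ Nat.card G :=
      (hqa.trans hadvd).trans (Subgroup.index_dvd_card _)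
    have h1 : p ≤ a.minFac := hmin _ hq hqG
    have h2 : a.minFac ≠ p := by
      intro he
      have hd : a.minFac ∣ (P : Subgroup G).index := hqa.trans hadvd
      rw [he] at hd
      exact P.not_dvd_index hd
    have h3 : a.minFac ≤ a := Nat.le_of_dvd hapos hqa
    omega
  -- many classes
  obtain ⟨R, hRcard, hRp, hRconj⟩ := Cfsg.Agent.Lib.Helper7.S4130.FO2b_exists_nonconj p n (by omega) P hn' hexp h
  -- conjugate the representatives into P
  have hconjP : ∀ t ∈ R, ∃ u : G, u * t * u⁻¹ ∈ (P : Subgroup G) := by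
    intro t ht
    have htp : IsPGroup p (Subgroup.zpowers t) := by
      rw [IsPGroup.iff_card, Nat.card_zpowers]
      have : orderOf t ∣ p ^ 1 := by rw [pow_one]; exact orderOf_dvd_of_pow_eq_one (hRp t ht)
      obtain ⟨k, _, hk⟩ := (Nat.dvd_prime_pow hp.out).mp this
      exact ⟨k, hk⟩
    obtain ⟨Q, hQ⟩ := htp.exists_le_sylow
    obtain ⟨u, hu⟩ := MulAction.exists_smul_eq G Q P
    refine ⟨u, ?_⟩
    have htQ : t ∈ (Q : Subgroup G) := hQ (Subgroup.mem_zpowers t)
    have : u * t * u⁻¹ ∈ ((u • Q : Sylow p G) : Subgroup G) := by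
      rw [Sylow.coe_subgroup_smul, Subgroup.mem_pointwise_smul_iff_inv_smul_mem]
      show (MulAut.conj u)⁻¹ • (u * t * u⁻¹) ∈ (Q : Subgroup G)
      have e : (MulAut.conj u)⁻¹ • (u * t * u⁻¹) = t := by
        rw [MulAut.smul_def, MulAut.inv_apply, MulAut.conj_symm_apply]; group
      rw [e]; exact htQ
    rwa [hu] at this
  choose! u hu using hconjP
  let f : G → G := fun t => u t * t * (u t)⁻¹
  have hfinj : Set.InjOn f (R : Set G) := by
    intro s hs t ht hst
    apply hRconj s hs t ht
    -- s and t are conjugate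
    rw [isConj_iff]
    refine ⟨(u t)⁻¹ * u s, ?_⟩
    have : u s * s * (u s)⁻¹ = u t * t * (u t)⁻¹ := hst
    calc (u t)⁻¹ * u s * s * ((u t)⁻¹ * u s)⁻¹ = (u t)⁻¹ * (u s * s * (u s)⁻¹) * u t := by group
      _ = (u t)⁻¹ * (u t * t * (u t)⁻¹) * u t := by rw [this]
      _ = t := by group
  set R' : Finset G := R.image f with hR'
  have hR'card : R'.card = R.card := Finset.card_image_of_injOn hfinj
  have hR'P : ∀ t ∈ R', t ∈ (P : Subgroup G) := by
    intro t ht
    obtain ⟨s, hs, rfl⟩ := Finset.mem_image.mp ht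
    exact hu s hs
  have hR'conj : ∀ s ∈ R', ∀ t ∈ R', (∃ g ∈ N, g * s * g⁻¹ = t) → s = t := by
    intro s hs t ht ⟨g, _, hg⟩
    obtain ⟨s₀, hs₀, rfl⟩ := Finset.mem_image.mp hs
    obtain ⟨t₀, ht₀, rfl⟩ := Finset.mem_image.mp ht
    have : s₀ = t₀ := by
      apply hRconj s₀ hs₀ t₀ ht₀
      rw [isConj_iff]
      refine ⟨(u t₀)⁻¹ * g * u s₀, ?_⟩
      have hg' : g * (u s₀ * s₀ * (u s₀)⁻¹) * g⁻¹ = u t₀ * t₀ * (u t₀)⁻¹ := hg
      calc (u t₀)⁻¹ * g * u s₀ * s₀ * ((u t₀)⁻¹ * g * u s₀)⁻¹
          = (u t₀)⁻¹ * (g * (u s₀ * s₀ * (u s₀)⁻¹) * g⁻¹) * u t₀ := by group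
        _ = (u t₀)⁻¹ * (u t₀ * t₀ * (u t₀)⁻¹) * u t₀ := by rw [hg']
        _ = t₀ := by group
    rw [this]
  have hmain := Cfsg.Agent.Lib.Helper7.S4130.FO2c_card_mul_le p n hn2 P hn' hfix R' hR'P hR'conj
  rw [hR'card] at hmain
  -- arithmetic
  obtain ⟨k, rfl⟩ : ∃ k, n = k + 2 := ⟨n - 2, by omega⟩
  have e1 : p ^ (k + 2) = p ^ 2 * p ^ k := by ring
  have e2 : p ^ (k + 2 - 1) = p * p ^ k := by
    have : k + 2 - 1 = k + 1 := by omega
    rw [this]; ring
  have e3 : k + 2 - 2 = k := by omega
  rw [e2] at hRcard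
  rw [e1, e3] at hmain
  have hpk : 1 ≤ p ^ k := Nat.one_le_pow _ _ (by omega)
  exact arith_false hp2 hpk hpa hRcard hmain


universe u

/-- A nonabelian finite simple group has a class size divisible by a square. -/
theorem comm_of_simple {G : Type*} [Group G] [Finite G] [IsSimpleGroup G] (h : SqFree G) :
    ∀ a b : G, a * b = b * a := by
  by_contra hnc
  push Not at hnc
  obtain ⟨a₀, b₀, hab₀⟩ := hnc
  have hcard : Nat.card G ≠ 1 := by
    intro h1
    have : Subsingleton G := (Nat.card_eq_one_iff_unique.mp h1).1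
    exact hab₀ (Subsingleton.elim _ _)
  have hZ : center G = ⊥ := by
    rcases (inferInstance : (center G).Normal).eq_bot_or_eq_top with hz | hz
    · exact hz
    · exfalso
      apply hab₀
      have : a₀ ∈ center G := hz ▸ Subgroup.mem_top a₀
      exact ((Subgroup.mem_center_iff.mp this) b₀).symm
  set p := (Nat.card G).minFac with hp
  have hpp : p.Prime := Nat.minFac_prime hcard
  haveI : Fact p.Prime := ⟨hpp⟩
  have hmin : ∀ q : ℕ, q.Prime → q ∣ Nat.card G → p ≤ q := fun q hq hqd =>
    Nat.minFac_le_of_dvd hq.two_le hqd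
  have hsq : ∀ x : G, ¬ p ^ 2 ∣ (centralizer ({x} : Set G)).index := fun x => h.not_sq_dvd hpp x
  obtain ⟨P⟩ : Nonempty (Sylow p G) := inferInstance
  obtain ⟨hab, hexp⟩ := Cfsg.Agent.Lib.Helper12.S4130FO1.FO1_sylow_elementary p hsq hZ P
  have hNC := normalizer_le_centralizer p hmin hsq P hab hexp
  have hcompl := MonoidHom.ker_transferSylow_isComplement' P hNC
  set K := (MonoidHom.transferSylow P hNC).ker with hK
  have hcardKP : Nat.card K * Nat.card (P : Subgroup G) = Nat.card G := hcompl.card_mul_card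
  rcases (inferInstance : K.Normal).eq_bot_or_eq_top with hk | hk
  · -- K = ⊥, so P = ⊤ and G is abelian
    have hPtop : (P : Subgroup G) = ⊤ := by
      apply (Subgroup.card_eq_iff_eq_top _).mp
      rw [← hcardKP, hk]
      simp
    apply hab₀
    exact hab a₀ (hPtop ▸ Subgroup.mem_top a₀) b₀ (hPtop ▸ Subgroup.mem_top b₀)
  · -- K = ⊤, so P = ⊥, but p divides |G|
    have hP1 : Nat.card (P : Subgroup G) = 1 := by
      have h1 : Nat.card K = Nat.card G := by rw [hk]; simp
      rw [h1] at hcardKP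
      have hpos : 0 < Nat.card G := Nat.card_pos
      exact Nat.eq_of_mul_eq_mul_left hpos (by rw [hcardKP, mul_one])
    have hpd : p ∣ Nat.card G := Nat.minFac_dvd _
    have := P.card_eq_multiplicity
    rw [hP1] at this
    have hfac : (Nat.card G).factorization p = 0 := by
      by_contra hne
      have : 1 < p ^ (Nat.card G).factorization p :=
        Nat.one_lt_pow hne hpp.one_lt
      omega
    have hpos : 0 < (Nat.card G).factorization p :=
      hpp.factorization_pos_of_dvd (Nat.card_pos).ne' hpd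
    omega

theorem isSolvable_aux : ∀ (n : ℕ) (G : Type u) [Group G] [Finite G],
    Nat.card G = n → SqFree G → Group.IsSolvable G := by
  intro n
  induction n using Nat.strong_induction_on with
  | _ n ih =>
    intro G _ _ hn h
    by_cases hex : ∃ N : Subgroup G, N.Normal ∧ N ≠ ⊥ ∧ N ≠ ⊤
    · obtain ⟨N, hNn, hNb, hNt⟩ := hex
      haveI := hNn
      have hNlt : Nat.card N < n := by
        rw [← hn]
        have hle : Nat.card N ≤ Nat.card G := Nat.le_of_dvd Nat.card_pos (Subgroup.card_subgroup_dvd_card N)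
        rcases hle.lt_or_eq with hlt | heq
        · exact hlt
        · exact absurd ((Subgroup.card_eq_iff_eq_top _).mp heq) hNt
      have hQlt : Nat.card (G ⧸ N) < n := by
        rw [← hn, ← Subgroup.card_mul_index N]
        have hidx : N.index = Nat.card (G ⧸ N) := rfl
        rw [← hidx]
        have h1 : 1 < Nat.card N := by
          rcases Nat.lt_or_ge 1 (Nat.card N) with h1 | h1
          · exact h1
          · exfalso
            apply hNb
            have : Nat.card N = 1 := le_antisymm h1 Nat.card_pos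
            exact Subgroup.card_eq_one.mp this
        have h2 : 0 < N.index := Nat.pos_of_ne_zero Subgroup.index_ne_zero_of_finite
        nlinarith
      haveI s1 : Group.IsSolvable N := ih _ hNlt N rfl (h.of_normal N)
      haveI s2 : Group.IsSolvable (G ⧸ N) := ih _ hQlt (G ⧸ N) rfl (h.quotient N)
      exact Group.isSolvable_of_ker_le_range N.subtype (QuotientGroup.mk' N)
        (by rw [QuotientGroup.ker_mk', Subgroup.range_subtype])
    · push Not at hex
      by_cases hsub : Subsingleton G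
      · infer_instance
      · haveI : Nontrivial G := not_subsingleton_iff_nontrivial.mp hsub
        haveI : IsSimpleGroup G := ⟨fun N hN => by
          by_cases hb : N = ⊥
          · exact Or.inl hb
          · exact Or.inr (hex N hN hb)⟩
        have hc := comm_of_simple h
        exact Group.isSolvable_of_comm hc

theorem isSolvable_of_sqFree {G : Type*} [Group G] [Finite G] (h : SqFree G) : Group.IsSolvable G :=
  isSolvable_aux _ G rfl h

end Cfsg.Agent.Lib.Helper3.SF
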