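import Mathlib
import Cfsg.Prelude.Def_SolvableStructure
import Cfsg.Prelude.Def_Solvable
import Cfsg.Agent.Lib.Helper3.SFDefs
import Cfsg.Agent.Lib.Helper24.S4130FO3
import Cfsg.Agent.Lib.Helper24.S4130FO4
import Cfsg.Agent.Lib.Helper3.SFSolv
import Cfsg.Agent.Lib.Helper4.Supersolvable
import Cfsg.Agent.S0526
import Cfsg.Agent.S0586
import Cfsg.Agent.S1884
import Cfsg.Agent.Lib.Helper1.Cores
import Cfsg.Agent.Lib.Helper1.Fitting
import Cfsg.Agent.Lib.Helper1.FittingFrattini

/-!
# S4130, Parts II–IV: structure of groups with squarefree class sizes (helper3)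
-/

set_option autoImplicit false

namespace Cfsg.Agent.Lib.Helper3.SF

open Subgroup Cfsg

universe u

/-! ### Part II: supersolvable -/

theorem isSupersolvable_aux : ∀ (n : ℕ) (G : Type u) [Group G] [Finite G],
    Nat.card G = n → SqFree G → Cfsg.IsSupersolvable G := by
  intro n
  induction n using Nat.strong_induction_on with
  | _ n ih =>
    intro G _ _ hn h
    by_cases hsub : Subsingleton G
    · exact Cfsg.Agent.Lib.Helper4.isSupersolvable_of_subsingleton
    · haveI : Nontrivial G := not_subsingleton_iff_nontrivial.mp hsub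
      haveI : Group.IsSolvable G := isSolvable_of_sqFree h
      obtain ⟨N, hNn, hNp⟩ := Cfsg.Agent.Lib.Helper24.S4130FO3.FO3_exists_normal_prime h
      haveI := hNn
      have hlt : Nat.card (G ⧸ N) < n := by
        rw [← hn, ← Subgroup.card_mul_index N]
        have hidx : N.index = Nat.card (G ⧸ N) := rfl
        rw [← hidx]
        have h1 : 1 < Nat.card N := hNp.one_lt
        have h2 : 0 < N.index := Nat.pos_of_ne_zero Subgroup.index_ne_zero_of_finite
        nlinarith
      exact Cfsg.Agent.Lib.Helper4.isSupersolvable_of_prime_normal N hNp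
        (ih _ hlt (G ⧸ N) rfl (h.quotient N))

theorem isSupersolvable_of_sqFree {G : Type*} [Group G] [Finite G] (h : SqFree G) :
    Cfsg.IsSupersolvable G :=
  isSupersolvable_aux _ G rfl h

theorem commutator_isNilpotent {G : Type*} [Group G] [Finite G] (h : SqFree G) :
    Group.IsNilpotent (commutator G) :=
  Cfsg.Agent.S0526.result (isSupersolvable_of_sqFree h)

theorem commutator_le_fitting {G : Type*} [Group G] [Finite G] (h : SqFree G) :
    commutator G ≤ fittingSubgroup G :=
  Cfsg.Agent.Lib.Helper1.le_fittingSubgroup inferInstance (commutator_isNilpotent h)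

/-! ### Part III: `|G : F(G)|` is squarefree -/

theorem commutator_fitting_le_frattini {G : Type*} [Group G] [Finite G] :
    ∀ a ∈ fittingSubgroup G, ∀ b ∈ fittingSubgroup G, a * b * a⁻¹ * b⁻¹ ∈ frattini G := by
  intro a ha b hb
  haveI : (fittingSubgroup G).Normal := Cfsg.Agent.Lib.Helper1.fittingSubgroup_normal
  haveI : Group.IsNilpotent (fittingSubgroup G) := Cfsg.Agent.Lib.Helper1.fittingSubgroup_isNilpotent
  have h1 : _root_.commutator (fittingSubgroup G) ≤ frattini (fittingSubgroup G) := by
    unfold frattini Order.radical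
    exact le_iInf₂ fun M hM => Cfsg.Agent.S0586.commutator_le_coatom hM
  have h2 := Cfsg.Agent.S1884.frattini_map_subtype_le (fittingSubgroup G)
  apply h2
  refine ⟨⟨a, ha⟩ * ⟨b, hb⟩ * (⟨a, ha⟩ : fittingSubgroup G)⁻¹ * (⟨b, hb⟩ : fittingSubgroup G)⁻¹,
    h1 ?_, rfl⟩
  have := Subgroup.commutator_mem_commutator
    (Subgroup.mem_top (⟨a, ha⟩ : fittingSubgroup G)) (Subgroup.mem_top (⟨b, hb⟩ : fittingSubgroup G))
  rw [_root_.commutator_def]
  rwa [commutatorElement_def] at this

theorem index_fitting_squarefree {G : Type*} [Group G] [Finite G] (h : SqFree G) :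
    Squarefree (fittingSubgroup G).index := by
  haveI : Group.IsSolvable G := isSolvable_of_sqFree h
  haveI hFn : (fittingSubgroup G).Normal := Cfsg.Agent.Lib.Helper1.fittingSubgroup_normal
  set Φ := frattini G with hΦ
  set π := QuotientGroup.mk' Φ with hπ
  have hπs : Function.Surjective π := QuotientGroup.mk'_surjective Φ
  set Fb := fittingSubgroup (G ⧸ Φ) with hFb
  have hFbmap : Fb = (fittingSubgroup G).map π :=
    Cfsg.Agent.Lib.Helper1.fittingSubgroup_quotient_frattini
  haveI hFbn : Fb.Normal := Cfsg.Agent.Lib.Helper1.fittingSubgroup_normal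
  have hΦF : Φ ≤ fittingSubgroup G := Cfsg.Agent.Lib.Helper1.frattini_le_fittingSubgroup
  have hidx : Fb.index = (fittingSubgroup G).index := by
    rw [hFbmap]
    apply Subgroup.index_map_eq _ hπs
    rw [hπ, QuotientGroup.ker_mk']
    exact hΦF
  rw [← hidx]
  haveI : Group.IsSolvable (G ⧸ Φ) := inferInstance
  apply Cfsg.Agent.Lib.Helper24.S4130FO4.FO4_index_squarefree (h.quotient Φ) Fb
  · -- abelian
    intro a ha b hb
    rw [hFbmap] at ha hb
    obtain ⟨a', ha', rfl⟩ := ha
    obtain ⟨b', hb', rfl⟩ := hb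
    have hc := commutator_fitting_le_frattini a' ha' b' hb'
    have : π (a' * b' * a'⁻¹ * b'⁻¹) = 1 := by
      rw [hπ, QuotientGroup.mk'_apply, QuotientGroup.eq_one_iff]; exact hc
    rw [map_mul, map_mul, map_mul, map_inv, map_inv] at this
    calc π a' * π b' = (π a' * π b' * (π a')⁻¹ * (π b')⁻¹) * (π b' * π a') := by group
      _ = π b' * π a' := by rw [this, one_mul]
  · exact Cfsg.Agent.Lib.Helper1.centralizer_fittingSubgroup_le
  · -- G' ≤ F
    intro a b
    obtain ⟨a', rfl⟩ := hπs a
    obtain ⟨b', rfl⟩ := hπs b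
    rw [hFbmap]
    refine ⟨a' * b' * a'⁻¹ * b'⁻¹, ?_, by simp⟩
    apply commutator_le_fitting h
    rw [_root_.commutator_def]
    have := Subgroup.commutator_mem_commutator (Subgroup.mem_top a') (Subgroup.mem_top b')
    rwa [commutatorElement_def] at this
  · intro K hK hKn
    exact Cfsg.Agent.Lib.Helper1.le_fittingSubgroup hK hKn

end Cfsg.Agent.Lib.Helper3.SF
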