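import Mathlib
import Cfsg.Prelude.Def_SolvableStructure
import Cfsg.Prelude.Def_Solvable
import Cfsg.Agent.Lib.Helper3.SFDefs
import Cfsg.Agent.Lib.Helper29.S4130FO6a
import Cfsg.Agent.Lib.Helper29.S4130FO6b
import Cfsg.Agent.Lib.Helper28.S4130FO6c
import Cfsg.Agent.Lib.Helper28.S4130FO8
import Cfsg.Agent.Lib.Helper12.S4130FO7
import Cfsg.Agent.Lib.Helper3.SFStruct
import Cfsg.Agent.Lib.Helper22.PElt

/-!
# S4130, Part IV and final assembly (helper3)
-/

set_option autoImplicit false

namespace Cfsg.Agent.Lib.Helper3.SF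

open Subgroup Cfsg

/-- If `G'` is a `p`-group (and all class sizes are squarefree) then `|G'|` divides `p`. -/
theorem card_commutator_dvd_prime {G : Type*} [Group G] [Finite G] (p : ℕ) [hp : Fact p.Prime]
    (h : SqFree G) (hG' : IsPGroup p (commutator G)) : Nat.card (commutator G) ∣ p := by
  obtain ⟨P, hcomm⟩ := hG'.exists_le_sylow
  by_cases hab : ∀ a ∈ (P : Subgroup G), ∀ b ∈ (P : Subgroup G), a * b = b * a
  · exact Cfsg.Agent.Lib.Helper29.S4130FO6.FO6a_abelian_sylow p h P hcomm hab
  · -- P is normal
    have hmemc : ∀ x y : G, x * y * x⁻¹ * y⁻¹ ∈ commutator G := by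
      intro x y
      rw [_root_.commutator_def]
      have := Subgroup.commutator_mem_commutator (Subgroup.mem_top x) (Subgroup.mem_top y)
      rwa [commutatorElement_def] at this
    have hPn : (P : Subgroup G).Normal := ⟨fun n hn g => by
      have h1 : g * n * g⁻¹ * n⁻¹ ∈ (P : Subgroup G) := hcomm (hmemc g n)
      have : g * n * g⁻¹ = (g * n * g⁻¹ * n⁻¹) * n := by group
      rw [this]
      exact Subgroup.mul_mem _ h1 hn⟩
    haveI := hPn
    have hcent := Cfsg.Agent.Lib.Helper29.S4130FO6.FO6b_nonabelian_sylow p h P hPn hab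
    -- Knoche for P
    have hPsq : SqFree (P : Subgroup G) := h.of_normal _
    have hKn : Nat.card (commutator (P : Subgroup G)) ∣ p := by
      apply Cfsg.Agent.Lib.Helper28.S4130.knoche p P.2
      intro y
      have h1 := hPsq y
      have h2 : (centralizer ({y} : Set (P : Subgroup G))).index ∣ Nat.card (P : Subgroup G) :=
        Subgroup.index_dvd_card _
      obtain ⟨n, hn⟩ := (P.2).exists_card_eq
      rw [hn] at h2
      obtain ⟨k, _, hk⟩ := (Nat.dvd_prime_pow hp.out).mp h2
      rw [hk] at h1 ⊢
      exact dvd_prime_of_squarefree_of_pow hp.out h1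
    -- D = [P,P] as a subgroup of G
    set D : Subgroup G := ⁅(P : Subgroup G), (P : Subgroup G)⁆ with hD
    haveI hDn : D.Normal := Subgroup.commutator_normal _ _
    have hDcard : Nat.card D = Nat.card (commutator (P : Subgroup G)) := by
      have e : D = (commutator (P : Subgroup G)).map (P : Subgroup G).subtype := by
        rw [_root_.commutator_def, Subgroup.map_commutator, ← MonoidHom.range_eq_map,
          Subgroup.range_subtype]
      rw [e]
      exact Nat.card_congr
        ((commutator (P : Subgroup G)).equivMapOfInjective _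
          (Subgroup.subtype_injective _)).toEquiv.symm
    -- G/D is abelian
    set π := QuotientGroup.mk' D with hπ
    have hπs : Function.Surjective π := QuotientGroup.mk'_surjective D
    set Pb : Subgroup (G ⧸ D) := (P : Subgroup G).map π with hPb
    have hDP : D ≤ (P : Subgroup G) := Subgroup.commutator_le_right _ _
    have hcentral : Pb ≤ center (G ⧸ D) := by
      rintro _ ⟨a, ha, rfl⟩
      rw [Subgroup.mem_center_iff]
      intro gb
      obtain ⟨g, rfl⟩ := hπs gb
      obtain ⟨t, u, ht, hu, hgtu, ⟨k, hk⟩, hucop⟩ := Cfsg.Agent.Lib.Helper22.exists_p_decomp p g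
      have htP : t ∈ (P : Subgroup G) := by
        have htp : IsPGroup p (Subgroup.zpowers t) := by
          rw [IsPGroup.iff_card, Nat.card_zpowers]
          exact ⟨k, hk⟩
        obtain ⟨Q, hQ⟩ := htp.exists_le_sylow
        have hQP : Q = P := by
          haveI : Unique (Sylow p G) := Sylow.unique_of_normal P hPn
          exact Subsingleton.elim _ _
        rw [← hQP]
        exact hQ (Subgroup.mem_zpowers t)
      have huc := hcent u hucop
      rw [Subgroup.mem_centralizer_iff] at huc
      have hua : u * a = a * u := (huc a ha).symm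
      -- g a g⁻¹ a⁻¹ = t a t⁻¹ a⁻¹ ∈ D
      have hmem : g * a * g⁻¹ * a⁻¹ ∈ D := by
        have e : g * a * g⁻¹ * a⁻¹ = t * a * t⁻¹ * a⁻¹ := by
          rw [hgtu]
          calc t * u * a * (t * u)⁻¹ * a⁻¹ = t * (u * a) * u⁻¹ * t⁻¹ * a⁻¹ := by group
            _ = t * (a * u) * u⁻¹ * t⁻¹ * a⁻¹ := by rw [hua]
            _ = t * a * t⁻¹ * a⁻¹ := by group
        rw [e, hD]
        have := Subgroup.commutator_mem_commutator htP ha
        rwa [commutatorElement_def] at this
      have h1 : π (g * a * g⁻¹ * a⁻¹) = 1 := by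
        rw [hπ, QuotientGroup.mk'_apply, QuotientGroup.eq_one_iff]; exact hmem
      rw [map_mul, map_mul, map_mul, map_inv, map_inv] at h1
      calc π g * π a = (π g * π a * (π g)⁻¹ * (π a)⁻¹) * (π a * π g) := by group
        _ = π a * π g := by rw [h1, one_mul]
    have hcommb : commutator (G ⧸ D) ≤ Pb := by
      rw [_root_.commutator_def, Subgroup.commutator_le]
      intro x _ y _
      obtain ⟨x', rfl⟩ := hπs x
      obtain ⟨y', rfl⟩ := hπs y
      refine ⟨x' * y' * x'⁻¹ * y'⁻¹, hcomm (hmemc x' y'), ?_⟩
      rw [commutatorElement_def]; simp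
    have hidx : Pb.index = (P : Subgroup G).index := by
      apply Subgroup.index_map_eq _ hπs
      rw [hπ, QuotientGroup.ker_mk']
      exact hDP
    have hcop : (Nat.card Pb).Coprime Pb.index := by
      rw [hidx]
      have h1 : Nat.card Pb ∣ Nat.card (P : Subgroup G) := Subgroup.card_map_dvd _ _
      obtain ⟨n, hn⟩ := (P.2).exists_card_eq
      rw [hn] at h1
      obtain ⟨k, _, hk⟩ := (Nat.dvd_prime_pow hp.out).mp h1
      rw [hk]
      apply Nat.Coprime.pow_left
      exact (Nat.Prime.coprime_iff_not_dvd hp.out).mpr P.not_dvd_index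
    have hbot := commutator_eq_bot_of_central Pb hcentral hcommb hcop
    have hle : commutator G ≤ D := by
      intro x hx
      have h1 : π x ∈ commutator (G ⧸ D) := by
        have : (commutator G).map π ≤ commutator (G ⧸ D) := by
          rw [_root_.commutator_def, Subgroup.map_commutator, _root_.commutator_def]
          exact Subgroup.commutator_mono le_top le_top
        exact this ⟨x, hx, rfl⟩
      rw [hbot, Subgroup.mem_bot] at h1
      rw [hπ, QuotientGroup.mk'_apply, QuotientGroup.eq_one_iff] at h1
      exact h1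
    exact (Subgroup.card_dvd_of_le hle).trans (hDcard ▸ hKn)

/-- `|G'|` is squarefree. -/
theorem card_commutator_squarefree {G : Type*} [Group G] [Finite G] (h : SqFree G) :
    Squarefree (Nat.card (commutator G)) := by
  rw [Nat.squarefree_iff_prime_squarefree]
  intro p hp hpp
  haveI : Fact p.Prime := ⟨hp⟩
  haveI : (Cfsg.pPrimeCore p G).Normal := Cfsg.Agent.Lib.Helper1.pPrimeCore_normal p
  obtain ⟨h1, h2⟩ := Cfsg.Agent.Lib.Helper12.S4130FO7.FO7_commutator_quotient p (commutator_isNilpotent h)
  have h3 := h2 (by rw [sq]; exact hpp)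
  have h4 := card_commutator_dvd_prime p (h.quotient (Cfsg.pPrimeCore p G)) h1
  have h5 : p ^ 2 ∣ p := h3.trans h4
  have h6 : p ^ 2 ≤ p := Nat.le_of_dvd hp.pos h5
  nlinarith [hp.two_le]

/-- **S4130** in library form. -/
theorem sqFree_structure {G : Type*} [Group G] [Finite G] (h : SqFree G) :
    Cfsg.IsSupersolvable G ∧ (Cfsg.fittingSubgroup G).Normal ∧
    (∀ _h : (Cfsg.fittingSubgroup G).Normal,
      IsCyclic (G ⧸ Cfsg.fittingSubgroup G) ∧ Squarefree (Cfsg.fittingSubgroup G).index) ∧
    IsCyclic (commutator G) ∧ Squarefree (Nat.card (commutator G)) ∧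
    Subgroup.upperCentralSeries ↥(Cfsg.fittingSubgroup G) 2 = ⊤ ∧
    commutator ↥(commutator G) = ⊥ := by
  have hsq' := card_commutator_squarefree h
  haveI hnil' : Group.IsNilpotent (commutator G) := commutator_isNilpotent h
  haveI : IsZGroup (commutator G) := IsZGroup.of_squarefree hsq'
  have hcyc' : IsCyclic (commutator G) := inferInstance
  refine ⟨isSupersolvable_of_sqFree h, Cfsg.Agent.Lib.Helper1.fittingSubgroup_normal, ?_, hcyc',
    hsq', ?_, ?_⟩
  · intro hFn
    have hidx := index_fitting_squarefree h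
    refine ⟨?_, hidx⟩
    have hle := commutator_le_fitting h
    haveI : IsMulCommutative (G ⧸ Cfsg.fittingSubgroup G) :=
      (Subgroup.Normal.quotient_commutative_iff_commutator_le).mpr hle
    haveI : IsZGroup (G ⧸ Cfsg.fittingSubgroup G) := IsZGroup.of_squarefree hidx
    haveI : Group.IsNilpotent (G ⧸ Cfsg.fittingSubgroup G) := by
      letI : CommGroup (G ⧸ Cfsg.fittingSubgroup G) :=
        { (inferInstance : Group (G ⧸ Cfsg.fittingSubgroup G)) with
          mul_comm := fun a b => IsMulCommutative.is_comm.comm a b }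
      infer_instance
    infer_instance
  · haveI : Group.IsNilpotent (Cfsg.fittingSubgroup G) :=
      Cfsg.Agent.Lib.Helper1.fittingSubgroup_isNilpotent
    apply Cfsg.Agent.Lib.Helper28.S4130.class_two
    have hle : (commutator (Cfsg.fittingSubgroup G)).map (Cfsg.fittingSubgroup G).subtype ≤
        commutator G := by
      rw [_root_.commutator_def, Subgroup.map_commutator, _root_.commutator_def]
      exact Subgroup.commutator_mono le_top le_top
    have hcard : Nat.card (commutator (Cfsg.fittingSubgroup G)) =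
        Nat.card ((commutator (Cfsg.fittingSubgroup G)).map (Cfsg.fittingSubgroup G).subtype) :=
      Nat.card_congr ((commutator (Cfsg.fittingSubgroup G)).equivMapOfInjective _
          (Subgroup.subtype_injective _)).toEquiv
    rw [hcard]
    exact hsq'.squarefree_of_dvd (Subgroup.card_dvd_of_le hle)
  · rw [_root_.commutator_def (↥(commutator G)), Subgroup.commutator_eq_bot_iff_le_centralizer]
    intro x _
    rw [Subgroup.mem_centralizer_iff]
    intro y _
    obtain ⟨g, hg⟩ := hcyc'.exists_generator
    obtain ⟨i, rfl⟩ := Subgroup.mem_zpowers_iff.mp (hg x)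
    obtain ⟨j, rfl⟩ := Subgroup.mem_zpowers_iff.mp (hg y)
    rw [← zpow_add, ← zpow_add, add_comm]

end Cfsg.Agent.Lib.Helper3.SF
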