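import Cfsg.Agent.Lib.Helper24.SLB.Defs

/-!
# S4538 farm (architect helper24): the action of root elements and of the reflection
representatives `n_k` of `SL_n(F)` on column vectors (auxiliary file for the leaves [F], [H])
-/

set_option autoImplicit false

namespace Cfsg.Agent.Lib.Helper24.SLB.Helper3

open Matrix Cfsg.Agent.Lib.Helper25.SLCC

variable {n : ℕ} {F : Type*} [Field F]

/-- the action of `SL_n(F)` on column vectors -/
def act (g : SpecialLinearGroup (Fin n) F) (v : Fin n → F) : Fin n → F :=
  (g : Matrix (Fin n) (Fin n) F) *ᵥ v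

theorem act_mul (g h : SpecialLinearGroup (Fin n) F) (v : Fin n → F) :
    act (g * h) v = act g (act h v) := by
  unfold act
  rw [Matrix.SpecialLinearGroup.coe_mul g h, Matrix.mulVec_mulVec]

theorem act_one (v : Fin n → F) : act (1 : SpecialLinearGroup (Fin n) F) v = v := by
  unfold act
  rw [Matrix.SpecialLinearGroup.coe_one, Matrix.one_mulVec]

theorem eq_of_act {g h : SpecialLinearGroup (Fin n) F} (H : ∀ v, act g v = act h v) : g = h := by
  apply Subtype.ext
  apply Matrix.mulVec_injective
  funext v
  exact H v

/-- the action of a root element -/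
theorem act_T {p q : Fin n} (hpq : p ≠ q) (a : F) (v : Fin n → F) (r : Fin n) :
    act (T p q a) v r = if r = p then v p + a * v q else v r := by
  unfold act
  rw [T_coe hpq, Matrix.add_mulVec, Matrix.one_mulVec, Matrix.single_mulVec, Pi.add_apply,
    Function.update_apply]
  split_ifs with h
  · rw [h]
  · simp

/-- the reflection representative attached to the pair `(p, q)` -/
noncomputable def nn (p q : Fin n) : SpecialLinearGroup (Fin n) F :=
  T p q 1 * T q p (-1) * T p q 1

theorem ns_eq_nn (k : ℕ) (hk : k + 1 < n) : (ns k hk : SpecialLinearGroup (Fin n) F) =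
    nn (fi k hk) (fs k hk) := rfl

/-- the action of `n_{pq}`: `e_p ↦ -e_q`, `e_q ↦ e_p` -/
theorem act_nn {p q : Fin n} (hpq : p ≠ q) (v : Fin n → F) (r : Fin n) :
    act (nn p q : SpecialLinearGroup (Fin n) F) v r =
      if r = p then v q else if r = q then -v p else v r := by
  unfold nn
  simp only [act_mul, act_T hpq, act_T hpq.symm]
  have hqp : q ≠ p := hpq.symm
  by_cases h1 : r = p
  · subst h1
    simp only [if_true, if_neg hqp, if_neg hpq]
    ring
  · by_cases h2 : r = q
    · subst h2
      simp only [if_true, if_neg h1, if_neg hpq]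
      ring
    · simp only [if_neg h1, if_neg h2]

end Cfsg.Agent.Lib.Helper24.SLB.Helper3
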