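import Mathlib
import Cfsg.Prelude.Def_KGroupFacts

/-!
# S2086 farm (architect helper25), piece [N2] `exists_section_of_multiplier_one`

A perfect group with trivial Schur multiplier (in the sense of the Prelude) is centrally closed:
its finite central extensions split.  Mathlib + `Cfsg.Prelude.Def_KGroupFacts` only.
-/

set_option autoImplicit false

namespace Cfsg.Agent.Lib.Helper25.SLCC

open scoped commutatorElement

universe u

namespace Helper3

theorem comm_central' {E : Type*} [Group E] {x y z w : E} (hz : z ∈ Subgroup.center E)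
    (hw : w ∈ Subgroup.center E) : ⁅x * z, y * w⁆ = ⁅x, y⁆ := by
  rw [Subgroup.mem_center_iff] at hz hw
  rw [commutatorElement_def, commutatorElement_def]
  have h1 : x * z * (y * w) * (x * z)⁻¹ * (y * w)⁻¹ =
      x * (z * (y * w) * z⁻¹) * x⁻¹ * (y * w)⁻¹ := by group
  have h2 : z * (y * w) * z⁻¹ = y * w := by rw [← hz (y * w), mul_inv_cancel_right]
  have h3 : x * (y * w) * x⁻¹ * (y * w)⁻¹ = x * y * (w * x⁻¹ * w⁻¹) * y⁻¹ := by group
  have h4 : w * x⁻¹ * w⁻¹ = x⁻¹ := by rw [← hw x⁻¹, mul_inv_cancel_right]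
  rw [h1, h2, h3, h4]

end Helper3

/-- [N2] a perfect group with trivial Schur multiplier (in the sense of the Prelude) is centrally
closed: its finite central extensions split -/
theorem exists_section_of_multiplier_one {S : Type u} [Group S] (hperf : commutator S = ⊤)
    (hM : Cfsg.HasCyclicSchurMultiplier S 1) (E : Type u) [Group E] [Finite E] (ψ : E →* S)
    (hψ : Function.Surjective ψ) (hc : ψ.ker ≤ Subgroup.center E) :
    ∃ τ : S →* E, ψ.comp τ = MonoidHom.id S := by
  -- the restriction of `ψ` to the commutator subgroup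
  set E' : Subgroup E := commutator E with hE'
  set ψ' : ↥E' →* S := ψ.comp E'.subtype with hψ'
  have hψ'a : ∀ x : ↥E', ψ' x = ψ x.1 := fun _ => rfl
  -- `ψ'` is surjective
  have hmap : Subgroup.map ψ E' = ⊤ := by
    rw [hE', commutator_def, Subgroup.map_commutator, ← MonoidHom.range_eq_map,
      MonoidHom.range_eq_top.mpr hψ, ← commutator_def, hperf]
  have hsurj : Function.Surjective ψ' := by
    intro s
    have hs : s ∈ Subgroup.map ψ E' := by rw [hmap]; exact Subgroup.mem_top s
    obtain ⟨e, he, rfl⟩ := hs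
    exact ⟨⟨e, he⟩, rfl⟩
  -- every element is an element of `E'` times a central element
  have key : ∀ a : E, ∃ a' : ↥E', ∃ z ∈ Subgroup.center E, a = a'.1 * z := by
    intro a
    obtain ⟨a', ha'⟩ := hsurj (ψ a)
    refine ⟨a', a'.1⁻¹ * a, hc ?_, by group⟩
    rw [MonoidHom.mem_ker, map_mul, map_inv, ← hψ'a, ha', inv_mul_cancel]
  -- `E'` is perfect
  have hle : commutator E ≤ Subgroup.map E'.subtype (commutator ↥E') := by
    rw [commutator_eq_closure, Subgroup.closure_le]
    rintro _ ⟨a, b, rfl⟩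
    obtain ⟨a', z, hz, rfl⟩ := key a
    obtain ⟨b', w, hw, rfl⟩ := key b
    rw [Helper3.comm_central' hz hw]
    refine ⟨⁅a', b'⁆, ?_, ?_⟩
    · exact Subgroup.commutator_mem_commutator (Subgroup.mem_top a') (Subgroup.mem_top b')
    · rw [map_commutatorElement]
      rfl
  have hperf' : commutator ↥E' = ⊤ := by
    rw [eq_top_iff]
    intro x _
    obtain ⟨y, hy, hyx⟩ := hle x.2
    have : y = x := Subtype.ext hyx
    rwa [← this]
  -- `ψ'` is a stem extension
  have hstem : Cfsg.IsStemExtension ψ' := by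
    refine ⟨hsurj, ?_, ?_⟩
    · intro x hx
      rw [MonoidHom.mem_ker, hψ'a] at hx
      have hx' : x.1 ∈ Subgroup.center E := hc hx
      rw [Subgroup.mem_center_iff] at hx' ⊢
      intro g
      exact Subtype.ext (hx' g.1)
    · rw [hperf']
      exact le_top
  -- hence an isomorphism
  obtain ⟨π, hπ⟩ := hM.2 ↥E' ψ' hstem
  have hsub : Subsingleton (Multiplicative (ZMod 1)) := inferInstanceAs (Subsingleton (Fin 1))
  have hker : ψ'.ker = ⊥ := by
    rw [eq_bot_iff]
    intro k hk
    obtain ⟨a, ha⟩ := hπ ⟨k, hk⟩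
    have ha1 : a = 1 := Subsingleton.elim _ _
    rw [ha1, map_one] at ha
    have := congrArg Subtype.val ha
    rw [Subgroup.mem_bot]
    exact this.symm
  have hinj : Function.Injective ψ' := (MonoidHom.ker_eq_bot_iff ψ').mp hker
  let e : ↥E' ≃* S := MulEquiv.ofBijective ψ' ⟨hinj, hsurj⟩
  refine ⟨E'.subtype.comp e.symm.toMonoidHom, ?_⟩
  ext s
  show ψ ((e.symm s : ↥E') : E) = s
  have h1 : ψ' (e.symm s) = s := e.apply_symm_apply s
  rw [← hψ'a]
  exact h1

end Cfsg.Agent.Lib.Helper25.SLCC
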