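import Mathlib
import Cfsg.Agent.S0278
import Cfsg.Agent.Lib.Helper16.FieldAutGU
import Cfsg.Agent.Lib.Helper16.SUCenter
import Cfsg.Agent.Lib.Helper16.FieldEmbed
import Cfsg.Agent.Lib.Helper16.UnitaryCount
import Cfsg.Agent.Lib.Helper3.CardSL

set_option autoImplicit false

namespace Cfsg.Agent.Lib.Helper3.SU2

open Matrix Cfsg Cfsg.Agent.Lib.Helper6 Cfsg.Agent.Lib.Helper16

variable {F : Type*} [Field F]

/-- `Aᵀ J A = det A • J` for `2 × 2` matrices, scaled by `ε` -/
lemma transpose_form_mul (ε : F) (A : Matrix (Fin 2) (Fin 2) F) (hdet : A.det = 1) :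
    A.transpose * !![0, ε; -ε, 0] * A = !![0, ε; -ε, 0] := by
  rw [Matrix.det_fin_two] at hdet
  ext i j
  fin_cases i <;> fin_cases j <;>
    simp [Matrix.mul_apply, Fin.sum_univ_two] <;>
    first | linear_combination ε * hdet | linear_combination -ε * hdet | ring1

/-- conjugation `A ↦ Q A P` on `SL₂` for mutually inverse `P, Q` -/
def conjHom (P Q : Matrix (Fin 2) (Fin 2) F) (hPQ : P * Q = 1) (hQP : Q * P = 1) :
    Matrix.SpecialLinearGroup (Fin 2) F →* Matrix.SpecialLinearGroup (Fin 2) F where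
  toFun A := ⟨Q * A.1 * P, by
    rw [Matrix.det_mul, Matrix.det_mul, A.2, mul_one, ← Matrix.det_mul, hQP, Matrix.det_one]⟩
  map_one' := by
    apply Subtype.ext
    show Q * (1 : Matrix (Fin 2) (Fin 2) F) * P = 1
    rw [Matrix.mul_one, hQP]
  map_mul' A B := by
    apply Subtype.ext
    show Q * (A.1 * B.1) * P = (Q * A.1 * P) * (Q * B.1 * P)
    calc Q * (A.1 * B.1) * P = Q * A.1 * (1 : Matrix (Fin 2) (Fin 2) F) * B.1 * P := by
          rw [Matrix.mul_one]; simp only [Matrix.mul_assoc]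
      _ = (Q * A.1 * P) * (Q * B.1 * P) := by
          rw [← hPQ]; simp only [Matrix.mul_assoc]

lemma conjHom_injective (P Q : Matrix (Fin 2) (Fin 2) F) (hPQ : P * Q = 1) (hQP : Q * P = 1) :
    Function.Injective (conjHom P Q hPQ hQP) := by
  intro A B h
  have h1 : Q * A.1 * P = Q * B.1 * P := congrArg Subtype.val h
  apply Subtype.ext
  calc A.1 = (P * Q) * A.1 * (P * Q) := by rw [hPQ, Matrix.one_mul, Matrix.mul_one]
    _ = P * (Q * A.1 * P) * Q := by simp only [Matrix.mul_assoc]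
    _ = P * (Q * B.1 * P) * Q := by rw [h1]
    _ = (P * Q) * B.1 * (P * Q) := by simp only [Matrix.mul_assoc]
    _ = B.1 := by rw [hPQ, Matrix.one_mul, Matrix.mul_one]


theorem su2_equiv {K : Type*} [Fintype F] [Field K] [Fintype K] {q : ℕ}
    (hF : Fintype.card F = q ^ 2) (hK : Fintype.card K = q) :
    Nonempty (Cfsg.SU 2 F q ≃* Matrix.SpecialLinearGroup (Fin 2) K) := by
  classical
  obtain ⟨ι⟩ := exists_ringHom_of_card_pow (F := K) (K := F) (n := 2) (by norm_num) hK hF
  have hσι : ∀ k : K, conjQ hF (ι k) = ι k := by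
    intro k
    rw [conjQ_apply, ← map_pow, ← hK, FiniteField.pow_card]
  obtain ⟨θ, hθ⟩ : ∃ θ : F, conjQ hF θ ≠ θ := by
    by_contra h
    push Not at h
    exact conjQ_ne_id hF (RingHom.ext h)
  obtain ⟨lam, hlam⟩ : ∃ lam : F, lam * conjQ hF lam = -1 := by
    have h1 : ((-1 : F)) ^ q = -1 := by
      have := map_neg (conjQ hF) 1
      rw [map_one] at this
      exact this
    have h2 := card_pow_fiber hF (-1 : F) h1
    rw [if_neg (by simp)] at h2
    have hne : Nonempty {x : F // x ^ (q + 1) = -1} := by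
      by_contra hempty
      rw [not_nonempty_iff] at hempty
      rw [Nat.card_of_isEmpty] at h2
      omega
    obtain ⟨⟨lam, hl⟩⟩ := hne
    exact ⟨lam, by rw [conjQ_apply, ← pow_succ']; exact hl⟩
  obtain ⟨θ', hθ'⟩ : ∃ θ' : F, θ' = conjQ hF θ := ⟨_, rfl⟩
  obtain ⟨lam', hlam'⟩ : ∃ lam' : F, lam' = conjQ hF lam := ⟨_, rfl⟩
  have hθ'' : conjQ hF θ' = θ := by rw [hθ', conjQ_conjQ]
  have hlam'' : conjQ hF lam' = lam := by rw [hlam', conjQ_conjQ]
  rw [← hlam'] at hlam
  rw [← hθ'] at hθ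
  have hδ0 : θ - θ' ≠ 0 := sub_ne_zero.2 (Ne.symm hθ)
  have hlam0 : lam ≠ 0 := by
    intro h
    rw [h, zero_mul] at hlam
    simp at hlam
  have hσδ : conjQ hF (θ - θ')⁻¹ = -(θ - θ')⁻¹ := by
    rw [map_inv₀, map_sub, hθ'', ← hθ', neg_inv, neg_sub]
  obtain ⟨ε, hε⟩ : ∃ ε : F, ε = (θ - θ')⁻¹ := ⟨_, rfl⟩
  rw [← hε] at hσδ
  have hεδ : ε * (θ - θ') = 1 := by rw [hε, inv_mul_cancel₀ hδ0]
  obtain ⟨P, hPdef⟩ : ∃ P : Matrix (Fin 2) (Fin 2) F, P = !![θ, lam * θ'; 1, lam] := ⟨_, rfl⟩
  obtain ⟨Q, hQdef⟩ : ∃ Q : Matrix (Fin 2) (Fin 2) F,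
      Q = !![ε, -(ε * θ'); -(ε * lam⁻¹), ε * lam⁻¹ * θ] := ⟨_, rfl⟩
  have hPQ : P * Q = 1 := by
    rw [hPdef, hQdef]
    ext i j
    fin_cases i <;> fin_cases j <;> simp [Matrix.mul_apply, Fin.sum_univ_two] <;>
      (try field_simp) <;>
      first | linear_combination hεδ | linear_combination -hεδ | linear_combination 2 * hεδ | ring1
  have hQP : Q * P = 1 := by
    rw [hPdef, hQdef]
    ext i j
    fin_cases i <;> fin_cases j <;> simp [Matrix.mul_apply, Fin.sum_univ_two] <;>
      (try field_simp) <;>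
      first | linear_combination hεδ | linear_combination -hεδ | linear_combination 2 * hεδ | ring1
  have hP : P.transpose * !![0, ε; -ε, 0] * P.map (conjQ hF) = 1 := by
    rw [hPdef]
    ext i j
    fin_cases i <;> fin_cases j <;>
      simp [Matrix.mul_apply, Fin.sum_univ_two, hθ'', ← hθ', ← hlam'] <;>
      first | linear_combination hεδ | linear_combination -hεδ | linear_combination 2 * hεδ | ring1 |
        linear_combination (-(θ - θ') * ε) * hlam - hεδ |
        linear_combination ((θ - θ') * ε) * hlam + hεδ |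
        linear_combination (-(θ - θ') * ε) * hlam + hεδ
  have hQ : Q.transpose * Q.map (conjQ hF) = !![0, ε; -ε, 0] := by
    calc Q.transpose * Q.map (conjQ hF)
        = Q.transpose * (P.transpose * !![0, ε; -ε, 0] * P.map (conjQ hF)) * Q.map (conjQ hF) := by
          rw [hP, Matrix.mul_one]
      _ = (P * Q).transpose * !![0, ε; -ε, 0] * (P * Q).map (conjQ hF) := by
          rw [Matrix.transpose_mul, Matrix.map_mul]
          simp only [Matrix.mul_assoc]
      _ = !![0, ε; -ε, 0] := by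
          rw [hPQ]
          simp
  -- the homomorphism
  let φ : Matrix.SpecialLinearGroup (Fin 2) K →* Matrix.SpecialLinearGroup (Fin 2) F :=
    (conjHom P Q hPQ hQP).comp (Matrix.SpecialLinearGroup.map ι)
  have hφ : ∀ g : Matrix.SpecialLinearGroup (Fin 2) K,
      ((φ g : Matrix.SpecialLinearGroup (Fin 2) F) : Matrix (Fin 2) (Fin 2) F)
        = Q * (g.1.map ι) * P := fun g => rfl
  have hφmem : ∀ g, φ g ∈ Cfsg.SU 2 F q := by
    intro g
    rw [mem_SU_iff, pres_iff hF, hφ]
    have hA : (g.1.map ι).map (conjQ hF) = g.1.map ι := by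
      ext i j
      simp only [Matrix.map_apply]
      exact hσι _
    have hAdet : (g.1.map ι).det = 1 := by
      have := (Matrix.SpecialLinearGroup.map ι g).2
      exact this
    rw [Matrix.transpose_mul, Matrix.transpose_mul, Matrix.map_mul, Matrix.map_mul, hA]
    calc P.transpose * ((g.1.map ι).transpose * Q.transpose)
          * (Q.map (conjQ hF) * g.1.map ι * P.map (conjQ hF))
        = P.transpose * ((g.1.map ι).transpose * (Q.transpose * Q.map (conjQ hF)) * g.1.map ι)
          * P.map (conjQ hF) := by simp only [Matrix.mul_assoc]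
      _ = 1 := by rw [hQ, transpose_form_mul ε _ hAdet, hP]
  let ψ : Matrix.SpecialLinearGroup (Fin 2) K →* Cfsg.SU 2 F q := φ.codRestrict _ hφmem
  have hψinj : Function.Injective ψ := by
    intro g g' h
    have h1 : φ g = φ g' := congrArg Subtype.val h
    have h2 := conjHom_injective P Q hPQ hQP h1
    apply Subtype.ext
    have h3 : (g.1.map ι) = (g'.1.map ι) := congrArg Subtype.val h2
    ext i j
    have := congrFun (congrFun h3 i) j
    simp only [Matrix.map_apply] at this
    exact ι.injective this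
  have hq2 := two_le_q hF
  have hcardSU : Nat.card (Cfsg.SU 2 F q) = q * (q ^ 2 - 1) := by
    have h := Cfsg.Agent.S0278.result hF 2 (by norm_num)
    have e1 : (2 * (2 - 1) / 2) = 1 := by norm_num
    have ev0 : Even 0 := ⟨0, rfl⟩
    rw [Finset.prod_range_succ, Finset.prod_range_one, e1, if_pos ev0,
      if_neg Nat.not_even_one] at h
    have hpos : 0 < q + 1 := by omega
    apply Nat.eq_of_mul_eq_mul_left hpos
    rw [h]
    ring
  have hcardSL : Nat.card (Matrix.SpecialLinearGroup (Fin 2) K) = q * (q ^ 2 - 1) := by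
    rw [Cfsg.Agent.Lib.Helper3.CardSL.card_SL2, hK]
  have hfin : Finite (Cfsg.SU 2 F q) := inferInstance
  have hbij : Function.Bijective ψ :=
    hψinj.bijective_of_nat_card_le (by rw [hcardSU, hcardSL])
  exact ⟨(MulEquiv.ofBijective ψ hbij).symm⟩

end Cfsg.Agent.Lib.Helper3.SU2
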