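import Mathlib
import Cfsg.Agent.Lib.Helper3.SU3Syl1

set_option autoImplicit false
set_option linter.unusedSectionVars false
set_option linter.style.haveILetI false

namespace Cfsg.Agent.Lib.Helper3.SU3

variable {F : Type*} [Field F] [Fintype F] {q n : ℕ}

namespace QData

variable (d : QData F q n)
include d

lemma fixed_mul {x y : F} (hx : x ^ q = x) (hy : y ^ q = y) : (x * y) ^ q = x * y := by
  rw [mul_pow, hx, hy]

lemma fixed_add {x y : F} (hx : x ^ q = x) (hy : y ^ q = y) : (x + y) ^ q = x + y := by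
  rw [d.pow_q_add, hx, hy]

lemma tr_fixed (a : F) : (a + a ^ q) ^ q = a + a ^ q := by
  rw [d.pow_q_add, d.pow_q_q, add_comm]

/-- polarisation of the norm condition -/
lemma polar (α γ : F →+ F)
    (hsq : ∀ a s : F, s + s ^ q = a * a ^ q → γ s = α a * (α a) ^ q) (a b : F) :
    γ (a * b ^ q) = α a * (α b) ^ q + (α a) ^ q * α b := by
  obtain ⟨s, hs⟩ := d.exists_tr_eq_norm a
  obtain ⟨s', hs'⟩ := d.exists_tr_eq_norm b
  have h1 : (s + s' + a * b ^ q) + (s + s' + a * b ^ q) ^ q = (a + b) * (a + b) ^ q := by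
    rw [d.pow_q_add, d.pow_q_add, d.pow_q_add, mul_pow, d.pow_q_q]
    linear_combination hs + hs'
  have h2 := hsq (a + b) _ h1
  rw [map_add, map_add, map_add, d.pow_q_add, hsq a s hs, hsq b s' hs'] at h2
  linear_combination h2

/-- the normalised case: `α` is multiplicative -/
lemma mul_of_norm_normalized (α γ : F →+ F) (hα : Function.Injective α) (h1 : α 1 = 1)
    (hγK : ∀ c : F, c ^ q = c → γ c = 0)
    (hsq : ∀ a s : F, s + s ^ q = a * a ^ q → γ s = α a * (α a) ^ q) (a b : F) :
    α (a * b) = α a * α b := by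
  have h2 := d.two_eq_zero
  have hP := d.polar α γ hsq
  -- γ = Tr ∘ α
  have hγ : ∀ a, γ a = α a + (α a) ^ q := by
    intro a
    have := hP a 1
    rw [one_pow, mul_one, h1, one_pow, mul_one, mul_one] at this
    exact this
  -- α preserves the fixed field
  have hK : ∀ c : F, c ^ q = c → (α c) ^ q = α c := by
    intro c hc
    have := hγK c hc
    rw [hγ] at this
    linear_combination this - (α c) * h2
  obtain ⟨ω, hω⟩ := d.exists_omega
  set u : F := α ω with hu
  have hu1 : u + u ^ q = 1 := by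
    have := hsq 1 ω (by rw [hω, one_pow, one_mul])
    rw [hγ, h1, one_pow, one_mul] at this
    exact this
  -- (5')
  have h5 : ∀ a c : F, c ^ q = c → α (a * c) + (α (a * c)) ^ q = α c * (α a + (α a) ^ q) := by
    intro a c hc
    have := hP a c
    rw [hc, hγ, hK c hc] at this
    linear_combination this
  -- (E)
  have hE : ∀ c : F, c ^ q = c → α (c * ω) + (α (c * ω)) ^ q = α c := by
    intro c hc
    have := h5 ω c hc
    rw [← hu, hu1, mul_one, mul_comm] at this
    exact this
  -- multiplicativity on the fixed field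
  have hMK : ∀ c t : F, c ^ q = c → t ^ q = t → α (t * c) = α t * α c := by
    intro c t hc ht
    have e1 := hE (t * c) (d.fixed_mul ht hc)
    have e2 := h5 (t * ω) c hc
    rw [hE t ht] at e2
    have e3 : t * ω * c = t * c * ω := by ring
    rw [e3, e1] at e2
    rw [e2, mul_comm]
  set ν : F := ω * ω ^ q with hν
  have hνK : ν ^ q = ν := d.norm_fixed ω
  have hω2 : ω ^ 2 = ω + ν := by
    have : ω ^ q = 1 + ω := by linear_combination hω - ω * h2
    rw [hν, this]
    linear_combination (-ω) * h2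
  -- norms
  have hH : ∀ a : F, α a * (α a) ^ q = α (a * a ^ q) := by
    intro a
    have hN := d.norm_fixed a
    have e1 := hsq a (a * a ^ q * ω) (by
      rw [mul_pow, hN]
      linear_combination (a * a ^ q) * hω)
    rw [hγ, hE _ hN] at e1
    exact e1.symm
  -- (10)
  have h10 : ∀ c : F, c ^ q = c → α (c * ω) = α c * u := by
    intro c hc
    have e1 := hP ω (c * ω)
    have e2 : ω * (c * ω) ^ q = c * ν := by
      rw [mul_pow, hc, hν]; ring
    rw [e2, hγK _ (d.fixed_mul hc hνK), ← hu] at e1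
    have e3 := hE c hc
    -- u v^q + u^q v = 0, v + v^q = α c, u + u^q = 1
    have e4 : (α (c * ω)) ^ q = α c - α (c * ω) := by linear_combination e3
    have e5 : u ^ q = 1 - u := by linear_combination hu1
    rw [e4, e5] at e1
    linear_combination (-1 : F) * e1 + (u * α (c * ω) - u * α c) * h2
  -- decomposition
  have hdec : ∀ a : F, ∃ x y : F, x ^ q = x ∧ y ^ q = y ∧ a = x + y * ω := by
    intro a
    refine ⟨a + (a + a ^ q) * ω, a + a ^ q, ?_, d.tr_fixed a, ?_⟩
    · have hωq : ω ^ q = 1 - ω := by linear_combination hω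
      rw [d.pow_q_add, mul_pow, d.tr_fixed, hωq]
      linear_combination (a ^ q - a * ω - a ^ q * ω) * h2
    · linear_combination (-(a + a ^ q) * ω) * h2
  have hform : ∀ x y : F, x ^ q = x → y ^ q = y → α (x + y * ω) = α x + α y * u := by
    intro x y _ hy
    rw [map_add, h10 y hy]
  have hu2 : u ^ 2 = u + α ν := by
    have e1 := hH ω
    rw [← hu, ← hν] at e1
    have e5 : u ^ q = 1 - u := by linear_combination hu1
    rw [e5] at e1
    linear_combination (-1 : F) * e1 + (-α ν) * h2
  obtain ⟨x, y, hx, hy, rfl⟩ := hdec a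
  obtain ⟨x', y', hx', hy', rfl⟩ := hdec b
  have e1 : (x + y * ω) * (x' + y' * ω)
      = (x * x' + y * y' * ν) + (x * y' + x' * y + y * y') * ω := by
    linear_combination (y * y') * hω2
  rw [e1, hform _ _ (d.fixed_add (d.fixed_mul hx hx') (d.fixed_mul (d.fixed_mul hy hy') hνK))
    (d.fixed_add (d.fixed_add (d.fixed_mul hx hy') (d.fixed_mul hx' hy)) (d.fixed_mul hy hy')),
    hform x y hx hy, hform x' y' hx' hy', map_add, map_add, map_add,
    hMK x' x hx' hx, hMK ν (y * y') hνK (d.fixed_mul hy hy'), hMK y' y hy' hy,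
    hMK y' x hy' hx, hMK y x' hy hx']
  linear_combination (-(α y * α y')) * hu2

/-- additive bijections compatible with the norm are semilinear -/
theorem semilinear_of_norm (α γ : F →+ F) (hα : Function.Bijective α)
    (hγK : ∀ c : F, c ^ q = c → γ c = 0)
    (hsq : ∀ a s : F, s + s ^ q = a * a ^ q → γ s = α a * (α a) ^ q) :
    ∃ (l : F) (σ : F ≃+* F), l ≠ 0 ∧ ∀ a, α a = l * σ a := by
  set l : F := α 1 with hl
  have hl0 : l ≠ 0 := by
    intro h
    have : α 1 = α 0 := by rw [map_zero, ← hl, h]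
    exact one_ne_zero (hα.1 this)
  have hN0 : l * l ^ q ≠ 0 := mul_ne_zero hl0 (pow_ne_zero _ hl0)
  let α₁ : F →+ F := (AddMonoidHom.mulLeft l⁻¹).comp α
  let γ₁ : F →+ F := (AddMonoidHom.mulLeft (l * l ^ q)⁻¹).comp γ
  have hα₁ : ∀ a, α₁ a = l⁻¹ * α a := fun a => rfl
  have hγ₁ : ∀ a, γ₁ a = (l * l ^ q)⁻¹ * γ a := fun a => rfl
  have hinj : Function.Injective α₁ := by
    intro a b hab
    rw [hα₁, hα₁] at hab
    exact hα.1 (mul_left_cancel₀ (inv_ne_zero hl0) hab)
  have h11 : α₁ 1 = 1 := by rw [hα₁, ← hl, inv_mul_cancel₀ hl0]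
  have hmul := d.mul_of_norm_normalized α₁ γ₁ hinj h11
    (fun c hc => by rw [hγ₁, hγK c hc, mul_zero])
    (fun a s hs => by
      rw [hγ₁, hα₁, hsq a s hs, mul_pow, inv_pow]
      field_simp)
  let σ₀ : F →+* F :=
    { toFun := α₁
      map_one' := h11
      map_mul' := hmul
      map_zero' := map_zero α₁
      map_add' := map_add α₁ }
  have hbij : Function.Bijective σ₀ := by
    refine ⟨hinj, ?_⟩
    intro b
    obtain ⟨a, ha⟩ := hα.2 (l * b)
    refine ⟨a, ?_⟩
    show α₁ a = b
    rw [hα₁, ha, ← mul_assoc, inv_mul_cancel₀ hl0, one_mul]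
  refine ⟨l, RingEquiv.ofBijective σ₀ hbij, hl0, fun a => ?_⟩
  show α a = l * α₁ a
  rw [hα₁, ← mul_assoc, mul_inv_cancel₀ hl0, one_mul]

end QData

end Cfsg.Agent.Lib.Helper3.SU3
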