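import Mathlib
import Cfsg.Agent.Lib.Helper3.SU3Syl5
import Cfsg.Agent.Lib.Helper3.SU3Aut1

set_option autoImplicit false
set_option linter.unusedSectionVars false
set_option linter.style.haveILetI false

namespace Cfsg.Agent.Lib.Helper3.SU3

variable {F : Type*} [Field F] [Fintype F] {q n : ℕ}

namespace UP

variable [hd : Fact (QData F q n)]

/-- the central element with second coordinate the trace of `t` -/
def ztr (t : F) : UP F q n := ⟨0, t + t ^ q, by
  have d := hd.out
  rw [d.tr_fixed t, zero_mul]; exact d.add_self _⟩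

@[simp] lemma ztr_a (t : F) : (ztr (q := q) (n := n) t).a = 0 := rfl
@[simp] lemma ztr_b (t : F) : (ztr (q := q) (n := n) t).b = t + t ^ q := rfl

lemma ztr_add (t t' : F) : ztr (q := q) (n := n) (t + t') = ztr t * ztr t' := by
  have d := hd.out
  ext
  · simp
  · simp only [ztr_b, mul_b, ztr_a, mul_zero, add_zero]
    rw [d.pow_q_add]; ring

lemma ztr_of_fixed {c : F} (hc : c ^ q = c) : ztr (q := q) (n := n) c = 1 := by
  have d := hd.out
  ext
  · rfl
  · simp only [ztr_b, one_b, hc]
    exact d.add_self c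

lemma mul_self_eq_ztr (x : UP F q n) : x * x = ztr x.b := by
  rw [mul_self]
  ext
  · rfl
  · exact x.h.symm

lemma exists_ztr_eq {z : UP F q n} (hz : z.a = 0) : ∃ t : F, z = ztr t := by
  have d := hd.out
  obtain ⟨t, ht⟩ := d.exists_tr_eq (b_fixed_of_a_zero hz)
  refine ⟨t, ?_⟩
  ext
  · exact hz
  · exact ht.symm

lemma aut_a_zero (φ : MulAut (UP F q n)) {x : UP F q n} (hx : x.a = 0) : (φ x).a = 0 := by
  rw [← mem_center_iff] at hx ⊢
  exact (mem_center_equiv φ x).1 hx

lemma aut_a_eq (φ : MulAut (UP F q n)) {x y : UP F q n} (h : x.a = y.a) : (φ x).a = (φ y).a := by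
  have d := hd.out
  have e : x = y * (y⁻¹ * x) := by group
  have hz : (y⁻¹ * x).a = 0 := by
    simp only [mul_a, inv_a, h]
    exact d.add_self _
  rw [e, map_mul, mul_a, aut_a_zero φ hz, add_zero]

/-- the action of an automorphism on the quotient by the centre -/
noncomputable def amapHom (φ : MulAut (UP F q n)) : F →+ F where
  toFun a := (φ (lift a)).a
  map_zero' := aut_a_zero φ rfl
  map_add' a b := by
    have e : (lift (q := q) (n := n) (a + b)).a = (lift (q := q) (n := n) a * lift b).a := by simp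
    rw [aut_a_eq φ e, map_mul, mul_a]

lemma amapHom_apply (φ : MulAut (UP F q n)) (a : F) : amapHom φ a = (φ (lift a)).a := rfl

lemma aut_apply_a (φ : MulAut (UP F q n)) (x : UP F q n) : (φ x).a = amapHom φ x.a := by
  rw [amapHom_apply]
  exact aut_a_eq φ (by simp)

lemma amapHom_mul (φ ψ : MulAut (UP F q n)) (a : F) :
    amapHom (φ * ψ) a = amapHom φ (amapHom ψ a) := by
  rw [amapHom_apply, MulAut.mul_apply, aut_apply_a φ, ← amapHom_apply]

lemma amapHom_one (a : F) : amapHom (1 : MulAut (UP F q n)) a = a := rfl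

/-- the action on the quotient by the centre, as a homomorphism -/
noncomputable def amap : MulAut (UP F q n) →* Equiv.Perm F where
  toFun φ :=
    { toFun := amapHom φ
      invFun := amapHom φ⁻¹
      left_inv := fun b => by rw [← amapHom_mul, inv_mul_cancel, amapHom_one]
      right_inv := fun b => by rw [← amapHom_mul, mul_inv_cancel, amapHom_one] }
  map_one' := by
    ext b
    rfl
  map_mul' φ ψ := by
    ext b
    exact amapHom_mul φ ψ b

lemma amap_apply (φ : MulAut (UP F q n)) (a : F) : amap φ a = amapHom φ a := rfl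

lemma amapHom_bijective (φ : MulAut (UP F q n)) : Function.Bijective (amapHom φ) :=
  (amap φ).bijective

/-- the action on the centre -/
def gmapHom (φ : MulAut (UP F q n)) : F →+ F where
  toFun t := (φ (ztr t)).b
  map_zero' := by
    have d := hd.out
    rw [ztr_of_fixed (zero_pow (by have := d.q_pos; omega)), map_one]; rfl
  map_add' t t' := by
    rw [ztr_add, map_mul, mul_b, aut_a_zero φ (ztr_a t'), mul_zero, add_zero]

lemma gmapHom_apply (φ : MulAut (UP F q n)) (t : F) : gmapHom φ t = (φ (ztr t)).b := rfl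

lemma gmapHom_fixed (φ : MulAut (UP F q n)) {c : F} (hc : c ^ q = c) : gmapHom φ c = 0 := by
  rw [gmapHom_apply, ztr_of_fixed hc, map_one]; rfl

lemma gmapHom_norm (φ : MulAut (UP F q n)) (a s : F) (hs : s + s ^ q = a * a ^ q) :
    gmapHom φ s = amapHom φ a * (amapHom φ a) ^ q := by
  have h1 : φ ((⟨a, s, hs⟩ : UP F q n) * ⟨a, s, hs⟩) = φ ⟨a, s, hs⟩ * φ ⟨a, s, hs⟩ :=
    map_mul _ _ _
  rw [mul_self_eq_ztr, mul_self] at h1
  have h2 := congrArg UP.b h1
  simp only at h2
  rw [gmapHom_apply, h2, aut_apply_a]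

/-- automorphisms are semilinear on the quotient by the centre -/
theorem aut_semilinear (φ : MulAut (UP F q n)) :
    ∃ (l : F) (σ : F ≃+* F), l ≠ 0 ∧ ∀ a, amapHom φ a = l * σ a :=
  hd.out.semilinear_of_norm (amapHom φ) (gmapHom φ) (amapHom_bijective φ)
    (fun _ hc => gmapHom_fixed φ hc) (gmapHom_norm φ)

end UP

end Cfsg.Agent.Lib.Helper3.SU3
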