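import Mathlib
import Cfsg.Agent.Lib.Helper3.SU3Aut2

set_option autoImplicit false
set_option linter.unusedSectionVars false
set_option linter.style.haveILetI false

namespace Cfsg.Agent.Lib.Helper3.SU3

/-- the number of homomorphisms between elementary abelian 2-groups -/
lemma card_addMonoidHom_two {A B : Type*} [AddCommGroup A] [AddCommGroup B] [Finite A] [Finite B]
    (hA : ∀ x : A, 2 • x = 0) (hB : ∀ x : B, 2 • x = 0) {k m : ℕ}
    (hcA : Nat.card A = 2 ^ k) (hcB : Nat.card B = 2 ^ m) :
    Nat.card (A →+ B) = 2 ^ (k * m) := by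
  haveI : Fact (Nat.Prime 2) := ⟨Nat.prime_two⟩
  letI : Module (ZMod 2) A := AddCommGroup.zmodModule hA
  letI : Module (ZMod 2) B := AddCommGroup.zmodModule hB
  haveI : Module.Finite (ZMod 2) A := Module.Finite.of_finite
  haveI : Module.Finite (ZMod 2) B := Module.Finite.of_finite
  have hk : Module.finrank (ZMod 2) A = k := by
    have := Module.natCard_eq_pow_finrank (K := ZMod 2) (V := A)
    rw [hcA, Nat.card_zmod] at this
    exact (Nat.pow_right_injective (le_refl 2) this).symm
  have hm : Module.finrank (ZMod 2) B = m := by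
    have := Module.natCard_eq_pow_finrank (K := ZMod 2) (V := B)
    rw [hcB, Nat.card_zmod] at this
    exact (Nat.pow_right_injective (le_refl 2) this).symm
  rw [Nat.card_congr (AddMonoidHom.toZModLinearMapEquiv 2 (M := A) (M₁ := B)).toEquiv,
    Module.natCard_eq_pow_finrank (K := ZMod 2) (V := A →ₗ[ZMod 2] B), Nat.card_zmod,
    Module.finrank_linearMap, hk, hm]

variable {F : Type*} [Field F] [Fintype F] {q n : ℕ}

namespace UP

variable [hd : Fact (QData F q n)]

/-- the central automorphism attached to an additive map into the fixed field -/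
def kerLift (g : F →+ hd.out.tr.ker) : MulAut (UP F q n) where
  toFun x := ⟨x.a, x.b + g x.a, by
    have d := hd.out
    have hg : ((g x.a : F)) ^ q = g x.a := d.mem_ker_tr.1 (g x.a).2
    rw [d.pow_q_add, hg]
    linear_combination x.h + (g x.a : F) * d.two_eq_zero⟩
  invFun x := ⟨x.a, x.b + g x.a, by
    have d := hd.out
    have hg : ((g x.a : F)) ^ q = g x.a := d.mem_ker_tr.1 (g x.a).2
    rw [d.pow_q_add, hg]
    linear_combination x.h + (g x.a : F) * d.two_eq_zero⟩
  left_inv x := by
    have d := hd.out
    ext
    · rfl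
    · show x.b + g x.a + g x.a = x.b
      linear_combination (g x.a : F) * d.two_eq_zero
  right_inv x := by
    have d := hd.out
    ext
    · rfl
    · show x.b + g x.a + g x.a = x.b
      linear_combination (g x.a : F) * d.two_eq_zero
  map_mul' x y := by
    ext
    · rfl
    · show x.b + y.b + x.a ^ q * y.a + ((g (x.a + y.a) : hd.out.tr.ker) : F)
        = x.b + g x.a + (y.b + g y.a) + x.a ^ q * y.a
      rw [map_add, AddSubgroup.coe_add]; ring

lemma kerLift_apply_a (g : F →+ hd.out.tr.ker) (x : UP F q n) : (kerLift g x).a = x.a := rfl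

lemma kerLift_apply_b (g : F →+ hd.out.tr.ker) (x : UP F q n) :
    (kerLift g x).b = x.b + g x.a := rfl

lemma kerLift_injective : Function.Injective (kerLift (F := F) (q := q) (n := n)) := by
  intro f g h
  ext a
  have := congrArg (fun φ : MulAut (UP F q n) => (φ (lift a)).b) h
  simp only [kerLift_apply_b, lift_a] at this
  exact add_left_cancel this

lemma kerLift_mem_ker (g : F →+ hd.out.tr.ker) :
    kerLift g ∈ (amap (F := F) (q := q) (n := n)).ker := by
  rw [MonoidHom.mem_ker]
  ext a
  show (kerLift g (lift a)).a = a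
  rw [kerLift_apply_a, lift_a]

lemma kerLift_mul (f g : F →+ hd.out.tr.ker) : kerLift f * kerLift g = kerLift (f + g) := by
  ext x
  · rfl
  · show x.b + g x.a + f x.a = x.b + ((f + g) x.a : hd.out.tr.ker)
    rw [AddMonoidHom.add_apply, AddSubgroup.coe_add]
    ring

lemma kerLift_zero : kerLift (0 : F →+ hd.out.tr.ker) = 1 := by
  ext x
  · rfl
  · show x.b + ((0 : hd.out.tr.ker) : F) = x.b
    rw [AddSubgroup.coe_zero, add_zero]

/-- the kernel of the action on the quotient consists of the central automorphisms -/
lemma mem_ker_amap (φ : MulAut (UP F q n)) :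
    φ ∈ (amap (F := F) (q := q) (n := n)).ker ↔ ∃ g : F →+ hd.out.tr.ker, φ = kerLift g := by
  have d := hd.out
  constructor
  · intro hφ
    rw [MonoidHom.mem_ker] at hφ
    have ha : ∀ a, amapHom φ a = a := fun a => by
      have := congrArg (fun e : Equiv.Perm F => e a) hφ
      exact this
    have hxa : ∀ x : UP F q n, (φ x).a = x.a := fun x => by rw [aut_apply_a, ha]
    -- φ fixes the centre
    have hγ : ∀ t : F, gmapHom φ t = t + t ^ q := by
      intro t
      have := d.polar (amapHom φ) (gmapHom φ) (gmapHom_norm φ) t 1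
      rw [ha, ha, one_pow, mul_one, mul_one] at this
      exact this
    have hfix : ∀ z : UP F q n, z.a = 0 → φ z = z := by
      intro z hz
      obtain ⟨t, rfl⟩ := exists_ztr_eq hz
      ext
      · rw [hxa]
      · rw [← gmapHom_apply, hγ]; rfl
    -- the second coordinate
    have hfK : ∀ x : UP F q n, ((φ x).b + x.b) ∈ d.tr.ker := by
      intro x
      rw [AddMonoidHom.mem_ker, map_add, d.tr_apply, d.tr_apply, (φ x).h, x.h, hxa]
      exact d.add_self _
    have hdep : ∀ x y : UP F q n, x.a = y.a → (φ x).b + x.b = (φ y).b + y.b := by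
      intro x y h
      have e : y = x * (x⁻¹ * y) := by group
      have hz : (x⁻¹ * y).a = 0 := by
        simp only [mul_a, inv_a, h]
        exact d.add_self _
      have e2 : φ y = φ x * (x⁻¹ * y) := by
        conv_lhs => rw [e]
        rw [map_mul, hfix _ hz]
      have e3 : (φ y).b = (φ x).b + (x⁻¹ * y).b := by
        rw [e2, mul_b, hz, mul_zero, add_zero]
      have e4 : y.b = x.b + (x⁻¹ * y).b := by
        conv_lhs => rw [e]
        rw [mul_b, hz, mul_zero, add_zero]
      rw [e3, e4]
      linear_combination (-(x⁻¹ * y).b) * d.two_eq_zero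
    let g : F →+ d.tr.ker :=
      { toFun := fun a => ⟨(φ (lift a)).b + (lift (q := q) (n := n) a).b, hfK _⟩
        map_zero' := by
          apply Subtype.ext
          have := hdep (lift (q := q) (n := n) 0) 1 rfl
          show (φ (lift 0)).b + (lift (q := q) (n := n) 0).b = 0
          rw [this, map_one]
          show (0 : F) + 0 = 0
          rw [add_zero]
        map_add' := fun a b => by
          apply Subtype.ext
          have := hdep (lift (q := q) (n := n) (a + b)) (lift a * lift b) (by simp)
          show (φ (lift (a + b))).b + (lift (q := q) (n := n) (a + b)).b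
            = ((φ (lift a)).b + (lift (q := q) (n := n) a).b)
              + ((φ (lift b)).b + (lift (q := q) (n := n) b).b)
          rw [this, map_mul, mul_b, mul_b]
          simp only [hxa, lift_a]
          linear_combination (a ^ q * b) * d.two_eq_zero }
    refine ⟨g, ?_⟩
    ext x
    · rw [kerLift_apply_a, hxa]
    · rw [kerLift_apply_b]
      show (φ x).b = x.b + ((φ (lift x.a)).b + (lift (q := q) (n := n) x.a).b)
      rw [← hdep x (lift x.a) (by simp)]
      linear_combination (-x.b) * d.two_eq_zero
  · rintro ⟨g, rfl⟩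
    exact kerLift_mem_ker g

/-- the order of the kernel -/
theorem card_ker_amap : Nat.card (amap (F := F) (q := q) (n := n)).ker = 2 ^ (2 * n * n) := by
  have d := hd.out
  have h1 : Nat.card (F →+ d.tr.ker) = 2 ^ (2 * n * n) := by
    apply card_addMonoidHom_two
    · intro x
      rw [two_nsmul]; exact d.add_self x
    · intro x
      apply Subtype.ext
      rw [two_nsmul, AddSubgroup.coe_add, AddSubgroup.coe_zero]
      exact d.add_self _
    · rw [Nat.card_eq_fintype_card, d.hF, d.hq, ← pow_mul, mul_comm]
    · rw [d.card_ker, d.hq]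
  rw [← h1]
  symm
  apply Nat.card_congr
  refine Equiv.ofBijective (fun f => ⟨kerLift f, kerLift_mem_ker f⟩) ⟨?_, ?_⟩
  · intro f g h
    exact kerLift_injective (congrArg Subtype.val h)
  · rintro ⟨φ, hφ⟩
    obtain ⟨f, rfl⟩ := (mem_ker_amap φ).1 hφ
    exact ⟨f, rfl⟩

end UP

end Cfsg.Agent.Lib.Helper3.SU3
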