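import Mathlib
import Cfsg.Agent.Lib.Helper3.SU3Aut3

set_option autoImplicit false
set_option linter.unusedSectionVars false
set_option linter.style.haveILetI false

namespace Cfsg.Agent.Lib.Helper3.SU3

variable {F : Type*} [Field F] [Fintype F] {q n : ℕ}

/-- the number of automorphisms of a field of order `2^k` -/
lemma card_ringAut_two_pow (h2 : (2 : F) = 0) {k : ℕ} (hF : Fintype.card F = 2 ^ k) :
    Nat.card (F ≃+* F) = k := by
  haveI : CharP F 2 := CharTwo.of_one_ne_zero_of_two_eq_zero one_ne_zero h2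
  haveI : Fact (Nat.Prime 2) := ⟨Nat.prime_two⟩
  letI : Algebra (ZMod 2) F := ZMod.algebra F 2
  have hk : Module.finrank (ZMod 2) F = k := by
    have := Module.card_eq_pow_finrank (K := ZMod 2) (V := F)
    rw [hF, ZMod.card] at this
    exact (Nat.pow_right_injective (le_refl 2) this).symm
  rw [← hk, ← IsGalois.card_aut_eq_finrank (ZMod 2) F]
  apply Nat.card_congr
  refine ⟨fun τ => AlgEquiv.ofRingEquiv (f := τ) (fun r => ?_), fun e => e.toRingEquiv,
    fun τ => rfl, fun e => rfl⟩
  exact RingHom.congr_fun (Subsingleton.elim ((τ : F →+* F).comp (algebraMap (ZMod 2) F))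
    (algebraMap (ZMod 2) F)) r

namespace UP

variable [hd : Fact (QData F q n)]

/-- the semilinear endomorphisms -/
def semiFun (l : F) (σ : F ≃+* F) : UP F q n →* UP F q n :=
  MonoidHom.mk' (fun x => ⟨l * σ x.a, (l * l ^ q) * σ x.b, by
    have d := hd.out
    have hN := d.norm_fixed l
    have := congrArg σ x.h
    rw [map_add, map_pow, map_mul, map_pow] at this
    rw [mul_pow (l * l ^ q), hN, mul_pow l]
    linear_combination (l * l ^ q) * this⟩) (by
    intro x y
    ext
    · show l * σ (x.a + y.a) = l * σ x.a + l * σ y.a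
      rw [map_add]; ring
    · show (l * l ^ q) * σ (x.b + y.b + x.a ^ q * y.a)
        = (l * l ^ q) * σ x.b + (l * l ^ q) * σ y.b + (l * σ x.a) ^ q * (l * σ y.a)
      rw [map_add, map_add, map_mul, map_pow, mul_pow]
      ring)

lemma semiFun_a (l : F) (σ : F ≃+* F) (x : UP F q n) : (semiFun l σ x).a = l * σ x.a := rfl

lemma semiFun_b (l : F) (σ : F ≃+* F) (x : UP F q n) :
    (semiFun l σ x).b = (l * l ^ q) * σ x.b := rfl

lemma semiFun_comp (l l' : F) (σ σ' : F ≃+* F) (x : UP F q n) :
    semiFun l σ (semiFun l' σ' x) = semiFun (l * σ l') (σ'.trans σ) x := by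
  ext
  · rw [semiFun_a, semiFun_a, semiFun_a, map_mul]
    show l * (σ l' * σ (σ' x.a)) = l * σ l' * σ (σ' x.a)
    ring
  · rw [semiFun_b, semiFun_b, semiFun_b, map_mul, map_mul, map_pow, mul_pow]
    show l * l ^ q * (σ l' * σ l' ^ q * σ (σ' x.b)) = l * σ l' * (l ^ q * σ l' ^ q) * σ (σ' x.b)
    ring

lemma semiFun_one (x : UP F q n) : semiFun 1 (RingEquiv.refl F) x = x := by
  ext
  · rw [semiFun_a]
    show 1 * x.a = x.a
    rw [one_mul]
  · rw [semiFun_b]
    show 1 * 1 ^ q * x.b = x.b
    rw [one_pow, one_mul, one_mul]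

/-- the semilinear automorphisms -/
def semiLift (l : Fˣ) (σ : F ≃+* F) : MulAut (UP F q n) where
  toFun := semiFun (l : F) σ
  invFun := semiFun (σ.symm ((l⁻¹ : Fˣ) : F)) σ.symm
  left_inv x := by
    rw [semiFun_comp]
    have e1 : σ.symm ((l⁻¹ : Fˣ) : F) * σ.symm (l : F) = 1 := by
      rw [← map_mul, Units.inv_mul, map_one]
    have e2 : σ.trans σ.symm = RingEquiv.refl F := by
      ext a
      simp
    rw [e1, e2, semiFun_one]
  right_inv x := by
    rw [semiFun_comp]
    have e1 : (l : F) * σ (σ.symm ((l⁻¹ : Fˣ) : F)) = 1 := by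
      rw [RingEquiv.apply_symm_apply, Units.mul_inv]
    have e2 : σ.symm.trans σ = RingEquiv.refl F := by
      ext a
      simp
    rw [e1, e2, semiFun_one]
  map_mul' := map_mul _

lemma semiLift_apply (l : Fˣ) (σ : F ≃+* F) (x : UP F q n) :
    semiLift l σ x = semiFun (l : F) σ x := rfl

lemma amapHom_semiLift (l : Fˣ) (σ : F ≃+* F) (a : F) :
    amapHom (semiLift (q := q) (n := n) l σ) a = (l : F) * σ a := by
  rw [amapHom_apply, semiLift_apply, semiFun_a, lift_a]

/-- the order of the image -/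
theorem card_range_amap :
    Nat.card (amap (F := F) (q := q) (n := n)).range = (q ^ 2 - 1) * (2 * n) := by
  classical
  have d := hd.out
  have hu : Nat.card Fˣ = q ^ 2 - 1 := by
    rw [Nat.card_eq_fintype_card, Fintype.card_units, d.hF]
  have hr : Nat.card (F ≃+* F) = 2 * n :=
    card_ringAut_two_pow d.two_eq_zero (by rw [d.hF, d.hq, ← pow_mul, mul_comm])
  rw [← hu, ← hr, ← Nat.card_prod]
  symm
  apply Nat.card_congr
  refine Equiv.ofBijective
    (fun p : Fˣ × (F ≃+* F) => (⟨amap (semiLift (q := q) (n := n) p.1 p.2), ⟨_, rfl⟩⟩ :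
      (amap (F := F) (q := q) (n := n)).range)) ⟨?_, ?_⟩
  · rintro ⟨l, σ⟩ ⟨l', σ'⟩ h
    have h1 : amap (semiLift (q := q) (n := n) l σ) = amap (semiLift (q := q) (n := n) l' σ') :=
      congrArg Subtype.val h
    have h2 : ∀ a, (l : F) * σ a = (l' : F) * σ' a := by
      intro a
      have := congrArg (fun e : Equiv.Perm F => e a) h1
      simp only [amap_apply, amapHom_semiLift] at this
      exact this
    have hl : l = l' := by
      apply Units.ext
      have := h2 1
      rwa [map_one, map_one, mul_one, mul_one] at this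
    subst hl
    have hσ : σ = σ' := by
      ext a
      exact mul_left_cancel₀ l.ne_zero (h2 a)
    rw [hσ]
  · rintro ⟨_, φ, rfl⟩
    obtain ⟨l, σ, hl, hα⟩ := aut_semilinear φ
    refine ⟨(Units.mk0 l hl, σ), ?_⟩
    apply Subtype.ext
    ext a
    show amapHom (semiLift (Units.mk0 l hl) σ) a = amapHom φ a
    rw [amapHom_semiLift, hα]
    rfl

/-- the order of the automorphism group -/
theorem card_mulAut_UP : Nat.card (MulAut (UP F q n))
    = 2 ^ (2 * n * n) * ((q ^ 2 - 1) * (2 * n)) := by
  have h1 := Subgroup.card_mul_index (amap (F := F) (q := q) (n := n)).ker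
  rw [Subgroup.index_ker, card_ker_amap, card_range_amap] at h1
  exact h1.symm

end UP

end Cfsg.Agent.Lib.Helper3.SU3
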