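import Mathlib
import Cfsg.Prelude.Def_Transfer
import Cfsg.Prelude.Def_Solvable
import Cfsg.Agent.Lib.Helper3.SU3Aut4

set_option autoImplicit false
set_option linter.unusedSectionVars false
set_option linter.style.haveILetI false

namespace Cfsg.Agent.Lib.Helper3.SU3

open Cfsg

/-- `O_2` is preserved by isomorphisms -/
theorem pCore_map_equiv {A B : Type*} [Group A] [Group B] (E : A ≃* B) :
    (Cfsg.pCore 2 A).map E.toMonoidHom = Cfsg.pCore 2 B := by
  apply le_antisymm
  · rw [Subgroup.map_le_iff_le_comap]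
    apply sSup_le
    rintro N ⟨hN1, hN2⟩
    rw [← Subgroup.map_le_iff_le_comap]
    apply le_sSup
    exact ⟨Subgroup.Normal.map hN1 _ E.surjective, hN2.map _⟩
  · apply sSup_le
    rintro N ⟨hN1, hN2⟩
    rw [← Subgroup.map_comap_eq_self_of_surjective (f := E.toMonoidHom) E.surjective N]
    apply Subgroup.map_mono
    apply le_sSup
    exact ⟨Subgroup.Normal.comap hN1 _, hN2.comap_of_injective _ E.injective⟩

/-- transport along an isomorphism -/
theorem aut_transport {S T : Type*} [Group S] [Group T] (e : S ≃* T) (n k : ℕ)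
    (h1 : Cfsg.IsElementaryAbelian 2 (Cfsg.pCore 2 (MulAut T)))
    (h2 : Nat.card ↥(Cfsg.pCore 2 (MulAut T)) = n) (h3 : Nat.card (MulAut T) = k) :
    Cfsg.IsElementaryAbelian 2 (Cfsg.pCore 2 (MulAut S)) ∧
      Nat.card ↥(Cfsg.pCore 2 (MulAut S)) = n ∧ Nat.card (MulAut S) = k := by
  have hE := pCore_map_equiv (MulAut.congr e)
  have hmem : ∀ a : MulAut S, a ∈ Cfsg.pCore 2 (MulAut S) →
      MulAut.congr e a ∈ Cfsg.pCore 2 (MulAut T) := by
    intro a ha
    rw [← hE]
    exact ⟨a, ha, rfl⟩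
  refine ⟨⟨?_, ?_⟩, ?_, ?_⟩
  · constructor
    constructor
    rintro ⟨x, hx⟩ ⟨y, hy⟩
    apply Subtype.ext
    show x * y = y * x
    apply (MulAut.congr e).injective
    rw [map_mul, map_mul]
    have := h1.1.is_comm.comm (⟨_, hmem x hx⟩ : Cfsg.pCore 2 (MulAut T)) ⟨_, hmem y hy⟩
    exact congrArg Subtype.val this
  · intro a ha
    apply (MulAut.congr e).injective
    rw [map_pow, map_one]
    exact h1.2 _ (hmem a ha)
  · rw [← h2, ← hE]
    exact (Subgroup.card_map_of_injective (MulAut.congr e).injective).symm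
  · rw [← h3]
    exact Nat.card_congr (MulAut.congr e).toEquiv

variable {F : Type*} [Field F] [Fintype F] {q n : ℕ}

namespace UP

variable [hd : Fact (QData F q n)]

/-- multiplication by a unit as a permutation -/
def mulPerm : Fˣ →* Equiv.Perm F := MulAction.toPermHom Fˣ F

lemma mulPerm_apply (c : Fˣ) (a : F) : mulPerm c a = (c : F) * a := rfl

lemma mulPerm_injective : Function.Injective (mulPerm (F := F)) := by
  intro c c' h
  apply Units.ext
  have := congrArg (fun e : Equiv.Perm F => e 1) h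
  simpa [mulPerm_apply] using this

lemma amap_semiLift_refl (c : Fˣ) :
    amap (semiLift (q := q) (n := n) c (RingEquiv.refl F)) = mulPerm c := by
  ext a
  rw [amap_apply, amapHom_semiLift, mulPerm_apply]
  rfl

omit hd in
/-- units of 2-power order are trivial -/
lemma unit_eq_one_of_pow (d : QData F q n) (e : Fˣ) {j : ℕ} (he : e ^ (2 ^ j) = 1) : e = 1 := by
  classical
  have h1 : orderOf e ∣ 2 ^ j := orderOf_dvd_of_pow_eq_one he
  have h2 : orderOf e ∣ q ^ 2 - 1 := by
    have := orderOf_dvd_natCard e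
    rwa [Nat.card_eq_fintype_card, Fintype.card_units, d.hF] at this
  have hodd : Odd (q ^ 2 - 1) := by
    have heven : Even (q ^ 2) := by
      rw [d.hq, ← pow_mul]
      exact (Nat.even_pow' (by have := d.n_pos; omega)).2 even_two
    have hpos : 1 ≤ q ^ 2 := Nat.one_le_pow _ _ d.q_pos
    exact Nat.Even.sub_odd hpos heven odd_one
  have h3 : Nat.Coprime (2 ^ j) (q ^ 2 - 1) :=
    Nat.Coprime.pow_left _ (Nat.coprime_two_left.mpr hodd)
  exact orderOf_eq_one_iff.1 (Nat.eq_one_of_dvd_coprimes h3 h1 h2)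

/-- a normal 2-subgroup of the automorphism group acts trivially on the quotient by the centre -/
lemma normal_two_le_ker (N : Subgroup (MulAut (UP F q n))) (hN : N.Normal) (hp : IsPGroup 2 N) :
    N ≤ (amap (F := F) (q := q) (n := n)).ker := by
  intro φ hφ
  obtain ⟨l, σ, hl, hα⟩ := aut_semilinear φ
  -- conjugation of scalars
  have hconj : ∀ c : Fˣ, amap φ * mulPerm c * (amap φ)⁻¹ = mulPerm (Units.map σ.toRingHom.toMonoidHom c) := by
    intro c
    rw [mul_inv_eq_iff_eq_mul]
    ext a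
    show amapHom φ ((c : F) * a) = σ (c : F) * amapHom φ a
    rw [hα, hα, map_mul]
    ring
  -- σ is trivial
  have hσ : ∀ c : Fˣ, σ (c : F) = c := by
    intro c
    set τ : MulAut (UP F q n) := semiLift c (RingEquiv.refl F) with hτ
    have hκ : φ * (τ * φ⁻¹ * τ⁻¹) ∈ N := N.mul_mem hφ (hN.conj_mem _ (N.inv_mem hφ) τ)
    obtain ⟨j, hj⟩ := hp ⟨_, hκ⟩
    have hj' : (φ * (τ * φ⁻¹ * τ⁻¹)) ^ (2 ^ j) = 1 := by
      have := congrArg Subtype.val hj
      simpa using this
    have h1 : amap (φ * (τ * φ⁻¹ * τ⁻¹))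
        = mulPerm (Units.map σ.toRingHom.toMonoidHom c * c⁻¹) := by
      rw [map_mul, map_mul, map_mul, map_inv, map_inv, hτ, amap_semiLift_refl, map_mul, map_inv,
        ← hconj c]
      group
    have h2 := congrArg amap hj'
    rw [map_pow, map_one, h1, ← map_pow] at h2
    have h3 : (Units.map σ.toRingHom.toMonoidHom c * c⁻¹) ^ (2 ^ j) = 1 :=
      mulPerm_injective (by rw [h2, map_one])
    have h4 := unit_eq_one_of_pow hd.out _ h3
    have h5 : Units.map σ.toRingHom.toMonoidHom c = c := mul_inv_eq_one.1 h4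
    have := congrArg Units.val h5
    exact this
  have hσ' : ∀ a : F, σ a = a := by
    intro a
    by_cases ha : a = 0
    · rw [ha, map_zero]
    · exact hσ (Units.mk0 a ha)
  -- the scalar is trivial
  obtain ⟨j, hj⟩ := hp ⟨_, hφ⟩
  have hj' : φ ^ (2 ^ j) = 1 := by
    have := congrArg Subtype.val hj
    simpa using this
  have h6 : amap φ = mulPerm (Units.mk0 l hl) := by
    ext a
    show amapHom φ a = l * a
    rw [hα, hσ']
  have h7 := congrArg amap hj'
  rw [map_pow, map_one, h6, ← map_pow] at h7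
  have h8 : (Units.mk0 l hl) ^ (2 ^ j) = 1 := mulPerm_injective (by rw [h7, map_one])
  have h9 := unit_eq_one_of_pow hd.out _ h8
  rw [MonoidHom.mem_ker, h6, h9, map_one]

lemma isPGroup_ker_amap : IsPGroup 2 (amap (F := F) (q := q) (n := n)).ker :=
  IsPGroup.of_card (n := 2 * n * n) card_ker_amap

theorem pCore_mulAut_UP :
    Cfsg.pCore 2 (MulAut (UP F q n)) = (amap (F := F) (q := q) (n := n)).ker := by
  apply le_antisymm
  · apply sSup_le
    rintro N ⟨hN1, hN2⟩
    exact normal_two_le_ker N hN1 hN2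
  · apply le_sSup
    exact ⟨inferInstance, isPGroup_ker_amap⟩

theorem elemAb_pCore_UP :
    Cfsg.IsElementaryAbelian 2 (Cfsg.pCore 2 (MulAut (UP F q n))) := by
  have d := hd.out
  rw [pCore_mulAut_UP]
  constructor
  · constructor
    constructor
    rintro ⟨φ, hφ⟩ ⟨ψ, hψ⟩
    obtain ⟨f, rfl⟩ := (mem_ker_amap φ).1 hφ
    obtain ⟨g, rfl⟩ := (mem_ker_amap ψ).1 hψ
    apply Subtype.ext
    show kerLift f * kerLift g = kerLift g * kerLift f
    rw [kerLift_mul, kerLift_mul, add_comm]
  · intro φ hφ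
    obtain ⟨f, rfl⟩ := (mem_ker_amap φ).1 hφ
    rw [pow_two, kerLift_mul, ← kerLift_zero]
    congr 1
    ext a
    show ((f a + f a : d.tr.ker) : F) = ((0 : d.tr.ker) : F)
    rw [AddSubgroup.coe_add, AddSubgroup.coe_zero]
    exact d.add_self _

end UP

end Cfsg.Agent.Lib.Helper3.SU3
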