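import Mathlib
import Cfsg.Agent.Lib.Helper3.SU3Aut5

set_option autoImplicit false
set_option linter.unusedSectionVars false
set_option linter.style.haveILetI false

namespace Cfsg.Agent.Lib.Helper3.SU3

variable {F : Type*} [Field F] [Fintype F]

/-- every automorphism of a finite field of characteristic two is a power of the Frobenius -/
lemma ringAut_eq_frob (h2 : (2 : F) = 0) {k : ℕ} (hF : Fintype.card F = 2 ^ k) (τ : F ≃+* F) :
    ∃ j : ℕ, j < k ∧ ∀ x, τ x = x ^ (2 ^ j) := by
  haveI : CharP F 2 := CharTwo.of_one_ne_zero_of_two_eq_zero one_ne_zero h2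
  haveI : Fact (Nat.Prime 2) := ⟨Nat.prime_two⟩
  letI : Algebra (ZMod 2) F := ZMod.algebra F 2
  have hk : Module.finrank (ZMod 2) F = k := by
    have := Module.card_eq_pow_finrank (K := ZMod 2) (V := F)
    rw [hF, ZMod.card] at this
    exact (Nat.pow_right_injective (le_refl 2) this).symm
  let τ' : F ≃ₐ[ZMod 2] F := AlgEquiv.ofRingEquiv (f := τ) (fun r =>
    RingHom.congr_fun (Subsingleton.elim ((τ : F →+* F).comp (algebraMap (ZMod 2) F))
      (algebraMap (ZMod 2) F)) r)
  obtain ⟨j, hj⟩ := (FiniteField.bijective_frobeniusAlgEquivOfAlgebraic_pow (ZMod 2) F).2 τ'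
  refine ⟨j.1, by rw [← hk]; exact j.2, fun x => ?_⟩
  have h1 : τ x = τ' x := rfl
  have h3 : τ' x = (FiniteField.frobeniusAlgEquivOfAlgebraic (ZMod 2) F ^ j.1) x := by
    rw [← hj]
  rw [h1, h3, AlgEquiv.coe_pow, FiniteField.coe_frobeniusAlgEquivOfAlgebraic_iterate, ZMod.card]

namespace UP

variable [hd : Fact (QData F 4 2)]

/-- the automorphism group of the Sylow 2-subgroup of `U_3(4)` has no `S_3` -/
theorem no_S3_UP (ρ x : MulAut (UP F 4 2)) (hρ3 : ρ ^ 3 = 1) (hρ1 : ρ ≠ 1) (hx2 : x ^ 2 = 1)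
    (hxρ : x * ρ * x⁻¹ = ρ⁻¹) : False := by
  have d := hd.out
  have hF16 : Fintype.card F = 2 ^ 4 := by rw [d.hF]; norm_num
  obtain ⟨l, σ, hl, hα⟩ := aut_semilinear ρ
  obtain ⟨l', τ, hl', hβ⟩ := aut_semilinear x
  -- ρ acts nontrivially on the quotient
  have hρk : amap ρ ≠ 1 := by
    intro h
    have hmem : ρ ∈ (amap (F := F) (q := 4) (n := 2)).ker := h
    obtain ⟨j, hj⟩ := isPGroup_ker_amap (F := F) (q := 4) (n := 2) ⟨ρ, hmem⟩
    have hj' : ρ ^ (2 ^ j) = 1 := by
      have := congrArg Subtype.val hj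
      simpa using this
    have h1 : orderOf ρ ∣ 2 ^ j := orderOf_dvd_of_pow_eq_one hj'
    have h3 : orderOf ρ ∣ 3 := orderOf_dvd_of_pow_eq_one hρ3
    have hc : Nat.Coprime (2 ^ j) 3 := Nat.Coprime.pow_left _ (by norm_num)
    exact hρ1 (orderOf_eq_one_iff.1 (Nat.eq_one_of_dvd_coprimes hc h1 h3))
  -- σ is trivial
  have h3 : ∀ a, amapHom ρ (amapHom ρ (amapHom ρ a)) = a := by
    intro a
    have := congrArg (fun φ : MulAut (UP F 4 2) => amapHom φ a) hρ3
    simp only [pow_succ, pow_zero, one_mul, amapHom_mul, amapHom_one] at this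
    exact this
  have hl3 : l * σ l * σ (σ l) = 1 := by
    have := h3 1
    rw [hα 1, map_one, mul_one, hα l, hα (l * σ l), map_mul] at this
    linear_combination this
  have hσ3 : ∀ a, σ (σ (σ a)) = a := by
    intro a
    have := h3 a
    rw [hα a, hα (l * σ a), hα (l * σ (l * σ a))] at this
    simp only [map_mul] at this
    have e : l * (σ l * (σ (σ l) * σ (σ (σ a)))) = (l * σ l * σ (σ l)) * σ (σ (σ a)) := by ring
    rw [e, hl3, one_mul] at this
    exact this
  have hσ : σ = 1 := by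
    have hc : Nat.card (F ≃+* F) = 4 := card_ringAut_two_pow d.two_eq_zero hF16
    have h4 : (σ : RingAut F) ^ 4 = 1 := by
      rw [← hc]
      exact pow_card_eq_one'
    have h3' : (σ : RingAut F) ^ 3 = 1 := by
      ext a
      show ((σ : RingAut F) ^ 3) a = a
      rw [pow_succ, pow_succ, pow_one]
      exact hσ3 a
    have : (σ : RingAut F) ^ 4 = σ ^ 3 * σ := pow_succ _ 3
    rw [h4, h3', one_mul] at this
    exact this.symm
  have hσa : ∀ a, σ a = a := fun a => by rw [hσ]; rfl
  have hα' : ∀ a, amapHom ρ a = l * a := fun a => by rw [hα, hσa]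
  have hl3' : l ^ 3 = 1 := by
    rw [hσa, hσa] at hl3
    linear_combination hl3
  have hl1 : l ≠ 1 := by
    intro h
    apply hρk
    ext a
    show amapHom ρ a = a
    rw [hα', h, one_mul]
  -- τ has order at most two
  have h2 : ∀ a, amapHom x (amapHom x a) = a := by
    intro a
    have := congrArg (fun φ : MulAut (UP F 4 2) => amapHom φ a) hx2
    simp only [pow_succ, pow_zero, one_mul, amapHom_mul, amapHom_one] at this
    exact this
  have hl2 : l' * τ l' = 1 := by
    have := h2 1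
    rw [hβ 1, map_one, mul_one, hβ l'] at this
    exact this
  have hτ2 : ∀ a, τ (τ a) = a := by
    intro a
    have := h2 a
    rw [hβ a, hβ (l' * τ a), map_mul, ← mul_assoc, hl2, one_mul] at this
    exact this
  -- the relation
  have hrel : x * ρ = ρ ^ 2 * x := by
    have e1 : ρ⁻¹ = ρ ^ 2 := by
      rw [inv_eq_iff_mul_eq_one, ← pow_succ']
      exact hρ3
    rw [← e1, ← hxρ]
    group
  have hτl : τ l = l ^ 2 := by
    have := congrArg (fun φ : MulAut (UP F 4 2) => amapHom φ 1) hrel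
    simp only [pow_succ, pow_zero, one_mul, amapHom_mul] at this
    rw [hα', mul_one, hβ l, hβ 1, map_one, mul_one, hα', hα'] at this
    have e : l' * τ l = l' * l ^ 2 := by linear_combination this
    exact mul_left_cancel₀ hl' e
  -- τ fixes the cube roots of unity
  obtain ⟨j, hj4, hj⟩ := ringAut_eq_frob d.two_eq_zero hF16 τ
  obtain ⟨c, hc⟩ := exists_not_fixed d
  have hc16 : c ^ 16 = c := by
    have := FiniteField.pow_card c
    rwa [d.hF] at this
  have hτl' : τ l = l := by
    have hcases : j = 0 ∨ j = 1 ∨ j = 2 ∨ j = 3 := by omega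
    rcases hcases with rfl | rfl | rfl | rfl
    · rw [hj]; norm_num
    · exfalso
      apply hc
      have := hτ2 c
      rw [hj c, hj (c ^ 2 ^ 1)] at this
      calc c ^ 4 = (c ^ 2 ^ 1) ^ 2 ^ 1 := by ring
        _ = c := this
    · rw [hj]
      have : l ^ 2 ^ 2 = l ^ 3 * l := by ring
      rw [this, hl3', one_mul]
    · exfalso
      apply hc
      have := hτ2 c
      rw [hj c, hj (c ^ 2 ^ 3)] at this
      have e : (c ^ 2 ^ 3) ^ 2 ^ 3 = (c ^ 16) ^ 4 := by ring
      rw [e, hc16] at this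
      exact this
  rw [hτl'] at hτl
  -- l = l^2 gives l = 1
  have : l * (l - 1) = 0 := by linear_combination (-1 : F) * hτl
  rcases mul_eq_zero.1 this with h | h
  · exact hl h
  · exact hl1 (sub_eq_zero.1 h)

end UP

end Cfsg.Agent.Lib.Helper3.SU3
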