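import Mathlib
import Cfsg.Agent.Lib.Helper3.SU3Aut6

set_option autoImplicit false
set_option linter.unusedSectionVars false
set_option linter.style.haveILetI false

namespace Cfsg.Agent.Lib.Helper3.SU3

variable {F : Type*} [Field F] [Fintype F] {q n : ℕ}

/-- in a finite field of order `2 ^ k`, if `x ↦ x ^ (2 ^ i)` is the identity and `i < k` then `i = 0` -/
lemma frob_pow_eq_id {k i : ℕ} (hF : Fintype.card F = 2 ^ k) (hi : i < k)
    (h : ∀ x : F, x ^ (2 ^ i) = x) : i = 0 := by
  classical
  by_contra hi0
  have h1 : ∀ x : F, x ∈ (Polynomial.X ^ (2 ^ i) - Polynomial.X : Polynomial F).roots := by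
    intro x
    rw [Polynomial.mem_roots]
    · simp [h x]
    · exact FiniteField.X_pow_card_pow_sub_X_ne_zero F hi0 (by norm_num)
  have h2 : Fintype.card F ≤ (Polynomial.X ^ (2 ^ i) - Polynomial.X : Polynomial F).roots.toFinset.card := by
    rw [← Finset.card_univ]
    apply Finset.card_le_card
    intro x _
    exact Multiset.mem_toFinset.2 (h1 x)
  have h3 : (Polynomial.X ^ (2 ^ i) - Polynomial.X : Polynomial F).roots.toFinset.card ≤ 2 ^ i := by
    calc _ ≤ Multiset.card (Polynomial.X ^ (2 ^ i) - Polynomial.X : Polynomial F).roots :=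
          Multiset.toFinset_card_le _
      _ ≤ (Polynomial.X ^ (2 ^ i) - Polynomial.X : Polynomial F).natDegree :=
          Polynomial.card_roots' _
      _ = 2 ^ i := FiniteField.X_pow_card_pow_sub_X_natDegree_eq F hi0 (by norm_num)
  rw [hF] at h2
  have h4 : 2 ^ k ≤ 2 ^ i := h2.trans h3
  have h5 : k ≤ i := (Nat.pow_le_pow_iff_right (by norm_num)).1 h4
  omega

namespace UP

variable [hd : Fact (QData F q n)]

/-- an automorphism whose square is trivial modulo the centre fixes the centre pointwise -/
theorem aut_fix_center (φ : MulAut (UP F q n)) (hsq : ∀ a : F, amapHom (φ * φ) a = a)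
    {z : UP F q n} (hz : z.a = 0) : φ z = z := by
  have d := hd.out
  obtain ⟨l, σ, hl, hα⟩ := aut_semilinear φ
  have hcardF : Fintype.card F = 2 ^ (2 * n) := by
    rw [d.hF, d.hq, ← pow_mul, mul_comm]
  -- `l σ(l) = 1` and `σ² = 1`
  have h1 : ∀ a : F, l * σ l * σ (σ a) = a := by
    intro a
    have := hsq a
    rw [amapHom_mul, hα, hα, map_mul] at this
    rw [← mul_assoc] at this
    exact this
  have hlσ : l * σ l = 1 := by
    have := h1 1
    rwa [map_one, map_one, mul_one] at this
  have hσσ : ∀ a : F, σ (σ a) = a := by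
    intro a
    have := h1 a
    rwa [hlσ, one_mul] at this
  obtain ⟨j, hj, hσ⟩ := ringAut_eq_frob d.two_eq_zero hcardF σ
  -- the central element as a square
  have hc : z.b ^ q = z.b := b_fixed_of_a_zero hz
  have hn := d.n_pos
  set a : F := z.b ^ (2 ^ (n - 1)) with ha
  have haq : a ^ q = a := by
    rw [ha, ← pow_mul, mul_comm, pow_mul, hc]
  have ha2 : a * a = z.b := by
    rw [ha, ← pow_add, ← two_mul, ← pow_succ']
    have : n - 1 + 1 = n := by omega
    rw [this, ← d.hq, hc]
  have hzsq : z = lift a * lift a := by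
    rw [mul_self]
    ext
    · exact hz
    · simp only [lift_a]
      rw [haq, ha2]
  have hφz : φ z = ⟨0, (l * σ a) * (l * σ a) ^ q, by
      rw [d.norm_fixed]; linear_combination ((l * σ a) * (l * σ a) ^ q) * d.two_eq_zero⟩ := by
    rw [hzsq, map_mul, mul_self, aut_apply_a, lift_a, hα]
  rw [hφz]
  have hσaq : (σ a) ^ q = σ a := by rw [← map_pow, haq]
  have hkey : (l * σ a) * (l * σ a) ^ q = (l * l ^ q) * σ z.b := by
    rw [mul_pow, hσaq, ← ha2, map_mul]
    ring
  -- the two cases for `σ`
  have hσσ' : ∀ x : F, x ^ (2 ^ (2 * j)) = x := by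
    intro x
    have := hσσ x
    rw [hσ, hσ, ← pow_mul, ← pow_add, ← two_mul] at this
    exact this
  have hcardpow : ∀ x : F, x ^ (2 ^ (2 * n)) = x := by
    intro x
    rw [← hcardF]
    exact FiniteField.pow_card x
  have hjcases : j = 0 ∨ j = n := by
    rcases Nat.lt_or_ge j n with hjn | hjn
    · left
      have := frob_pow_eq_id hcardF (i := 2 * j) (by omega) hσσ'
      omega
    · right
      obtain ⟨i, rfl⟩ : ∃ i, j = n + i := ⟨j - n, by omega⟩
      have h2 : ∀ x : F, x ^ (2 ^ (2 * i)) = x := by
        intro x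
        have := hσσ' x
        have e : 2 * (n + i) = 2 * n + 2 * i := by ring
        rw [e, pow_add, pow_mul, hcardpow] at this
        exact this
      have := frob_pow_eq_id hcardF (i := 2 * i) (by omega) h2
      omega
  ext
  · exact hz.symm
  · show (l * σ a) * (l * σ a) ^ q = z.b
    rw [hkey]
    rcases hjcases with rfl | rfl
    · have hσid : ∀ x : F, σ x = x := by
        intro x
        rw [hσ, pow_zero, pow_one]
      rw [hσid] at hlσ ⊢
      have hl1 : l = 1 := by
        have h3 : (l - 1) * (l - 1) = 0 := by linear_combination hlσ + (1 - l) * d.two_eq_zero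
        have h4 : l - 1 = 0 := by
          rcases mul_eq_zero.1 h3 with h | h <;> exact h
        exact sub_eq_zero.1 h4
      rw [hl1, one_pow, one_mul, one_mul]
    · have hσq : ∀ x : F, σ x = x ^ q := by
        intro x
        rw [hσ, d.hq]
      rw [hσq] at hlσ ⊢
      rw [hlσ, one_mul, hc]

end UP

end Cfsg.Agent.Lib.Helper3.SU3
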