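import Mathlib
import Cfsg.Agent.Lib.Helper3.SU3Syl5

set_option autoImplicit false
set_option linter.unusedSectionVars false
set_option linter.style.haveILetI false

namespace Cfsg.Agent.Lib.Helper3.SU3

variable {F : Type*} [Field F] [Fintype F] {q n : ℕ} [hd : Fact (QData F q n)]

section abstract

variable {A : Type*} [Group A] (e : A ≃* UP F q n)
include e

lemma A_mem_center_iff (x : A) : x ∈ Subgroup.center A ↔ (e x).a = 0 := by
  rw [mem_center_equiv e, UP.mem_center_iff]

lemma A_orderOf_eq_two_iff (x : A) : orderOf x = 2 ↔ x ≠ 1 ∧ (e x).a = 0 := by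
  rw [← MulEquiv.orderOf_eq e x, UP.orderOf_eq_two_iff]
  constructor
  · rintro ⟨h1, h2⟩
    refine ⟨fun h => h1 (by rw [h, map_one]), h2⟩
  · rintro ⟨h1, h2⟩
    refine ⟨fun h => h1 (e.injective (by rw [h, map_one])), h2⟩

theorem A_card : Nat.card A = q ^ 3 := by
  rw [← UP.card_UP (F := F) (q := q) (n := n)]
  exact Nat.card_congr e.toEquiv

theorem A_card_center : Nat.card (Subgroup.center A) = q := by
  rw [card_center_of_equiv e, UP.card_center]

theorem A_center_eq_closure :
    Subgroup.center A = Subgroup.closure {x : A | orderOf x = 2} := by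
  apply le_antisymm
  · intro x hx
    by_cases h1 : x = 1
    · rw [h1]; exact Subgroup.one_mem _
    · apply Subgroup.subset_closure
      exact (A_orderOf_eq_two_iff e x).2 ⟨h1, (A_mem_center_iff e x).1 hx⟩
  · rw [Subgroup.closure_le]
    intro x hx
    exact (A_mem_center_iff e x).2 ((A_orderOf_eq_two_iff e x).1 hx).2

theorem A_center_eq_commutator : Subgroup.center A = commutator A :=
  center_eq_commutator_of_equiv e UP.center_eq_commutator

theorem A_card_quotient : Nat.card (A ⧸ Subgroup.center A) = q ^ 2 := by
  have d := hd.out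
  have h1 := Subgroup.card_eq_card_quotient_mul_card_subgroup (Subgroup.center A)
  rw [A_card e, A_card_center e] at h1
  have : q ^ 2 * q = Nat.card (A ⧸ Subgroup.center A) * q := by rw [← h1]; ring
  exact (Nat.eq_of_mul_eq_mul_right d.q_pos this).symm

theorem A_quotient_sq (x : A ⧸ Subgroup.center A) : x ^ 2 = 1 := by
  induction x using QuotientGroup.induction_on with
  | H a =>
    rw [← QuotientGroup.mk_pow, QuotientGroup.eq_one_iff, A_mem_center_iff e, pow_two, map_mul,
      UP.mul_self]

theorem A_center_orderOf (z : Subgroup.center A) (hz : z ≠ 1) : orderOf z = 2 := by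
  rw [← Subgroup.orderOf_coe, A_orderOf_eq_two_iff e]
  refine ⟨fun h => hz (Subtype.ext h), (A_mem_center_iff e z.1).1 z.2⟩

theorem A_center_exponent : Monoid.exponent (Subgroup.center A) = 2 := by
  have d := hd.out
  haveI : Nontrivial (Subgroup.center A) := by
    haveI : Finite (Subgroup.center A) := by
      apply Nat.finite_of_card_ne_zero
      rw [A_card_center e]
      exact d.q_pos.ne'
    rw [← Finite.one_lt_card_iff_nontrivial, A_card_center e]
    exact d.two_le_q
  rw [Monoid.exponent_eq_prime_iff Nat.prime_two]
  exact fun z hz => A_center_orderOf e z hz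

end abstract

end Cfsg.Agent.Lib.Helper3.SU3
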