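import Mathlib
import Cfsg.Agent.Lib.Helper3.Singer

set_option autoImplicit false

namespace Cfsg.Agent.Lib.Helper3.Singer

open Module

section commutant

variable {F K : Type*} [Field F] [Field K] [Algebra F K] {n : ℕ}

/-- a matrix commuting with the matrix of the multiplication by a generator of the field extension
is itself the matrix of a multiplication -/
theorem exists_eq_leftMulMatrix (b : Basis (Fin n) F K) (ζ : K) (hζ : Algebra.adjoin F {ζ} = ⊤)
    (M : Matrix (Fin n) (Fin n) F)
    (hM : M * Algebra.leftMulMatrix b ζ = Algebra.leftMulMatrix b ζ * M) :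
    ∃ a : K, M = Algebra.leftMulMatrix b a := by
  let φ : K →ₗ[F] K := Matrix.toLin b b M
  have hL : Matrix.toLin b b (Algebra.leftMulMatrix b ζ) = Algebra.lmul F K ζ := by
    rw [Algebra.leftMulMatrix_apply, Matrix.toLin_toMatrix]
  have hcomm : ∀ z : K, φ (ζ * z) = ζ * φ z := by
    intro z
    have h1 := congrArg (fun N => Matrix.toLin b b N z) hM
    simp only [Matrix.toLin_mul b b b, hL, LinearMap.comp_apply] at h1
    exact h1
  have hall : ∀ x : K, ∀ z : K, φ (x * z) = x * φ z := by
    intro x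
    have hx : x ∈ Algebra.adjoin F {ζ} := by rw [hζ]; exact Algebra.mem_top
    induction hx using Algebra.adjoin_induction with
    | mem y hy =>
      rw [Set.mem_singleton_iff] at hy
      subst hy
      exact hcomm
    | algebraMap r =>
      intro z
      rw [← Algebra.smul_def, ← Algebra.smul_def, map_smul]
    | add x y _ _ hx hy =>
      intro z
      rw [add_mul, map_add, hx, hy, add_mul]
    | mul x y _ _ hx hy =>
      intro z
      rw [mul_assoc, hx, hy, mul_assoc]
  refine ⟨φ 1, ?_⟩
  have hφ : φ = Algebra.lmul F K (φ 1) := by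
    apply LinearMap.ext
    intro z
    have := hall z 1
    rw [mul_one] at this
    rw [this, mul_comm]
    rfl
  rw [Algebra.leftMulMatrix_apply, ← hφ]
  exact (LinearMap.toMatrix_toLin b b M).symm

/-- matrices commuting with the matrix of the multiplication by a generator commute -/
theorem commute_of_commute_leftMulMatrix (b : Basis (Fin n) F K) (ζ : K)
    (hζ : Algebra.adjoin F {ζ} = ⊤) (M N : Matrix (Fin n) (Fin n) F)
    (hM : M * Algebra.leftMulMatrix b ζ = Algebra.leftMulMatrix b ζ * M)
    (hN : N * Algebra.leftMulMatrix b ζ = Algebra.leftMulMatrix b ζ * N) : M * N = N * M := by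
  obtain ⟨a, rfl⟩ := exists_eq_leftMulMatrix b ζ hζ M hM
  obtain ⟨c, rfl⟩ := exists_eq_leftMulMatrix b ζ hζ N hN
  rw [← map_mul, ← map_mul, mul_comm]

end commutant

/-- an element of prime order `p` of a finite field generates it over a subfield with `q` elements if
`p` divides no `q ^ d - 1` for `d` a proper divisor of the degree -/
theorem adjoin_eq_top_of_orderOf {F K : Type*} [Field F] [Fintype F] [Field K] [Fintype K]
    [Algebra F K] (p : ℕ) (hp : ∀ d, d ∣ finrank F K → d < finrank F K → ¬ p ∣ Fintype.card F ^ d - 1)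
    (ζ : Kˣ) (hζ : orderOf ζ = p) : Algebra.adjoin F {(ζ : K)} = ⊤ := by
  classical
  let L : IntermediateField F K := IntermediateField.adjoin F {(ζ : K)}
  have hζL : (ζ : K) ∈ L := IntermediateField.mem_adjoin_simple_self F (ζ : K)
  have hfinL : Finite L := inferInstance
  letI : Fintype L := Fintype.ofFinite L
  have hdvd : finrank F L ∣ finrank F K := by
    have h1 : finrank F L * finrank L K = finrank F K := Module.finrank_mul_finrank F L K
    exact Dvd.intro _ h1
  have hcardL : Fintype.card L = Fintype.card F ^ finrank F L := Module.card_eq_pow_finrank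
  -- `ζ` as a unit of `L`
  have hζ0 : (⟨(ζ : K), hζL⟩ : L) ≠ 0 := by
    intro h
    have := congrArg Subtype.val h
    exact ζ.ne_zero this
  let ζL : Lˣ := Units.mk0 ⟨(ζ : K), hζL⟩ hζ0
  have hord : orderOf ζL = p := by
    rw [← hζ]
    have h1 : orderOf ζL = orderOf (ζL : L) := (orderOf_units (y := ζL)).symm
    have h2 : orderOf (algebraMap L K (ζL : L)) = orderOf (ζL : L) :=
      orderOf_injective (algebraMap L K : L →+* K).toMonoidHom (algebraMap L K).injective (ζL : L)
    have h3 : algebraMap L K (ζL : L) = (ζ : K) := rfl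
    rw [h1, ← h2, h3]
    exact orderOf_units (y := ζ)
  have hpd : p ∣ Fintype.card F ^ finrank F L - 1 := by
    rw [← hord, ← hcardL, ← Fintype.card_units]
    exact orderOf_dvd_card
  have hLtop : L = ⊤ := by
    by_contra hne
    have hlt : finrank F L < finrank F K := by
      rcases lt_or_eq_of_le (Nat.le_of_dvd Module.finrank_pos hdvd) with h | h
      · exact h
      · exfalso
        apply hne
        apply IntermediateField.eq_of_le_of_finrank_eq le_top
        rw [h, IntermediateField.finrank_top']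
    exact hp _ hdvd hlt hpd
  have halg : IsAlgebraic F (ζ : K) := IsAlgebraic.of_finite F (ζ : K)
  have h1 := IntermediateField.adjoin_simple_toSubalgebra_of_isAlgebraic halg
  rw [← h1]
  show L.toSubalgebra = ⊤
  rw [hLtop]
  rfl

end Cfsg.Agent.Lib.Helper3.Singer

namespace Cfsg.Agent.Lib.Helper3.Singer

open Module
open scoped Pointwise

/-- In `GL_n(q)`, if the `p`-part of the order is that of `q ^ n - 1` and `p` divides no `q ^ d - 1`
for `d` a proper divisor of `n`, the elements commuting with an element of order `p` commute with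
each other. -/
theorem commute_of_commute_prime_order {F : Type*} [Field F] [Fintype F] (n : ℕ) (hn : n ≠ 0)
    (p : ℕ) [Fact p.Prime]
    (hfac : (Nat.card (GL (Fin n) F)).factorization p = (Fintype.card F ^ n - 1).factorization p)
    (hp : ∀ d, d ∣ n → d < n → ¬ p ∣ Fintype.card F ^ d - 1)
    (y : GL (Fin n) F) (hy : orderOf y = p) (c₁ c₂ : GL (Fin n) F)
    (h₁ : c₁ * y = y * c₁) (h₂ : c₂ * y = y * c₂) : c₁ * c₂ = c₂ * c₁ := by
  classical
  have hpp : p.Prime := Fact.out
  have hfinGL : Finite (GL (Fin n) F) := Finite.of_injective (fun A => A.1) Units.val_injective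
  obtain ⟨p₀, _, k, hp₀, hk⟩ := FiniteField.card' F
  have : Fact p₀.Prime := ⟨hp₀⟩
  have hkn : (k : ℕ) * n ≠ 0 := Nat.mul_ne_zero k.ne_zero hn
  let K := GaloisField p₀ ((k : ℕ) * n)
  letI : Fintype K := Fintype.ofFinite K
  have hK : Fintype.card K = Fintype.card F ^ n := by
    rw [← Nat.card_eq_fintype_card, GaloisField.card p₀ _ hkn, hk, ← pow_mul]
  obtain ⟨ι⟩ := Cfsg.Agent.Lib.Helper16.exists_ringHom_of_card_pow (F := F) (K := K) hn rfl hK
  letI : Algebra F K := ι.toAlgebra
  have hrank : finrank F K = n := by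
    have h1 : Fintype.card K = Fintype.card F ^ finrank F K := Module.card_eq_pow_finrank
    rw [hK] at h1
    exact (Nat.pow_right_injective Fintype.one_lt_card h1).symm
  let b : Basis (Fin n) F K := Module.finBasisOfFinrankEq F K hrank
  let φ : K →ₐ[F] Matrix (Fin n) (Fin n) F := Algebra.leftMulMatrix b
  have hφ : Function.Injective φ := Algebra.leftMulMatrix_injective b
  let ψ : Kˣ →* GL (Fin n) F := Units.map φ.toMonoidHom
  have hψ : Function.Injective ψ := Units.map_injective hφ
  let C : Subgroup (GL (Fin n) F) := ψ.range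
  have hCcyc : IsCyclic C := isCyclic_of_surjective ψ.rangeRestrict ψ.rangeRestrict_surjective
  have hCcard : Nat.card C = Fintype.card F ^ n - 1 := by
    rw [← Nat.card_congr (MonoidHom.ofInjective hψ).toEquiv, Nat.card_units,
      Nat.card_eq_fintype_card, hK]
  -- a Sylow subgroup inside `C`
  obtain ⟨Q⟩ : Nonempty (Sylow p C) := inferInstance
  have hQcard : Nat.card Q = p ^ (Nat.card C).factorization p := Sylow.card_eq_multiplicity Q
  let Q' : Subgroup (GL (Fin n) F) := (Q : Subgroup C).map C.subtype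
  have hQ'card : Nat.card Q' = p ^ (Nat.card (GL (Fin n) F)).factorization p := by
    rw [hfac, ← hCcard, ← hQcard]
    exact Subgroup.card_map_of_injective C.subtype_injective
  let S : Sylow p (GL (Fin n) F) := Sylow.ofCard Q' hQ'card
  have hSC : ∀ x ∈ S, x ∈ C := by
    intro x hx
    have hx' : x ∈ Q' := hx
    obtain ⟨z, _, rfl⟩ := Subgroup.mem_map.1 hx'
    exact z.2
  -- conjugate `y` into it
  have hyp : IsPGroup p (Subgroup.zpowers y) := by
    apply IsPGroup.of_card (n := 1)
    rw [Nat.card_zpowers, hy, pow_one]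
  obtain ⟨S', hS'⟩ := hyp.exists_le_sylow
  obtain ⟨g, hg⟩ := MulAction.exists_smul_eq (GL (Fin n) F) S S'
  have hyS : g⁻¹ * y * g ∈ S := by
    have h1 : y ∈ S' := hS' (Subgroup.mem_zpowers y)
    rw [← hg, Sylow.smul_def] at h1
    have h2 : y ∈ ((MulAut.conj g • S : Sylow p (GL (Fin n) F)) : Subgroup (GL (Fin n) F)) := h1
    rw [Sylow.pointwise_smul_def, Subgroup.mem_pointwise_smul_iff_inv_smul_mem] at h2
    have : (MulAut.conj g)⁻¹ • y = g⁻¹ * y * g := by
      rw [← map_inv, MulAut.smul_def, MulAut.conj_apply, inv_inv]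
    rw [this] at h2
    exact h2
  obtain ⟨ζ, hζ⟩ : ∃ ζ : Kˣ, ψ ζ = g⁻¹ * y * g := hSC _ hyS
  have hordζ : orderOf ζ = p := by
    rw [← orderOf_injective ψ hψ ζ, hζ, ← hy]
    have : g⁻¹ * y * g = MulAut.conj g⁻¹ y := by
      rw [MulAut.conj_apply, inv_inv]
    rw [this]
    exact orderOf_injective (MulAut.conj g⁻¹).toMonoidHom (MulAut.conj g⁻¹).injective y
  have hadj : Algebra.adjoin F {(ζ : K)} = ⊤ :=
    adjoin_eq_top_of_orderOf p (by rw [hrank]; exact hp) ζ hordζ
  have hval : ((g⁻¹ * y * g : GL (Fin n) F) : Matrix (Fin n) (Fin n) F)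
      = Algebra.leftMulMatrix b (ζ : K) := by
    rw [← hζ]
    rfl
  have key : ∀ c : GL (Fin n) F, c * y = y * c →
      ((g⁻¹ * c * g : GL (Fin n) F) : Matrix (Fin n) (Fin n) F) * Algebra.leftMulMatrix b (ζ : K)
        = Algebra.leftMulMatrix b (ζ : K) * ((g⁻¹ * c * g : GL (Fin n) F) : Matrix (Fin n) (Fin n) F) := by
    intro c hc
    rw [← hval, ← Units.val_mul, ← Units.val_mul]
    congr 1
    calc g⁻¹ * c * g * (g⁻¹ * y * g) = g⁻¹ * (c * y) * g := by group
      _ = g⁻¹ * (y * c) * g := by rw [hc]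
      _ = g⁻¹ * y * g * (g⁻¹ * c * g) := by group
  have hcomm := commute_of_commute_leftMulMatrix b (ζ : K) hadj _ _ (key c₁ h₁) (key c₂ h₂)
  have h3 : (g⁻¹ * c₁ * g) * (g⁻¹ * c₂ * g) = (g⁻¹ * c₂ * g) * (g⁻¹ * c₁ * g) := by
    apply Units.ext
    rw [Units.val_mul, Units.val_mul]
    exact hcomm
  calc c₁ * c₂ = g * ((g⁻¹ * c₁ * g) * (g⁻¹ * c₂ * g)) * g⁻¹ := by group
    _ = g * ((g⁻¹ * c₂ * g) * (g⁻¹ * c₁ * g)) * g⁻¹ := by rw [h3]
    _ = c₂ * c₁ := by group

end Cfsg.Agent.Lib.Helper3.Singer

namespace Cfsg.Agent.Lib.Helper3.Singer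

open scoped Pointwise

/-- an element of prime order `p` is conjugate into any subgroup containing the full `p`-part of the
order of the group -/
theorem exists_conj_mem {G : Type*} [Group G] [Finite G] (p : ℕ) [Fact p.Prime] (C : Subgroup G)
    (h : (Nat.card C).factorization p = (Nat.card G).factorization p) (y : G)
    (hy : orderOf y = p) : ∃ g : G, g⁻¹ * y * g ∈ C := by
  obtain ⟨Q⟩ : Nonempty (Sylow p C) := inferInstance
  have hQcard : Nat.card Q = p ^ (Nat.card C).factorization p := Sylow.card_eq_multiplicity Q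
  let Q' : Subgroup G := (Q : Subgroup C).map C.subtype
  have hQ'card : Nat.card Q' = p ^ (Nat.card G).factorization p := by
    rw [← h, ← hQcard]
    exact Subgroup.card_map_of_injective C.subtype_injective
  let S : Sylow p G := Sylow.ofCard Q' hQ'card
  have hSC : ∀ x ∈ S, x ∈ C := by
    intro x hx
    have hx' : x ∈ Q' := hx
    obtain ⟨z, _, rfl⟩ := Subgroup.mem_map.1 hx'
    exact z.2
  have hyp : IsPGroup p (Subgroup.zpowers y) := by
    apply IsPGroup.of_card (n := 1)
    rw [Nat.card_zpowers, hy, pow_one]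
  obtain ⟨S', hS'⟩ := hyp.exists_le_sylow
  obtain ⟨g, hg⟩ := MulAction.exists_smul_eq G S S'
  refine ⟨g, hSC _ ?_⟩
  have h1 : y ∈ S' := hS' (Subgroup.mem_zpowers y)
  rw [← hg, Sylow.smul_def] at h1
  have h2 : y ∈ ((MulAut.conj g • S : Sylow p G) : Subgroup G) := h1
  rw [Sylow.pointwise_smul_def, Subgroup.mem_pointwise_smul_iff_inv_smul_mem] at h2
  have : (MulAut.conj g)⁻¹ • y = g⁻¹ * y * g := by
    rw [← map_inv, MulAut.smul_def, MulAut.conj_apply, inv_inv]
  rw [this] at h2
  exact h2

end Cfsg.Agent.Lib.Helper3.Singer
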