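import Mathlib
import Cfsg.Agent.Lib.Helper3.SingerCent

set_option autoImplicit false

namespace Cfsg.Agent.Lib.Helper3.Singer

open Module

/-- The centraliser `C` in a linear group `G ≤ GL_n(q)` of an element of prime order `p`, for `p` a
primitive prime divisor of `q ^ n - 1` dividing the order of `GL_n(q)` only as much as it divides
`q ^ n - 1`: it is cyclic, it is the centraliser of each of its elements of primitive prime order,
and its index in its normaliser is at most `n`. -/
theorem torus_structure {F : Type*} [Field F] [Fintype F] (n : ℕ) (hn : n ≠ 0)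
    {G : Type*} [Group G] [Finite G] (f : G →* GL (Fin n) F) (hf : Function.Injective f)
    (p : ℕ) [Fact p.Prime]
    (hfac : (Nat.card (GL (Fin n) F)).factorization p = (Fintype.card F ^ n - 1).factorization p)
    (hp : ∀ d, d ∣ n → d < n → ¬ p ∣ Fintype.card F ^ d - 1)
    (y : G) (hy : orderOf y = p) :
    IsCyclic (Subgroup.centralizer ({y} : Set G)) ∧
    (∀ (p' : ℕ) (u : G), p'.Prime → (∀ d, d ∣ n → d < n → ¬ p' ∣ Fintype.card F ^ d - 1) →
       u ∈ Subgroup.centralizer ({y} : Set G) → orderOf u = p' →
       Subgroup.centralizer ({u} : Set G) = Subgroup.centralizer ({y} : Set G)) ∧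
    Nat.card (Subgroup.normalizer ((Subgroup.centralizer ({y} : Set G) : Subgroup G) : Set G))
      ≤ n * Nat.card (Subgroup.centralizer ({y} : Set G)) := by
  classical
  have hpp : p.Prime := Fact.out
  have : NeZero n := ⟨hn⟩
  have hfinGL : Finite (GL (Fin n) F) := Finite.of_injective (fun A => A.1) Units.val_injective
  obtain ⟨p₀, _, k, hp₀, hk⟩ := FiniteField.card' F
  have : Fact p₀.Prime := ⟨hp₀⟩
  have hkn : (k : ℕ) * n ≠ 0 := Nat.mul_ne_zero k.ne_zero hn
  let K := GaloisField p₀ ((k : ℕ) * n)
  let _ : Fintype K := Fintype.ofFinite K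
  have hK : Fintype.card K = Fintype.card F ^ n := by
    rw [← Nat.card_eq_fintype_card, GaloisField.card p₀ _ hkn, hk, ← pow_mul]
  obtain ⟨ι⟩ := Cfsg.Agent.Lib.Helper16.exists_ringHom_of_card_pow (F := F) (K := K) hn rfl hK
  let _ : Algebra F K := ι.toAlgebra
  have hrank : finrank F K = n := by
    have h1 : Fintype.card K = Fintype.card F ^ finrank F K := Module.card_eq_pow_finrank
    rw [hK] at h1
    exact (Nat.pow_right_injective Fintype.one_lt_card h1).symm
  let b : Basis (Fin n) F K := Module.finBasisOfFinrankEq F K hrank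
  let φ : K →ₐ[F] Matrix (Fin n) (Fin n) F := Algebra.leftMulMatrix b
  have hφ : Function.Injective φ := Algebra.leftMulMatrix_injective b
  let ψ : Kˣ →* GL (Fin n) F := Units.map φ.toMonoidHom
  have hψ : Function.Injective ψ := Units.map_injective hφ
  let C : Subgroup (GL (Fin n) F) := ψ.range
  have hCcyc : IsCyclic C := isCyclic_of_surjective ψ.rangeRestrict ψ.rangeRestrict_surjective
  have hCcard : Nat.card C = Fintype.card F ^ n - 1 := by
    rw [← Nat.card_congr (MonoidHom.ofInjective hψ).toEquiv, Nat.card_units,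
      Nat.card_eq_fintype_card, hK]
  have hfy : orderOf (f y) = p := by rw [orderOf_injective f hf, hy]
  obtain ⟨g, ζ, hζ⟩ := exists_conj_mem p C (by rw [hCcard, hfac]) (f y) hfy
  have hordζ : orderOf ζ = p := by
    rw [← orderOf_injective ψ hψ ζ, hζ, ← hfy]
    have : g⁻¹ * f y * g = MulAut.conj g⁻¹ (f y) := by
      rw [MulAut.conj_apply, inv_inv]
    rw [this]
    exact orderOf_injective (MulAut.conj g⁻¹).toMonoidHom (MulAut.conj g⁻¹).injective _
  have hadj : Algebra.adjoin F {(ζ : K)} = ⊤ :=
    adjoin_eq_top_of_orderOf p (by rw [hrank]; exact hp) ζ hordζ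
  -- the conjugated embedding
  let κ : G →* GL (Fin n) F := (MulAut.conj g⁻¹).toMonoidHom.comp f
  have hκ : Function.Injective κ := (MulAut.conj g⁻¹).injective.comp hf
  have hκ_apply : ∀ c : G, κ c = g⁻¹ * f c * g := by
    intro c
    show MulAut.conj g⁻¹ (f c) = _
    rw [MulAut.conj_apply, inv_inv]
  have hκy : κ y = ψ ζ := by rw [hκ_apply, hζ]
  -- elements of the image commuting with a generator lie in the cyclic group
  have key : ∀ (a : Kˣ), Algebra.adjoin F {(a : K)} = ⊤ → ∀ c : G, c * y = y * c ∨ True →
      κ c * ψ a = ψ a * κ c → ∃ a' : Kˣ, κ c = ψ a' := by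
    intro a ha c _ hc
    have hc' : ((κ c : GL (Fin n) F) : Matrix (Fin n) (Fin n) F) * Algebra.leftMulMatrix b (a : K)
        = Algebra.leftMulMatrix b (a : K) * ((κ c : GL (Fin n) F) : Matrix (Fin n) (Fin n) F) := by
      have := congrArg Units.val hc
      exact this
    obtain ⟨a', ha'⟩ := exists_eq_leftMulMatrix b (a : K) ha _ hc'
    have ha'0 : a' ≠ 0 := by
      intro h0
      rw [h0, map_zero] at ha'
      exact (κ c).ne_zero ha'
    refine ⟨Units.mk0 a' ha'0, ?_⟩
    apply Units.ext
    rw [ha']
    rfl
  have hcent : ∀ c : G, c ∈ Subgroup.centralizer ({y} : Set G) ↔ ∃ a' : Kˣ, κ c = ψ a' := by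
    intro c
    rw [Subgroup.mem_centralizer_singleton_iff]
    constructor
    · intro hc
      apply key ζ hadj c (Or.inr trivial)
      rw [← hκy, ← map_mul, ← map_mul, hc]
    · rintro ⟨a', ha'⟩
      apply hκ
      rw [map_mul, map_mul, ha', hκy, ← map_mul, ← map_mul, mul_comm a' ζ]
  refine ⟨?_, ?_, ?_⟩
  · -- cyclic
    let κ' : Subgroup.centralizer ({y} : Set G) →* C :=
      (κ.comp (Subgroup.centralizer ({y} : Set G)).subtype).codRestrict C (by
        intro c
        obtain ⟨a', ha'⟩ := (hcent c.1).1 c.2
        exact ⟨a', ha'.symm⟩)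
    have hκ' : Function.Injective κ' := by
      intro c c' hcc
      have : κ c.1 = κ c'.1 := congrArg Subtype.val hcc
      exact Subtype.ext (hκ this)
    exact isCyclic_of_injective κ' hκ'
  · -- the centralisers of the elements of primitive prime order
    intro p' u hp' hprim hu hordu
    obtain ⟨a, ha⟩ := (hcent u).1 hu
    have horda : orderOf a = p' := by
      rw [← orderOf_injective ψ hψ a, ← ha, orderOf_injective κ hκ, hordu]
    have : Fact p'.Prime := ⟨hp'⟩
    have hadj' : Algebra.adjoin F {(a : K)} = ⊤ :=
      adjoin_eq_top_of_orderOf p' (by rw [hrank]; exact hprim) a horda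
    ext c
    constructor
    · intro hc
      rw [Subgroup.mem_centralizer_singleton_iff] at hc
      rw [hcent]
      apply key a hadj' c (Or.inr trivial)
      rw [← ha, ← map_mul, ← map_mul, hc]
    · intro hc
      obtain ⟨a', ha'⟩ := (hcent c).1 hc
      rw [Subgroup.mem_centralizer_singleton_iff]
      apply hκ
      rw [map_mul, map_mul, ha', ha, ← map_mul, ← map_mul, mul_comm a' a]
  · -- the normaliser
    set T : Subgroup G := Subgroup.centralizer ({y} : Set G) with hT
    set N : Subgroup G := Subgroup.normalizer (T : Set G) with hN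
    have hyT : y ∈ T := by rw [hT, Subgroup.mem_centralizer_singleton_iff]
    have hTN : T ≤ N := Subgroup.le_normalizer
    let _ : Fintype G := Fintype.ofFinite G
    let sN : Finset G := Finset.univ.filter (fun x => x ∈ N)
    let sT : Finset G := Finset.univ.filter (fun x => x ∈ T)
    have hsN : Nat.card N = sN.card := by
      rw [Nat.card_eq_fintype_card, Fintype.card_subtype]
    have hsT : Nat.card T = sT.card := by
      rw [Nat.card_eq_fintype_card, Fintype.card_subtype]
    rw [hsN, hsT]
    -- the roots of the minimal polynomial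
    let P := minpoly F (ζ : K)
    have hP0 : P ≠ 0 := minpoly.ne_zero (IsIntegral.of_finite F (ζ : K))
    let R : Finset (Matrix (Fin n) (Fin n) F) := ((P.aroots K).toFinset).image φ
    have hRcard : R.card ≤ n := by
      calc R.card ≤ (P.aroots K).toFinset.card := Finset.card_image_le
        _ ≤ Multiset.card (P.aroots K) := Multiset.toFinset_card_le _
        _ ≤ (P.map (algebraMap F K)).natDegree := Polynomial.card_roots' _
        _ = P.natDegree := Polynomial.natDegree_map _
        _ ≤ finrank F K := minpoly.natDegree_le (ζ : K)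
        _ = n := hrank
    let Φ : G → Matrix (Fin n) (Fin n) F := fun x => ((κ (x * y * x⁻¹) : GL (Fin n) F) : Matrix (Fin n) (Fin n) F)
    have hmaps : ∀ x ∈ sN, Φ x ∈ R := by
      intro x hx
      have hxN : x ∈ N := (Finset.mem_filter.1 hx).2
      have hxy : x * y * x⁻¹ ∈ T := (Subgroup.mem_normalizer_iff.1 hxN y).1 hyT
      obtain ⟨a', ha'⟩ := (hcent _).1 hxy
      rw [Finset.mem_image]
      refine ⟨(a' : K), ?_, ?_⟩
      · rw [Multiset.mem_toFinset, Polynomial.mem_aroots]
        refine ⟨hP0, ?_⟩
        apply hφ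
        rw [map_zero, ← Polynomial.aeval_algHom_apply]
        have h1 : φ (a' : K) = (κ x : GL (Fin n) F).1 * φ (ζ : K) * (κ x : GL (Fin n) F)⁻¹.1 := by
          have h2 : κ (x * y * x⁻¹) = κ x * ψ ζ * (κ x)⁻¹ := by
            rw [map_mul, map_mul, map_inv, hκy]
          rw [ha'] at h2
          have := congrArg Units.val h2
          exact this
        rw [h1]
        have h3 : ∀ Q : Polynomial F, Polynomial.aeval ((κ x : GL (Fin n) F).1 * φ (ζ : K) * (κ x : GL (Fin n) F)⁻¹.1) Q
            = (κ x : GL (Fin n) F).1 * Polynomial.aeval (φ (ζ : K)) Q * (κ x : GL (Fin n) F)⁻¹.1 := by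
          intro Q
          induction Q using Polynomial.induction_on' with
          | add Q₁ Q₂ h₁ h₂ => rw [map_add, map_add, h₁, h₂, mul_add, add_mul]
          | monomial j r =>
            rw [Polynomial.aeval_monomial, Polynomial.aeval_monomial]
            have hpow : ∀ j : ℕ, ((κ x : GL (Fin n) F).1 * φ (ζ : K) * (κ x : GL (Fin n) F)⁻¹.1) ^ j
                = (κ x : GL (Fin n) F).1 * φ (ζ : K) ^ j * (κ x : GL (Fin n) F)⁻¹.1 := by
              intro j
              induction j with
              | zero => simp
              | succ j ih =>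
                rw [pow_succ, ih, pow_succ]
                simp only [mul_assoc]
                congr 2
                rw [← mul_assoc ((κ x : GL (Fin n) F)⁻¹.1), Units.inv_mul, one_mul]
            rw [hpow, Algebra.algebraMap_eq_smul_one]
            simp only [Matrix.smul_mul, Matrix.mul_smul, one_mul, Matrix.smul_mul, mul_assoc]
        rw [h3, Polynomial.aeval_algHom_apply, minpoly.aeval, map_zero, mul_zero, zero_mul]
      · show φ (a' : K) = Φ x
        show φ (a' : K) = ((κ (x * y * x⁻¹) : GL (Fin n) F) : Matrix (Fin n) (Fin n) F)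
        rw [ha']
        rfl
    have hfib : ∀ M ∈ R, (sN.filter (fun x => Φ x = M)).card ≤ sT.card := by
      intro M _
      by_cases hne : (sN.filter (fun x => Φ x = M)).Nonempty
      · obtain ⟨x₀, hx₀⟩ := hne
        have hx₀' := (Finset.mem_filter.1 hx₀).2
        apply Finset.card_le_card_of_injOn (fun x => x₀⁻¹ * x)
        · intro x hx
          have hx' := (Finset.mem_filter.1 hx).2
          have heq : κ (x * y * x⁻¹) = κ (x₀ * y * x₀⁻¹) := by
            apply Units.ext
            exact hx'.trans hx₀'.symm
          have heq' := hκ heq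
          rw [Finset.mem_coe, Finset.mem_filter]
          refine ⟨Finset.mem_univ _, ?_⟩
          show x₀⁻¹ * x ∈ Subgroup.centralizer ({y} : Set G)
          rw [Subgroup.mem_centralizer_singleton_iff]
          calc x₀⁻¹ * x * y = x₀⁻¹ * (x * y * x⁻¹) * x := by group
            _ = x₀⁻¹ * (x₀ * y * x₀⁻¹) * x := by rw [heq']
            _ = y * (x₀⁻¹ * x) := by group
        · intro x _ x' _ hxx
          exact mul_left_cancel hxx
      · rw [Finset.not_nonempty_iff_eq_empty] at hne
        rw [hne, Finset.card_empty]
        exact Nat.zero_le _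
    calc sN.card ≤ sT.card * R.card := Finset.card_le_mul_card_image_of_maps_to hmaps _ hfib
      _ ≤ sT.card * n := Nat.mul_le_mul_left _ hRcard
      _ = n * sT.card := mul_comm _ _

end Cfsg.Agent.Lib.Helper3.Singer
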