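import Mathlib
import Cfsg.Agent.Lib.Helper3.SpTDefs
import Cfsg.Agent.Lib.Helper13.OrthMax
import Cfsg.Agent.Lib.Helper18.S5704FOBRIDGE

/-!
# S5704: BRIDGE from the frozen statement to coordinates (independent of the other layers).
-/

set_option autoImplicit false

namespace Cfsg.Agent.Lib.Helper3.SpT

open Matrix Module
open scoped Kronecker

/-! ## FO-BRIDGE -/

/-- the frozen statement follows from the coordinate version (`J1 := c • gramMatrix f₁`, `J2 := gramMatrix f₂`,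
`Q' v := Q (P *ᵥ (v ∘ e))`; the dimensions `n₁, n₂` are even since the forms are symplectic; `n = n₁ n₂ ≥ 13`) -/
theorem bridge {F : Type*} [Field F] [Fintype F] {n : ℕ} (hn : 13 ≤ n) (Q : (Fin n → F) → F)
    (hQ : Cfsg.Geo.IsNondegenerateQuadraticForm Q) (n₁ n₂ : ℕ) (h12 : n₁ < n₂)
    (e : (Fin n) ≃ Fin n₁ × Fin n₂) (P : Matrix.GeneralLinearGroup (Fin n) F)
    (f₁ : (Fin n₁ → F) → (Fin n₁ → F) → F) (f₂ : (Fin n₂ → F) → (Fin n₂ → F) → F)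
    (hf₁ : Cfsg.Geo.IsSymplecticForm f₁) (hf₂ : Cfsg.Geo.IsSymplecticForm f₂)
    (hT : Cfsg.Geo.IsTensorFormStructure id (QuadraticMap.polar Q) f₁ f₂ e P)
    (hpure : ∀ (x₁ : Fin n₁ → F) (x₂ : Fin n₂ → F),
      Q (Matrix.mulVec (P : Matrix (Fin n) (Fin n) F) ((fun a : Fin n₁ × Fin n₂ => x₁ a.1 * x₂ a.2) ∘ e)) = 0)
    (hmain : ∀ (J1 : Matrix (Fin n₁) (Fin n₁) F) (J2 : Matrix (Fin n₂) (Fin n₂) F)
      (Q' : QuadraticForm F (Fin n₁ × Fin n₂ → F)), Setup J1 J2 Q' → 2 ≤ n₁ → n₁ + 2 ≤ n₂ → 6 ≤ n₂ →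
      Cfsg.Geo.IsMaximalIn (Cfsg.Geo.omegaGL (⇑Q'))
        (Cfsg.Geo.kroneckerSubgroup n₁ n₂ F ⊓ Cfsg.Geo.omegaGL (⇑Q'))) :
    Cfsg.Geo.IsMaximalIn (Cfsg.Geo.omegaGL Q) (Cfsg.Geo.tensorProductSubgroup n₁ n₂ e P ⊓ Cfsg.Geo.omegaGL Q) := by
  exact Cfsg.Agent.Lib.Helper18.S5704BRIDGE.bridge hn Q hQ n₁ n₂ h12 e P f₁ f₂ hf₁ hf₂ hT hpure hmain

end Cfsg.Agent.Lib.Helper3.SpT
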