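import Mathlib
import Cfsg.Agent.Lib.Helper3.SpTDefs
import Cfsg.Agent.Lib.Helper3.SpTL1
import Cfsg.Agent.Lib.Helper3.SpTL2
import Cfsg.Agent.Lib.Helper3.SpTL3
import Cfsg.Agent.Lib.Helper3.SpTL3T
import Cfsg.Agent.Lib.Helper13.OrthParab
import Cfsg.Agent.H5.S5704FOT1
import Cfsg.Agent.Lib.Helper1.S5704FOT4
import Cfsg.Agent.Lib.Helper20.S5704FOT3A
import Cfsg.Agent.H5.S5704FOSTRUCT
import Cfsg.Agent.Lib.Helper7.S5704FORADOM
import Cfsg.Agent.Lib.Helper21.S5704FODECOMP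

/-!
# S5704, layer 4: RADOM, T1, STRUCT, DECOMP, T3A, T4.
-/

set_option autoImplicit false

namespace Cfsg.Agent.Lib.Helper3.SpT

open Matrix Module QuadraticMap
open scoped Kronecker commutatorElement
open Cfsg.Agent.Lib.Helper16.Tens
open Cfsg.Agent.Lib.Helper23.S5637T3b (kronGL)

variable {F : Type*} [Field F] {a b : ℕ} {J1 : Matrix (Fin a) (Fin a) F} {J2 : Matrix (Fin b) (Fin b) F}
  {Q : QuadraticForm F (Fin a × Fin b → F)}

/-! ## FO-RADOM -/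

/-- the unipotent radical of the stabiliser of `U ⊗ k` lies in `Ω`: `z = (∏ gE C_j k w_j) * zA α k` -/
theorem rad_mem_Om [Fintype F] (hS : Setup J1 J2 Q) (hb : 6 ≤ b) (k : Fin b → F) (hk : k ≠ 0)
    (z : GL (Fin a × Fin b) F) (hz : z ∈ Cfsg.isometryGroup F (⇑Q)) (hr : InRad J2 k z) :
    z ∈ Cfsg.Geo.omegaGL (⇑Q) := by
  exact Cfsg.Agent.Lib.Helper7.S5704RADOM.rad_mem_Om hS hb k hk z hz hr

/-! ## FO-T1 -/

/-- **T1** (max-intersection argument): if every element of `M` stabilising the standard subspace `U ⊗ w0` lies in `N0`,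
then `M ≤ N0`. -/
theorem T1 [Fintype F] (hS : Setup J1 J2 Q) (ha : 1 ≤ a) (hab : a + 2 ≤ b) (hb : 6 ≤ b)
    (M : Subgroup (GL (Fin a × Fin b) F)) (hM : Over Q M) (w0 : Fin b → F) (hw0 : w0 ≠ 0)
    (hA : ∀ m ∈ M, img m (Lk w0) = Lk w0 → m ∈ Cfsg.Geo.kroneckerSubgroup a b F) :
    M ≤ Cfsg.Geo.kroneckerSubgroup a b F := by
  exact Cfsg.H5.S5704T1.T1 hS ha hab hb M hM w0 hw0 hA

/-! ## FO-STRUCT -/

/-- the elements of `N0 ∩ O(Q)` in the radical of `Stab(U ⊗ w0)` -/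
theorem kron_rad_struct (hS : Setup J1 J2 Q) (ha : 1 ≤ a) (w0 w0' : Fin b → F) (h00' : bf J2 w0 w0' = 1)
    (n : GL (Fin a × Fin b) F) (hn : n ∈ Cfsg.Geo.kroneckerSubgroup a b F)
    (hni : n ∈ Cfsg.isometryGroup F (⇑Q)) (hr : InRad J2 w0 n) :
    ∃ (w'' : Fin b → F) (c : F) (h : bf J2 w0 w'' = 0), bf J2 w0' w'' = 0 ∧
      n = gE J1 J2 hS.h2 1 w0 w'' h * rootW J2 hS.h2 w0 c := by
  exact Cfsg.H5.S5704STRUCT.kron_rad_struct hS ha w0 w0' h00' n hn hni hr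

/-! ## FO-DECOMP -/

/-- an isometry stabilising `U ⊗ w0` and conjugating the root elements of `N0` in the radical into `N0` is the product of an
element of `N0 ∩ O(Q)` and an element of the radical -/
theorem decomp (hS : Setup J1 J2 Q) (ha : 2 ≤ a) (hb : 6 ≤ b) (w0 : Fin b → F) (hw0 : w0 ≠ 0)
    (m : GL (Fin a × Fin b) F) (hm : m ∈ Cfsg.isometryGroup F (⇑Q)) (hst : img m (Lk w0) = Lk w0)
    (h1 : m * rootW J2 hS.h2 w0 1 * m⁻¹ ∈ Cfsg.Geo.kroneckerSubgroup a b F)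
    (h2 : ∀ (w : Fin b → F) (h : bf J2 w0 w = 0),
      m * gE J1 J2 hS.h2 1 w0 w h * m⁻¹ ∈ Cfsg.Geo.kroneckerSubgroup a b F) :
    ∃ h : GL (Fin a × Fin b) F, h ∈ Cfsg.Geo.kroneckerSubgroup a b F ∧ h ∈ Cfsg.isometryGroup F (⇑Q) ∧
      InRad J2 w0 (h⁻¹ * m) := by
  exact Cfsg.Agent.Lib.Helper21.S5704DECOMP.decomp hS ha hb w0 hw0 m hm hst h1 h2

/-! ## FO-T3A -/

/-- a radical element of `M` outside `N0` yields a short root element `gE C w w'` in `M` with `C` non-scalar -/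
theorem T3A [Fintype F] (hS : Setup J1 J2 Q) (ha : 2 ≤ a) (hb : 6 ≤ b)
    (M : Subgroup (GL (Fin a × Fin b) F)) (hM : Over Q M) (w0 : Fin b → F) (hw0 : w0 ≠ 0)
    (z : GL (Fin a × Fin b) F) (hz : z ∈ M) (hzN : z ∉ Cfsg.Geo.kroneckerSubgroup a b F) (hr : InRad J2 w0 z) :
    ∃ (C : Matrix (Fin a) (Fin a) F) (w w' : Fin b → F) (h : bf J2 w w' = 0), ¬ IsScal C ∧
      LinearIndependent F ![w, w'] ∧ gE J1 J2 hS.h2 C w w' h ∈ M := by
  exact Cfsg.Agent.Lib.Helper20.S5704T3A.T3A hS ha hb M hM w0 hw0 z hz hzN hr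

/-! ## FO-T4 -/

/-- if `M ≥ N0 ⊓ Ω` contains all short root elements then `M ≥ Ω` -/
theorem T4 [Fintype F] (hS : Setup J1 J2 Q) (ha : 2 ≤ a) (hb : 6 ≤ b)
    (M : Subgroup (GL (Fin a × Fin b) F)) (hM : Over Q M)
    (hall : ∀ (C : Matrix (Fin a) (Fin a) F) (w w' : Fin b → F) (h : bf J2 w w' = 0),
      LinearIndependent F ![w, w'] → gE J1 J2 hS.h2 C w w' h ∈ M) :
    Cfsg.Geo.omegaGL (⇑Q) ≤ M := by
  exact Cfsg.Agent.Lib.Helper1.S5704T4.T4 hS ha hb M hM hall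

end Cfsg.Agent.Lib.Helper3.SpT
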