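import Mathlib
import Cfsg.Agent.Lib.Helper3.SpTDefs
import Cfsg.Agent.Lib.Helper3.SpTL1
import Cfsg.Agent.Lib.Helper3.SpTL2
import Cfsg.Agent.Lib.Helper3.SpTL3
import Cfsg.Agent.Lib.Helper3.SpTL4

/-!
# S5704, layer 5: T2, T3 (assembly), the main dichotomy in coordinates.
-/

set_option autoImplicit false

namespace Cfsg.Agent.Lib.Helper3.SpT

open Matrix Module QuadraticMap
open scoped Kronecker commutatorElement
open Cfsg.Agent.Lib.Helper16.Tens
open Cfsg.Agent.Lib.Helper23.S5637T3b (kronGL kronGL_mem_kron)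

variable {F : Type*} [Field F] {a b : ℕ} {J1 : Matrix (Fin a) (Fin a) F} {J2 : Matrix (Fin b) (Fin b) F}
  {Q : QuadraticForm F (Fin a × Fin b → F)}

theorem gE_one_mem [Fintype F] (hS : Setup J1 J2 Q) (hb : 6 ≤ b) (M : Subgroup (GL (Fin a × Fin b) F))
    (hM : Over Q M) (c : F) (w w' : Fin b → F) (h : bf J2 w w' = 0) :
    gE J1 J2 hS.h2 (c • (1 : Matrix (Fin a) (Fin a) F)) w w' h ∈ M :=
  hM.kron_mem _ (gE_smul_one_mem_kron hS.h1 hS.h2 c w w' h) (gE_mem_Om hS hb _ w w' h)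

/-- **T2** -/
theorem T2 [Fintype F] (hS : Setup J1 J2 Q) (ha : 2 ≤ a) (hb : 6 ≤ b)
    (M : Subgroup (GL (Fin a × Fin b) F)) (hM : Over Q M) (w0 : Fin b → F) (hw0 : w0 ≠ 0)
    (m : GL (Fin a × Fin b) F) (hm : m ∈ M) (hmN : m ∉ Cfsg.Geo.kroneckerSubgroup a b F)
    (hst : img m (Lk w0) = Lk w0) :
    ∃ z ∈ M, z ∉ Cfsg.Geo.kroneckerSubgroup a b F ∧ InRad J2 w0 z := by
  have hmi : m ∈ Cfsg.isometryGroup F (⇑Q) := Om_le_iso (hM.le_Om hm)
  by_cases h1 : m * rootW J2 hS.h2 w0 1 * m⁻¹ ∈ Cfsg.Geo.kroneckerSubgroup a b F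
  · by_cases h2 : ∀ (w : Fin b → F) (h : bf J2 w0 w = 0),
        m * gE J1 J2 hS.h2 1 w0 w h * m⁻¹ ∈ Cfsg.Geo.kroneckerSubgroup a b F
    · obtain ⟨h, hhN, hhi, hrad⟩ := decomp hS ha hb w0 hw0 m hmi hst h1 h2
      have hzi : h⁻¹ * m ∈ Cfsg.isometryGroup F (⇑Q) :=
        (Cfsg.isometryGroup F (⇑Q)).mul_mem ((Cfsg.isometryGroup F (⇑Q)).inv_mem hhi) hmi
      have hzO : h⁻¹ * m ∈ Cfsg.Geo.omegaGL (⇑Q) := rad_mem_Om hS hb w0 hw0 _ hzi hrad
      have hhO : h ∈ Cfsg.Geo.omegaGL (⇑Q) := by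
        have := (Cfsg.Geo.omegaGL (⇑Q)).mul_mem (hM.le_Om hm) ((Cfsg.Geo.omegaGL (⇑Q)).inv_mem hzO)
        have e : m * (h⁻¹ * m)⁻¹ = h := by group
        rwa [e] at this
      have hhM : h ∈ M := hM.kron_mem h hhN hhO
      refine ⟨h⁻¹ * m, M.mul_mem (M.inv_mem hhM) hm, ?_, hrad⟩
      intro hz
      apply hmN
      have := (Cfsg.Geo.kroneckerSubgroup a b F).mul_mem hhN hz
      rwa [mul_inv_cancel_left] at this
    · push Not at h2
      obtain ⟨w, h, hw⟩ := h2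
      have hy : gE J1 J2 hS.h2 1 w0 w h ∈ M := by
        have := gE_one_mem hS hb M hM 1 w0 w h
        rwa [one_smul] at this
      exact ⟨_, M.mul_mem (M.mul_mem hm hy) (M.inv_mem hm), hw,
        hS.inRad_conj m hmi w0 hst _ (inRad_gE hS.h2 1 w0 w h)⟩
  · have hy : rootW (a := a) J2 hS.h2 w0 1 ∈ M :=
      hM.kron_mem _ (rootW_mem_kron hS.h2 w0 1) (rootW_mem_Om hS hb w0 1)
    exact ⟨_, M.mul_mem (M.mul_mem hm hy) (M.inv_mem hm), h1,
      hS.inRad_conj m hmi w0 hst _ (inRad_zA hS.h2 _ w0)⟩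

/-- **T3** (assembly): one short root element with non-scalar `C` in `M` yields all of them -/
theorem all_gE_of_one [Fintype F] (hS : Setup J1 J2 Q) (ha : 2 ≤ a) (hb : 6 ≤ b)
    (hex : ¬ (Fintype.card F = 2 ∧ a = 2))
    (M : Subgroup (GL (Fin a × Fin b) F)) (hM : Over Q M)
    (C0 : Matrix (Fin a) (Fin a) F) (y0 y0' : Fin b → F) (h0 : bf J2 y0 y0' = 0) (hns : ¬ IsScal C0)
    (hli0 : LinearIndependent F ![y0, y0']) (hmem0 : gE J1 J2 hS.h2 C0 y0 y0' h0 ∈ M) :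
    ∀ (C : Matrix (Fin a) (Fin a) F) (w w' : Fin b → F) (h : bf J2 w w' = 0),
      LinearIndependent F ![w, w'] → gE J1 J2 hS.h2 C w w' h ∈ M := by
  set R : Set (Matrix (Fin a) (Fin a) F) := {C | ∀ (w w' : Fin b → F) (h : bf J2 w w' = 0),
      LinearIndependent F ![w, w'] → gE J1 J2 hS.h2 C w w' h ∈ M} with hR
  have hneg : ∀ C ∈ R, -C ∈ R := by
    intro C hC w w' h hli
    have := M.inv_mem (hC w w' h hli)
    rwa [gE_inv] at this
  have key := ring_gen hS.h1 ha hex R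
    (fun c w w' h _ => gE_one_mem hS hb M hM c w w' h)
    (fun C hC C' hC' w w' h hli => by
      have := M.mul_mem (hC w w' h hli) (hC' w w' h hli)
      rwa [gE_mul] at this)
    (fun C hC C' hC' w0 w2 h02 hli => by
      obtain ⟨w1, w1', h01, h1'2, h11', h01', h12⟩ := exists_aux_pair hS.h2 hb w0 w2
      have hw0 : w0 ≠ 0 := by
        have := hli.ne_zero 0
        simpa using this
      have hw2 : w2 ≠ 0 := by
        have := hli.ne_zero 1
        simpa using this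
      have hli1 : LinearIndependent F ![w0, w1] :=
        linInd_of_bf hS.h2 w0 w1 w1' h01' (by rw [h11']; exact one_ne_zero) hw0
      have hli2 : LinearIndependent F ![w1', w2] := by
        have h3 : LinearIndependent F ![w2, w1'] :=
          linInd_of_bf hS.h2 w2 w1' w1 (hS.h2.eq_zero_comm h12)
            (by rw [hS.h2.skew, h11']; simp) hw2
        exact (LinearIndependent.pair_symm_iff).mp h3
      have hc := comm1 (J1 := J1) hS.h1 hS.h2 C C' w0 w1 w1' w2 h01 h1'2 h02 h11' h01' h12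
      have hm : ⁅gE J1 J2 hS.h2 C w0 w1 h01, gE J1 J2 hS.h2 C' w1' w2 h1'2⁆ ∈ M := by
        rw [commutatorElement_def]
        exact M.mul_mem (M.mul_mem (M.mul_mem (hC _ _ h01 hli1) (hC' _ _ h1'2 hli2))
          (M.inv_mem (hC _ _ h01 hli1))) (M.inv_mem (hC' _ _ h1'2 hli2))
      rw [hc] at hm
      have := M.inv_mem hm
      rwa [gE_inv, neg_neg] at this)
    (fun C hC u c w w' h hli => by
      have hu : rootU (b := b) J1 hS.h1 u c ∈ M :=
        hM.kron_mem _ (rootU_mem_kron hS.h1 u c) (rootU_mem_Om hS ha hb u c)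
      have := M.mul_mem (M.mul_mem hu (hC w w' h hli)) (M.inv_mem hu)
      rwa [conjU_gE] at this)
    C0
    (fun w w' h hli => by
      obtain ⟨β, hβ, hβw, hβw', hβO⟩ := transW2 (a := a) hS hb y0 y0' w w' h0 h hli0 hli
      have hβM : kronGL (1 : GL (Fin a) F) β ∈ M := hM.kron_mem _ (kronGL_mem_kron _ _) hβO
      have := M.mul_mem (M.mul_mem hβM hmem0) (M.inv_mem hβM)
      rw [conjW_gE hS.h2 β hβ] at this
      rwa [gE_congr hS.h2 _ h rfl hβw hβw'] at this)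
    hns
  intro C w w' h hli
  exact key C w w' h hli

/-- the dichotomy in coordinates -/
theorem main_coord [Fintype F] (hS : Setup J1 J2 Q) (ha : 2 ≤ a) (hab : a + 2 ≤ b) (hb : 6 ≤ b)
    (hex : ¬ (Fintype.card F = 2 ∧ a = 2)) :
    Cfsg.Geo.IsMaximalIn (Cfsg.Geo.omegaGL (⇑Q))
      (Cfsg.Geo.kroneckerSubgroup a b F ⊓ Cfsg.Geo.omegaGL (⇑Q)) := by
  refine ⟨kron_inf_Om_lt hS ha hb, ?_⟩
  intro M hHM hMO
  have hM : Over Q M := ⟨hMO, fun g hg hg' => hHM ⟨hg, hg'⟩⟩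
  by_cases hMN : M ≤ Cfsg.Geo.kroneckerSubgroup a b F
  · left
    exact le_antisymm (le_inf hMN hMO) hHM
  · right
    let w0 : Fin b → F := Pi.single ⟨0, by omega⟩ 1
    have hw0 : w0 ≠ 0 := by
      intro h
      have := congrFun h ⟨0, by omega⟩
      simp [w0] at this
    have hA : ¬ ∀ m ∈ M, img m (Lk w0) = Lk w0 → m ∈ Cfsg.Geo.kroneckerSubgroup a b F :=
      fun hA => hMN (T1 hS (by omega) hab hb M hM w0 hw0 hA)
    push Not at hA
    obtain ⟨m, hm, hst, hmN⟩ := hA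
    obtain ⟨z, hz, hzN, hr⟩ := T2 hS ha hb M hM w0 hw0 m hm hmN hst
    obtain ⟨C, w, w', h, hns, hli, hmem⟩ := T3A hS ha hb M hM w0 hw0 z hz hzN hr
    have hall := all_gE_of_one hS ha hb hex M hM C w w' h hns hli hmem
    exact le_antisymm hMO (T4 hS ha hb M hM hall)

end Cfsg.Agent.Lib.Helper3.SpT
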