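import Mathlib
import Cfsg.Agent.Lib.Helper3.SpTDefs
import Cfsg.Agent.Lib.Helper3.SpTL5
import Cfsg.Agent.Lib.Helper3.SpTBr

/-!
# S5704: final assembly.
-/

set_option autoImplicit false

namespace Cfsg.Agent.Lib.Helper3.SpT

open Matrix Module
open scoped Kronecker

/-- the frozen shape of S5704 -/
theorem S5704_final {F : Type*} [Field F] [Fintype F] {n : ℕ} (hn : 13 ≤ n) (Q : (Fin n → F) → F)
    (hQ : Cfsg.Geo.IsNondegenerateQuadraticForm Q) (n₁ n₂ : ℕ) (h12 : n₁ < n₂)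
    (hex : ¬ (Fintype.card F = 2 ∧ n₁ = 2))
    (e : (Fin n) ≃ Fin n₁ × Fin n₂) (P : Matrix.GeneralLinearGroup (Fin n) F)
    (f₁ : (Fin n₁ → F) → (Fin n₁ → F) → F) (f₂ : (Fin n₂ → F) → (Fin n₂ → F) → F)
    (hf₁ : Cfsg.Geo.IsSymplecticForm f₁) (hf₂ : Cfsg.Geo.IsSymplecticForm f₂)
    (hT : Cfsg.Geo.IsTensorFormStructure id (QuadraticMap.polar Q) f₁ f₂ e P)
    (hpure : ∀ (x₁ : Fin n₁ → F) (x₂ : Fin n₂ → F),
      Q (Matrix.mulVec (P : Matrix (Fin n) (Fin n) F) ((fun a : Fin n₁ × Fin n₂ => x₁ a.1 * x₂ a.2) ∘ e)) = 0) :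
    Cfsg.Geo.IsMaximalIn (Cfsg.Geo.omegaGL Q) (Cfsg.Geo.tensorProductSubgroup n₁ n₂ e P ⊓ Cfsg.Geo.omegaGL Q) :=
  bridge hn Q hQ n₁ n₂ h12 e P f₁ f₂ hf₁ hf₂ hT hpure
    (fun _ _ _ hS ha hab hb => main_coord hS ha hab hb hex)

end Cfsg.Agent.Lib.Helper3.SpT
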