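import Mathlib
import Cfsg.Agent.Lib.Helper2.StA4

/-!
# Type-A Steinberg groups: the subgroup `U_k` and the decomposition `U = X_{k,k+1} U_k`
(helper3, FO-B of helper2's S2401 farm-out)
-/

set_option autoImplicit false

namespace Cfsg.Agent.Lib.Helper3.StBruhat

open Cfsg.Agent.Lib.Helper2.StA Cfsg.Agent.Lib.Helper2.StA.StRep

variable {n : ℕ} {K : Type*} [Field K] {G : Type*} [Group G] (S : StRep n K G)

/-- the subgroup generated by the upper root elements other than those of the root `(k, k')` -/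
def Uk (k k' : Fin n) : Subgroup G :=
  Subgroup.closure {g : G | ∃ i j t, i < j ∧ (i ≠ k ∨ j ≠ k') ∧ g = S.x i j t}

theorem x_mem_Uk {k k' i j : Fin n} (hij : i < j) (h : i ≠ k ∨ j ≠ k') (t : K) :
    S.x i j t ∈ Uk S k k' :=
  Subgroup.subset_closure ⟨i, j, t, hij, h, rfl⟩

theorem Uk_le_U (k k' : Fin n) : Uk S k k' ≤ S.U := by
  unfold Uk
  rw [Subgroup.closure_le]
  rintro g ⟨i, j, t, hij, _, rfl⟩
  exact S.x_mem_U hij t

theorem cj_mem_Uk {k k' : Fin n} (a : G)
    (h : ∀ i j t, i < j → (i ≠ k ∨ j ≠ k') → cj a (S.x i j t) ∈ Uk S k k') {g : G}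
    (hg : g ∈ Uk S k k') : cj a g ∈ Uk S k k' := by
  unfold Uk at hg
  induction hg using Subgroup.closure_induction with
  | mem y hy =>
    obtain ⟨i, j, t, hij, hne, rfl⟩ := hy
    exact h i j t hij hne
  | one => rw [cj_one]; exact Subgroup.one_mem _
  | mul y z _ _ hy hz => rw [cj_mul]; exact Subgroup.mul_mem _ hy hz
  | inv y _ hy => rw [cj_inv]; exact Subgroup.inv_mem _ hy

/-- `X_{k,k'}` normalizes `U_k` -/
theorem cj_up_mem {k k' : Fin n} (hk : k'.val = k.val + 1) (u : K) {g : G}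
    (hg : g ∈ Uk S k k') : cj (S.x k k' u) g ∈ Uk S k k' := by
  have hkk' : k ≠ k' := by
    intro h; rw [h] at hk; omega
  apply cj_mem_Uk S _ _ hg
  intro i j t hij hne
  have hij' : i ≠ j := ne_of_lt hij
  have hijv : i.val < j.val := hij
  by_cases h1 : i = k'
  · subst h1
    have hkj : k ≠ j := by
      intro h; subst h; omega
    rw [S.cj_x_right hkk' hij' hkj]
    refine Subgroup.mul_mem _ (x_mem_Uk S ?_ (Or.inr hij'.symm) _) (x_mem_Uk S hij hne _)
    show k.val < j.val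
    omega
  · by_cases h2 : j = k
    · subst h2
      rw [S.cj_x_left hkk' hij' h1]
      refine Subgroup.mul_mem _ (x_mem_Uk S hij hne _) (x_mem_Uk S ?_ (Or.inl hij') _)
      show i.val < k'.val
      omega
    · rw [S.cj_x_comm hkk' hij' (Ne.symm h2) (Ne.symm h1)]
      exact x_mem_Uk S hij hne _

/-- `X_{k',k}` normalizes `U_k` -/
theorem cj_down_mem {k k' : Fin n} (hk : k'.val = k.val + 1) (u : K) {g : G}
    (hg : g ∈ Uk S k k') : cj (S.x k' k u) g ∈ Uk S k k' := by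
  have hkk' : k' ≠ k := by
    intro h; rw [h] at hk; omega
  apply cj_mem_Uk S _ _ hg
  intro i j t hij hne
  have hij' : i ≠ j := ne_of_lt hij
  have hijv : i.val < j.val := hij
  by_cases h1 : i = k
  · subst h1
    have hjk' : j ≠ k' := by
      rcases hne with h | h
      · exact absurd rfl h
      · exact h
    have hjv : j.val ≠ k'.val := Fin.val_ne_of_ne hjk'
    rw [S.cj_x_right hkk' hij' (Ne.symm hjk')]
    refine Subgroup.mul_mem _ (x_mem_Uk S ?_ (Or.inl hkk') _) (x_mem_Uk S hij hne _)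
    show k'.val < j.val
    omega
  · by_cases h2 : j = k'
    · subst h2
      have hiv : i.val ≠ k.val := Fin.val_ne_of_ne h1
      rw [S.cj_x_left hkk' hij' h1]
      refine Subgroup.mul_mem _ (x_mem_Uk S hij hne _) (x_mem_Uk S ?_ (Or.inl h1) _)
      show i.val < k.val
      omega
    · rw [S.cj_x_comm hkk' hij' (Ne.symm h2) (Ne.symm h1)]
      exact x_mem_Uk S hij hne _

/-- `w_{k,k'}(u)` normalizes `U_k` -/
theorem cj_w_mem {k k' : Fin n} (hk : k'.val = k.val + 1) (u : Kˣ) {g : G}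
    (hg : g ∈ Uk S k k') : cj (S.w k k' u) g ∈ Uk S k k' := by
  rw [S.w_def, ← cj_cj, ← cj_cj]
  exact cj_up_mem S hk _ (cj_down_mem S hk _ (cj_up_mem S hk _ hg))

theorem U_decomp_step {k k' : Fin n} (hk : k'.val = k.val + 1) (i j : Fin n) (t : K)
    (hij : i < j) (t₀ : K) (u₁ : G) (hu₁ : u₁ ∈ Uk S k k') :
    ∃ t' : K, ∃ u₁' ∈ Uk S k k', S.x i j t * (S.x k k' t₀ * u₁) = S.x k k' t' * u₁' := by
  have hkk' : k ≠ k' := by
    intro h; rw [h] at hk; omega
  by_cases h : i = k ∧ j = k'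
  · obtain ⟨rfl, rfl⟩ := h
    exact ⟨t + t₀, u₁, hu₁, by rw [← mul_assoc, S.x_add i j hkk']⟩
  · have hne : i ≠ k ∨ j ≠ k' := by
      by_contra hcon
      push Not at hcon
      exact h hcon
    refine ⟨t₀, cj (S.x k k' (-t₀)) (S.x i j t) * u₁,
      Subgroup.mul_mem _ (cj_up_mem S hk _ (x_mem_Uk S hij hne t)) hu₁, ?_⟩
    rw [S.x_neg hkk']
    unfold cj
    group

/-- `U = X_{k,k'} U_k` -/
theorem U_decomp {k k' : Fin n} (hk : k'.val = k.val + 1) {g : G} (hg : g ∈ S.U) :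
    ∃ t : K, ∃ u₁ ∈ Uk S k k', g = S.x k k' t * u₁ := by
  have hkk' : k ≠ k' := by
    intro h; rw [h] at hk; omega
  unfold U at hg
  induction hg using Subgroup.closure_induction_left with
  | one => exact ⟨0, 1, Subgroup.one_mem _, by rw [S.x_zero hkk', one_mul]⟩
  | mul_left y hy z _ hz =>
    obtain ⟨i, j, t, hij, rfl⟩ := hy
    obtain ⟨t₀, u₁, hu₁, rfl⟩ := hz
    exact U_decomp_step S hk i j t hij t₀ u₁ hu₁
  | inv_mul_cancel y hy z _ hz =>
    obtain ⟨i, j, t, hij, rfl⟩ := hy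
    obtain ⟨t₀, u₁, hu₁, rfl⟩ := hz
    rw [S.x_inv (ne_of_lt hij)]
    exact U_decomp_step S hk i j (-t) hij t₀ u₁ hu₁

end Cfsg.Agent.Lib.Helper3.StBruhat
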