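import Mathlib
import Cfsg.Agent.Lib.Helper3.StBruhatA

/-!
# Type-A Steinberg groups: the Bruhat decomposition `G = U W̃ U`
(helper3, FO-B of helper2's S2401 farm-out)
-/

set_option autoImplicit false

namespace Cfsg.Agent.Lib.Helper3.StBruhat

open Cfsg.Agent.Lib.Helper2.StA Cfsg.Agent.Lib.Helper2.StA.StRep

variable {n : ℕ} {K : Type*} [Field K] {G : Type*} [Group G] (S : StRep n K G)

/-- the set `U W̃ U` -/
def Bset : Set G := {g | ∃ u ∈ S.U, ∃ w ∈ S.Wtil, ∃ u' ∈ S.U, g = u * w * u'}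

theorem one_mem_Bset : (1 : G) ∈ Bset S :=
  ⟨1, Subgroup.one_mem _, 1, Subgroup.one_mem _, 1, Subgroup.one_mem _, by simp⟩

theorem U_mul_Bset {a b : G} (ha : a ∈ S.U) (hb : b ∈ Bset S) : a * b ∈ Bset S := by
  obtain ⟨u, hu, w, hw, u', hu', rfl⟩ := hb
  exact ⟨a * u, Subgroup.mul_mem _ ha hu, w, hw, u', hu', by group⟩

theorem Bset_mul_U {a b : G} (hb : b ∈ Bset S) (ha : a ∈ S.U) : b * a ∈ Bset S := by
  obtain ⟨u, hu, w, hw, u', hu', rfl⟩ := hb
  exact ⟨u, hu, w, hw, u' * a, Subgroup.mul_mem _ hu' ha, by group⟩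

/-- moving a root element through a monomially acting element -/
theorem x_mul_w {w' : G} {π : Equiv.Perm (Fin n)} {d : Fin n → Kˣ} (hπ : S.MonAct w' π d)
    {p q : Fin n} (hpq : p ≠ q) (r : K) :
    ∃ r' : K, S.x p q r * w' = w' * S.x (π⁻¹ p) (π⁻¹ q) r' := by
  have h := hπ.inv p q hpq r
  have h2 : S.x p q r * w' = w' * cj w'⁻¹ (S.x p q r) := by
    unfold cj; group
  rw [h] at h2
  exact ⟨_, h2⟩

/-- `U W̃ U` is stable under left multiplication by `w_{k,k+1}(u)` -/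
theorem w_mul_mem_Bset (hn : 3 ≤ n) {k k' : Fin n} (hk : k'.val = k.val + 1) (u : Kˣ) {b : G}
    (hb : b ∈ Bset S) : S.w k k' u * b ∈ Bset S := by
  have hkk' : k ≠ k' := by
    intro h; rw [h] at hk; omega
  have hlt : k < k' := by
    show k.val < k'.val
    omega
  obtain ⟨u₀, hu₀, w, hw, u', hu', rfl⟩ := hb
  have key : S.w k k' u * u₀ * w ∈ Bset S := by
    obtain ⟨t, u₁, hu₁, rfl⟩ := U_decomp S hk hu₀
    have h2 := S.monAct_w hn hkk' u k k' hkk' t
    rw [Equiv.swap_apply_left, Equiv.swap_apply_right] at h2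
    obtain ⟨t', ht'⟩ : ∃ t' : K, cj (S.w k k' u) (S.x k k' t) = S.x k' k t' := ⟨_, h2⟩
    have hw' : S.w k k' u * w ∈ S.Wtil := Subgroup.mul_mem _ (S.w_mem_Wtil hkk' u) hw
    obtain ⟨π, d, hπ⟩ := S.exists_monAct_of_mem_Wtil hn hw'
    have hu₁' : cj (S.w k k' u) u₁ ∈ Uk S k k' := cj_w_mem S hk u hu₁
    have hu₁'' : cj (S.x k' k t') (cj (S.w k k' u) u₁) ∈ Uk S k k' := cj_down_mem S hk t' hu₁'
    have e1 : S.w k k' u * (S.x k k' t * u₁) * w =
        cj (S.x k' k t') (cj (S.w k k' u) u₁) * (S.x k' k t' * (S.w k k' u * w)) := by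
      rw [← ht']; unfold cj; group
    rw [e1]
    apply U_mul_Bset S (Uk_le_U S k k' hu₁'')
    by_cases ht0 : t' = 0
    · rw [ht0, S.x_zero hkk'.symm, one_mul]
      exact ⟨1, Subgroup.one_mem _, _, hw', 1, Subgroup.one_mem _, by group⟩
    · have hab : π⁻¹ k' ≠ π⁻¹ k := fun h => hkk'.symm (π⁻¹.injective h)
      rcases lt_or_gt_of_ne hab with hlt' | hgt'
      · obtain ⟨r', hr'⟩ := x_mul_w S hπ hkk'.symm t'
        rw [hr']
        exact ⟨1, Subgroup.one_mem _, _, hw', S.x _ _ r', S.x_mem_U hlt' r', by group⟩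
      · obtain ⟨β, hβ⟩ : ∃ β : Kˣ, β = -(Units.mk0 t' ht0)⁻¹ := ⟨_, rfl⟩
        have hid : S.x k' k t' = S.x k k' t'⁻¹ * S.w k k' β * S.x k k' t'⁻¹ := by
          rw [S.w_def]
          have e2 : -(((β⁻¹ : Kˣ)) : K) = t' := by simp [hβ]
          have e3 : ((β : Kˣ) : K) = -t'⁻¹ := by simp [hβ]
          rw [e2, e3, S.x_neg hkk']
          group
        obtain ⟨r', hr'⟩ := x_mul_w S hπ hkk' t'⁻¹
        have e4 : S.x k' k t' * (S.w k k' u * w) =
            S.x k k' t'⁻¹ * (S.w k k' β * (S.w k k' u * w)) * S.x (π⁻¹ k) (π⁻¹ k') r' := by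
          calc S.x k' k t' * (S.w k k' u * w)
              = S.x k k' t'⁻¹ * S.w k k' β * (S.x k k' t'⁻¹ * (S.w k k' u * w)) := by
                rw [hid]; group
            _ = S.x k k' t'⁻¹ * S.w k k' β *
                  (S.w k k' u * w * S.x (π⁻¹ k) (π⁻¹ k') r') := by rw [hr']
            _ = _ := by group
        rw [e4]
        exact ⟨_, S.x_mem_U hlt _, _, Subgroup.mul_mem _ (S.w_mem_Wtil hkk' β) hw', _,
          S.x_mem_U hgt' r', rfl⟩
  have e : S.w k k' u * (u₀ * w * u') = (S.w k k' u * u₀ * w) * u' := by group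
  rw [e]
  exact Bset_mul_U S key hu'

/-- the left stabilizer of `U W̃ U` -/
def Lstab : Subgroup G where
  carrier := {g | ∀ b ∈ Bset S, g * b ∈ Bset S ∧ g⁻¹ * b ∈ Bset S}
  one_mem' := by
    intro b hb
    simp [hb]
  mul_mem' := by
    intro g h hg hh b hb
    refine ⟨?_, ?_⟩
    · rw [mul_assoc]; exact (hg _ (hh b hb).1).1
    · rw [mul_inv_rev, mul_assoc]; exact (hh _ (hg b hb).2).2
  inv_mem' := by
    intro g hg b hb
    refine ⟨(hg b hb).2, ?_⟩
    rw [inv_inv]; exact (hg b hb).1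

theorem mem_Lstab {g : G} :
    g ∈ Lstab S ↔ ∀ b ∈ Bset S, g * b ∈ Bset S ∧ g⁻¹ * b ∈ Bset S := Iff.rfl

theorem U_le_Lstab : S.U ≤ Lstab S := by
  intro a ha
  rw [mem_Lstab]
  intro b hb
  exact ⟨U_mul_Bset S ha hb, U_mul_Bset S (Subgroup.inv_mem _ ha) hb⟩

theorem w_mem_Lstab (hn : 3 ≤ n) {k k' : Fin n} (hk : k'.val = k.val + 1) (u : Kˣ) :
    S.w k k' u ∈ Lstab S := by
  have hkk' : k ≠ k' := by
    intro h; rw [h] at hk; omega
  rw [mem_Lstab]
  intro b hb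
  refine ⟨w_mul_mem_Bset S hn hk u hb, ?_⟩
  rw [S.w_inv hkk']
  exact w_mul_mem_Bset S hn hk (-u) hb

/-- the lower root elements of the simple roots stabilize `U W̃ U` -/
theorem x_down_simple_mem (hn : 3 ≤ n) {k k' : Fin n} (hk : k'.val = k.val + 1) (t : K) :
    S.x k' k t ∈ Lstab S := by
  have hkk' : k ≠ k' := by
    intro h; rw [h] at hk; omega
  have hlt : k < k' := by
    show k.val < k'.val
    omega
  obtain ⟨cu, hcu⟩ : ∃ cu : Kˣ, cu = dw k k' 1 k / dw k k' 1 k' := ⟨_, rfl⟩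
  have h2 := S.monAct_w hn hkk' 1 k k' hkk' (((cu⁻¹ : Kˣ) : K) * t)
  rw [Equiv.swap_apply_left, Equiv.swap_apply_right, ← hcu, ← mul_assoc, ← Units.val_mul,
    mul_inv_cancel, Units.val_one, one_mul] at h2
  rw [← h2]
  unfold cj
  exact Subgroup.mul_mem _ (Subgroup.mul_mem _ (w_mem_Lstab S hn hk 1)
    (U_le_Lstab S (S.x_mem_U hlt _))) (Subgroup.inv_mem _ (w_mem_Lstab S hn hk 1))

/-- all lower root elements stabilize `U W̃ U` -/
theorem x_down_mem (hn : 3 ≤ n) : ∀ (d : ℕ) (i j : Fin n), i.val = j.val + (d + 1) → ∀ t : K,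
    S.x i j t ∈ Lstab S := by
  intro d
  induction d with
  | zero =>
    intro i j hij t
    exact x_down_simple_mem S hn (by omega) t
  | succ d ih =>
    intro i j hij t
    have hm : j.val + 1 < n := by have := i.2; omega
    obtain ⟨m, hmdef⟩ : ∃ m : Fin n, m = ⟨j.val + 1, hm⟩ := ⟨_, rfl⟩
    have hmv : m.val = j.val + 1 := by rw [hmdef]
    have him : i ≠ m := by
      intro h; rw [h] at hij; omega
    have hmj : m ≠ j := by
      intro h; rw [h] at hmv; omega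
    have hij' : i ≠ j := by
      intro h; rw [h] at hij; omega
    have e := S.comm3 him hmj hij' t 1
    rw [mul_one] at e
    rw [e]
    have h1 : S.x i m t ∈ Lstab S := ih i m (by omega) t
    have h2 : S.x m j 1 ∈ Lstab S := x_down_simple_mem S hn hmv 1
    exact Subgroup.mul_mem _ (Subgroup.mul_mem _ (Subgroup.mul_mem _ h1 h2)
      (Subgroup.inv_mem _ h1)) (Subgroup.inv_mem _ h2)

/-- **FO-B**: the Bruhat decomposition `G = U W̃ U` -/
theorem bruhat {n : ℕ} {K : Type*} [Field K] {G : Type*} [Group G] (S : StRep n K G)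
    (hn : 3 ≤ n) (g : G) : ∃ u ∈ S.U, ∃ w ∈ S.Wtil, ∃ u' ∈ S.U, g = u * w * u' := by
  have hL : Lstab S = ⊤ := by
    rw [eq_top_iff, ← S.gen, Subgroup.closure_le]
    rintro y ⟨i, j, t, hij, rfl⟩
    rcases lt_or_gt_of_ne hij with h | h
    · exact U_le_Lstab S (S.x_mem_U h t)
    · have hv : j.val < i.val := h
      exact x_down_mem S hn (i.val - j.val - 1) i j (by omega) t
  have hg : g ∈ Lstab S := by rw [hL]; trivial
  have h1 := ((mem_Lstab S).mp hg 1 (one_mem_Bset S)).1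
  rw [mul_one] at h1
  exact h1

end Cfsg.Agent.Lib.Helper3.StBruhat
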