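import Mathlib
import Cfsg.Agent.Lib.Helper3.Steiner5824

set_option autoImplicit false

namespace Cfsg.Agent.Lib.Helper3
namespace Steiner

open Finset

variable {α : Type*} [Fintype α] [DecidableEq α] {B : Set (Finset α)}

section S5824

variable (hα : Fintype.card α = 24) (hB : Cfsg.IsSteinerSystem 5 8 B)
include hα hB

lemma inter_eq_of_four {d e T : Finset α} (hd : d ∈ B) (he : e ∈ B) (hne : d ≠ e)
    (hT : T ⊆ d ∩ e) (hT4 : T.card = 4) : d ∩ e = T := by
  have h := inter_card_5824 hα hB hd he hne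
  have h2 := card_le_card hT
  exact (eq_of_subset_of_card_le hT (by omega)).symm

lemma inter_card_of_three {d e T : Finset α} (hd : d ∈ B) (he : e ∈ B) (hne : d ≠ e)
    (hT : T ⊆ d ∩ e) (hT3 : T.card = 3) : (d ∩ e).card = 4 := by
  have h := inter_card_5824 hα hB hd he hne
  have h2 := card_le_card hT
  omega

lemma inter_card_of_mem {d e : Finset α} {x : α} (hd : d ∈ B) (he : e ∈ B) (hne : d ≠ e)
    (hxd : x ∈ d) (hxe : x ∈ e) : (d ∩ e).card = 2 ∨ (d ∩ e).card = 4 := by
  have h := inter_card_5824 hα hB hd he hne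
  have h2 : 0 < (d ∩ e).card := card_pos.2 ⟨x, mem_inter.2 ⟨hxd, hxe⟩⟩
  omega

omit hα in
lemma exists_block {T : Finset α} (hT : T.card = 5) : ∃ d ∈ B, T ⊆ d := by
  obtain ⟨d, ⟨hd, hTd⟩, _⟩ := hB.2 T hT
  exact ⟨d, hd, hTd⟩

/-- In an S(5,8,24), the symmetric difference of two blocks meeting in four points is a block. -/
theorem symmDiff_mem_5824 {b c : Finset α} (hb : b ∈ B) (hc : c ∈ B) (h4 : (b ∩ c).card = 4) :
    symmDiff b c ∈ B := by
  have hbk : b.card = 8 := hB.1 b hb
  have hck : c.card = 8 := hB.1 c hc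
  have hbc : b ≠ c := by
    rintro rfl
    rw [inter_self] at h4; omega
  set I := b ∩ c with hI
  set X := b \ c with hX
  set Y := c \ b with hY
  have hXc : X.card = 4 := by
    have := card_sdiff_add_card_inter b c
    rw [← hI, ← hX] at this; omega
  have hYc : Y.card = 4 := by
    have := card_sdiff_add_card_inter c b
    rw [inter_comm, ← hI, ← hY] at this; omega
  have hsd : symmDiff b c = X ∪ Y := by
    rw [hX, hY]; rfl
  have hXYdisj : Disjoint X Y := by
    rw [disjoint_left]
    intro w hw hw'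
    exact (mem_sdiff.1 hw').2 (mem_sdiff.1 hw).1
  -- pick y
  obtain ⟨y, hyY⟩ := card_pos.1 (by omega : 0 < Y.card)
  have hyc : y ∈ c := (mem_sdiff.1 hyY).1
  have hyb : y ∉ b := (mem_sdiff.1 hyY).2
  have hyX : y ∉ X := fun h => hyb (mem_sdiff.1 h).1
  obtain ⟨d, hd, hTd⟩ := exists_block hB (T := insert y X) (by rw [card_insert_of_notMem hyX, hXc])
  have hdk : d.card = 8 := hB.1 d hd
  have hyd : y ∈ d := hTd (mem_insert_self _ _)
  have hXd : X ⊆ d := fun w hw => hTd (mem_insert_of_mem hw)
  have hdb : d ≠ b := fun h => hyb (h ▸ hyd)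
  have hdbX : d ∩ b = X := by
    apply inter_eq_of_four hα hB hd hb hdb _ hXc
    intro w hw
    exact mem_inter.2 ⟨hXd hw, (mem_sdiff.1 hw).1⟩
  obtain ⟨x0, hx0X⟩ := card_pos.1 (by omega : 0 < X.card)
  have hdc : d ≠ c := fun h => (mem_sdiff.1 hx0X).2 (h ▸ hXd hx0X)
  have hdcY : d ∩ c ⊆ Y := by
    intro w hw
    rw [mem_inter] at hw
    rw [hY, mem_sdiff]
    refine ⟨hw.2, fun hwb => ?_⟩
    have : w ∈ X := by rw [← hdbX]; exact mem_inter.2 ⟨hw.1, hwb⟩
    exact (mem_sdiff.1 this).2 hw.2
  rcases inter_card_of_mem hα hB hd hc hdc hyd hyc with h2 | h4'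
  · -- contradiction
    exfalso
    set W := d ∩ c with hW
    set Z := d \ (b ∪ c) with hZ
    have hXWdisj : Disjoint X W := by
      rw [disjoint_left]
      intro w hw hw'
      exact (mem_sdiff.1 hw).2 (mem_inter.1 hw').2
    have hZc : Z.card = 2 := by
      have h1 := card_sdiff_add_card_inter d (b ∪ c)
      have h2' : d ∩ (b ∪ c) = X ∪ W := by
        rw [inter_union_distrib_left, hdbX]
      rw [h2', card_union_of_disjoint hXWdisj, ← hZ] at h1
      omega
    obtain ⟨z, hzZ⟩ := card_pos.1 (by omega : 0 < Z.card)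
    have hzd : z ∈ d := (mem_sdiff.1 hzZ).1
    have hzb : z ∉ b := fun h => (mem_sdiff.1 hzZ).2 (mem_union_left _ h)
    have hzc : z ∉ c := fun h => (mem_sdiff.1 hzZ).2 (mem_union_right _ h)
    have hzI : z ∉ I := fun h => hzb (mem_inter.1 h).1
    obtain ⟨c', hc', hTc'⟩ := exists_block hB (T := insert z I)
      (by rw [card_insert_of_notMem hzI, h4])
    have hzc' : z ∈ c' := hTc' (mem_insert_self _ _)
    have hIc' : I ⊆ c' := fun w hw => hTc' (mem_insert_of_mem hw)
    have hc'b : c' ≠ b := fun h => hzb (h ▸ hzc')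
    have hc'c : c' ≠ c := fun h => hzc (h ▸ hzc')
    have hc'bI : c' ∩ b = I := by
      apply inter_eq_of_four hα hB hc' hb hc'b _ h4
      intro w hw
      exact mem_inter.2 ⟨hIc' hw, (mem_inter.1 hw).1⟩
    have hc'cI : c' ∩ c = I := by
      apply inter_eq_of_four hα hB hc' hc hc'c _ h4
      intro w hw
      exact mem_inter.2 ⟨hIc' hw, (mem_inter.1 hw).2⟩
    -- points of I are not in d
    have hId : ∀ w ∈ I, w ∉ d := by
      intro w hw hwd
      have : w ∈ X := by rw [← hdbX]; exact mem_inter.2 ⟨hwd, (mem_inter.1 hw).1⟩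
      exact (mem_sdiff.1 this).2 (mem_inter.1 hw).2
    obtain ⟨i0, hi0⟩ := card_pos.1 (by omega : 0 < I.card)
    have hc'd : c' ≠ d := fun h => hId i0 hi0 (h ▸ hIc' hi0)
    have hc'dZ : c' ∩ d ⊆ Z := by
      intro w hw
      rw [mem_inter] at hw
      rw [hZ, mem_sdiff]
      refine ⟨hw.2, fun hwbc => ?_⟩
      rcases mem_union.1 hwbc with hwb | hwc
      · have : w ∈ I := by rw [← hc'bI]; exact mem_inter.2 ⟨hw.1, hwb⟩
        exact hId w this hw.2
      · have : w ∈ I := by rw [← hc'cI]; exact mem_inter.2 ⟨hw.1, hwc⟩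
        exact hId w this hw.2
    have hc'dZeq : c' ∩ d = Z := by
      have h1 := inter_card_of_mem hα hB hc' hd hc'd hzc' hzd
      have h2' := card_le_card hc'dZ
      exact eq_of_subset_of_card_le hc'dZ (by omega)
    have hZc' : Z ⊆ c' := by
      intro w hw
      rw [← hc'dZeq] at hw
      exact (mem_inter.1 hw).1
    -- y ∉ c'
    have hyc' : y ∉ c' := by
      intro h
      have : y ∈ I := by rw [← hc'cI]; exact mem_inter.2 ⟨h, hyc⟩
      exact hyb (mem_inter.1 this).1
    -- choose three points of I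
    obtain ⟨I', hI'I, hI'c⟩ := exists_subset_card_eq (by omega : 3 ≤ I.card)
    have hzI' : z ∉ I' := fun h => hzI (hI'I h)
    have hyz : y ≠ z := fun h => hzc (h ▸ hyc)
    have hyI : y ∉ I := fun h => hyb (mem_inter.1 h).1
    have hyzI' : y ∉ insert z I' := by
      rw [mem_insert]
      rintro (h | h)
      · exact hyz h
      · exact hyI (hI'I h)
    obtain ⟨e, he, hTe⟩ := exists_block hB (T := insert y (insert z I'))
      (by rw [card_insert_of_notMem hyzI', card_insert_of_notMem hzI', hI'c])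
    have hye : y ∈ e := hTe (mem_insert_self _ _)
    have hze : z ∈ e := hTe (mem_insert_of_mem (mem_insert_self _ _))
    have hI'e : I' ⊆ e := fun w hw => hTe (mem_insert_of_mem (mem_insert_of_mem hw))
    have hec : e ≠ c := fun h => hzc (h ▸ hze)
    have hec' : e ≠ c' := fun h => hyc' (h ▸ hye)
    have heb : e ≠ b := fun h => hyb (h ▸ hye)
    obtain ⟨i1, hi1⟩ := card_pos.1 (by omega : 0 < I'.card)
    have hed : e ≠ d := fun h => hId i1 (hI'I hi1) (h ▸ hI'e hi1)
    have hyI' : y ∉ I' := fun h => hyI (hI'I h)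
    have hecE : e ∩ c = insert y I' := by
      apply inter_eq_of_four hα hB he hc hec _ (by rw [card_insert_of_notMem hyI', hI'c])
      intro w hw
      rcases mem_insert.1 hw with rfl | hw
      · exact mem_inter.2 ⟨hye, hyc⟩
      · exact mem_inter.2 ⟨hI'e hw, (mem_inter.1 (hI'I hw)).2⟩
    have hec'E : e ∩ c' = insert z I' := by
      apply inter_eq_of_four hα hB he hc' hec' _ (by rw [card_insert_of_notMem hzI', hI'c])
      intro w hw
      rcases mem_insert.1 hw with rfl | hw
      · exact mem_inter.2 ⟨hze, hzc'⟩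
      · exact mem_inter.2 ⟨hI'e hw, hIc' (hI'I hw)⟩
    have hebc : (e ∩ b).card = 4 := by
      apply inter_card_of_three hα hB he hb heb _ hI'c
      intro w hw
      exact mem_inter.2 ⟨hI'e hw, (mem_inter.1 (hI'I hw)).1⟩
    have hI'eb : I' ⊆ e ∩ b := fun w hw => mem_inter.2 ⟨hI'e hw, (mem_inter.1 (hI'I hw)).1⟩
    have hx1 : ((e ∩ b) \ I').card = 1 := by
      rw [card_sdiff_of_subset hI'eb, hebc, hI'c]
    obtain ⟨x, hx⟩ := card_eq_one.1 hx1
    have hxm : x ∈ (e ∩ b) \ I' := by rw [hx]; exact mem_singleton_self x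
    rw [mem_sdiff, mem_inter] at hxm
    obtain ⟨⟨hxe, hxb⟩, hxI'⟩ := hxm
    have hxc : x ∉ c := by
      intro h
      have : x ∈ insert y I' := by rw [← hecE]; exact mem_inter.2 ⟨hxe, h⟩
      rcases mem_insert.1 this with rfl | h'
      · exact hyb hxb
      · exact hxI' h'
    have hxd : x ∈ d := hXd (mem_sdiff.2 ⟨hxb, hxc⟩)
    -- e ∩ d = {x, y, z}
    have hsub : e ∩ d ⊆ {x, y, z} := by
      intro w hw
      rw [mem_inter] at hw
      simp only [mem_insert, mem_singleton]
      by_cases hwb : w ∈ b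
      · left
        have hwX : w ∈ X := by rw [← hdbX]; exact mem_inter.2 ⟨hw.2, hwb⟩
        have hwc : w ∉ c := (mem_sdiff.1 hwX).2
        have hwI' : w ∉ I' := fun h => hwc (mem_inter.1 (hI'I h)).2
        have : w ∈ (e ∩ b) \ I' := mem_sdiff.2 ⟨mem_inter.2 ⟨hw.1, hwb⟩, hwI'⟩
        rw [hx] at this
        exact mem_singleton.1 this
      · by_cases hwc : w ∈ c
        · right; left
          have : w ∈ insert y I' := by rw [← hecE]; exact mem_inter.2 ⟨hw.1, hwc⟩
          rcases mem_insert.1 this with h | h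
          · exact h
          · exact absurd (mem_inter.1 (hI'I h)).1 hwb
        · right; right
          have hwZ : w ∈ Z := by
            rw [hZ, mem_sdiff, mem_union]
            exact ⟨hw.2, fun h => h.elim hwb hwc⟩
          have : w ∈ insert z I' := by
            rw [← hec'E]; exact mem_inter.2 ⟨hw.1, hZc' hwZ⟩
          rcases mem_insert.1 this with h | h
          · exact h
          · exact absurd (mem_inter.1 (hI'I h)).1 hwb
    have hsup : ({x, y, z} : Finset α) ⊆ e ∩ d := by
      intro w hw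
      simp only [mem_insert, mem_singleton] at hw
      rcases hw with rfl | rfl | rfl
      · exact mem_inter.2 ⟨hxe, hxd⟩
      · exact mem_inter.2 ⟨hye, hyd⟩
      · exact mem_inter.2 ⟨hze, hzd⟩
    have hxy : x ≠ y := fun h => hyb (h ▸ hxb)
    have hxz : x ≠ z := fun h => hzb (h ▸ hxb)
    have hcard3 : (e ∩ d).card = 3 := by
      rw [Subset.antisymm hsub hsup]
      rw [card_insert_of_notMem, card_insert_of_notMem, card_singleton]
      · simpa using hyz
      · simp only [mem_insert, mem_singleton]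
        rintro (h | h)
        · exact hxy h
        · exact hxz h
    have := inter_card_5824 hα hB he hd hed
    omega
  · -- d = X ∪ Y
    have hWY : d ∩ c = Y := eq_of_subset_of_card_le hdcY (by omega)
    have hYd : Y ⊆ d := by
      intro w hw
      rw [← hWY] at hw
      exact (mem_inter.1 hw).1
    have hsub : X ∪ Y ⊆ d := union_subset hXd hYd
    have hcard : (X ∪ Y).card = 8 := by
      rw [card_union_of_disjoint hXYdisj]; omega
    have : X ∪ Y = d := eq_of_subset_of_card_le hsub (by omega)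
    rw [hsd, this]
    exact hd

end S5824

end Steiner
end Cfsg.Agent.Lib.Helper3
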