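import Mathlib

/-!
# S2048-[KC] (helper3): six distinct powers of `c` in a subgroup of order at most six

`kernel_cyclic_six`: if `K ≤ W` has at most `6` elements, `c ∈ K` and the six powers `φ c ^ i`, `i < 6`, are
pairwise distinct in some image group, then `K = {c ^ i}` and `K ≃* Multiplicative (ZMod 6)`.
-/

set_option autoImplicit false

namespace Cfsg.Agent.Lib.Helper4.SuzM

namespace Helper3

/-- the map `i ↦ c ^ i` from `Fin 6` into `K` -/
def powMap {W : Type*} [Group W] (K : Subgroup W) (c : W) (hc : c ∈ K) : Fin 6 → K :=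
  fun i => (⟨c, hc⟩ : K) ^ i.val

theorem powMap_injective {W Δ : Type*} [Group W] [Group Δ] (K : Subgroup W) (φ : W →* Δ) (c : W)
    (hc : c ∈ K) (hinj : Function.Injective (fun i : Fin 6 => φ c ^ i.val)) :
    Function.Injective (powMap K c hc) := by
  intro i j hij
  apply hinj
  have h : ((powMap K c hc i : K) : W) = ((powMap K c hc j : K) : W) := by rw [hij]
  simp only [powMap, Subgroup.coe_pow] at h
  show φ c ^ i.val = φ c ^ j.val
  rw [← map_pow, ← map_pow, h]

end Helper3

theorem kernel_cyclic_six {W Δ : Type*} [Group W] [Group Δ] (K : Subgroup W) [Finite K]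
    (hK : Nat.card K ≤ 6) (φ : W →* Δ) (c : W) (hc : c ∈ K)
    (hinj : Function.Injective (fun i : Fin 6 => φ c ^ i.val)) :
    (∀ g ∈ K, ∃ i : ℕ, g = c ^ i) ∧ Nonempty (K ≃* Multiplicative (ZMod 6)) := by
  have hi := Helper3.powMap_injective K φ c hc hinj
  have h6 : Nat.card (Fin 6) = 6 := by simp
  have hge : 6 ≤ Nat.card K := by
    have := Nat.card_le_card_of_injective _ hi
    rwa [h6] at this
  have hcard : Nat.card K = 6 := le_antisymm hK hge
  have hbij : Function.Bijective (Helper3.powMap K c hc) := by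
    rw [Nat.bijective_iff_injective_and_card]
    exact ⟨hi, by rw [h6, hcard]⟩
  have hform : ∀ g : K, ∃ i : ℕ, g = (⟨c, hc⟩ : K) ^ i := by
    intro g
    obtain ⟨i, hi'⟩ := hbij.2 g
    exact ⟨i.val, hi'.symm⟩
  refine ⟨?_, ?_⟩
  · intro g hg
    obtain ⟨i, hi'⟩ := hform ⟨g, hg⟩
    refine ⟨i, ?_⟩
    have := congrArg (fun x : K => (x : W)) hi'
    simpa using this
  · have hcyc : IsCyclic K := by
      refine ⟨⟨⟨c, hc⟩, fun g => ?_⟩⟩
      obtain ⟨i, hi'⟩ := hform g
      exact ⟨(i : ℤ), by show (⟨c, hc⟩ : K) ^ (i : ℤ) = g; rw [zpow_natCast]; exact hi'.symm⟩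
    have e := zmodCyclicMulEquiv hcyc
    rw [hcard] at e
    exact ⟨e.symm⟩

end Cfsg.Agent.Lib.Helper4.SuzM
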