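import Mathlib
import Cfsg.Agent.Lib.Helper3.Suzuki5

set_option autoImplicit false

namespace Cfsg.Agent.Lib.Helper3.Sz

open Matrix Cfsg
open scoped Pointwise

variable {F : Type*} [Field F] [Fintype F] {m : ℕ} (hF : Fintype.card F = 2 ^ (2 * m + 1))

include hF in
lemma eq_one_of_pow_sig_succ {k : F} (h : k ^ (2 ^ (m + 1) + 1) = 1) : k = 1 := by
  have h1 : k ^ (2 ^ (m + 1)) * k = 1 := by rw [← pow_succ]; exact h
  have h2 : k ^ 2 * k ^ (2 ^ (m + 1)) = 1 := by
    have := congrArg (fun t => t ^ (2 ^ (m + 1))) h1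
    simp only [mul_pow, sig_sig hF, one_pow] at this
    exact this
  calc k = k * (k ^ (2 ^ (m + 1)) * k) := by rw [h1, mul_one]
    _ = k ^ 2 * k ^ (2 ^ (m + 1)) := by ring
    _ = 1 := h2

omit [Fintype F] in
lemma inf_mem : suzukiPointInfinity F ∈ suzukiOvoid F m := by
  rw [inf_eq (m := m), ← Cfsg.Agent.S0326.range_param]; exact ⟨_, rfl⟩

omit [Fintype F] in
lemma zero_mem : suzukiPointZero F ∈ suzukiOvoid F m := by
  rw [zero_eq (m := m), ← Cfsg.Agent.S0326.range_param]; exact ⟨_, rfl⟩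

omit [Fintype F] in
lemma inf_ne_zero' : suzukiPointInfinity F ≠ suzukiPointZero F := by
  intro h
  rw [inf_eq (m := 0), zero_eq (m := 0)] at h
  have := Cfsg.Agent.S0326.param_injective 0 h
  exact absurd this (by simp)

include hF in
/-- two distinct points of the ovoid can be moved to the two base points -/
lemma exists_map_inf_zero {a b : Projectivization F (Fin 4 → F)} (ha : a ∈ suzukiOvoid F m)
    (hb : b ∈ suzukiOvoid F m) (hab : a ≠ b) :
    ∃ h ∈ Sz F m, h • a = suzukiPointInfinity F ∧ h • b = suzukiPointZero F := by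
  rw [← orbit_inf hF] at ha
  obtain ⟨⟨g1, hg1⟩, hg1a⟩ := ha
  have hg1a' : g1 • suzukiPointInfinity F = a := hg1a
  have hb' : g1⁻¹ • b ∈ suzukiOvoid F m := smul_mem_ovoid (inv_mem hg1) hb
  rw [← Cfsg.Agent.S0326.range_param] at hb'
  obtain ⟨c, hc⟩ := hb'
  rcases c with _ | ⟨x, y⟩
  · exfalso
    apply hab
    rw [← hg1a', inf_eq (m := m), hc, smul_inv_smul]
  · refine ⟨(transS m x y)⁻¹ * g1⁻¹, mul_mem (inv_mem (transS_mem hF x y)) (inv_mem hg1), ?_, ?_⟩
    · rw [mul_smul, ← hg1a', inv_smul_smul, inv_smul_eq_iff, transS_inf hF]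
    · rw [mul_smul, ← hc, inv_smul_eq_iff, transS_zero hF]

include hF in
/-- a torus element fixing a third point is trivial -/
lemma torS_eq_one_of_fix (k : Fˣ) (x y : F) (hxy : (x, y) ≠ (0, 0))
    (h : torS m k • Cfsg.Agent.S0326.param m (some (x, y)) = Cfsg.Agent.S0326.param m (some (x, y))) :
    k = 1 := by
  rw [torS_param hF] at h
  have := Cfsg.Agent.S0326.param_injective m h
  simp only [delta, Option.some.injEq, Prod.mk.injEq] at this
  obtain ⟨h1, h2⟩ := this
  by_cases hx : x = 0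
  · have hy : y ≠ 0 := by
      intro hy; apply hxy; rw [hx, hy]
    have h3 : (k : F) ^ (2 ^ (m + 1) + 1) = 1 := by
      have : ((k : F) ^ (2 ^ (m + 1) + 1) - 1) * y = 0 := by linear_combination h2
      rcases mul_eq_zero.1 this with h' | h'
      · linear_combination h'
      · exact absurd h' hy
    exact Units.ext (eq_one_of_pow_sig_succ hF h3)
  · have : ((k : F) - 1) * x = 0 := by linear_combination h1
    rcases mul_eq_zero.1 this with h' | h'
    · exact Units.ext (by rw [Units.val_one]; linear_combination h')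
    · exact absurd h' hx

omit [Fintype F] in
lemma torS_one : torS (F := F) m 1 = 1 := (torHom m).map_one

include hF in
/-- no non-identity element fixes three points of the ovoid -/
theorem eq_one_of_fix3 (hm : 1 ≤ m) (g : Matrix.SpecialLinearGroup (Fin 4) F) (hg : g ∈ Sz F m)
    {a b c : Projectivization F (Fin 4 → F)} (ha : a ∈ suzukiOvoid F m)
    (hb : b ∈ suzukiOvoid F m) (hc : c ∈ suzukiOvoid F m) (hab : a ≠ b) (hbc : b ≠ c) (hac : a ≠ c)
    (ga : g • a = a) (gb : g • b = b) (gc : g • c = c) : g = 1 := by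
  obtain ⟨h, hh, h1, h2⟩ := exists_map_inf_zero hF ha hb hab
  have hg' : h * g * h⁻¹ ∈ Sz F m := mul_mem (mul_mem hh hg) (inv_mem hh)
  have e1 : (h * g * h⁻¹) • suzukiPointInfinity F = suzukiPointInfinity F := by
    rw [← h1, mul_smul, mul_smul, inv_smul_smul, ga]
  have e2 : (h * g * h⁻¹) • suzukiPointZero F = suzukiPointZero F := by
    rw [← h2, mul_smul, mul_smul, inv_smul_smul, gb]
  have e3 : (h * g * h⁻¹) • (h • c) = h • c := by
    rw [mul_smul, mul_smul, inv_smul_smul, gc]
  have hc' : h • c ∈ suzukiOvoid F m := smul_mem_ovoid hh hc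
  rw [← Cfsg.Agent.S0326.range_param] at hc'
  obtain ⟨d, hd⟩ := hc'
  rw [inf_eq (m := m)] at e1
  rw [zero_eq (m := m)] at e2
  obtain ⟨k, hk⟩ := eq_torS hF hm _ hg' e1 e2
  rcases d with _ | ⟨x, y⟩
  · exfalso
    apply hac
    have : h • a = h • c := by rw [h1, ← hd, inf_eq (m := m)]
    exact smul_left_cancel h this
  · have hxy : (x, y) ≠ (0, 0) := by
      intro hxy
      apply hbc
      have : h • b = h • c := by rw [h2, ← hd, hxy, zero_eq (m := m)]
      exact smul_left_cancel h this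
    rw [← hd, hk] at e3
    have hk1 := torS_eq_one_of_fix hF k x y hxy e3
    rw [hk1, torS_one] at hk
    have : h * g = h := by
      have := congrArg (fun t => t * h) hk
      simpa using this
    exact mul_left_cancel (a := h) (by rw [this, mul_one])

include hF in
/-- faithfulness on the ovoid -/
theorem eq_one_of_forall (hm : 1 ≤ m) (g : Matrix.SpecialLinearGroup (Fin 4) F) (hg : g ∈ Sz F m)
    (h : ∀ c, g • Cfsg.Agent.S0326.param (F := F) m c = Cfsg.Agent.S0326.param m c) : g = 1 := by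
  have h1 : Cfsg.Agent.S0326.param (F := F) m (some (1, 0)) ∈ suzukiOvoid F m := by
    rw [← Cfsg.Agent.S0326.range_param]; exact ⟨_, rfl⟩
  refine eq_one_of_fix3 hF hm g hg (inf_mem (m := m)) (zero_mem (m := m)) h1 inf_ne_zero' ?_ ?_
    ?_ ?_ (h _)
  · rw [zero_eq (m := m)]
    intro h'
    have := Cfsg.Agent.S0326.param_injective m h'
    simp at this
  · rw [inf_eq (m := m)]
    intro h'
    have := Cfsg.Agent.S0326.param_injective m h'
    simp at this
  · rw [inf_eq (m := m)]; exact h _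
  · rw [zero_eq (m := m)]; exact h _

include hF in
theorem eq_of_forall (hm : 1 ≤ m) (g g' : Matrix.SpecialLinearGroup (Fin 4) F) (hg : g ∈ Sz F m)
    (hg' : g' ∈ Sz F m)
    (h : ∀ c, g • Cfsg.Agent.S0326.param (F := F) m c = g' • Cfsg.Agent.S0326.param m c) : g = g' := by
  have : g'⁻¹ * g = 1 := by
    apply eq_one_of_forall hF hm _ (mul_mem (inv_mem hg') hg)
    intro c
    rw [mul_smul, h c, inv_smul_smul]
  calc g = g' * (g'⁻¹ * g) := by rw [mul_inv_cancel_left]
    _ = g' := by rw [this, mul_one]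

end Cfsg.Agent.Lib.Helper3.Sz
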