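import Mathlib

set_option autoImplicit false

namespace Cfsg.Agent.Lib.Helper3.Zass

variable {G Ω : Type*} [Group G] [MulAction G Ω]

/-- an involution with a unique fixed point `a` inverts a finite normal subgroup that meets the
stabiliser of `a` trivially -/
lemma inverts_of_unique_fixed (N : Subgroup G) [hN : N.Normal] [Finite N] (a : Ω)
    (hstab : ∀ n ∈ N, n • a = a → n = 1) (u : G) (hu2 : u * u = 1)
    (hu : ∀ b : Ω, u • b = b → b = a) (hua : u • a = a) :
    ∀ x ∈ N, u * x * u⁻¹ = x⁻¹ := by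
  have huinv : u⁻¹ = u := inv_eq_of_mul_eq_one_right hu2
  let φ : N → N := fun n =>
    ⟨n.1⁻¹ * (u * n.1 * u⁻¹), N.mul_mem (N.inv_mem n.2) (hN.conj_mem n.1 n.2 u)⟩
  have hinj : Function.Injective φ := by
    intro n n' h
    have h' : n.1⁻¹ * (u * n.1 * u⁻¹) = n'.1⁻¹ * (u * n'.1 * u⁻¹) := congrArg Subtype.val h
    have hz : (n'.1 * n.1⁻¹) * u = u * (n'.1 * n.1⁻¹) := by
      calc n'.1 * n.1⁻¹ * u = n'.1 * (n.1⁻¹ * (u * n.1 * u⁻¹)) * (u * n.1⁻¹) := by group
        _ = n'.1 * (n'.1⁻¹ * (u * n'.1 * u⁻¹)) * (u * n.1⁻¹) := by rw [h']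
        _ = u * (n'.1 * n.1⁻¹) := by group
    have hfix : u • ((n'.1 * n.1⁻¹) • a) = (n'.1 * n.1⁻¹) • a := by
      rw [← mul_smul, ← hz, mul_smul, hua]
    have h1 := hu _ hfix
    have h2 := hstab _ (N.mul_mem n'.2 (N.inv_mem n.2)) h1
    apply Subtype.ext
    have : n'.1 = n.1 := by
      calc n'.1 = (n'.1 * n.1⁻¹) * n.1 := by group
        _ = n.1 := by rw [h2, one_mul]
    exact this.symm
  have hsurj := Finite.injective_iff_surjective.1 hinj
  intro x hx
  obtain ⟨n, hn⟩ := hsurj ⟨x, hx⟩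
  have hx' : x = n.1⁻¹ * (u * n.1 * u⁻¹) := (congrArg Subtype.val hn).symm
  rw [hx', huinv]
  simp only [mul_inv_rev, inv_inv, huinv, mul_assoc, hu2, mul_one]

/-- a finite normal subgroup meeting the stabiliser of `a` trivially is trivial, when there are two
involutions `s, t` such that `s`, `t`, `s * t` all have `a` as their only fixed point -/
theorem eq_bot_of_klein (N : Subgroup G) [N.Normal] [Finite N] (a : Ω)
    (hstab : ∀ n ∈ N, n • a = a → n = 1) (s t : G) (hs2 : s * s = 1) (ht2 : t * t = 1)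
    (hs : ∀ b : Ω, s • b = b → b = a) (hsa : s • a = a)
    (ht : ∀ b : Ω, t • b = b → b = a) (hta : t • a = a)
    (hst : ∀ b : Ω, (s * t) • b = b → b = a) : N = ⊥ := by
  rw [Subgroup.eq_bot_iff_forall]
  intro x hx
  have h1 := inverts_of_unique_fixed N a hstab s hs2 hs hsa
  have h2 := inverts_of_unique_fixed N a hstab t ht2 ht hta
  have hcomm : (s * t) * x = x * (s * t) := by
    have e1 : t * x * t⁻¹ = x⁻¹ := h2 x hx
    have e2 : s * x⁻¹ * s⁻¹ = x := by
      have := h1 x⁻¹ (N.inv_mem hx)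
      rwa [inv_inv] at this
    calc s * t * x = s * (t * x * t⁻¹) * s⁻¹ * (s * t) := by group
      _ = x * (s * t) := by rw [e1, e2]
  have hfix : (s * t) • (x • a) = x • a := by
    rw [← mul_smul, hcomm, mul_smul, mul_smul, hta, hsa]
  exact hstab x hx (hst _ hfix)

end Cfsg.Agent.Lib.Helper3.Zass
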