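import Mathlib
import Cfsg.Agent.Lib.Helper3.Suzuki6
import Cfsg.Agent.Lib.Helper3.Zass

set_option autoImplicit false

namespace Cfsg.Agent.Lib.Helper3.Sz

open Matrix Cfsg
open scoped Pointwise

variable {F : Type*} [Field F] [Fintype F] {m : ℕ} (hF : Fintype.card F = 2 ^ (2 * m + 1))

omit [Fintype F] in
lemma tau_zero (b : F) (x y : F) : tau m 0 b (some (x, y)) = some (x, y + b) := by
  simp [tau]

include hF in
lemma exists_unit_ne_one (hm : 1 ≤ m) : ∃ k : Fˣ, k ≠ 1 := by
  have h1 : 1 < Nat.card Fˣ := by
    rw [card_units hF]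
    have : 2 ^ 3 ≤ 2 ^ (2 * m + 1) := Nat.pow_le_pow_right (by norm_num) (by omega)
    omega
  have : Nontrivial Fˣ := Finite.one_lt_card_iff_nontrivial.1 h1
  exact exists_ne 1

include hF in
/-- `transS 0 b` for `b ≠ 0` fixes only the point at infinity -/
lemma transS_zero_fix {b : F} (hb : b ≠ 0) (c : Option (F × F))
    (h : transS m 0 b • Cfsg.Agent.S0326.param m c = Cfsg.Agent.S0326.param m c) : c = none := by
  rw [transS_param hF] at h
  have := Cfsg.Agent.S0326.param_injective m h
  rcases c with _ | ⟨x, y⟩
  · rfl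
  · exfalso
    rw [tau_zero] at this
    simp only [Option.some.injEq, Prod.mk.injEq, true_and] at this
    apply hb
    linear_combination this

include hF in
lemma transS_zero_mul (hm : 1 ≤ m) (b b' : F) :
    transS m 0 b * transS m 0 b' = transS m 0 (b + b') := by
  apply eq_of_forall hF hm _ _ (mul_mem (transS_mem hF 0 b) (transS_mem hF 0 b'))
    (transS_mem hF 0 (b + b'))
  intro c
  rw [mul_smul, transS_param hF, transS_param hF, transS_param hF]
  rcases c with _ | ⟨x, y⟩
  · rfl
  · rw [tau_zero, tau_zero, tau_zero]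
    congr 3
    ring

include hF in
lemma transS_zero_zero (hm : 1 ≤ m) : transS (F := F) m 0 0 = 1 := by
  apply eq_of_forall hF hm _ _ (transS_mem hF 0 0) (one_mem _)
  intro c
  rw [one_smul, transS_param hF]
  rcases c with _ | ⟨x, y⟩
  · rfl
  · rw [tau_zero, add_zero]

include hF in
theorem zassenhaus (hm : 1 ≤ m) : IsZassenhausGroup (Sz F m) (suzukiOvoid F m) := by
  have h2 := two_eq_zero hF
  have hpt : ∀ p : suzukiOvoid F m, ∃ c, p = ⟨Cfsg.Agent.S0326.param m c, by
      rw [← Cfsg.Agent.S0326.range_param]; exact ⟨_, rfl⟩⟩ := by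
    intro p
    have : (p : Projectivization F (Fin 4 → F)) ∈ Set.range (Cfsg.Agent.S0326.param (F := F) m) := by
      rw [Cfsg.Agent.S0326.range_param]; exact p.2
    obtain ⟨c, hc⟩ := this
    exact ⟨c, Subtype.ext hc.symm⟩
  refine ⟨?_, ?_, ?_, ?_, ?_⟩
  · -- faithful
    constructor
    intro g g' h
    apply Subtype.ext
    apply eq_of_forall hF hm g.1 g'.1 g.2 g'.2
    intro c
    have := h ⟨Cfsg.Agent.S0326.param m c, by
      rw [← Cfsg.Agent.S0326.range_param]; exact ⟨_, rfl⟩⟩
    exact congrArg Subtype.val this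
  · -- doubly transitive
    rw [MulAction.is_two_pretransitive_iff]
    intro a b c d hab hcd
    obtain ⟨h1, hh1, e1, e2⟩ := exists_map_inf_zero hF a.2 b.2 (fun h => hab (Subtype.ext h))
    obtain ⟨h3, hh3, e3, e4⟩ := exists_map_inf_zero hF c.2 d.2 (fun h => hcd (Subtype.ext h))
    refine ⟨⟨h3⁻¹ * h1, mul_mem (inv_mem hh3) hh1⟩, ?_, ?_⟩
    · apply Subtype.ext
      show (h3⁻¹ * h1) • a.1 = c.1
      rw [mul_smul, e1, ← e3, inv_smul_smul]
    · apply Subtype.ext
      show (h3⁻¹ * h1) • b.1 = d.1
      rw [mul_smul, e2, ← e4, inv_smul_smul]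
  · -- three fixed points
    intro g a b c hab hbc hac ga gb gc
    apply Subtype.ext
    exact eq_one_of_fix3 hF hm g.1 g.2 a.2 b.2 c.2 (fun h => hab (Subtype.ext h))
      (fun h => hbc (Subtype.ext h)) (fun h => hac (Subtype.ext h))
      (congrArg Subtype.val ga) (congrArg Subtype.val gb) (congrArg Subtype.val gc)
  · -- a non-identity element with two fixed points
    obtain ⟨k, hk⟩ := exists_unit_ne_one hF hm
    refine ⟨⟨torS m k, torS_mem hF k⟩, ?_, ⟨_, inf_mem⟩, ⟨_, zero_mem⟩, ?_, ?_, ?_⟩
    · intro h
      apply hk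
      apply torS_injective hF
      rw [torS_one]
      exact congrArg Subtype.val h
    · intro h
      exact inf_ne_zero' (congrArg Subtype.val h)
    · apply Subtype.ext
      exact torS_inf hF k
    · apply Subtype.ext
      exact torS_zero hF k
  · -- no regular normal subgroup
    intro N hN htr
    by_contra hcon
    push Not at hcon
    obtain ⟨k, hk⟩ := exists_unit_ne_one hF hm
    have hb0 : (k : F) ≠ 0 := k.ne_zero
    have hb1 : (1 : F) + k ≠ 0 := by
      intro h
      apply hk
      apply Units.ext
      rw [Units.val_one]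
      linear_combination h - h2
    have : Finite (Sz F m) := by
      have : Finite (Matrix.SpecialLinearGroup (Fin 4) F) := by
        classical
        exact Finite.of_injective (fun A => A.1) Subtype.val_injective
      infer_instance
    have hbot := Cfsg.Agent.Lib.Helper3.Zass.eq_bot_of_klein (G := Sz F m) (Ω := suzukiOvoid F m) N
      ⟨_, inf_mem⟩
      (fun n hn hfix => by
        have h1 : (⟨n, hn⟩ : N) ∈ MulAction.stabilizer N
            (⟨_, inf_mem⟩ : suzukiOvoid F m) := hfix
        rw [hcon] at h1
        have := Subgroup.mem_bot.1 h1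
        exact congrArg Subtype.val this)
      ⟨transS m 0 1, transS_mem hF 0 1⟩ ⟨transS m 0 k, transS_mem hF 0 k⟩
      (by
        apply Subtype.ext
        show transS m 0 1 * transS m 0 1 = 1
        rw [transS_zero_mul hF hm, ← transS_zero_zero hF hm]
        congr 1
        linear_combination h2)
      (by
        apply Subtype.ext
        show transS m 0 (k : F) * transS m 0 (k : F) = 1
        rw [transS_zero_mul hF hm, ← transS_zero_zero hF hm]
        congr 1
        linear_combination (k : F) * h2)
      (by
        intro p hp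
        obtain ⟨c, rfl⟩ := hpt p
        have := transS_zero_fix hF one_ne_zero c (congrArg Subtype.val hp)
        subst this
        rfl)
      (by
        apply Subtype.ext
        exact transS_inf hF 0 1)
      (by
        intro p hp
        obtain ⟨c, rfl⟩ := hpt p
        have := transS_zero_fix hF hb0 c (congrArg Subtype.val hp)
        subst this
        rfl)
      (by
        apply Subtype.ext
        exact transS_inf hF 0 k)
      (by
        intro p hp
        obtain ⟨c, rfl⟩ := hpt p
        have hp' : (transS m 0 1 * transS m 0 (k : F)) • Cfsg.Agent.S0326.param m c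
            = Cfsg.Agent.S0326.param m c := congrArg Subtype.val hp
        rw [transS_zero_mul hF hm] at hp'
        have := transS_zero_fix hF hb1 c hp'
        subst this
        rfl)
    -- contradiction with transitivity
    obtain ⟨n, hn⟩ := htr.exists_smul_eq (⟨_, inf_mem⟩ : suzukiOvoid F m) ⟨_, zero_mem⟩
    have hn1 : n = 1 := by
      apply Subtype.ext
      have h' : (n : ↥(Sz F m)) ∈ N := n.2
      have : (n : ↥(Sz F m)) ∈ (⊥ : Subgroup ↥(Sz F m)) := by rw [← hbot]; exact h'
      exact Subgroup.mem_bot.1 this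
    rw [hn1, one_smul] at hn
    exact inf_ne_zero' (congrArg Subtype.val hn)

end Cfsg.Agent.Lib.Helper3.Sz
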