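import Mathlib
import Cfsg.Agent.Lib.Helper3.Suzuki7

set_option autoImplicit false

namespace Cfsg.Agent.Lib.Helper3.Sz

open Matrix Cfsg
open scoped Pointwise

variable {F : Type*} [Field F] [Fintype F] {m : ℕ} (hF : Fintype.card F = 2 ^ (2 * m + 1))

include hF in
lemma transS_mul (hm : 1 ≤ m) (a b a' b' : F) :
    transS m a' b' * transS m a b = transS m (a + a') (b + b' + a' ^ (2 ^ (m + 1)) * a) := by
  apply eq_of_forall hF hm _ _ (mul_mem (transS_mem hF a' b') (transS_mem hF a b))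
    (transS_mem hF _ _)
  intro c
  rw [mul_smul, transS_param hF, transS_param hF, transS_param hF]
  rcases c with _ | ⟨x, y⟩
  · rfl
  · simp only [tau, sig_add hF]
    congr 3
    · ring
    · ring

include hF in
lemma transS_injective : Function.Injective (fun p : F × F => transS m p.1 p.2) := by
  intro p p' h
  have h1 := transS_zero hF p.1 p.2
  have h2 := transS_zero hF p'.1 p'.2
  have h' : transS m p.1 p.2 = transS m p'.1 p'.2 := h
  rw [h', h2] at h1
  have := Cfsg.Agent.S0326.param_injective m h1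
  simp only [Option.some.injEq, Prod.mk.injEq] at this
  exact Prod.ext this.1.symm this.2.symm

/-- translation as an element of the Suzuki group -/
def tS (a b : F) : Sz F m := ⟨transS m a b, transS_mem hF a b⟩

lemma tS_mul (hm : 1 ≤ m) (a b a' b' : F) :
    tS hF a' b' * tS hF a b = tS hF (a + a') (b + b' + a' ^ (2 ^ (m + 1)) * a) :=
  Subtype.ext (transS_mul hF hm a b a' b')

lemma tS_zero_zero (hm : 1 ≤ m) : tS hF (0 : F) 0 = 1 := Subtype.ext (transS_zero_zero hF hm)

lemma tS_injective {a b a' b' : F} (h : tS hF a b = tS hF a' b') : a = a' ∧ b = b' := by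
  have h1 : transS m a b = transS m a' b' := congrArg Subtype.val h
  have := transS_injective hF (a₁ := (a, b)) (a₂ := (a', b')) h1
  simpa using this

lemma tS_inv (hm : 1 ≤ m) (a b : F) :
    (tS hF a b)⁻¹ = tS hF a (b + a ^ (2 ^ (m + 1)) * a) := by
  have h2 := two_eq_zero hF
  rw [inv_eq_iff_mul_eq_one, tS_mul hF hm, ← tS_zero_zero hF hm]
  congr 1
  · linear_combination a * h2
  · linear_combination (b + a ^ (2 ^ (m + 1)) * a) * h2

/-- the group of translations -/
def transGroup (hm : 1 ≤ m) : Subgroup (Sz F m) where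
  carrier := Set.range (fun p : F × F => tS hF p.1 p.2)
  mul_mem' := by
    rintro _ _ ⟨p, rfl⟩ ⟨p', rfl⟩
    exact ⟨(p'.1 + p.1, p'.2 + p.2 + p.1 ^ 2 ^ (m + 1) * p'.1), (tS_mul hF hm p'.1 p'.2 p.1 p.2).symm⟩
  one_mem' := ⟨(0, 0), tS_zero_zero hF hm⟩
  inv_mem' := by
    rintro _ ⟨p, rfl⟩
    exact ⟨(p.1, p.2 + p.1 ^ 2 ^ (m + 1) * p.1), (tS_inv hF hm p.1 p.2).symm⟩

lemma mem_transGroup (hm : 1 ≤ m) (x : Sz F m) :
    x ∈ transGroup hF hm ↔ ∃ a b : F, x = tS hF a b := by
  constructor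
  · rintro ⟨p, rfl⟩
    exact ⟨p.1, p.2, rfl⟩
  · rintro ⟨a, b, rfl⟩
    exact ⟨(a, b), rfl⟩

lemma card_transGroup (hm : 1 ≤ m) : Nat.card (transGroup hF hm) = (2 ^ (2 * m + 1)) ^ 2 := by
  have : Nat.card (transGroup hF hm) = Nat.card (Set.range (fun p : F × F => tS hF p.1 p.2)) := rfl
  rw [this, Nat.card_range_of_injective]
  · rw [Nat.card_prod, Nat.card_eq_fintype_card, hF, pow_two]
  · intro p p' h
    have := tS_injective hF h
    exact Prod.ext this.1 this.2

end Cfsg.Agent.Lib.Helper3.Sz
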