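import Mathlib
import Cfsg.Agent.Lib.Helper3.Suzuki8

set_option autoImplicit false

namespace Cfsg.Agent.Lib.Helper3.Sz

open Matrix Cfsg
open scoped Pointwise commutatorElement

variable {F : Type*} [Field F] [Fintype F] {m : ℕ} (hF : Fintype.card F = 2 ^ (2 * m + 1))

include hF in
lemma pow_sig_succ_surjective : Function.Surjective (fun μ : F => μ ^ (2 ^ (m + 1) + 1)) := by
  apply Finite.injective_iff_surjective.1
  intro μ ν h
  have h' : μ ^ (2 ^ (m + 1) + 1) = ν ^ (2 ^ (m + 1) + 1) := h
  by_cases hν : ν = 0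
  · rw [hν, zero_pow (by omega)] at h'
    rw [hν]
    exact pow_eq_zero_iff (by omega) |>.1 h'
  · have h1 : (μ / ν) ^ (2 ^ (m + 1) + 1) = 1 := by
      rw [div_pow, h', div_self (pow_ne_zero _ hν)]
    have h2 := eq_one_of_pow_sig_succ hF h1
    field_simp at h2
    exact h2

include hF in
/-- every element of the field is a "commutator value" -/
lemma exists_comm_value (hm : 1 ≤ m) (c : F) :
    ∃ a a' : F, a ^ (2 ^ (m + 1)) * a' + a' ^ (2 ^ (m + 1)) * a = c := by
  have h2 := two_eq_zero hF
  obtain ⟨k, hk⟩ := exists_unit_ne_one hF hm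
  have hk0 : (k : F) ≠ 0 := k.ne_zero
  have hc0 : (k : F) + (k : F) ^ (2 ^ (m + 1)) ≠ 0 := by
    intro h
    apply hk
    have h1 : (k : F) ^ (2 ^ (m + 1)) = k := by linear_combination h - (k : F) * h2
    have h3 : (k : F) ^ 2 = k := by
      have := congrArg (fun t => t ^ (2 ^ (m + 1))) h1
      simp only [sig_sig hF] at this
      rw [this, h1]
    have h4 : (k : F) * ((k : F) - 1) = 0 := by linear_combination h3
    rcases mul_eq_zero.1 h4 with h5 | h5
    · exact absurd h5 hk0
    · exact Units.ext (by rw [Units.val_one]; linear_combination h5)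
  obtain ⟨μ, hμ⟩ := pow_sig_succ_surjective hF (c / ((k : F) + (k : F) ^ (2 ^ (m + 1))))
  have hμ' : μ ^ (2 ^ (m + 1) + 1) = c / ((k : F) + (k : F) ^ (2 ^ (m + 1))) := hμ
  refine ⟨μ, μ * k, ?_⟩
  have : μ ^ (2 ^ (m + 1)) * (μ * k) + (μ * k) ^ (2 ^ (m + 1)) * μ
      = μ ^ (2 ^ (m + 1) + 1) * ((k : F) + (k : F) ^ (2 ^ (m + 1))) := by
    rw [mul_pow, pow_succ]; ring
  rw [this, hμ']
  field_simp

variable (hm : 1 ≤ m)
include hm

lemma tS_sq (a b : F) : tS hF a b * tS hF a b = tS hF 0 (a ^ (2 ^ (m + 1)) * a) := by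
  have h2 := two_eq_zero hF
  rw [tS_mul hF hm]
  congr 1
  · linear_combination a * h2
  · linear_combination b * h2

lemma tS_zero_sq (c : F) : tS hF (0 : F) c * tS hF 0 c = 1 := by
  have h2 := two_eq_zero hF
  rw [tS_mul hF hm, ← tS_zero_zero hF hm]
  congr 1
  · ring
  · rw [mul_zero, add_zero]; linear_combination c * h2

/-- commutators of translations -/
lemma tS_comm (a b a' b' : F) :
    tS hF (0 : F) (a ^ (2 ^ (m + 1)) * a' + a' ^ (2 ^ (m + 1)) * a) * (tS hF a' b' * tS hF a b)
      = tS hF a b * tS hF a' b' := by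
  have h2 := two_eq_zero hF
  rw [tS_mul hF hm, tS_mul hF hm, tS_mul hF hm]
  congr 1
  · ring
  · rw [zero_pow (by positivity), zero_mul, add_zero]
    linear_combination (a' ^ (2 ^ (m + 1)) * a) * h2


lemma tS_mem (a b : F) : tS hF a b ∈ transGroup hF hm := ⟨(a, b), rfl⟩

/-- the exponent of the translation group -/
theorem exponent_transGroup : Monoid.exponent (transGroup hF hm) = 4 := by
  have h4 : Monoid.exponent (transGroup hF hm) ∣ 2 ^ 2 := by
    apply Monoid.exponent_dvd_of_forall_pow_eq_one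
    intro x
    obtain ⟨a, b, hx⟩ := (mem_transGroup hF hm x.1).1 x.2
    apply Subtype.ext
    show x.1 ^ (2 ^ 2) = 1
    have e : x.1 ^ (2 ^ 2) = (x.1 * x.1) * (x.1 * x.1) := by
      rw [show (2 ^ 2 : ℕ) = 2 + 2 from rfl, pow_add, pow_two]
    rw [e, hx, tS_sq hF hm, tS_zero_sq hF hm]
  have h2 : ¬ Monoid.exponent (transGroup hF hm) ∣ 2 := by
    intro h
    rw [Monoid.exponent_dvd_iff_forall_pow_eq_one] at h
    have h1 := h ⟨tS hF 1 0, tS_mem hF hm 1 0⟩
    have h3 : (tS hF (1 : F) 0) ^ 2 = 1 := congrArg Subtype.val h1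
    rw [pow_two, tS_sq hF hm, ← tS_zero_zero hF hm] at h3
    have := (tS_injective hF h3).2
    simp at this
  obtain ⟨k, hk, hke⟩ := (Nat.dvd_prime_pow Nat.prime_two).1 h4
  interval_cases k
  · rw [hke] at h2; exact absurd (by norm_num) h2
  · rw [hke] at h2; exact absurd (by norm_num) h2
  · rw [hke]; norm_num

lemma mem_center_transGroup (x : transGroup hF hm) :
    x ∈ Subgroup.center (transGroup hF hm) ↔ ∃ c : F, x.1 = tS hF 0 c := by
  have h2 := two_eq_zero hF
  constructor
  · intro hx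
    rw [Subgroup.mem_center_iff] at hx
    obtain ⟨a, b, hab⟩ := (mem_transGroup hF hm x.1).1 x.2
    obtain ⟨k, hk⟩ := exists_unit_ne_one hF hm
    have hk0 : (k : F) ≠ 0 := k.ne_zero
    have e1 := congrArg Subtype.val (hx ⟨tS hF 1 0, tS_mem hF hm 1 0⟩)
    have e2 := congrArg Subtype.val (hx ⟨tS hF (k : F) 0, tS_mem hF hm (k : F) 0⟩)
    simp only [Subgroup.coe_mul] at e1 e2
    rw [hab, tS_mul hF hm, tS_mul hF hm] at e1 e2
    have f1 := (tS_injective hF e1).2
    have f2 := (tS_injective hF e2).2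
    rw [one_pow] at f1
    have ha1 : a ^ (2 ^ (m + 1)) = a := by linear_combination -f1
    have ha2 : a * ((k : F) ^ (2 ^ (m + 1)) - k) = 0 := by
      rw [ha1] at f2
      linear_combination f2
    have ha0 : a = 0 := by
      rcases mul_eq_zero.1 ha2 with h | h
      · exact h
      · exfalso
        apply hk
        have h1 : (k : F) ^ (2 ^ (m + 1)) = k := by linear_combination h
        have h3 : (k : F) ^ 2 = k := by
          have := congrArg (fun t => t ^ (2 ^ (m + 1))) h1
          simp only [sig_sig hF] at this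
          rw [this, h1]
        have h4 : (k : F) * ((k : F) - 1) = 0 := by linear_combination h3
        rcases mul_eq_zero.1 h4 with h5 | h5
        · exact absurd h5 hk0
        · exact Units.ext (by rw [Units.val_one]; linear_combination h5)
    exact ⟨b, by rw [hab, ha0]⟩
  · rintro ⟨c, hc⟩
    rw [Subgroup.mem_center_iff]
    intro g
    obtain ⟨a', b', hg⟩ := (mem_transGroup hF hm g.1).1 g.2
    apply Subtype.ext
    show g.1 * x.1 = x.1 * g.1
    rw [hc, hg, tS_mul hF hm, tS_mul hF hm]
    congr 1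
    · ring
    · rw [zero_pow (by positivity)]; ring

lemma mem_commutator_transGroup (x : transGroup hF hm) :
    x ∈ commutator (transGroup hF hm) ↔ ∃ c : F, x.1 = tS hF 0 c := by
  constructor
  · intro hx
    rw [← mem_center_transGroup hF hm]
    revert x
    show commutator (transGroup hF hm) ≤ Subgroup.center (transGroup hF hm)
    rw [commutator_def, Subgroup.commutator_le]
    intro g₁ _ g₂ _
    rw [mem_center_transGroup hF hm]
    obtain ⟨a, b, h1⟩ := (mem_transGroup hF hm g₁.1).1 g₁.2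
    obtain ⟨a', b', h2⟩ := (mem_transGroup hF hm g₂.1).1 g₂.2
    refine ⟨a ^ (2 ^ (m + 1)) * a' + a' ^ (2 ^ (m + 1)) * a, ?_⟩
    have := tS_comm hF hm a b a' b'
    rw [← h1, ← h2] at this
    rw [commutatorElement_def]
    show g₁.1 * g₂.1 * g₁.1⁻¹ * g₂.1⁻¹ = _
    rw [← this]
    group
  · rintro ⟨c, hc⟩
    obtain ⟨a, a', haa⟩ := exists_comm_value hF hm c
    have hmem : ⁅(⟨tS hF a 0, tS_mem hF hm a 0⟩ : transGroup hF hm),
        (⟨tS hF a' 0, tS_mem hF hm a' 0⟩ : transGroup hF hm)⁆ ∈ commutator (transGroup hF hm) := by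
      rw [commutator_def]
      exact Subgroup.commutator_mem_commutator (Subgroup.mem_top _) (Subgroup.mem_top _)
    convert hmem using 1
    apply Subtype.ext
    rw [commutatorElement_def]
    show x.1 = tS hF a 0 * tS hF a' 0 * (tS hF a 0)⁻¹ * (tS hF a' 0)⁻¹
    have := tS_comm hF hm a 0 a' 0
    rw [haa] at this
    rw [← this, hc]
    group

theorem center_eq_commutator_transGroup :
    Subgroup.center (transGroup hF hm) = commutator (transGroup hF hm) := by
  ext x
  rw [mem_center_transGroup hF hm, mem_commutator_transGroup hF hm]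

theorem card_center_transGroup :
    Nat.card (Subgroup.center (transGroup hF hm)) = 2 ^ (2 * m + 1) := by
  have hmem : ∀ c : F, (⟨tS hF 0 c, tS_mem hF hm 0 c⟩ : transGroup hF hm)
      ∈ Subgroup.center (transGroup hF hm) := by
    intro c
    rw [mem_center_transGroup hF hm]
    exact ⟨c, rfl⟩
  let f : F → Subgroup.center (transGroup hF hm) := fun c => ⟨⟨tS hF 0 c, tS_mem hF hm 0 c⟩, hmem c⟩
  have hf : Function.Bijective f := by
    constructor
    · intro c c' h
      have h1 : tS hF (0 : F) c = tS hF 0 c' := congrArg (fun z => z.1.1) h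
      exact (tS_injective hF h1).2
    · intro x
      obtain ⟨c, hc⟩ := (mem_center_transGroup hF hm x.1).1 x.2
      refine ⟨c, ?_⟩
      apply Subtype.ext
      apply Subtype.ext
      exact hc.symm
  rw [← Nat.card_eq_of_bijective f hf, Nat.card_eq_fintype_card, hF]

end Cfsg.Agent.Lib.Helper3.Sz
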