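import Mathlib
import Cfsg.Agent.Lib.Helper3.Suzuki9

set_option autoImplicit false

namespace Cfsg.Agent.Lib.Helper3.Sz

open Matrix Cfsg
open scoped Pointwise

section transfer
variable {A B : Type*} [Group A] [Group B]

lemma mem_center_equiv (e : A ≃* B) (x : A) :
    x ∈ Subgroup.center A ↔ e x ∈ Subgroup.center B := by
  rw [Subgroup.mem_center_iff, Subgroup.mem_center_iff]
  constructor
  · intro h y
    obtain ⟨y', rfl⟩ := e.surjective y
    rw [← map_mul, ← map_mul, h y']
  · intro h y
    apply e.injective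
    rw [map_mul, map_mul, h (e y)]

lemma mem_commutator_equiv (e : A ≃* B) (x : A) :
    x ∈ commutator A ↔ e x ∈ commutator B := by
  have h : (commutator A).map e.toMonoidHom = commutator B := by
    rw [commutator_def, Subgroup.map_commutator,
      Subgroup.map_top_of_surjective e.toMonoidHom e.surjective, ← commutator_def]
  rw [← h]
  exact (Subgroup.mem_map_iff_mem (f := e.toMonoidHom) e.injective).symm

lemma center_eq_commutator_of_equiv (e : A ≃* B)
    (h : Subgroup.center B = commutator B) : Subgroup.center A = commutator A := by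
  ext x
  rw [mem_center_equiv e, mem_commutator_equiv e, h]

lemma card_center_of_equiv (e : A ≃* B) :
    Nat.card (Subgroup.center A) = Nat.card (Subgroup.center B) := by
  apply Nat.card_congr
  exact
    { toFun := fun x => ⟨e x.1, (mem_center_equiv e x.1).1 x.2⟩
      invFun := fun y => ⟨e.symm y.1, (mem_center_equiv e (e.symm y.1)).2 (by
        rw [MulEquiv.apply_symm_apply]; exact y.2)⟩
      left_inv := fun x => Subtype.ext (e.symm_apply_apply x.1)
      right_inv := fun y => Subtype.ext (e.apply_symm_apply y.1) }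

end transfer

variable {F : Type*} [Field F] [Fintype F] {m : ℕ} (hF : Fintype.card F = 2 ^ (2 * m + 1))

lemma finite_Sz : Finite (Sz F m) := by
  have : Finite (Matrix.SpecialLinearGroup (Fin 4) F) := by
    classical
    exact Finite.of_injective (fun A => A.1) Subtype.val_injective
  infer_instance

include hF in
lemma factorization_card_Sz (hm : 1 ≤ m) :
    (Nat.card (Sz F m)).factorization 2 = 2 * (2 * m + 1) := by
  rw [card_Sz hF hm]
  have h1 : (2 ^ (2 * m + 1)) ^ 2 ≠ 0 := by positivity
  have h2 : (2 ^ (2 * m + 1)) ^ 2 + 1 ≠ 0 := by positivity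
  have h3 : 2 ^ (2 * m + 1) - 1 ≠ 0 := by
    have : 2 ^ 1 ≤ 2 ^ (2 * m + 1) := Nat.pow_le_pow_right (by norm_num) (by omega)
    omega
  rw [Nat.factorization_mul (mul_ne_zero h1 h2) h3, Nat.factorization_mul h1 h2]
  simp only [Finsupp.coe_add, Pi.add_apply]
  have e1 : ((2 ^ (2 * m + 1)) ^ 2).factorization 2 = 2 * (2 * m + 1) := by
    rw [← pow_mul, Nat.Prime.factorization_pow Nat.prime_two]
    simp [mul_comm]
  have e2 : ((2 ^ (2 * m + 1)) ^ 2 + 1).factorization 2 = 0 := by
    apply Nat.factorization_eq_zero_of_not_dvd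
    rw [← pow_mul]
    intro h
    have : 2 ∣ 2 ^ ((2 * m + 1) * 2) := dvd_pow_self 2 (by omega)
    omega
  have e3 : (2 ^ (2 * m + 1) - 1).factorization 2 = 0 := by
    apply Nat.factorization_eq_zero_of_not_dvd
    intro h
    have : 2 ∣ 2 ^ (2 * m + 1) := dvd_pow_self 2 (by omega)
    have h4 : 2 ^ 1 ≤ 2 ^ (2 * m + 1) := Nat.pow_le_pow_right (by norm_num) (by omega)
    omega
  rw [e1, e2, e3, add_zero, add_zero]

include hF in
theorem sylow2 (hm : 1 ≤ m) (P : Sylow 2 (Sz F m)) :
    Nat.card P = (2 ^ (2 * m + 1)) ^ 2 ∧ Monoid.exponent P = 4 ∧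
      Subgroup.center P = commutator P ∧ Nat.card (Subgroup.center P) = 2 ^ (2 * m + 1) := by
  have hfin : Finite (Sz F m) := finite_Sz
  have : Fact (Nat.Prime 2) := ⟨Nat.prime_two⟩
  have hcardT : Nat.card (transGroup hF hm) = 2 ^ (Nat.card (Sz F m)).factorization 2 := by
    rw [card_transGroup hF hm, factorization_card_Sz hF hm, ← pow_mul, mul_comm]
  let Q : Sylow 2 (Sz F m) := Sylow.ofCard (transGroup hF hm) hcardT
  obtain ⟨g, hg⟩ := MulAction.exists_smul_eq (Sz F m) Q P
  have e0 : (transGroup hF hm) ≃* ↥(g • Q : Sylow 2 (Sz F m)) := Sylow.equivSMul Q g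
  rw [hg] at e0
  have e : ↥(P : Subgroup (Sz F m)) ≃* transGroup hF hm := e0.symm
  refine ⟨?_, ?_, ?_, ?_⟩
  · rw [Nat.card_congr e.toEquiv, card_transGroup hF hm]
  · rw [Monoid.exponent_eq_of_mulEquiv e, exponent_transGroup hF hm]
  · exact center_eq_commutator_of_equiv e (center_eq_commutator_transGroup hF hm)
  · rw [card_center_of_equiv e, card_center_transGroup hF hm]

end Cfsg.Agent.Lib.Helper3.Sz
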