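import Mathlib
import Cfsg.Agent.Lib.Helper3.Suzuki10

set_option autoImplicit false

namespace Cfsg.Agent.Lib.Helper3.Sz

open Matrix Cfsg
open scoped Pointwise

variable {F : Type*} [Field F] [Fintype F] {m : ℕ} (hF : Fintype.card F = 2 ^ (2 * m + 1))

/-- torus element of the Suzuki group -/
def kS (k : Fˣ) : Sz F m := ⟨torS m k, torS_mem hF k⟩

/-- the involution `w` of the Suzuki group -/
def wS : Sz F m := ⟨invS, invS_mem hF⟩

include hF in
lemma torS_transS (hm : 1 ≤ m) (k : Fˣ) (a b : F) :
    torS m k * transS m a b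
      = transS m ((k : F) * a) ((k : F) ^ (2 ^ (m + 1) + 1) * b) * torS m k := by
  apply eq_of_forall hF hm _ _ (mul_mem (torS_mem hF k) (transS_mem hF a b))
    (mul_mem (transS_mem hF _ _) (torS_mem hF k))
  intro c
  rw [mul_smul, mul_smul, transS_param hF, torS_param hF, torS_param hF, transS_param hF]
  rcases c with _ | ⟨x, y⟩
  · rfl
  · simp only [tau, delta]
    congr 3
    · ring
    · rw [mul_pow]; ring

lemma kS_tS (hm : 1 ≤ m) (k : Fˣ) (a b : F) :
    kS hF k * tS hF a b = tS hF ((k : F) * a) ((k : F) ^ (2 ^ (m + 1) + 1) * b) * kS hF k :=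
  Subtype.ext (torS_transS hF hm k a b)

lemma kS_one : kS (m := m) hF (1 : Fˣ) = 1 := Subtype.ext (torS_one (m := m))

lemma kS_mul (k l : Fˣ) : kS (m := m) hF (k * l) = kS hF k * kS hF l :=
  Subtype.ext ((torHom m).map_mul k l)

include hF in
/-- a translation other than the identity fixes only the point at infinity -/
lemma transS_fix {a b : F} (hab : (a, b) ≠ (0, 0)) (c : Option (F × F))
    (h : transS m a b • Cfsg.Agent.S0326.param m c = Cfsg.Agent.S0326.param m c) : c = none := by
  rw [transS_param hF] at h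
  have := Cfsg.Agent.S0326.param_injective m h
  rcases c with _ | ⟨x, y⟩
  · rfl
  · exfalso
    simp only [tau, Option.some.injEq, Prod.mk.injEq] at this
    obtain ⟨h1, h2⟩ := this
    have ha : a = 0 := by linear_combination h1
    subst ha
    apply hab
    have hb : b = 0 := by
      rw [zero_pow (by positivity), zero_mul, add_zero] at h2
      linear_combination h2
    rw [hb]

include hF in
/-- the equation `u^σ + u = 1` has no solution -/
lemma sig_add_self_ne_one (u : F) : u ^ (2 ^ (m + 1)) + u ≠ 1 := by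
  intro h
  have h2 := two_eq_zero hF
  have h1 : (u ^ (2 ^ (m + 1)) + u) ^ (2 ^ (m + 1)) = 1 := by rw [h, one_pow]
  rw [sig_add hF, sig_sig hF] at h1
  have h3 : u ^ 2 + u = 0 := by linear_combination h1 + h + (1 - u ^ (2 ^ (m + 1))) * h2
  have h4 : u * (u + 1) = 0 := by linear_combination h3
  rcases mul_eq_zero.1 h4 with h5 | h5
  · rw [h5, zero_pow (by positivity), add_zero] at h
    exact zero_ne_one h
  · have h6 : u = 1 := by linear_combination h5 - h2
    rw [h6, one_pow] at h
    have : (2 : F) = 1 := by linear_combination h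
    rw [h2] at this
    exact zero_ne_one this

/-- every Sylow 2-subgroup is conjugate to the translation group -/
lemma exists_conj_transGroup (hm : 1 ≤ m) (P : Sylow 2 (Sz F m)) :
    ∃ h : Sz F m, ∀ g : Sz F m, g ∈ P ↔ h⁻¹ * g * h ∈ transGroup hF hm := by
  have hfin : Finite (Sz F m) := finite_Sz
  have : Fact (Nat.Prime 2) := ⟨Nat.prime_two⟩
  have hcardT : Nat.card (transGroup hF hm) = 2 ^ (Nat.card (Sz F m)).factorization 2 := by
    rw [card_transGroup hF hm, factorization_card_Sz hF hm, ← pow_mul, mul_comm]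
  let Q : Sylow 2 (Sz F m) := Sylow.ofCard (transGroup hF hm) hcardT
  obtain ⟨h, hh⟩ := MulAction.exists_smul_eq (Sz F m) Q P
  refine ⟨h, fun g => ?_⟩
  rw [← hh, Sylow.smul_def]
  have h1 : g ∈ MulAut.conj h • Q ↔ g ∈ ((MulAut.conj h • Q : Sylow 2 (Sz F m)) : Subgroup (Sz F m)) :=
    Iff.rfl
  rw [h1, Sylow.pointwise_smul_def, Subgroup.mem_pointwise_smul_iff_inv_smul_mem]
  have : (MulAut.conj h)⁻¹ • g = h⁻¹ * g * h := by
    rw [← map_inv, MulAut.smul_def, MulAut.conj_apply, inv_inv]
  rw [this]
  rfl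

end Cfsg.Agent.Lib.Helper3.Sz
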