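import Mathlib
import Cfsg.Agent.Lib.Helper3.Suzuki11
import Cfsg.Agent.S0325

set_option autoImplicit false

namespace Cfsg.Agent.Lib.Helper3.Sz

open Matrix Cfsg
open scoped Pointwise

variable {F : Type*} [Field F] [Fintype F] {m : ℕ} (hF : Fintype.card F = 2 ^ (2 * m + 1))
  (hm : 1 ≤ m)

/-- the stabiliser of the point at infinity -/
def stabInf (F : Type*) [Field F] (m : ℕ) : Subgroup (Sz F m) :=
  MulAction.stabilizer (Sz F m) (suzukiPointInfinity F)

omit [Fintype F] in
lemma mem_stabInf_iff (g : Sz F m) :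
    g ∈ stabInf F m ↔ (g : Matrix.SpecialLinearGroup (Fin 4) F) • suzukiPointInfinity F
      = suzukiPointInfinity F := Iff.rfl

include hm in
lemma mem_stabInf_iff_exists (g : Sz F m) :
    g ∈ stabInf F m ↔ ∃ (c d : F) (k : Fˣ), g = tS hF c d * kS hF k := by
  constructor
  · intro hg
    obtain ⟨c, d, k, hk⟩ := decomp_of_fix_inf hF hm g.1 g.2 ((mem_stabInf_iff g).1 hg)
    exact ⟨c, d, k, Subtype.ext hk⟩
  · rintro ⟨c, d, k, rfl⟩
    rw [mem_stabInf_iff]
    show (transS m c d * torS m k) • suzukiPointInfinity F = suzukiPointInfinity F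
    rw [mul_smul, torS_inf hF, transS_inf hF]

include hm in
lemma conj_mem_transGroup {g t : Sz F m} (hg : g ∈ stabInf F m) (ht : t ∈ transGroup hF hm) :
    g * t * g⁻¹ ∈ transGroup hF hm := by
  obtain ⟨c, d, k, rfl⟩ := (mem_stabInf_iff_exists hF hm g).1 hg
  obtain ⟨a, b, rfl⟩ := (mem_transGroup hF hm t).1 ht
  have : tS hF c d * kS hF k * tS hF a b * (tS hF c d * kS hF k)⁻¹
      = tS hF c d * tS hF ((k : F) * a) ((k : F) ^ (2 ^ (m + 1) + 1) * b) * (tS hF c d)⁻¹ := by
    rw [mul_assoc (tS hF c d), kS_tS hF hm]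
    group
  rw [this]
  exact mul_mem (mul_mem (tS_mem hF hm _ _) (tS_mem hF hm _ _)) (inv_mem (tS_mem hF hm _ _))

include hm in
lemma tS_one_zero_ne_one : tS hF (1 : F) 0 ≠ 1 := by
  intro h
  rw [← tS_zero_zero hF hm] at h
  exact one_ne_zero (tS_injective hF h).1

include hm in
/-- a non-identity translation fixes only the point at infinity -/
lemma eq_inf_of_fix {t : Sz F m} (ht : t ∈ transGroup hF hm) (ht1 : t ≠ 1) (g : Sz F m)
    (h : (t : Matrix.SpecialLinearGroup (Fin 4) F) •
      ((g : Matrix.SpecialLinearGroup (Fin 4) F) • suzukiPointInfinity F)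
      = (g : Matrix.SpecialLinearGroup (Fin 4) F) • suzukiPointInfinity F) :
    g ∈ stabInf F m := by
  obtain ⟨a, b, rfl⟩ := (mem_transGroup hF hm t).1 ht
  have hmem : (g : Matrix.SpecialLinearGroup (Fin 4) F) • suzukiPointInfinity F ∈ suzukiOvoid F m := by
    apply smul_mem_ovoid g.2
    rw [inf_eq (m := m), ← Cfsg.Agent.S0326.range_param]; exact ⟨_, rfl⟩
  rw [← Cfsg.Agent.S0326.range_param] at hmem
  obtain ⟨c, hc⟩ := hmem
  rw [← hc] at h
  have hcn : c = none := transS_fix hF (by
    intro hab
    apply ht1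
    simp only [Prod.mk.injEq] at hab
    rw [hab.1, hab.2]
    exact tS_zero_zero hF hm) c h
  subst hcn
  rw [mem_stabInf_iff]
  exact hc.symm

include hm in
theorem normalizer_transGroup :
    Subgroup.normalizer ((transGroup hF hm : Subgroup (Sz F m)) : Set (Sz F m)) = stabInf F m := by
  ext g
  constructor
  · intro hg
    rw [Subgroup.mem_normalizer_iff] at hg
    have ht := (hg _).1 (tS_mem hF hm (1 : F) 0)
    have ht1 : g * tS hF (1 : F) 0 * g⁻¹ ≠ 1 := by
      intro h
      apply tS_one_zero_ne_one hF hm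
      have : tS hF (1 : F) 0 = g⁻¹ * (g * tS hF (1 : F) 0 * g⁻¹) * g := by group
      rw [this, h]; group
    apply eq_inf_of_fix hF hm ht ht1 g
    show (g.1 * (transS m (1 : F) 0) * g.1⁻¹) • (g.1 • suzukiPointInfinity F) = _
    rw [← mul_smul, inv_mul_cancel_right, mul_smul, transS_inf hF]
  · intro hg
    rw [Subgroup.mem_normalizer_iff]
    intro t
    constructor
    · exact conj_mem_transGroup hF hm hg
    · intro h
      have := conj_mem_transGroup hF hm (inv_mem hg) h
      have e : g⁻¹ * (g * t * g⁻¹) * g⁻¹⁻¹ = t := by group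
      rwa [e] at this

include hm in
/-- the translation group is transitive on the points other than the point at infinity -/
lemma exists_tS_smul {g x : Sz F m} (hg : g ∉ stabInf F m) (hx : x ∉ stabInf F m) :
    ∃ t ∈ transGroup hF hm, x⁻¹ * (t * g) ∈ stabInf F m := by
  have key : ∀ y : Sz F m, y ∉ stabInf F m → ∃ a b : F,
      (y : Matrix.SpecialLinearGroup (Fin 4) F) • suzukiPointInfinity F
        = Cfsg.Agent.S0326.param m (some (a, b)) := by
    intro y hy
    have hmem : (y : Matrix.SpecialLinearGroup (Fin 4) F) • suzukiPointInfinity F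
        ∈ suzukiOvoid F m := by
      apply smul_mem_ovoid y.2
      rw [inf_eq (m := m), ← Cfsg.Agent.S0326.range_param]; exact ⟨_, rfl⟩
    rw [← Cfsg.Agent.S0326.range_param] at hmem
    obtain ⟨c, hc⟩ := hmem
    rcases c with _ | ⟨a, b⟩
    · exact absurd ((mem_stabInf_iff y).2 hc.symm) hy
    · exact ⟨a, b, hc.symm⟩
  obtain ⟨a, b, hab⟩ := key g hg
  obtain ⟨a', b', hab'⟩ := key x hx
  -- the translation taking `(a, b)` to `(a', b')`
  refine ⟨tS hF a' b' * (tS hF a b)⁻¹, mul_mem (tS_mem hF hm _ _) (inv_mem (tS_mem hF hm _ _)), ?_⟩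
  rw [mem_stabInf_iff]
  show (x.1⁻¹ * (transS m a' b' * (transS m a b)⁻¹ * g.1)) • suzukiPointInfinity F = _
  rw [mul_smul, mul_smul, mul_smul, hab, ← transS_zero hF a b, inv_smul_smul, transS_zero hF,
    ← hab', inv_smul_smul]

lemma wS_not_mem : wS hF ∉ stabInf F m := by
  intro h
  rw [mem_stabInf_iff] at h
  have : (invS : Matrix.SpecialLinearGroup (Fin 4) F) • suzukiPointInfinity F
      = suzukiPointInfinity F := h
  rw [invS_inf hF] at this
  exact inf_ne_zero' this.symm

include hF hm in
theorem isCoatom_stabInf : IsCoatom (stabInf F m) := by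
  constructor
  · intro h
    apply wS_not_mem hF
    rw [h]
    exact Subgroup.mem_top _
  · intro M hM
    obtain ⟨g, hgM, hg⟩ := SetLike.exists_of_lt hM
    rw [eq_top_iff]
    intro x _
    by_cases hx : x ∈ stabInf F m
    · exact hM.le hx
    · obtain ⟨t, ht, hmem⟩ := exists_tS_smul hF hm hg hx
      have htM : t ∈ M := by
        apply hM.le
        rw [← normalizer_transGroup hF hm]
        exact Subgroup.le_normalizer ht
      have h1 : x⁻¹ * (t * g) ∈ M := hM.le hmem
      have h2 : x = (t * g) * (x⁻¹ * (t * g))⁻¹ := by group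
      rw [h2]
      exact mul_mem (mul_mem htM hgM) (inv_mem h1)

include hm in
/-- the only maximal subgroup containing the translation group -/
theorem eq_stabInf_of_isCoatom (M : Subgroup (Sz F m)) (hM : IsCoatom M)
    (hQ : transGroup hF hm ≤ M) : M = stabInf F m := by
  by_cases hle : M ≤ stabInf F m
  · rcases (hM.le_iff).1 hle with h | h
    · exact absurd h (isCoatom_stabInf hF hm).1
    · exact h.symm
  · exfalso
    obtain ⟨g, hgM, hg⟩ := SetLike.not_le_iff_exists.1 hle
    apply hM.1
    -- every conjugate of the translation group lies in `M`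
    have hconj : ∀ y : Sz F m, ∀ t ∈ transGroup hF hm, y * t * y⁻¹ ∈ M := by
      intro y t ht
      by_cases hy : y ∈ stabInf F m
      · exact hQ (conj_mem_transGroup hF hm hy ht)
      · obtain ⟨s, hs, hmem⟩ := exists_tS_smul hF hm hg hy
        -- `z = s * g ∈ M` and `z⁻¹ * y` fixes the point at infinity
        have hz : s * g ∈ M := mul_mem (hQ hs) hgM
        have hmem' : (s * g)⁻¹ * y ∈ stabInf F m := by
          have : (s * g)⁻¹ * y = (y⁻¹ * (s * g))⁻¹ := by group
          rw [this]
          exact inv_mem hmem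
        have h1 := conj_mem_transGroup hF hm hmem' ht
        have h2 : y * t * y⁻¹ = (s * g) * ((s * g)⁻¹ * y * t * ((s * g)⁻¹ * y)⁻¹) * (s * g)⁻¹ := by
          group
        rw [h2]
        exact mul_mem (mul_mem hz (hQ h1)) (inv_mem hz)
    have hsimple : IsSimpleGroup (Sz F m) := Cfsg.Agent.S0325.result hm hF
    have hN : Subgroup.normalClosure ((transGroup hF hm : Subgroup (Sz F m)) : Set (Sz F m)) = ⊤ := by
      rcases (Subgroup.normalClosure_normal (s := ((transGroup hF hm : Subgroup (Sz F m)) :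
        Set (Sz F m)))).eq_bot_or_eq_top with h | h
      · exfalso
        apply tS_one_zero_ne_one hF hm
        have : tS hF (1 : F) 0 ∈ Subgroup.normalClosure
            ((transGroup hF hm : Subgroup (Sz F m)) : Set (Sz F m)) :=
          Subgroup.subset_normalClosure (tS_mem hF hm _ _)
        rw [h] at this
        exact Subgroup.mem_bot.1 this
      · exact h
    rw [eq_top_iff, ← hN, Subgroup.normalClosure, Subgroup.closure_le]
    intro z hz
    rw [Group.mem_conjugatesOfSet_iff] at hz
    obtain ⟨t, ht, htz⟩ := hz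
    rw [isConj_iff] at htz
    obtain ⟨y, rfl⟩ := htz
    exact hconj y t ht

end Cfsg.Agent.Lib.Helper3.Sz
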