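import Mathlib
import Cfsg.Agent.Lib.Helper3.Suzuki12

set_option autoImplicit false

namespace Cfsg.Agent.Lib.Helper3.Sz

open Matrix Cfsg
open scoped Pointwise

variable {F : Type*} [Field F] [Fintype F] {m : ℕ} (hF : Fintype.card F = 2 ^ (2 * m + 1))
  (hm : 1 ≤ m)

omit [Fintype F] in
/-- the involution `w` inverts the torus -/
lemma invS_torS (k : Fˣ) :
    (invS : Matrix.SpecialLinearGroup (Fin 4) F) * torS m k * invS = torS m k⁻¹ := by
  apply Subtype.ext
  rw [Matrix.SpecialLinearGroup.coe_mul, Matrix.SpecialLinearGroup.coe_mul]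
  show invM * torM m k * invM = torM m k⁻¹
  ext i j
  fin_cases i <;> fin_cases j <;>
    simp [invM, torM, Matrix.mul_apply, Fin.sum_univ_four, Matrix.vecMul_diagonal]

lemma wS_kS (k : Fˣ) : wS hF * kS (m := m) hF k * wS hF = kS hF k⁻¹ :=
  Subtype.ext (invS_torS k)

omit [Fintype F] in
lemma invS_mul_self : (invS : Matrix.SpecialLinearGroup (Fin 4) F) * invS = 1 := by
  apply Subtype.ext
  rw [Matrix.SpecialLinearGroup.coe_mul]
  show invM * invM = 1
  ext i j
  fin_cases i <;> fin_cases j <;> simp [invM, Matrix.mul_apply, Fin.sum_univ_four]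

lemma wS_mul_self : wS (m := m) hF * wS hF = 1 := Subtype.ext invS_mul_self

include hm in
/-- the centraliser of a central involution of the translation group -/
lemma mem_transGroup_of_commute {b : F} (hb : b ≠ 0) (g : Sz F m)
    (hg : g * tS hF 0 b = tS hF 0 b * g) : g ∈ transGroup hF hm := by
  have ht1 : tS hF (0 : F) b ≠ 1 := by
    intro h
    rw [← tS_zero_zero hF hm] at h
    exact hb (tS_injective hF h).2
  have hgB : g ∈ stabInf F m := by
    apply eq_inf_of_fix hF hm (tS_mem hF hm 0 b) ht1 g
    show (transS m (0 : F) b) • (g.1 • suzukiPointInfinity F) = _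
    have := congrArg Subtype.val hg
    have h' : g.1 * transS m (0 : F) b = transS m (0 : F) b * g.1 := this
    rw [← mul_smul, ← h', mul_smul, transS_inf hF]
  obtain ⟨c, d, k, rfl⟩ := (mem_stabInf_iff_exists hF hm g).1 hgB
  rw [mul_assoc, kS_tS hF hm, ← mul_assoc, ← mul_assoc, mul_left_inj, tS_mul hF hm,
    tS_mul hF hm] at hg
  have h2 := (tS_injective hF hg).2
  have hk1 : (k : F) ^ (2 ^ (m + 1) + 1) = 1 := by
    have : ((k : F) ^ (2 ^ (m + 1) + 1) - 1) * b = 0 := by
      simp only [mul_zero, zero_pow (by positivity : 2 ^ (m + 1) ≠ 0), zero_mul, add_zero] at h2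
      linear_combination h2
    rcases mul_eq_zero.1 this with h | h
    · linear_combination h
    · exact absurd h hb
  have hk : k = 1 := Units.ext (eq_one_of_pow_sig_succ hF hk1)
  rw [hk, kS_one, mul_one]
  exact tS_mem hF hm c d

include hm in
/-- the centraliser of a non-identity element of the torus -/
lemma exists_kS_of_commute {k : Fˣ} (hk : k ≠ 1) (g : Sz F m)
    (hg : g * kS hF k = kS hF k * g) : ∃ l : Fˣ, g = kS hF l := by
  have hg' : g.1 * torS m k = torS m k * g.1 := congrArg Subtype.val hg
  -- the fixed points of `torS k` are the two base points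
  have hfix : ∀ c : Option (F × F),
      torS m k • Cfsg.Agent.S0326.param m c = Cfsg.Agent.S0326.param m c →
      c = none ∨ c = some ((0 : F), (0 : F)) := by
    intro c hc
    rcases c with _ | ⟨x, y⟩
    · left; rfl
    · right
      by_contra hne
      apply hk
      apply torS_eq_one_of_fix hF k x y _ hc
      intro h
      apply hne
      rw [h]
  have hmem : ∀ c : Option (F × F), ∃ c' : Option (F × F),
      g.1 • Cfsg.Agent.S0326.param m c = Cfsg.Agent.S0326.param m c' := by
    intro c
    have : g.1 • Cfsg.Agent.S0326.param m c ∈ suzukiOvoid F m := by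
      apply smul_mem_ovoid g.2
      rw [← Cfsg.Agent.S0326.range_param]; exact ⟨_, rfl⟩
    rw [← Cfsg.Agent.S0326.range_param] at this
    obtain ⟨c', hc'⟩ := this
    exact ⟨c', hc'.symm⟩
  have hperm : ∀ c : Option (F × F),
      torS m k • Cfsg.Agent.S0326.param m c = Cfsg.Agent.S0326.param m c →
      torS m k • (g.1 • Cfsg.Agent.S0326.param m c) = g.1 • Cfsg.Agent.S0326.param m c := by
    intro c hc
    rw [← mul_smul, ← hg', mul_smul, hc]
  have hinf0 : torS m k • Cfsg.Agent.S0326.param m none = Cfsg.Agent.S0326.param (F := F) m none := by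
    rw [← inf_eq]; exact torS_inf hF k
  have hzero0 : torS m k • Cfsg.Agent.S0326.param m (some ((0 : F), (0 : F)))
      = Cfsg.Agent.S0326.param m (some ((0 : F), (0 : F))) := by
    rw [← zero_eq]; exact torS_zero hF k
  obtain ⟨c1, hc1⟩ := hmem none
  obtain ⟨c2, hc2⟩ := hmem (some ((0 : F), (0 : F)))
  have h1 := hperm none hinf0
  have h2 := hperm _ hzero0
  rw [hc1] at h1
  rw [hc2] at h2
  have hne : c1 ≠ c2 := by
    intro h
    rw [h, ← hc2] at hc1
    have := MulAction.injective g.1 hc1
    have := Cfsg.Agent.S0326.param_injective m this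
    exact absurd this (by simp)
  rcases hfix c1 h1 with e1 | e1
  · -- `g` fixes both base points
    rcases hfix c2 h2 with e2 | e2
    · exact absurd (e1.trans e2.symm) hne
    · rw [e1] at hc1
      rw [e2] at hc2
      obtain ⟨l, hl⟩ := eq_torS hF hm g.1 g.2 hc1 hc2
      exact ⟨l, Subtype.ext hl⟩
  · -- `g` swaps them
    exfalso
    rcases hfix c2 h2 with e2 | e2
    · rw [e1] at hc1
      rw [e2] at hc2
      -- `g * w` fixes both base points
      have hw1 : (g.1 * invS) • Cfsg.Agent.S0326.param (F := F) m none
          = Cfsg.Agent.S0326.param m none := by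
        rw [mul_smul, ← inf_eq, invS_inf hF, zero_eq (m := m), hc2]
        exact (inf_eq (m := m)).symm
      have hw2 : (g.1 * invS) • Cfsg.Agent.S0326.param m (some ((0 : F), (0 : F)))
          = Cfsg.Agent.S0326.param m (some ((0 : F), (0 : F))) := by
        have hz : (invS : Matrix.SpecialLinearGroup (Fin 4) F) • suzukiPointZero F
            = suzukiPointInfinity F := by
          rw [← invS_inf hF, ← mul_smul, invS_mul_self, one_smul]
        rw [mul_smul, ← zero_eq, hz, inf_eq (m := m), hc1]
        exact (zero_eq (m := m)).symm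
      obtain ⟨l, hl⟩ := eq_torS hF hm (g.1 * invS) (mul_mem g.2 (invS_mem hF)) hw1 hw2
      have hgl : g.1 = torS m l * invS := by
        rw [← hl, mul_assoc, invS_mul_self, mul_one]
      rw [hgl] at hg'
      -- `w` commutes with `torS k`, so `k = k⁻¹`
      have h3 : invS * torS m k * invS = torS m k := by
        have h4 : torS m l * (invS * torS m k) = torS m l * (torS m k * invS) := by
          have e : torS m k * (torS m l * invS) = torS m l * (torS m k * invS) := by
            rw [← mul_assoc, ← mul_assoc]
            congr 1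
            show (torHom m) k * (torHom m) l = (torHom m) l * (torHom m) k
            rw [← map_mul, ← map_mul, mul_comm]
          rw [← e, ← hg', mul_assoc]
        have h5 := mul_left_cancel h4
        rw [h5, mul_assoc, invS_mul_self, mul_one]
      rw [invS_torS] at h3
      have h6 := torS_injective hF h3
      apply hk
      have h7 : (k : F) * k = 1 := by
        have : k * k = 1 := by
          nth_rewrite 1 [← h6]
          exact inv_mul_cancel k
        have := congrArg Units.val this
        simpa using this
      apply Units.ext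
      rw [Units.val_one]
      exact sq_eq_one hF (by rw [pow_two]; exact h7)
    · exact absurd (e1.trans e2.symm) hne

end Cfsg.Agent.Lib.Helper3.Sz
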