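import Mathlib
import Cfsg.Agent.Lib.Helper3.Suzuki13
import Cfsg.Agent.Lib.Helper3.SingerTorus
import Cfsg.Agent.S0332

set_option autoImplicit false

namespace Cfsg.Agent.Lib.Helper3.Sz

open Matrix Cfsg Cfsg.Agent.Lib.Helper3
open scoped Pointwise

variable {F : Type*} [Field F] [Fintype F] {m : ℕ} (hF : Fintype.card F = 2 ^ (2 * m + 1))
  (hm : 1 ≤ m)

include hF hm in
/-- the centraliser of an involution is a 2-group -/
lemma isPGroup_centralizer_of_orderOf_two (y : Sz F m) (hy : orderOf y = 2) :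
    IsPGroup 2 (Subgroup.centralizer ({y} : Set (Sz F m))) := by
  have hfin : Finite (Sz F m) := finite_Sz
  have : Fact (Nat.Prime 2) := ⟨Nat.prime_two⟩
  have hy1 : y ≠ 1 := by
    intro h
    rw [h, orderOf_one] at hy
    omega
  have hyp : IsPGroup 2 (Subgroup.zpowers y) := by
    apply IsPGroup.of_card (n := 1)
    rw [Nat.card_zpowers, hy, pow_one]
  obtain ⟨P, hP⟩ := hyp.exists_le_sylow
  obtain ⟨h, hh⟩ := exists_conj_transGroup hF hm P
  obtain ⟨a, b, hab⟩ := (mem_transGroup hF hm _).1 ((hh y).1 (hP (Subgroup.mem_zpowers y)))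
  have hysq : y * y = 1 := by
    rw [← pow_two, ← hy]; exact pow_orderOf_eq_one y
  have hsq : (h⁻¹ * y * h) * (h⁻¹ * y * h) = 1 := by
    calc (h⁻¹ * y * h) * (h⁻¹ * y * h) = h⁻¹ * (y * y) * h := by group
      _ = 1 := by rw [hysq]; group
  rw [hab, tS_sq hF hm, ← tS_zero_zero hF hm] at hsq
  have ha : a = 0 := by
    have h1 := (tS_injective hF hsq).2
    have h2 : a ^ (2 ^ (m + 1) + 1) = 0 := by rw [pow_succ]; exact h1
    exact pow_eq_zero_iff (by positivity) |>.1 h2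
  subst ha
  have hb : b ≠ 0 := by
    intro hb
    apply hy1
    rw [hb, tS_zero_zero hF hm] at hab
    have : y = h * 1 * h⁻¹ := by rw [← hab]; group
    rw [this]; group
  intro c
  refine ⟨2, ?_⟩
  have hc : c.1 * y = y * c.1 := Subgroup.mem_centralizer_singleton_iff.1 c.2
  have hc' : (h⁻¹ * c.1 * h) * tS hF 0 b = tS hF 0 b * (h⁻¹ * c.1 * h) := by
    rw [← hab]
    calc h⁻¹ * c.1 * h * (h⁻¹ * y * h) = h⁻¹ * (c.1 * y) * h := by group
      _ = h⁻¹ * (y * c.1) * h := by rw [hc]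
      _ = h⁻¹ * y * h * (h⁻¹ * c.1 * h) := by group
  have hmemQ := mem_transGroup_of_commute hF hm hb _ hc'
  obtain ⟨a', b', hab'⟩ := (mem_transGroup hF hm _).1 hmemQ
  have h4 : (h⁻¹ * c.1 * h) ^ (2 ^ 2) = 1 := by
    have e : (h⁻¹ * c.1 * h) ^ (2 ^ 2)
        = ((h⁻¹ * c.1 * h) * (h⁻¹ * c.1 * h)) * ((h⁻¹ * c.1 * h) * (h⁻¹ * c.1 * h)) := by
      rw [show (2 ^ 2 : ℕ) = 2 + 2 from rfl, pow_add, pow_two]
    rw [e, hab', tS_sq hF hm, tS_zero_sq hF hm]
  apply Subtype.ext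
  show c.1 ^ (2 ^ 2) = 1
  have e2 : (h⁻¹ * c.1 * h) ^ (2 ^ 2) = h⁻¹ * c.1 ^ (2 ^ 2) * h := by
    have : h⁻¹ * c.1 * h = MulAut.conj h⁻¹ c.1 := by
      rw [MulAut.conj_apply, inv_inv]
    rw [this, ← map_pow, MulAut.conj_apply, inv_inv]
  rw [e2] at h4
  have : c.1 ^ (2 ^ 2) = h * (h⁻¹ * c.1 ^ (2 ^ 2) * h) * h⁻¹ := by group
  rw [this, h4]; group

/-- the torus as a subgroup -/
def torusH : Subgroup (Sz F m) := (Cfsg.Agent.S0331.torSz (m := m) hF).range

lemma mem_torusH (x : Sz F m) : x ∈ torusH hF ↔ ∃ k : Fˣ, x = kS hF k := by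
  constructor
  · rintro ⟨k, rfl⟩
    exact ⟨k, rfl⟩
  · rintro ⟨k, rfl⟩
    exact ⟨k, rfl⟩

lemma card_torusH : Nat.card (torusH (m := m) hF) = 2 ^ (2 * m + 1) - 1 := by
  rw [torusH, ← Nat.card_congr (MonoidHom.ofInjective
    (Cfsg.Agent.S0331.torSz_injective hF)).toEquiv, card_units hF]

lemma isCyclic_torusH : IsCyclic (torusH (m := m) hF) :=
  isCyclic_of_surjective (Cfsg.Agent.S0331.torSz hF).rangeRestrict
    (Cfsg.Agent.S0331.torSz hF).rangeRestrict_surjective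

include hm in
/-- elements of odd prime order not dividing `q ^ 2 + 1` are conjugate into the torus, together with
their centralisers -/
lemma exists_conj_torus {p : ℕ} [Fact p.Prime] (hp2 : p ≠ 2)
    (hdvd : ¬ p ∣ Fintype.card F ^ 2 + 1) (y : Sz F m) (hy : orderOf y = p) :
    ∃ g : Sz F m, ∃ k : Fˣ, k ≠ 1 ∧ g⁻¹ * y * g = kS hF k ∧
      ∀ c : Sz F m, c * y = y * c → ∃ l : Fˣ, g⁻¹ * c * g = kS hF l := by
  have hpp : p.Prime := Fact.out
  have hfin : Finite (Sz F m) := finite_Sz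
  have hy1 : y ≠ 1 := by
    intro h
    rw [h, orderOf_one] at hy
    exact hpp.one_lt.ne hy
  have hfac : (Nat.card (torusH (m := m) hF)).factorization p
      = (Nat.card (Sz F m)).factorization p := by
    rw [card_torusH, card_Sz hF hm, ← hF]
    have hq : 2 ≤ Fintype.card F := Fintype.one_lt_card
    have h1 : ¬ p ∣ Fintype.card F ^ 2 := by
      intro h1
      have h2 := hpp.dvd_of_dvd_pow h1
      rw [hF] at h2
      have h3 := hpp.dvd_of_dvd_pow h2
      exact hp2 ((Nat.prime_dvd_prime_iff_eq hpp Nat.prime_two).1 h3)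
    have h0 : Fintype.card F ^ 2 ≠ 0 := by positivity
    have h0' : Fintype.card F ^ 2 + 1 ≠ 0 := by positivity
    symm
    rw [mul_comm]
    apply Cfsg.Agent.S0331.factorization_mul_of_not_dvd (by omega) (Nat.mul_ne_zero h0 h0')
    intro h2
    rcases (Nat.Prime.dvd_mul hpp).1 h2 with h2 | h2
    · exact h1 h2
    · exact hdvd h2
  obtain ⟨g, hg⟩ := Singer.exists_conj_mem p (torusH hF) hfac y hy
  obtain ⟨k, hk⟩ := hg
  have hk' : kS hF k = g⁻¹ * y * g := by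
    rw [← hk]; rfl
  have hk1 : k ≠ 1 := by
    intro h
    apply hy1
    rw [h, kS_one] at hk'
    have : y = g * 1 * g⁻¹ := by rw [hk']; group
    rw [this]; group
  refine ⟨g, k, hk1, hk'.symm, ?_⟩
  intro c hc
  apply exists_kS_of_commute hF hm hk1
  rw [hk']
  calc g⁻¹ * c * g * (g⁻¹ * y * g) = g⁻¹ * (c * y) * g := by group
    _ = g⁻¹ * (y * c) * g := by rw [hc]
    _ = g⁻¹ * y * g * (g⁻¹ * c * g) := by group

end Cfsg.Agent.Lib.Helper3.Sz
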