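import Mathlib
import Cfsg.Agent.Lib.Helper3.Suzuki14

set_option autoImplicit false

namespace Cfsg.Agent.Lib.Helper3.Sz

open Matrix Cfsg Cfsg.Agent.Lib.Helper3
open scoped Pointwise

variable {F : Type*} [Field F] [Fintype F] {m : ℕ} (hF : Fintype.card F = 2 ^ (2 * m + 1))
  (hm : 1 ≤ m)

include hF hm in
lemma card_Sz' : Nat.card (Sz F m)
    = Fintype.card F ^ 2 * (Fintype.card F ^ 2 + 1) * (Fintype.card F - 1) := by
  rw [card_Sz hF hm, hF]

include hF in
lemma card_mod_three : Fintype.card F % 3 = 2 := by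
  rw [hF, pow_succ, pow_mul, Nat.mul_mod, Nat.pow_mod]
  norm_num

include hF hm in
lemma three_not_dvd_card : ¬ 3 ∣ Nat.card (Sz F m) := by
  rw [card_Sz' hF hm]
  have h := card_mod_three hF
  have hq : 2 ≤ Fintype.card F := Fintype.one_lt_card
  have h2 : Fintype.card F ^ 2 % 3 = 1 := by rw [Nat.pow_mod, h]
  have h3 : (Fintype.card F ^ 2 + 1) % 3 = 2 := by omega
  have h4 : (Fintype.card F - 1) % 3 = 1 := by omega
  intro hdvd
  have := Nat.mod_eq_zero_of_dvd hdvd
  rw [Nat.mul_mod, Nat.mul_mod (Fintype.card F ^ 2), h2, h3, h4] at this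
  norm_num at this

/-- an odd prime dividing `q ^ 2 + 1` does not divide `q ^ 2 * (q - 1)` -/
lemma not_dvd_of_dvd_sq_add_one {p q : ℕ} (hpp : p.Prime) (hp2 : p ≠ 2) (hq : 2 ≤ q)
    (h : p ∣ q ^ 2 + 1) : ¬ p ∣ q ^ 2 * (q - 1) := by
  intro h'
  rcases (Nat.Prime.dvd_mul hpp).1 h' with h1 | h1
  · have h2 : p ∣ (q ^ 2 + 1) - q ^ 2 := Nat.dvd_sub h h1
    rw [Nat.add_sub_cancel_left] at h2
    exact hpp.one_lt.ne' (Nat.dvd_one.1 h2)
  · have h2 : p ∣ (q - 1) * (q + 1) := Dvd.dvd.mul_right h1 _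
    have e : (q - 1) * (q + 1) + 2 = q ^ 2 + 1 := by
      obtain ⟨r, rfl⟩ := Nat.exists_eq_add_of_le (by omega : 1 ≤ q)
      simp only [Nat.add_sub_cancel_left]
      ring
    have h3 : p ∣ (q ^ 2 + 1) - (q - 1) * (q + 1) := Nat.dvd_sub h h2
    rw [← e, Nat.add_sub_cancel_left] at h3
    exact hp2 ((Nat.prime_dvd_prime_iff_eq hpp Nat.prime_two).1 h3)

include hF hm in
/-- the centraliser of an element of odd prime order dividing `q ^ 2 + 1` -/
theorem torus_Sz {p : ℕ} [Fact p.Prime] (hp2 : p ≠ 2) (hdvd : p ∣ Fintype.card F ^ 2 + 1)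
    (y : Sz F m) (hy : orderOf y = p) :
    IsCyclic (Subgroup.centralizer ({y} : Set (Sz F m))) ∧
    Nat.card (Subgroup.centralizer ({y} : Set (Sz F m))) ∣ Fintype.card F ^ 2 + 1 ∧
    (∀ u ∈ Subgroup.centralizer ({y} : Set (Sz F m)), u ≠ 1 →
      Subgroup.centralizer ({u} : Set (Sz F m)) = Subgroup.centralizer ({y} : Set (Sz F m))) ∧
    (∃ e, (e = 1 ∨ e = 2 ∨ e = 4) ∧
      Nat.card (Subgroup.normalizer
        ((Subgroup.centralizer ({y} : Set (Sz F m)) : Subgroup (Sz F m)) : Set (Sz F m)))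
        = e * Nat.card (Subgroup.centralizer ({y} : Set (Sz F m)))) ∧
    (∀ p' : ℕ, p'.Prime → p' ∣ Nat.card (Subgroup.centralizer ({y} : Set (Sz F m))) →
      (Nat.card (Subgroup.centralizer ({y} : Set (Sz F m)))).factorization p'
        = (Fintype.card F ^ 2 + 1).factorization p') := by
  classical
  have hpp : p.Prime := Fact.out
  have hfin : Finite (Sz F m) := finite_Sz
  have hq : 2 ≤ Fintype.card F := Fintype.one_lt_card
  let f : Sz F m →* GL (Fin 4) F := Matrix.SpecialLinearGroup.toGL.comp (Sz F m).subtype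
  have hf : Function.Injective f :=
    Matrix.SpecialLinearGroup.toGL_injective.comp (Sz F m).subtype_injective
  have hfacGL : ∀ p' : ℕ, p'.Prime → p' ≠ 2 → p' ∣ Fintype.card F ^ 2 + 1 →
      (Nat.card (GL (Fin 4) F)).factorization p' = (Fintype.card F ^ 4 - 1).factorization p' := by
    intro p' hp' hp'2 hp'd
    have : Fact p'.Prime := ⟨hp'⟩
    rw [Matrix.card_GL_field, Fin.prod_univ_four]
    exact Cfsg.Agent.S0331.arith hp'2 hq hp'd
  obtain ⟨hcyc, hcent, hnorm⟩ := Singer.torus_structure 4 (by norm_num) f hf p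
    (hfacGL p hpp hp2 hdvd) (Cfsg.Agent.S0332.not_dvd_of_dvd hpp hp2 hq hdvd) y hy
  set T : Subgroup (Sz F m) := Subgroup.centralizer ({y} : Set (Sz F m)) with hT
  have hTcomm : ∀ a ∈ T, ∀ b ∈ T, a * b = b * a := by
    intro a ha b hb
    have := hcyc.isMulCommutative.is_comm.comm ⟨a, ha⟩ ⟨b, hb⟩
    exact congrArg Subtype.val this
  have hyT : y ∈ T := by rw [hT, Subgroup.mem_centralizer_singleton_iff]
  -- the primes dividing the order of `T`
  have hprimes : ∀ p' : ℕ, p'.Prime → p' ∣ Nat.card T → p' ≠ 2 ∧ p' ∣ Fintype.card F ^ 2 + 1 := by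
    intro p' hp' hp'd
    have : Fact p'.Prime := ⟨hp'⟩
    obtain ⟨u, hu⟩ := exists_prime_orderOf_dvd_card' p' hp'd
    have hu' : orderOf (u : Sz F m) = p' := by rw [Subgroup.orderOf_coe]; exact hu
    have huy : (u : Sz F m) * y = y * u := Subgroup.mem_centralizer_singleton_iff.1 u.2
    have hp'2 : p' ≠ 2 := by
      rintro rfl
      have h2 := isPGroup_centralizer_of_orderOf_two hF hm (u : Sz F m) hu'
      have hyC : y ∈ Subgroup.centralizer ({(u : Sz F m)} : Set (Sz F m)) := by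
        rw [Subgroup.mem_centralizer_singleton_iff, huy]
      obtain ⟨k, hk⟩ := h2 ⟨y, hyC⟩
      have hk' : y ^ (2 ^ k) = 1 := congrArg Subtype.val hk
      have h3 : p ∣ 2 ^ k := by rw [← hy]; exact orderOf_dvd_of_pow_eq_one hk'
      exact hp2 ((Nat.prime_dvd_prime_iff_eq hpp Nat.prime_two).1 (hpp.dvd_of_dvd_pow h3))
    refine ⟨hp'2, ?_⟩
    by_contra hnd
    obtain ⟨g, k, _, _, hall⟩ := exists_conj_torus hF hm hp'2 hnd (u : Sz F m) hu'
    obtain ⟨l, hl⟩ := hall y huy.symm
    have hord : orderOf (g⁻¹ * y * g) = p := by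
      rw [← hy]
      have : g⁻¹ * y * g = MulAut.conj g⁻¹ y := by rw [MulAut.conj_apply, inv_inv]
      rw [this]
      exact orderOf_injective (MulAut.conj g⁻¹).toMonoidHom (MulAut.conj g⁻¹).injective y
    have hmem : g⁻¹ * y * g ∈ torusH hF := (mem_torusH hF _).2 ⟨l, hl⟩
    have h1 : p ∣ Fintype.card F - 1 := by
      rw [← hord, hF, ← card_torusH hF]
      exact Subgroup.orderOf_dvd_natCard _ hmem
    exact not_dvd_of_dvd_sq_add_one hpp hp2 hq hdvd (Dvd.dvd.mul_left h1 _)
  have hcardT : Nat.card T ∣ Fintype.card F ^ 2 + 1 := by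
    have h1 : Nat.card T ∣ Nat.card (Sz F m) := Subgroup.card_subgroup_dvd_card T
    rw [card_Sz' hF hm] at h1
    have h2 : Nat.card T ∣ (Fintype.card F ^ 2 + 1) * (Fintype.card F ^ 2 * (Fintype.card F - 1)) := by
      have e : (Fintype.card F ^ 2 + 1) * (Fintype.card F ^ 2 * (Fintype.card F - 1))
          = Fintype.card F ^ 2 * (Fintype.card F ^ 2 + 1) * (Fintype.card F - 1) := by ring
      rw [e]; exact h1
    apply Nat.Coprime.dvd_of_dvd_mul_right _ h2
    apply Nat.Coprime.symm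
    apply Nat.Coprime.symm
    apply Nat.coprime_of_dvd
    intro k hk hk1 hk2
    obtain ⟨hk2', hkd⟩ := hprimes k hk hk1
    exact not_dvd_of_dvd_sq_add_one hk hk2' hq hkd hk2
  have hcentT : ∀ u ∈ T, u ≠ 1 → Subgroup.centralizer ({u} : Set (Sz F m)) = T := by
    intro u hu hu1
    have hn1 : orderOf u ≠ 1 := fun h => hu1 (orderOf_eq_one_iff.1 h)
    have hn0 : orderOf u ≠ 0 := (orderOf_pos u).ne'
    set p' := (orderOf u).minFac with hp'def
    have hp' : p'.Prime := Nat.minFac_prime hn1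
    have hp'u : p' ∣ orderOf u := Nat.minFac_dvd _
    set u' := u ^ (orderOf u / p') with hu'def
    have hordu' : orderOf u' = p' := orderOf_pow_orderOf_div hn0 hp'u
    have hu'T : u' ∈ T := T.pow_mem hu _
    have hp'T : p' ∣ Nat.card T := dvd_trans hp'u (Subgroup.orderOf_dvd_natCard _ hu)
    obtain ⟨hp'2, hp'd⟩ := hprimes p' hp' hp'T
    have hC := hcent p' u' hp' (Cfsg.Agent.S0332.not_dvd_of_dvd hp' hp'2 hq hp'd) hu'T hordu'
    apply le_antisymm
    · rw [← hC]
      intro c hc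
      rw [Subgroup.mem_centralizer_singleton_iff] at hc ⊢
      have : Commute c u := hc
      exact (this.pow_right _).eq
    · intro c hc
      rw [Subgroup.mem_centralizer_singleton_iff]
      exact hTcomm c hc u hu
  refine ⟨hcyc, hcardT, hcentT, ?_, ?_⟩
  · -- the normaliser
    have hle : T ≤ Subgroup.normalizer (T : Set (Sz F m)) := Subgroup.le_normalizer
    obtain ⟨e, he⟩ := Subgroup.card_dvd_of_le hle
    have hTpos : 0 < Nat.card T := Nat.card_pos
    have hNpos : 0 < Nat.card (Subgroup.normalizer (T : Set (Sz F m))) := Nat.card_pos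
    refine ⟨e, ?_, by rw [he, mul_comm]⟩
    have he4 : e ≤ 4 := by
      rw [he, mul_comm] at hnorm
      exact Nat.le_of_mul_le_mul_right hnorm hTpos
    have he0 : e ≠ 0 := by
      rintro rfl
      rw [mul_zero] at he
      omega
    have he3 : e ≠ 3 := by
      rintro rfl
      apply three_not_dvd_card hF hm
      have h1 : Nat.card (Subgroup.normalizer (T : Set (Sz F m))) ∣ Nat.card (Sz F m) :=
        Subgroup.card_subgroup_dvd_card _
      exact dvd_trans (Dvd.intro_left _ he.symm) h1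
    omega
  · -- the Sylow subgroups
    intro p' hp' hp'T
    have : Fact p'.Prime := ⟨hp'⟩
    obtain ⟨hp'2, hp'd⟩ := hprimes p' hp' hp'T
    obtain ⟨u, hu⟩ := exists_prime_orderOf_dvd_card' p' hp'T
    have hu' : orderOf (u : Sz F m) = p' := by rw [Subgroup.orderOf_coe]; exact hu
    have hu1 : (u : Sz F m) ≠ 1 := by
      intro h
      rw [h, orderOf_one] at hu'
      exact hp'.one_lt.ne hu'
    have hup : IsPGroup p' (Subgroup.zpowers (u : Sz F m)) := by
      apply IsPGroup.of_card (n := 1)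
      rw [Nat.card_zpowers, hu', pow_one]
    obtain ⟨P, hP⟩ := hup.exists_le_sylow
    have hPc : IsCyclic P := Cfsg.Agent.S0331.result hm hF hp'2 P
    have hPT : (P : Subgroup (Sz F m)) ≤ T := by
      intro x hx
      rw [← hcentT (u : Sz F m) u.2 hu1, Subgroup.mem_centralizer_singleton_iff]
      have huP : (u : Sz F m) ∈ (P : Subgroup (Sz F m)) := hP (Subgroup.mem_zpowers _)
      have := hPc.isMulCommutative.is_comm.comm ⟨x, hx⟩ ⟨(u : Sz F m), huP⟩
      exact congrArg Subtype.val this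
    have h1 : Nat.card P ∣ Nat.card T := Subgroup.card_dvd_of_le hPT
    rw [Sylow.card_eq_multiplicity] at h1
    have hT0 : Nat.card T ≠ 0 := Nat.card_pos.ne'
    have hN0 : Fintype.card F ^ 2 + 1 ≠ 0 := by positivity
    apply le_antisymm
    · exact (Nat.factorization_le_iff_dvd hT0 hN0).2 hcardT p'
    · have h2 : (Fintype.card F ^ 2 + 1).factorization p' ≤ (Nat.card (Sz F m)).factorization p' := by
        apply (Nat.factorization_le_iff_dvd hN0 Nat.card_pos.ne').2
        rw [card_Sz' hF hm]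
        exact Dvd.dvd.mul_right (Dvd.intro_left _ rfl) _
      have h3 : (Nat.card (Sz F m)).factorization p' ≤ (Nat.card T).factorization p' :=
        (hp'.pow_dvd_iff_le_factorization hT0).1 h1
      exact le_trans h2 h3

end Cfsg.Agent.Lib.Helper3.Sz
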