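import Mathlib
import Cfsg.Agent.Lib.Helper3.Suzuki15
import Cfsg.Agent.Lib.Helper3.TICount

set_option autoImplicit false

namespace Cfsg.Agent.Lib.Helper3.Sz

open Matrix Cfsg Cfsg.Agent.Lib.Helper3
open scoped Pointwise

variable {F : Type*} [Field F] [Fintype F] {m : ℕ} (hF : Fintype.card F = 2 ^ (2 * m + 1))
  (hm : 1 ≤ m)

include hF in
/-- the fixed points of a non-identity torus element -/
lemma fix_torS {k : Fˣ} (hk : k ≠ 1) (pt : Projectivization F (Fin 4 → F))
    (hpt : pt ∈ suzukiOvoid F m) (h : torS m k • pt = pt) :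
    pt = suzukiPointInfinity F ∨ pt = suzukiPointZero F := by
  rw [← Cfsg.Agent.S0326.range_param] at hpt
  obtain ⟨c, rfl⟩ := hpt
  rcases c with _ | ⟨x, y⟩
  · left; rfl
  · right
    rw [zero_eq (m := m)]
    by_contra hne
    apply hk
    apply torS_eq_one_of_fix hF k x y _ h
    intro h'
    apply hne
    rw [h']

lemma kS_injective : Function.Injective (kS (m := m) hF) := by
  intro k l h
  exact torS_injective hF (congrArg Subtype.val h)

lemma kS_inv (k : Fˣ) : (kS (m := m) hF k)⁻¹ = kS hF k⁻¹ := by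
  rw [inv_eq_iff_mul_eq_one, ← kS_mul, mul_inv_cancel, kS_one]

lemma kS_mem_torusH (k : Fˣ) : kS (m := m) hF k ∈ torusH hF := (mem_torusH hF _).2 ⟨k, rfl⟩

lemma wS_inv : (wS (m := m) hF)⁻¹ = wS hF := by
  rw [inv_eq_iff_mul_eq_one, wS_mul_self]

lemma torusH_le_stabInf : torusH (m := m) hF ≤ stabInf F m := by
  intro x hx
  obtain ⟨k, rfl⟩ := (mem_torusH hF x).1 hx
  rw [mem_stabInf_iff]
  exact torS_inf hF k

include hm in
/-- the normaliser of the torus -/
lemma mem_normalizer_torusH (n : Sz F m) :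
    n ∈ Subgroup.normalizer ((torusH (m := m) hF : Subgroup (Sz F m)) : Set (Sz F m))
      ↔ n ∈ torusH hF ∨ wS hF * n ∈ torusH hF := by
  constructor
  · intro hn
    obtain ⟨k₀, hk₀⟩ := exists_unit_ne_one hF hm
    have h1 : n * kS hF k₀ * n⁻¹ ∈ torusH hF :=
      (Subgroup.mem_normalizer_iff.1 hn _).1 (kS_mem_torusH hF k₀)
    obtain ⟨k₁, hk₁⟩ := (mem_torusH hF _).1 h1
    have hk₁1 : k₁ ≠ 1 := by
      rintro rfl
      apply hk₀
      apply kS_injective hF
      rw [kS_one] at hk₁ ⊢
      have : kS hF k₀ = n⁻¹ * (n * kS hF k₀ * n⁻¹) * n := by group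
      rw [this, hk₁]; group
    have hk₁' : n.1 * torS m k₀ * n.1⁻¹ = torS m k₁ := congrArg Subtype.val hk₁
    have hmov : ∀ pt : Projectivization F (Fin 4 → F), torS m k₀ • pt = pt →
        torS m k₁ • (n.1 • pt) = n.1 • pt := by
      intro pt hpt
      rw [← hk₁', ← mul_smul, inv_mul_cancel_right, mul_smul, hpt]
    have hov : ∀ pt ∈ suzukiOvoid F m, n.1 • pt ∈ suzukiOvoid F m := fun pt hpt =>
      smul_mem_ovoid n.2 hpt
    have hinf := fix_torS hF hk₁1 _ (hov _ (inf_mem (m := m))) (hmov _ (torS_inf hF k₀))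
    have hzero := fix_torS hF hk₁1 _ (hov _ (zero_mem (m := m))) (hmov _ (torS_zero hF k₀))
    have hne : n.1 • suzukiPointInfinity F ≠ n.1 • suzukiPointZero F := by
      intro h
      exact inf_ne_zero' (MulAction.injective n.1 h)
    rcases hinf with hi | hi
    · rcases hzero with hz | hz
      · exact absurd (hi.trans hz.symm) hne
      · left
        rw [inf_eq (m := m)] at hi
        rw [zero_eq (m := m)] at hz
        obtain ⟨l, hl⟩ := eq_torS hF hm n.1 n.2 hi hz
        exact (mem_torusH hF n).2 ⟨l, Subtype.ext hl⟩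
    · rcases hzero with hz | hz
      · right
        have hwz : (invS : Matrix.SpecialLinearGroup (Fin 4) F) • suzukiPointZero F
            = suzukiPointInfinity F := by
          rw [← invS_inf hF, ← mul_smul, invS_mul_self, one_smul]
        have h1 : (invS * n.1) • suzukiPointInfinity F = suzukiPointInfinity F := by
          rw [mul_smul, hi, hwz]
        have h2 : (invS * n.1) • suzukiPointZero F = suzukiPointZero F := by
          rw [mul_smul, hz, invS_inf hF]
        rw [inf_eq (m := m)] at h1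
        rw [zero_eq (m := m)] at h2
        obtain ⟨l, hl⟩ := eq_torS hF hm (invS * n.1) (mul_mem (invS_mem hF) n.2) h1 h2
        exact (mem_torusH hF _).2 ⟨l, Subtype.ext hl⟩
      · exact absurd (hi.trans hz.symm) hne
  · have hw : wS hF ∈ Subgroup.normalizer ((torusH (m := m) hF : Subgroup (Sz F m)) : Set (Sz F m)) := by
      have key : ∀ x ∈ torusH (m := m) hF, wS hF * x * (wS hF)⁻¹ ∈ torusH hF := by
        intro x hx
        obtain ⟨k, rfl⟩ := (mem_torusH hF x).1 hx
        rw [wS_inv, wS_kS]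
        exact kS_mem_torusH hF _
      rw [Subgroup.mem_normalizer_iff]
      intro x
      constructor
      · exact key x
      · intro hx
        have := key _ hx
        have e : wS hF * (wS hF * x * (wS hF)⁻¹) * (wS hF)⁻¹ = x := by
          rw [wS_inv]
          calc wS hF * (wS hF * x * wS hF) * wS hF = (wS hF * wS hF) * x * (wS hF * wS hF) := by group
            _ = x := by rw [wS_mul_self]; group
        rwa [e] at this
    rintro (h | h)
    · exact Subgroup.le_normalizer h
    · have : n = (wS hF)⁻¹ * (wS hF * n) := by group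
      rw [this]
      exact mul_mem (inv_mem hw) (Subgroup.le_normalizer h)

include hm in
lemma card_normalizer_torusH :
    Nat.card (Subgroup.normalizer ((torusH (m := m) hF : Subgroup (Sz F m)) : Set (Sz F m)))
      = 2 * (2 ^ (2 * m + 1) - 1) := by
  classical
  have hfin : Finite (Sz F m) := finite_Sz
  set N := Subgroup.normalizer ((torusH (m := m) hF : Subgroup (Sz F m)) : Set (Sz F m)) with hN
  have hset : (N : Set (Sz F m)) = (torusH hF : Set (Sz F m)) ∪ (fun h => wS hF * h) '' (torusH hF : Set (Sz F m)) := by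
    ext n
    rw [SetLike.mem_coe, hN, mem_normalizer_torusH hF hm, Set.mem_union, SetLike.mem_coe, Set.mem_image]
    constructor
    · rintro (h | h)
      · left; exact h
      · right
        refine ⟨wS hF * n, h, ?_⟩
        rw [← mul_assoc, wS_mul_self, one_mul]
    · rintro (h | ⟨h', hh', rfl⟩)
      · left; exact h
      · right
        rw [← mul_assoc, wS_mul_self, one_mul]
        exact hh'
  have hdisj : Disjoint (torusH hF : Set (Sz F m)) ((fun h => wS hF * h) '' (torusH hF : Set (Sz F m))) := by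
    rw [Set.disjoint_left]
    rintro x hx ⟨h', hh', rfl⟩
    apply wS_not_mem (m := m) hF
    have : wS hF = (wS hF * h') * h'⁻¹ := by group
    rw [this]
    exact mul_mem (torusH_le_stabInf hF hx) (inv_mem (torusH_le_stabInf hF hh'))
  have h1 : Nat.card N = Set.ncard (N : Set (Sz F m)) := (Nat.card_coe_set_eq _).symm
  rw [h1, hset, Set.ncard_union_eq hdisj (Set.toFinite _) (Set.toFinite _),
    Set.ncard_image_of_injective _ (mul_right_injective (wS hF))]
  have h2 : Set.ncard (torusH hF : Set (Sz F m)) = Nat.card (torusH (m := m) hF) :=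
    Nat.card_coe_set_eq _
  rw [h2, card_torusH]
  ring

include hm in
/-- the torus is a trivial intersection subgroup -/
lemma torusH_TI (g x : Sz F m) (hx : x ∈ torusH hF) (hx1 : x ≠ 1) (hgx : g * x * g⁻¹ ∈ torusH hF) :
    g ∈ Subgroup.normalizer ((torusH (m := m) hF : Subgroup (Sz F m)) : Set (Sz F m)) := by
  obtain ⟨k, rfl⟩ := (mem_torusH hF x).1 hx
  obtain ⟨k', hk'⟩ := (mem_torusH hF _).1 hgx
  have hk1 : k ≠ 1 := by
    rintro rfl
    exact hx1 (kS_one hF)
  have hk'1 : k' ≠ 1 := by
    rintro rfl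
    apply hx1
    rw [kS_one] at hk'
    have : kS hF k = g⁻¹ * (g * kS hF k * g⁻¹) * g := by group
    rw [this, hk']; group
  rw [Subgroup.mem_normalizer_iff]
  intro h
  constructor
  · intro hh
    obtain ⟨l, rfl⟩ := (mem_torusH hF h).1 hh
    have hc : (g * kS hF l * g⁻¹) * kS hF k' = kS hF k' * (g * kS hF l * g⁻¹) := by
      rw [← hk']
      calc g * kS hF l * g⁻¹ * (g * kS hF k * g⁻¹) = g * (kS hF l * kS hF k) * g⁻¹ := by group
        _ = g * (kS hF k * kS hF l) * g⁻¹ := by rw [← kS_mul, ← kS_mul, mul_comm]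
        _ = g * kS hF k * g⁻¹ * (g * kS hF l * g⁻¹) := by group
    obtain ⟨l', hl'⟩ := exists_kS_of_commute hF hm hk'1 _ hc
    rw [hl']
    exact kS_mem_torusH hF l'
  · intro hh
    obtain ⟨l, hl⟩ := (mem_torusH hF _).1 hh
    have hc : h * kS hF k = kS hF k * h := by
      have h1 : (g * h * g⁻¹) * (g * kS hF k * g⁻¹) = (g * kS hF k * g⁻¹) * (g * h * g⁻¹) := by
        rw [hl, hk', ← kS_mul, ← kS_mul, mul_comm]
      have h2 : g * (h * kS hF k) * g⁻¹ = g * (kS hF k * h) * g⁻¹ := by
        calc g * (h * kS hF k) * g⁻¹ = (g * h * g⁻¹) * (g * kS hF k * g⁻¹) := by group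
          _ = (g * kS hF k * g⁻¹) * (g * h * g⁻¹) := h1
          _ = g * (kS hF k * h) * g⁻¹ := by group
      exact mul_left_cancel (mul_right_cancel h2)
    obtain ⟨l', hl'⟩ := exists_kS_of_commute hF hm hk1 _ hc
    rw [hl']
    exact kS_mem_torusH hF l'

end Cfsg.Agent.Lib.Helper3.Sz
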