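import Mathlib
import Cfsg.Agent.Lib.Helper3.Suzuki16

set_option autoImplicit false

namespace Cfsg.Agent.Lib.Helper3.Sz

open Matrix Cfsg Cfsg.Agent.Lib.Helper3 Cfsg.Agent.Lib.Helper3.TICount
open scoped Pointwise

variable {F : Type*} [Field F] [Fintype F] {m : ℕ} (hF : Fintype.card F = 2 ^ (2 * m + 1))
  (hm : 1 ≤ m)

include hm in
/-- the translation group is a trivial intersection subgroup -/
lemma transGroup_TI (g x : Sz F m) (hx : x ∈ transGroup hF hm) (hx1 : x ≠ 1)
    (hgx : g * x * g⁻¹ ∈ transGroup hF hm) :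
    g ∈ Subgroup.normalizer ((transGroup hF hm : Subgroup (Sz F m)) : Set (Sz F m)) := by
  rw [normalizer_transGroup hF hm]
  have h1 : g * x * g⁻¹ ≠ 1 := by
    intro h; apply hx1
    have : x = g⁻¹ * (g * x * g⁻¹) * g := by group
    rw [this, h]; group
  apply eq_inf_of_fix hF hm hgx h1 g
  show (g.1 * x.1 * g.1⁻¹) • (g.1 • suzukiPointInfinity F) = _
  rw [← mul_smul, inv_mul_cancel_right, mul_smul]
  congr 1
  obtain ⟨a, b, rfl⟩ := (mem_transGroup hF hm x).1 hx
  exact transS_inf hF a b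

/-- the elements whose order is divisible by an odd prime dividing `q ^ 2 + 1` -/
def setR (F : Type*) [Field F] [Fintype F] (m : ℕ) : Set (Sz F m) :=
  {x | x ≠ 1 ∧ ∃ p : ℕ, p.Prime ∧ p ≠ 2 ∧ p ∣ Fintype.card F ^ 2 + 1 ∧ p ∣ orderOf x}

include hm in
lemma pow_four_of_mem_conjSet_transGroup {x : Sz F m} (hx : x ∈ conjSet (transGroup hF hm)) :
    x ^ 4 = 1 := by
  obtain ⟨_, g, hg⟩ := hx
  obtain ⟨a, b, hab⟩ := (mem_transGroup hF hm _).1 hg
  have h4 : (g * x * g⁻¹) ^ 4 = 1 := by
    have e : ∀ z : Sz F m, z ^ 4 = (z * z) * (z * z) := fun z => by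
      rw [pow_succ, pow_succ, pow_succ, pow_one, mul_assoc]
    rw [e, hab, tS_sq hF hm, tS_zero_sq hF hm]
  have e2 : (g * x * g⁻¹) ^ 4 = g * x ^ 4 * g⁻¹ := by
    have : g * x * g⁻¹ = MulAut.conj g x := by rw [MulAut.conj_apply]
    rw [this, ← map_pow, MulAut.conj_apply]
  rw [e2] at h4
  have : x ^ 4 = g⁻¹ * (g * x ^ 4 * g⁻¹) * g := by group
  rw [this, h4]; group

lemma orderOf_dvd_of_mem_conjSet_torusH {x : Sz F m} (hx : x ∈ conjSet (torusH (m := m) hF)) :
    orderOf x ∣ Fintype.card F - 1 := by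
  have hfin : Finite (Sz F m) := finite_Sz
  obtain ⟨_, g, hg⟩ := hx
  have hord : orderOf (g * x * g⁻¹) = orderOf x := by
    have : g * x * g⁻¹ = MulAut.conj g x := by rw [MulAut.conj_apply]
    rw [this]
    exact orderOf_injective (MulAut.conj g).toMonoidHom (MulAut.conj g).injective x
  rw [← hord, hF, ← card_torusH hF]
  exact Subgroup.orderOf_dvd_natCard _ hg

include hm in
/-- every non-identity element is a 2-element, is conjugate into the torus, or lies in `setR` -/
lemma trichotomy (x : Sz F m) (hx : x ≠ 1) :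
    x ∈ conjSet (transGroup hF hm) ∨ x ∈ conjSet (torusH (m := m) hF) ∨ x ∈ setR F m := by
  have hfin : Finite (Sz F m) := finite_Sz
  have hn1 : orderOf x ≠ 1 := fun h => hx (orderOf_eq_one_iff.1 h)
  have hn0 : orderOf x ≠ 0 := (orderOf_pos x).ne'
  set p := (orderOf x).minFac with hpdef
  have hpp : p.Prime := Nat.minFac_prime hn1
  have hpx : p ∣ orderOf x := Nat.minFac_dvd _
  have : Fact p.Prime := ⟨hpp⟩
  set y := x ^ (orderOf x / p) with hydef
  have hy : orderOf y = p := orderOf_pow_orderOf_div hn0 hpx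
  have hxy : x * y = y * x := by
    have : Commute x x := Commute.refl x
    exact (this.pow_right _).eq
  by_cases hp2 : p = 2
  · left
    have : Fact (Nat.Prime 2) := ⟨Nat.prime_two⟩
    rw [hp2] at hy
    have h2 := isPGroup_centralizer_of_orderOf_two hF hm y hy
    have hxC : x ∈ Subgroup.centralizer ({y} : Set (Sz F m)) :=
      Subgroup.mem_centralizer_singleton_iff.2 hxy
    have hz : IsPGroup 2 (Subgroup.zpowers x) :=
      h2.to_le ((Subgroup.zpowers_le).2 hxC)
    obtain ⟨P, hP⟩ := hz.exists_le_sylow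
    obtain ⟨h, hh⟩ := exists_conj_transGroup hF hm P
    refine ⟨hx, h⁻¹, ?_⟩
    rw [inv_inv]
    exact (hh x).1 (hP (Subgroup.mem_zpowers x))
  · by_cases hdvd : p ∣ Fintype.card F ^ 2 + 1
    · right; right
      exact ⟨hx, p, hpp, hp2, hdvd, hpx⟩
    · right; left
      obtain ⟨g, k, _, _, hall⟩ := exists_conj_torus hF hm hp2 hdvd y hy
      obtain ⟨l, hl⟩ := hall x hxy
      refine ⟨hx, g⁻¹, ?_⟩
      rw [inv_inv, hl]
      exact kS_mem_torusH hF l

include hm in
lemma disjoint_Q_H : Disjoint (conjSet (transGroup hF hm)) (conjSet (torusH (m := m) hF)) := by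
  rw [Set.disjoint_left]
  intro x hxQ hxH
  have h4 := pow_four_of_mem_conjSet_transGroup hF hm hxQ
  have h1 := orderOf_dvd_of_mem_conjSet_torusH hF hxH
  have h2 : orderOf x ∣ 4 := orderOf_dvd_of_pow_eq_one h4
  have hq : 2 ^ 1 ≤ 2 ^ (2 * m + 1) := Nat.pow_le_pow_right (by norm_num) (by omega)
  have hodd : ¬ 2 ∣ Fintype.card F - 1 := by
    rw [hF]
    have : 2 ∣ 2 ^ (2 * m + 1) := dvd_pow_self 2 (by omega)
    omega
  have h3 : orderOf x = 1 := by
    have hle : orderOf x ≤ 4 := Nat.le_of_dvd (by norm_num) h2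
    have hpos : 0 < orderOf x := Nat.pos_of_dvd_of_pos h2 (by norm_num)
    interval_cases h : orderOf x
    · rfl
    · exact absurd h1 hodd
    · omega
    · exact absurd (dvd_trans (by norm_num : 2 ∣ 4) h1) hodd
  exact hxQ.1 (orderOf_eq_one_iff.1 h3)

include hm in
lemma disjoint_Q_R : Disjoint (conjSet (transGroup hF hm)) (setR F m) := by
  rw [Set.disjoint_left]
  rintro x hxQ ⟨_, p, hpp, hp2, _, hpx⟩
  have h4 := pow_four_of_mem_conjSet_transGroup hF hm hxQ
  have h2 : p ∣ 2 ^ 2 := dvd_trans hpx (orderOf_dvd_of_pow_eq_one h4)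
  exact hp2 ((Nat.prime_dvd_prime_iff_eq hpp Nat.prime_two).1 (hpp.dvd_of_dvd_pow h2))

lemma disjoint_H_R : Disjoint (conjSet (torusH (m := m) hF)) (setR F m) := by
  rw [Set.disjoint_left]
  rintro x hxH ⟨_, p, hpp, hp2, hpd, hpx⟩
  have h1 := orderOf_dvd_of_mem_conjSet_torusH hF hxH
  exact not_dvd_of_dvd_sq_add_one hpp hp2 Fintype.one_lt_card hpd
    (Dvd.dvd.mul_left (dvd_trans hpx h1) _)

include hF hm in
/-- the number of elements of `setR` -/
theorem card_setR :
    2 * Nat.card (setR F m) + 2 * Fintype.card F ^ 4 = Fintype.card F ^ 5 + Fintype.card F ^ 3 := by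
  classical
  have hfin : Finite (Sz F m) := finite_Sz
  have hq2 : 2 ≤ Fintype.card F := Fintype.one_lt_card
  -- the three counts
  have hQ := card_conjSet (transGroup hF hm) (transGroup_TI hF hm)
  rw [normalizer_transGroup hF hm, card_transGroup hF hm] at hQ
  have hB : Nat.card (stabInf F m) = Fintype.card F ^ 2 * (Fintype.card F - 1) := by
    rw [hF]; exact card_stab_inf hF hm
  rw [hB, card_Sz' hF hm, ← hF] at hQ
  have hH := card_conjSet (torusH (m := m) hF) (torusH_TI hF hm)
  rw [card_normalizer_torusH hF hm, card_torusH hF, card_Sz' hF hm, ← hF] at hH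
  -- the partition
  have hpart : (Set.univ : Set (Sz F m)) = (({1} ∪ conjSet (transGroup hF hm))
      ∪ conjSet (torusH (m := m) hF)) ∪ setR F m := by
    ext x
    simp only [Set.mem_univ, Set.mem_union, Set.mem_singleton_iff, true_iff]
    by_cases hx : x = 1
    · left; left; left; exact hx
    · rcases trichotomy hF hm x hx with h | h | h
      · left; left; right; exact h
      · left; right; exact h
      · right; exact h
  have hd1 : Disjoint ({1} : Set (Sz F m)) (conjSet (transGroup hF hm)) := by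
    rw [Set.disjoint_left]
    intro x hx hxQ
    exact hxQ.1 hx
  have hd2 : Disjoint (({1} : Set (Sz F m)) ∪ conjSet (transGroup hF hm))
      (conjSet (torusH (m := m) hF)) := by
    rw [Set.disjoint_union_left]
    refine ⟨?_, disjoint_Q_H hF hm⟩
    rw [Set.disjoint_left]
    intro x hx hxH
    exact hxH.1 hx
  have hd3 : Disjoint ((({1} : Set (Sz F m)) ∪ conjSet (transGroup hF hm))
      ∪ conjSet (torusH (m := m) hF)) (setR F m) := by
    rw [Set.disjoint_union_left, Set.disjoint_union_left]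
    refine ⟨⟨?_, disjoint_Q_R hF hm⟩, disjoint_H_R hF⟩
    rw [Set.disjoint_left]
    intro x hx hxR
    exact hxR.1 hx
  have hcard : Nat.card (Sz F m) = 1 + (conjSet (transGroup hF hm)).ncard
      + (conjSet (torusH (m := m) hF)).ncard + (setR F m).ncard := by
    have h0 : Nat.card (Sz F m) = Set.ncard (Set.univ : Set (Sz F m)) := by
      rw [Set.ncard_univ]
    rw [h0, hpart, Set.ncard_union_eq hd3 (Set.toFinite _) (Set.toFinite _),
      Set.ncard_union_eq hd2 (Set.toFinite _) (Set.toFinite _),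
      Set.ncard_union_eq hd1 (Set.toFinite _) (Set.toFinite _), Set.ncard_singleton]
  rw [← Nat.card_coe_set_eq, ← Nat.card_coe_set_eq, ← Nat.card_coe_set_eq,
    card_Sz' hF hm] at hcard
  generalize Nat.card (conjSet (transGroup hF hm)) = cQ at hQ hcard
  generalize Nat.card (conjSet (torusH (m := m) hF)) = cH at hH hcard
  generalize Nat.card (setR F m) = cR at hcard ⊢
  generalize Fintype.card F = q at hQ hH hcard hq2 ⊢
  -- arithmetic, over the integers
  obtain ⟨s, rfl⟩ : ∃ s, q = s + 2 := ⟨q - 2, by omega⟩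
  have e1 : s + 2 - 1 = s + 1 := by omega
  rw [e1] at hQ hH hcard
  rw [show s + 1 - 1 = s from by omega] at hH
  zify at hQ hH hcard ⊢
  rw [Nat.cast_sub (Nat.one_le_pow _ _ (by omega))] at hQ
  push_cast at hQ hH hcard ⊢
  have hs0 : (0 : ℤ) ≤ s := Int.natCast_nonneg s
  have hpos : (0 : ℤ) < ((s : ℤ) + 2) ^ 2 * ((s : ℤ) + 1) := by positivity
  have hQ' : (cQ : ℤ) = (((s : ℤ) + 2) ^ 2 + 1) * (((s : ℤ) + 2) ^ 2 - 1) := by
    apply mul_right_cancel₀ hpos.ne'
    linear_combination hQ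
  have hH' : 2 * (cH : ℤ) = ((s : ℤ) + 2) ^ 2 * (((s : ℤ) + 2) ^ 2 + 1) * s := by
    have hpos' : (0 : ℤ) < (s : ℤ) + 1 := by positivity
    apply mul_right_cancel₀ hpos'.ne'
    linear_combination hH
  linear_combination (-2 : ℤ) * hcard - 2 * hQ' - hH'

end Cfsg.Agent.Lib.Helper3.Sz
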