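import Mathlib

set_option autoImplicit false

namespace Cfsg.Agent.Lib.Helper3.SzArith

/-- a product of pairwise coprime divisors of `N` that together contain the full power of each prime
dividing `N` is `N` -/
lemma prod_eq_of_coprime (I : Finset ℕ) (N : ℕ) (hN : N ≠ 0)
    (hdvd : ∀ a ∈ I, a ∣ N)
    (hcop : ∀ a ∈ I, ∀ b ∈ I, a ≠ b → Nat.Coprime a b)
    (hfull : ∀ p : ℕ, p.Prime → p ∣ N → ∃ a ∈ I, p ^ N.factorization p ∣ a) :
    ∏ a ∈ I, a = N := by
  classical
  apply Nat.dvd_antisymm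
  · -- the product divides `N`
    have key : ∀ s : Finset ℕ, s ⊆ I → ∏ a ∈ s, a ∣ N := by
      intro s
      induction s using Finset.induction_on with
      | empty => intro _; simp
      | insert a s ha ih =>
        intro hs
        rw [Finset.prod_insert ha]
        have haI : a ∈ I := hs (Finset.mem_insert_self a s)
        have hsI : s ⊆ I := fun x hx => hs (Finset.mem_insert_of_mem hx)
        apply Nat.Coprime.mul_dvd_of_dvd_of_dvd _ (hdvd a haI) (ih hsI)
        apply Nat.Coprime.prod_right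
        intro b hb
        apply hcop a haI b (hsI hb)
        rintro rfl
        exact ha hb
    exact key I (Finset.Subset.refl I)
  · have hP0 : ∏ a ∈ I, a ≠ 0 := by
      rw [Finset.prod_ne_zero_iff]
      intro a ha h0
      have h1 := hdvd a ha
      rw [h0] at h1
      exact hN (Nat.eq_zero_of_zero_dvd h1)
    rw [← Nat.factorization_prime_le_iff_dvd hN hP0]
    intro p hp
    by_cases hpN : p ∣ N
    · obtain ⟨a, ha, hpa⟩ := hfull p hp hpN
      have h1 : p ^ N.factorization p ∣ ∏ a ∈ I, a := dvd_trans hpa (Finset.dvd_prod_of_mem _ ha)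
      exact (hp.pow_dvd_iff_le_factorization hP0).1 h1
    · rw [Nat.factorization_eq_zero_of_not_dvd hpN]
      exact Nat.zero_le _

/-- the arithmetic of the classes of tori of the Suzuki group -/
theorem classes (q r : ℕ) (hr : 2 ≤ r) (hq : q = 2 * r ^ 2) (I : Finset ℕ) (e c : ℕ → ℕ)
    (h1 : ∀ a ∈ I, 5 ≤ a) (h2 : ∀ a ∈ I, e a = 1 ∨ e a = 2 ∨ e a = 4)
    (h3 : ∀ a ∈ I, c a * (e a * a) = q ^ 2 * (q ^ 2 + 1) * (q - 1) * (a - 1))
    (h4 : ∏ a ∈ I, a = q ^ 2 + 1)
    (h5 : 2 * ∑ a ∈ I, c a + 2 * q ^ 4 = q ^ 5 + q ^ 3) :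
    I = {q + 2 * r + 1, q - 2 * r + 1} ∧ e (q + 2 * r + 1) = 4 ∧ e (q - 2 * r + 1) = 4 := by
  classical
  have hq8 : 8 ≤ q := by rw [hq]; nlinarith
  have hr2 : 2 * r ≤ q := by rw [hq]; nlinarith
  -- integer versions
  have h3' : ∀ a ∈ I, (c a : ℤ) * (e a * a) = (q : ℤ) ^ 2 * (q ^ 2 + 1) * (q - 1) * (a - 1) := by
    intro a ha
    have := h3 a ha
    have ha1 : 1 ≤ a := le_trans (by norm_num) (h1 a ha)
    have hq1 : 1 ≤ q := by omega
    zify [ha1, hq1] at this
    exact this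
  have h5' : 2 * ∑ a ∈ I, (c a : ℤ) = (q : ℤ) ^ 3 * (q - 1) ^ 2 := by
    have := h5
    zify at this
    linear_combination this
  have hGpos : (0 : ℤ) < (q : ℤ) ^ 2 * (q ^ 2 + 1) * (q - 1) := by
    have : (8 : ℤ) ≤ q := by exact_mod_cast hq8
    have h1 : (0 : ℤ) < (q : ℤ) - 1 := by linarith
    positivity
  -- each class is large
  have hlarge : ∀ a ∈ I, (q : ℤ) ^ 2 * (q ^ 2 + 1) * (q - 1) ≤ 5 * c a := by
    intro a ha
    have ha5 : (5 : ℤ) ≤ a := by exact_mod_cast h1 a ha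
    have he : (1 : ℤ) ≤ e a ∧ (e a : ℤ) ≤ 4 := by
      rcases h2 a ha with h | h | h <;> rw [h] <;> norm_num
    have h := h3' a ha
    have hc0 : (0 : ℤ) ≤ c a := Int.natCast_nonneg _
    by_contra hlt
    push Not at hlt
    have h6 : (c a : ℤ) * (e a * a) ≤ c a * (4 * a) := by
      apply mul_le_mul_of_nonneg_left _ hc0
      nlinarith
    have h7 : (q : ℤ) ^ 2 * (q ^ 2 + 1) * (q - 1) * (a - 1) ≤ c a * (4 * a) := by rw [← h]; exact h6
    nlinarith
  have hcard : I.card ≤ 2 := by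
    by_contra hgt
    push Not at hgt
    have h6 : (I.card : ℤ) * ((q : ℤ) ^ 2 * (q ^ 2 + 1) * (q - 1)) ≤ ∑ a ∈ I, 5 * (c a : ℤ) := by
      have := Finset.card_nsmul_le_sum I (fun a => 5 * (c a : ℤ)) _ hlarge
      simpa using this
    rw [← Finset.mul_sum] at h6
    have h7 : (3 : ℤ) ≤ I.card := by exact_mod_cast hgt
    have h8 : 3 * ((q : ℤ) ^ 2 * (q ^ 2 + 1) * (q - 1)) ≤ 5 * ∑ a ∈ I, (c a : ℤ) := by
      nlinarith
    have hq' : (8 : ℤ) ≤ q := by exact_mod_cast hq8
    have hq1 : (0 : ℤ) < (q : ℤ) - 1 := by linarith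
    have h9 : 6 * ((q : ℤ) ^ 2 * (q ^ 2 + 1) * (q - 1)) ≤ 5 * ((q : ℤ) ^ 3 * (q - 1) ^ 2) := by
      rw [← h5']; linarith
    have h10 : 6 * ((q : ℤ) ^ 2 + 1) ≤ 5 * (q * (q - 1)) := by
      have hpos : (0 : ℤ) < (q : ℤ) ^ 2 * (q - 1) := by positivity
      by_contra hlt
      push Not at hlt
      nlinarith
    nlinarith
  have hq' : (8 : ℤ) ≤ q := by exact_mod_cast hq8
  have hq1 : (0 : ℤ) < (q : ℤ) - 1 := by linarith
  have hqz : (q : ℤ) = 2 * (r : ℤ) ^ 2 := by exact_mod_cast hq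
  interval_cases hI : I.card
  · -- no class
    rw [Finset.card_eq_zero] at hI
    rw [hI, Finset.prod_empty] at h4
    nlinarith
  · -- one class
    exfalso
    obtain ⟨a, rfl⟩ := Finset.card_eq_one.1 hI
    rw [Finset.prod_singleton] at h4
    rw [Finset.sum_singleton] at h5'
    have h := h3' a (Finset.mem_singleton_self a)
    have ha : (a : ℤ) = (q : ℤ) ^ 2 + 1 := by exact_mod_cast h4
    rw [ha] at h
    have hN : (0 : ℤ) < (q : ℤ) ^ 2 + 1 := by positivity
    have h6 : (c a : ℤ) * e a = (q : ℤ) ^ 4 * (q - 1) := by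
      apply mul_right_cancel₀ hN.ne'
      linear_combination h
    have h7 : (e a : ℤ) * ((q : ℤ) ^ 3 * (q - 1) ^ 2) = 2 * ((q : ℤ) ^ 4 * (q - 1)) := by
      rw [← h6, ← h5']; ring
    have h8 : (e a : ℤ) * (q - 1) = 2 * q := by
      have hpos : (0 : ℤ) < (q : ℤ) ^ 3 * (q - 1) := by positivity
      apply mul_right_cancel₀ hpos.ne'
      linear_combination h7
    rcases h2 a (Finset.mem_singleton_self a) with h | h | h <;> rw [h] at h8 <;> push_cast at h8 <;> linarith
  · -- two classes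
    obtain ⟨a, b, hab, rfl⟩ := Finset.card_eq_two.1 hI
    rw [Finset.prod_pair hab] at h4
    rw [Finset.sum_pair hab] at h5'
    have haI : a ∈ ({a, b} : Finset ℕ) := Finset.mem_insert_self a _
    have hbI : b ∈ ({a, b} : Finset ℕ) := Finset.mem_insert_of_mem (Finset.mem_singleton_self b)
    have ha := h3' a haI
    have hb := h3' b hbI
    have ha5 : (5 : ℤ) ≤ a := by exact_mod_cast h1 a haI
    have hb5 : (5 : ℤ) ≤ b := by exact_mod_cast h1 b hbI
    have hN : (a : ℤ) * b = (q : ℤ) ^ 2 + 1 := by exact_mod_cast h4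
    -- the key equation
    have hkey : 2 * (e b : ℤ) * (a * b - b) + 2 * (e a : ℤ) * (a * b - a)
        = (e a : ℤ) * e b * (q * (q - 1)) := by
      have hpos : (0 : ℤ) < (q : ℤ) ^ 2 * (q ^ 2 + 1) * (q - 1) := hGpos
      apply mul_left_cancel₀ hpos.ne'
      have e1 : (q : ℤ) ^ 2 * (q ^ 2 + 1) * (q - 1) * ((e a : ℤ) * e b * (q * (q - 1)))
          = (e a : ℤ) * e b * (a * b) * ((q : ℤ) ^ 3 * (q - 1) ^ 2) := by
        rw [hN]; ring
      rw [e1, ← h5']
      have e2 : (e a : ℤ) * e b * (a * b) * (2 * ((c a : ℤ) + c b))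
          = 2 * (e b * b) * ((c a : ℤ) * (e a * a)) + 2 * (e a * a) * ((c b : ℤ) * (e b * b)) := by
        ring
      rw [e2, ha, hb]
      ring
    have hqq : (q : ℤ) * (q - 1) < a * b := by rw [hN]; nlinarith
    have hA : 4 * ((a : ℤ) * b) ≤ 5 * (a * b - b) := by nlinarith
    have hB : 4 * ((a : ℤ) * b) ≤ 5 * (a * b - a) := by nlinarith
    have hab0 : (0 : ℤ) < (a : ℤ) * b := by positivity
    have hea := h2 a haI
    have heb := h2 b hbI
    have he44 : e a = 4 ∧ e b = 4 := by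
      rcases hea with h | h | h <;> rcases heb with h' | h' | h' <;> rw [h, h'] at hkey <;>
        push_cast at hkey <;> first | exact ⟨h, h'⟩ | (exfalso; nlinarith)
    rw [he44.1, he44.2] at hkey
    push_cast at hkey
    have hsum : (a : ℤ) + b = 2 * q + 2 := by nlinarith
    have hprod : ((a : ℤ) - (q + 2 * r + 1)) * (a - (q - 2 * r + 1)) = 0 := by
      have : (b : ℤ) = 2 * q + 2 - a := by linarith
      rw [this] at hN
      nlinarith
    have hrz : (2 : ℤ) * r ≤ q := by exact_mod_cast hr2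
    rcases mul_eq_zero.1 hprod with h | h
    · have ha' : a = q + 2 * r + 1 := by
        have : (a : ℤ) = q + 2 * r + 1 := by linarith
        exact_mod_cast this
      have hb' : b = q - 2 * r + 1 := by
        have : (b : ℤ) = q - 2 * r + 1 := by linarith
        zify [hr2]
        exact this
      rw [← ha', ← hb']
      exact ⟨rfl, he44.1, he44.2⟩
    · have ha' : a = q - 2 * r + 1 := by
        have : (a : ℤ) = q - 2 * r + 1 := by linarith
        zify [hr2]
        exact this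
      have hb' : b = q + 2 * r + 1 := by
        have : (b : ℤ) = q + 2 * r + 1 := by linarith
        exact_mod_cast this
      rw [← ha', ← hb']
      exact ⟨Finset.pair_comm a b, he44.2, he44.1⟩

end Cfsg.Agent.Lib.Helper3.SzArith
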