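import Mathlib
import Cfsg.Agent.Lib.Helper3.Suzuki17
import Cfsg.Agent.Lib.Helper3.SuzukiArith

set_option autoImplicit false

namespace Cfsg.Agent.Lib.Helper3.Sz

open Matrix Cfsg Cfsg.Agent.Lib.Helper3 Cfsg.Agent.Lib.Helper3.TICount
open scoped Pointwise

variable {F : Type*} [Field F] [Fintype F] {m : ℕ} (hF : Fintype.card F = 2 ^ (2 * m + 1))
  (hm : 1 ≤ m)

/-- the order of the centraliser -/
noncomputable def aOf (x : Sz F m) : ℕ := Nat.card (Subgroup.centralizer ({x} : Set (Sz F m)))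

/-- the order of the normaliser of the centraliser -/
noncomputable def nOf (x : Sz F m) : ℕ :=
  Nat.card (Subgroup.normalizer
    ((Subgroup.centralizer ({x} : Set (Sz F m)) : Subgroup (Sz F m)) : Set (Sz F m)))

include hF in
lemma odd_sq_add_one : ¬ 2 ∣ Fintype.card F ^ 2 + 1 := by
  rw [hF, ← pow_mul]
  have : 2 ∣ 2 ^ ((2 * m + 1) * 2) := dvd_pow_self 2 (by omega)
  omega

include hF hm in
/-- the centraliser of an element of `setR` is a torus -/
theorem torus_of_mem_setR {x : Sz F m} (hx : x ∈ setR F m) :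
    IsCyclic (Subgroup.centralizer ({x} : Set (Sz F m))) ∧
    aOf x ∣ Fintype.card F ^ 2 + 1 ∧
    (∀ u ∈ Subgroup.centralizer ({x} : Set (Sz F m)), u ≠ 1 →
      Subgroup.centralizer ({u} : Set (Sz F m)) = Subgroup.centralizer ({x} : Set (Sz F m))) ∧
    (∃ e, (e = 1 ∨ e = 2 ∨ e = 4) ∧ nOf x = e * aOf x) ∧
    (∀ p' : ℕ, p'.Prime → p' ∣ aOf x →
      (aOf x).factorization p' = (Fintype.card F ^ 2 + 1).factorization p') := by
  obtain ⟨hx1, p, hpp, hp2, hpd, hpx⟩ := hx
  have hfin : Finite (Sz F m) := finite_Sz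
  have : Fact p.Prime := ⟨hpp⟩
  have hn0 : orderOf x ≠ 0 := (orderOf_pos x).ne'
  set y := x ^ (orderOf x / p) with hydef
  have hy : orderOf y = p := orderOf_pow_orderOf_div hn0 hpx
  have hxy : x * y = y * x := by
    have : Commute x x := Commute.refl x
    exact (this.pow_right _).eq
  obtain ⟨hcyc, hcard, hcent, hnorm, hsyl⟩ := torus_Sz hF hm hp2 hpd y hy
  have hCx : Subgroup.centralizer ({x} : Set (Sz F m)) = Subgroup.centralizer ({y} : Set (Sz F m)) :=
    hcent x (Subgroup.mem_centralizer_singleton_iff.2 hxy) hx1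
  unfold aOf nOf
  rw [hCx]
  exact ⟨hcyc, hcard, hcent, hnorm, hsyl⟩

lemma self_mem_centralizer (x : Sz F m) : x ∈ Subgroup.centralizer ({x} : Set (Sz F m)) :=
  Subgroup.mem_centralizer_singleton_iff.2 rfl

/-- conjugating centralisers -/
lemma centralizer_conj (g x : Sz F m) :
    Subgroup.centralizer ({g * x * g⁻¹} : Set (Sz F m))
      = (Subgroup.centralizer ({x} : Set (Sz F m))).map (MulAut.conj g).toMonoidHom := by
  ext z
  rw [Subgroup.mem_centralizer_singleton_iff, Subgroup.mem_map]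
  constructor
  · intro hz
    refine ⟨g⁻¹ * z * g, ?_, ?_⟩
    · rw [Subgroup.mem_centralizer_singleton_iff]
      have : g⁻¹ * z * g * x = g⁻¹ * (z * (g * x * g⁻¹)) * g := by group
      rw [this, hz]; group
    · show MulAut.conj g (g⁻¹ * z * g) = z
      rw [MulAut.conj_apply]; group
  · rintro ⟨t, ht, rfl⟩
    rw [Subgroup.mem_centralizer_singleton_iff] at ht
    show MulAut.conj g t * (g * x * g⁻¹) = g * x * g⁻¹ * MulAut.conj g t
    rw [MulAut.conj_apply]
    calc g * t * g⁻¹ * (g * x * g⁻¹) = g * (t * x) * g⁻¹ := by group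
      _ = g * (x * t) * g⁻¹ := by rw [ht]
      _ = g * x * g⁻¹ * (g * t * g⁻¹) := by group

lemma aOf_conj (g x : Sz F m) : aOf (g * x * g⁻¹) = aOf x := by
  unfold aOf
  rw [centralizer_conj]
  exact Subgroup.card_map_of_injective (MulAut.conj g).injective

lemma nOf_conj (g x : Sz F m) : nOf (g * x * g⁻¹) = nOf x := by
  unfold nOf
  rw [centralizer_conj, ← Subgroup.map_equiv_normalizer_eq]
  exact Subgroup.card_map_of_injective (MulAut.conj g).injective

include hF hm in
/-- the centraliser of an element of `setR` is a trivial intersection subgroup -/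
lemma centralizer_TI {x : Sz F m} (hx : x ∈ setR F m) (g u : Sz F m)
    (hu : u ∈ Subgroup.centralizer ({x} : Set (Sz F m))) (hu1 : u ≠ 1)
    (hgu : g * u * g⁻¹ ∈ Subgroup.centralizer ({x} : Set (Sz F m))) :
    g ∈ Subgroup.normalizer
      ((Subgroup.centralizer ({x} : Set (Sz F m)) : Subgroup (Sz F m)) : Set (Sz F m)) := by
  obtain ⟨_, _, hcent, _, _⟩ := torus_of_mem_setR hF hm hx
  have hgu1 : g * u * g⁻¹ ≠ 1 := by
    intro h; apply hu1
    have : u = g⁻¹ * (g * u * g⁻¹) * g := by group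
    rw [this, h]; group
  have h1 := hcent u hu hu1
  have h2 := hcent _ hgu hgu1
  rw [centralizer_conj, h1] at h2
  rw [Subgroup.mem_normalizer_iff]
  intro z
  constructor
  · intro hz
    rw [← h2]
    exact Subgroup.mem_map_of_mem _ hz
  · intro hz
    rw [← h2] at hz
    obtain ⟨t, ht, hzt⟩ := Subgroup.mem_map.1 hz
    have hzt' : g * t * g⁻¹ = g * z * g⁻¹ := hzt
    have : t = z := mul_left_cancel (mul_right_cancel hzt')
    rw [← this]; exact ht

include hF hm in
/-- two tori with a common prime divisor of their orders are conjugate -/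
lemma conj_of_common_prime {x x' : Sz F m} (hx : x ∈ setR F m) (hx' : x' ∈ setR F m) {p' : ℕ}
    (hp' : p'.Prime) (h : p' ∣ aOf x) (h' : p' ∣ aOf x') :
    ∃ g : Sz F m, Subgroup.centralizer ({x'} : Set (Sz F m))
      = (Subgroup.centralizer ({x} : Set (Sz F m))).map (MulAut.conj g).toMonoidHom := by
  have hfin : Finite (Sz F m) := finite_Sz
  have : Fact p'.Prime := ⟨hp'⟩
  obtain ⟨_, hcard, hcent, _, _⟩ := torus_of_mem_setR hF hm hx
  obtain ⟨_, hcard', hcent', _, _⟩ := torus_of_mem_setR hF hm hx'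
  have hp'2 : p' ≠ 2 := by
    rintro rfl
    exact odd_sq_add_one hF (dvd_trans h hcard)
  obtain ⟨u, hu⟩ := exists_prime_orderOf_dvd_card' p' h
  obtain ⟨u', hu'⟩ := exists_prime_orderOf_dvd_card' p' h'
  have hu0 : orderOf (u : Sz F m) = p' := by rw [Subgroup.orderOf_coe]; exact hu
  have hu'0 : orderOf (u' : Sz F m) = p' := by rw [Subgroup.orderOf_coe]; exact hu'
  have hu1 : (u : Sz F m) ≠ 1 := by
    intro h1
    rw [h1, orderOf_one] at hu0
    exact hp'.one_lt.ne hu0
  have hu'1 : (u' : Sz F m) ≠ 1 := by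
    intro h1
    rw [h1, orderOf_one] at hu'0
    exact hp'.one_lt.ne hu'0
  have hup : IsPGroup p' (Subgroup.zpowers (u : Sz F m)) := by
    apply IsPGroup.of_card (n := 1)
    rw [Nat.card_zpowers, hu0, pow_one]
  have hup' : IsPGroup p' (Subgroup.zpowers (u' : Sz F m)) := by
    apply IsPGroup.of_card (n := 1)
    rw [Nat.card_zpowers, hu'0, pow_one]
  obtain ⟨P, hP⟩ := hup.exists_le_sylow
  obtain ⟨P', hP'⟩ := hup'.exists_le_sylow
  obtain ⟨g, hg⟩ := MulAction.exists_smul_eq (Sz F m) P P'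
  have hPc : IsCyclic P := Cfsg.Agent.S0331.result hm hF hp'2 P
  -- `g⁻¹ u' g ∈ P`
  have h1 : (u' : Sz F m) ∈ P' := hP' (Subgroup.mem_zpowers _)
  rw [← hg, Sylow.smul_def] at h1
  have h2 : (u' : Sz F m) ∈ ((MulAut.conj g • P : Sylow p' (Sz F m)) : Subgroup (Sz F m)) := h1
  rw [Sylow.pointwise_smul_def, Subgroup.mem_pointwise_smul_iff_inv_smul_mem] at h2
  have h3 : (MulAut.conj g)⁻¹ • (u' : Sz F m) = g⁻¹ * u' * g := by
    rw [← map_inv, MulAut.smul_def, MulAut.conj_apply, inv_inv]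
  rw [h3] at h2
  -- it commutes with `u`
  have huP : (u : Sz F m) ∈ (P : Subgroup (Sz F m)) := hP (Subgroup.mem_zpowers _)
  have hcomm : (g⁻¹ * u' * g) * (u : Sz F m) = (u : Sz F m) * (g⁻¹ * u' * g) := by
    have := hPc.isMulCommutative.is_comm.comm ⟨_, h2⟩ ⟨_, huP⟩
    exact congrArg Subtype.val this
  have h4 : g⁻¹ * u' * g ∈ Subgroup.centralizer ({x} : Set (Sz F m)) := by
    rw [← hcent u u.2 hu1, Subgroup.mem_centralizer_singleton_iff]
    exact hcomm
  have h41 : g⁻¹ * (u' : Sz F m) * g ≠ 1 := by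
    intro h5; apply hu'1
    have : (u' : Sz F m) = g * (g⁻¹ * u' * g) * g⁻¹ := by group
    rw [this, h5]; group
  have h5 := hcent _ h4 h41
  refine ⟨g, ?_⟩
  rw [← hcent' u' u'.2 hu'1, ← h5, ← centralizer_conj]
  congr 2
  group

include hF hm in
lemma two_le_aOf {x : Sz F m} (hx : x ∈ setR F m) : 5 ≤ aOf x := by
  have hfin : Finite (Sz F m) := finite_Sz
  obtain ⟨_, hcard, _, _, _⟩ := torus_of_mem_setR hF hm hx
  have h1 : orderOf x ∣ aOf x := Subgroup.orderOf_dvd_natCard _ (self_mem_centralizer x)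
  have h2 : aOf x ≠ 1 := by
    intro h
    rw [h, Nat.dvd_one, orderOf_eq_one_iff] at h1
    exact hx.1 h1
  have h3 : ¬ 2 ∣ aOf x := fun h => odd_sq_add_one hF (dvd_trans h hcard)
  have h4 : ¬ 3 ∣ aOf x := by
    intro h
    have h5 := dvd_trans h hcard
    have h6 := card_mod_three hF
    have h7 : Fintype.card F ^ 2 % 3 = 1 := by rw [Nat.pow_mod, h6]
    omega
  have h0 : aOf x ≠ 0 := Nat.card_pos.ne'
  omega

end Cfsg.Agent.Lib.Helper3.Sz
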