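import Mathlib
import Cfsg.Agent.Lib.Helper3.Suzuki18

set_option autoImplicit false

namespace Cfsg.Agent.Lib.Helper3.Sz

open Matrix Cfsg Cfsg.Agent.Lib.Helper3 Cfsg.Agent.Lib.Helper3.TICount
open scoped Pointwise

variable {F : Type*} [Field F] [Fintype F] {m : ℕ} (hF : Fintype.card F = 2 ^ (2 * m + 1))
  (hm : 1 ≤ m)

include hF hm in
/-- the elements of `setR` with a centraliser of given order form a class -/
lemma class_eq_conjSet {x₀ : Sz F m} (hx₀ : x₀ ∈ setR F m) :
    {x | x ∈ setR F m ∧ aOf x = aOf x₀} = conjSet (Subgroup.centralizer ({x₀} : Set (Sz F m))) := by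
  have hfin : Finite (Sz F m) := finite_Sz
  ext x
  constructor
  · rintro ⟨hx, hax⟩
    have h5 := two_le_aOf hF hm hx
    have hn1 : aOf x ≠ 1 := by omega
    have hp' : (aOf x).minFac.Prime := Nat.minFac_prime hn1
    have hd : (aOf x).minFac ∣ aOf x := Nat.minFac_dvd _
    obtain ⟨g, hg⟩ := conj_of_common_prime hF hm hx hx₀ hp' hd (hax ▸ hd)
    refine ⟨hx.1, g, ?_⟩
    rw [hg]
    exact Subgroup.mem_map_of_mem _ (self_mem_centralizer x)
  · rintro ⟨hx1, g, hg⟩
    obtain ⟨_, hcard, hcent, _, _⟩ := torus_of_mem_setR hF hm hx₀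
    have hgx1 : g * x * g⁻¹ ≠ 1 := by
      intro h; apply hx1
      have : x = g⁻¹ * (g * x * g⁻¹) * g := by group
      rw [this, h]; group
    have hC := hcent _ hg hgx1
    have ha : aOf x = aOf x₀ := by
      rw [← aOf_conj g x]
      unfold aOf
      rw [hC]
    refine ⟨⟨hx1, ?_⟩, ha⟩
    have hn1 : orderOf x ≠ 1 := fun h => hx1 (orderOf_eq_one_iff.1 h)
    have hdvd : orderOf x ∣ Fintype.card F ^ 2 + 1 := by
      have h1 : orderOf x ∣ aOf x := Subgroup.orderOf_dvd_natCard _ (self_mem_centralizer x)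
      rw [ha] at h1
      exact dvd_trans h1 hcard
    refine ⟨(orderOf x).minFac, Nat.minFac_prime hn1, ?_, dvd_trans (Nat.minFac_dvd _) hdvd,
      Nat.minFac_dvd _⟩
    intro h2
    apply odd_sq_add_one hF
    have h3 := dvd_trans (Nat.minFac_dvd (orderOf x)) hdvd
    rw [h2] at h3
    exact h3

include hF hm in
/-- the number of elements of a class -/
lemma card_class {x₀ : Sz F m} (hx₀ : x₀ ∈ setR F m) :
    Nat.card {x | x ∈ setR F m ∧ aOf x = aOf x₀} * nOf x₀
      = Nat.card (Sz F m) * (aOf x₀ - 1) := by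
  have hfin : Finite (Sz F m) := finite_Sz
  rw [class_eq_conjSet hF hm hx₀]
  exact card_conjSet _ (centralizer_TI hF hm hx₀)

include hF hm in
/-- The classification of the tori: the centraliser of an element of `setR` has order
`q + 2 r + 1` or `q - 2 r + 1`, both occur, and the normaliser has four times that order. -/
theorem tori_classification :
    (∀ x ∈ setR F m, (aOf x = 2 ^ (2 * m + 1) + 2 ^ (m + 1) + 1 ∨
      aOf x = 2 ^ (2 * m + 1) - 2 ^ (m + 1) + 1) ∧ nOf x = 4 * aOf x) ∧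
    (∃ x ∈ setR F m, aOf x = 2 ^ (2 * m + 1) + 2 ^ (m + 1) + 1) ∧
    (∃ x ∈ setR F m, aOf x = 2 ^ (2 * m + 1) - 2 ^ (m + 1) + 1) := by
  classical
  have hfin : Finite (Sz F m) := finite_Sz
  let _ : Fintype (Sz F m) := Fintype.ofFinite _
  set q := Fintype.card F with hq
  have hq2 : 2 ≤ q := Fintype.one_lt_card
  let sR : Finset (Sz F m) := Finset.univ.filter (fun x => x ∈ setR F m)
  have hsR : ∀ x, x ∈ sR ↔ x ∈ setR F m := fun x => by simp [sR]
  let I : Finset ℕ := sR.image aOf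
  have hI : ∀ a, a ∈ I ↔ ∃ x ∈ setR F m, aOf x = a := by
    intro a
    simp only [I, Finset.mem_image, hsR]
  -- representatives
  have hrep : ∀ a : ℕ, ∃ x : Sz F m, a ∈ I → (x ∈ setR F m ∧ aOf x = a) := by
    intro a
    by_cases ha : a ∈ I
    · obtain ⟨x, hx, hxa⟩ := (hI a).1 ha
      exact ⟨x, fun _ => ⟨hx, hxa⟩⟩
    · exact ⟨1, fun h => absurd h ha⟩
  choose rep hrep using hrep
  let e : ℕ → ℕ := fun a => nOf (rep a) / a
  let c : ℕ → ℕ := fun a => (sR.filter (fun x => aOf x = a)).card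
  have hnOf : ∀ a ∈ I, nOf (rep a) = e a * a ∧ (e a = 1 ∨ e a = 2 ∨ e a = 4) := by
    intro a ha
    obtain ⟨hx, hxa⟩ := hrep a ha
    obtain ⟨_, _, _, ⟨e', he', hn⟩, _⟩ := torus_of_mem_setR hF hm hx
    rw [hxa] at hn
    have ha0 : 0 < a := by
      have := two_le_aOf hF hm hx
      omega
    have : e a = e' := by
      show nOf (rep a) / a = e'
      rw [hn, Nat.mul_div_cancel _ ha0]
    rw [this]
    exact ⟨hn, he'⟩
  have h1 : ∀ a ∈ I, 5 ≤ a := by
    intro a ha
    obtain ⟨hx, hxa⟩ := hrep a ha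
    rw [← hxa]
    exact two_le_aOf hF hm hx
  have h2 : ∀ a ∈ I, e a = 1 ∨ e a = 2 ∨ e a = 4 := fun a ha => (hnOf a ha).2
  have h3 : ∀ a ∈ I, c a * (e a * a) = q ^ 2 * (q ^ 2 + 1) * (q - 1) * (a - 1) := by
    intro a ha
    obtain ⟨hx, hxa⟩ := hrep a ha
    have := card_class hF hm hx
    rw [hxa, (hnOf a ha).1, card_Sz' hF hm] at this
    rw [← this]
    congr 1
    show (sR.filter (fun x => aOf x = a)).card = _
    rw [Nat.card_eq_fintype_card, Fintype.card_subtype]
    congr 1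
    ext x
    simp only [Finset.mem_filter, hsR, Finset.mem_univ, true_and, Set.mem_ofPred_eq]
  have hdvdN : ∀ a ∈ I, a ∣ q ^ 2 + 1 := by
    intro a ha
    obtain ⟨hx, hxa⟩ := hrep a ha
    obtain ⟨_, hcard, _, _, _⟩ := torus_of_mem_setR hF hm hx
    rw [← hxa]; exact hcard
  have h4 : ∏ a ∈ I, a = q ^ 2 + 1 := by
    apply SzArith.prod_eq_of_coprime I _ (by positivity) hdvdN
    · intro a ha b hb hab
      by_contra hnc
      obtain ⟨p', hp', hpa, hpb⟩ := Nat.Prime.not_coprime_iff_dvd.1 hnc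
      obtain ⟨hx, hxa⟩ := hrep a ha
      obtain ⟨hy, hyb⟩ := hrep b hb
      obtain ⟨g, hg⟩ := conj_of_common_prime hF hm hx hy hp' (by rw [hxa]; exact hpa)
        (by rw [hyb]; exact hpb)
      apply hab
      rw [← hxa, ← hyb]
      unfold aOf
      rw [hg]
      exact (Subgroup.card_map_of_injective (MulAut.conj g).injective).symm
    · intro p' hp' hpN
      have : Fact p'.Prime := ⟨hp'⟩
      have hp'2 : p' ≠ 2 := by
        rintro rfl
        exact odd_sq_add_one hF hpN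
      have hpG : p' ∣ Nat.card (Sz F m) := by
        rw [card_Sz' hF hm]
        exact Dvd.dvd.mul_right (Dvd.dvd.mul_left hpN _) _
      obtain ⟨y, hy⟩ := exists_prime_orderOf_dvd_card' p' hpG
      have hy1 : y ≠ 1 := by
        intro h
        rw [h, orderOf_one] at hy
        exact hp'.one_lt.ne hy
      have hyR : y ∈ setR F m := ⟨hy1, p', hp', hp'2, hpN, by rw [hy]⟩
      refine ⟨aOf y, (hI _).2 ⟨y, hyR, rfl⟩, ?_⟩
      obtain ⟨_, _, _, _, hsyl⟩ := torus_of_mem_setR hF hm hyR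
      have hpa : p' ∣ aOf y := by
        rw [← hy]
        exact Subgroup.orderOf_dvd_natCard _ (self_mem_centralizer y)
      rw [← hsyl p' hp' hpa]
      exact Nat.ordProj_dvd _ _
  have h5 : 2 * ∑ a ∈ I, c a + 2 * q ^ 4 = q ^ 5 + q ^ 3 := by
    have := card_setR hF hm
    rw [← this]
    congr 2
    have hfib := Finset.card_eq_sum_card_fiberwise (f := aOf) (s := sR) (t := I)
      (fun x hx => Finset.mem_image_of_mem _ hx)
    rw [← hfib, Nat.card_eq_fintype_card, Fintype.card_subtype]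
  have hqr : q = 2 * (2 ^ m) ^ 2 := by
    rw [hF]; ring
  have hr : 2 ≤ 2 ^ m := by
    calc 2 = 2 ^ 1 := rfl
      _ ≤ 2 ^ m := Nat.pow_le_pow_right (by norm_num) hm
  obtain ⟨hIeq, he1, he2⟩ := SzArith.classes q (2 ^ m) hr hqr I e c h1 h2 h3 h4 h5
  have hr' : 2 * 2 ^ m = 2 ^ (m + 1) := by rw [pow_succ]; ring
  rw [hr'] at hIeq he1 he2
  rw [← hF]
  have hmemI : ∀ x ∈ setR F m, aOf x ∈ I := fun x hx => (hI _).2 ⟨x, hx, rfl⟩
  refine ⟨?_, ?_, ?_⟩
  · intro x hx
    have hxI := hmemI x hx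
    have hcases : aOf x = q + 2 ^ (m + 1) + 1 ∨ aOf x = q - 2 ^ (m + 1) + 1 := by
      rw [hIeq] at hxI
      simpa using hxI
    refine ⟨hcases, ?_⟩
    -- the normaliser
    obtain ⟨hr1, hr2⟩ := hrep _ hxI
    have h5' := two_le_aOf hF hm hx
    have hn1 : aOf x ≠ 1 := by omega
    have hp' : (aOf x).minFac.Prime := Nat.minFac_prime hn1
    have hd : (aOf x).minFac ∣ aOf x := Nat.minFac_dvd _
    obtain ⟨g, hg⟩ := conj_of_common_prime hF hm hr1 hx hp' (hr2.symm ▸ hd) hd
    have hn : nOf x = nOf (rep (aOf x)) := by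
      unfold nOf
      rw [hg, ← Subgroup.map_equiv_normalizer_eq]
      exact Subgroup.card_map_of_injective (MulAut.conj g).injective
    rw [hn, (hnOf _ hxI).1]
    rcases hcases with h | h
    · rw [h, he1]
    · rw [h, he2]
  · have : q + 2 ^ (m + 1) + 1 ∈ I := by rw [hIeq]; simp
    exact (hI _).1 this
  · have : q - 2 ^ (m + 1) + 1 ∈ I := by rw [hIeq]; simp
    exact (hI _).1 this

end Cfsg.Agent.Lib.Helper3.Sz
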