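import Mathlib
import Cfsg.Agent.Lib.Helper3.OrthType2
import Cfsg.Agent.Lib.Helper6.Siegel
import Cfsg.Agent.Lib.Helper6.SiegelOmega

/-!
# Sylow 2-subgroups of the orthogonal groups of plus type over the field of two elements

Generalities: maximal `2`-subgroups of a subgroup, pointwise fixers of subspaces in the isometry
group, the groups of Siegel transformations centred at a singular vector.
-/

set_option autoImplicit false

namespace Cfsg.Agent.Lib.Helper3.SylO

open Module Submodule QuadraticMap Cfsg.Agent.Lib.Helper15 Cfsg.Agent.Lib.Helper15.PSpI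
  Cfsg.Agent.Lib.Helper6 Cfsg.Agent.Lib.Helper3.Orth

section grp

variable {G : Type*} [Group G]

/-- `S` is a maximal `2`-subgroup of `K` -/
def Max2 (K S : Subgroup G) : Prop :=
  S ≤ K ∧ IsPGroup 2 S ∧ ∀ T : Subgroup G, T ≤ K → IsPGroup 2 T → S ≤ T → T ≤ S

/-- a `2`-subgroup of `K` normalized by a maximal `2`-subgroup `S` of `K` lies in `S` -/
theorem le_of_max2 {K S N : Subgroup G} (hS : Max2 K S) (hNK : N ≤ K) (hN : IsPGroup 2 N)
    (hnorm : ∀ s ∈ S, ∀ n ∈ N, s * n * s⁻¹ ∈ N) : N ≤ S := by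
  have hle : S ≤ Subgroup.normalizer (N : Set G) := by
    intro s hs
    rw [Subgroup.mem_normalizer_iff]
    intro n
    constructor
    · exact hnorm s hs n
    · intro h
      have := hnorm s⁻¹ (S.inv_mem hs) _ h
      rw [inv_inv] at this
      have h2 : s⁻¹ * (s * n * s⁻¹) * s = n := by group
      rwa [h2] at this
  have hT : IsPGroup 2 ↥(S ⊔ N) := IsPGroup.to_sup_of_normal_right' hS.2.1 hN hle
  exact le_trans le_sup_right (hS.2.2 (S ⊔ N) (sup_le hS.1 hNK) hT le_sup_left)

theorem max2_of_sylow (P : Sylow 2 G) : Max2 ⊤ (P : Subgroup G) :=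
  ⟨le_top, P.isPGroup', fun _ _ hT hle => (P.is_maximal' hT hle).le⟩

end grp

section two

variable {F : Type*} [Field F] [Fintype F]

theorem two_eq_zero_of_card (hF : Fintype.card F = 2) : (2 : F) = 0 := by
  have h := Nat.cast_card_eq_zero F
  rw [hF] at h
  exact_mod_cast h

theorem eq_zero_or_one_of_card (hF : Fintype.card F = 2) (a : F) : a = 0 ∨ a = 1 := by
  classical
  by_contra hcon
  push Not at hcon
  have h1 : ({0, 1, a} : Finset F).card = 3 := by
    rw [Finset.card_insert_of_notMem, Finset.card_insert_of_notMem, Finset.card_singleton]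
    · simp only [Finset.mem_singleton]
      exact fun h => hcon.2 h.symm
    · simp only [Finset.mem_insert, Finset.mem_singleton, not_or]
      exact ⟨zero_ne_one, fun h => hcon.1 h.symm⟩
  have h2 := Finset.card_le_univ ({0, 1, a} : Finset F)
  omega

theorem neg_eq_self_of_card (hF : Fintype.card F = 2) (a : F) : -a = a := by
  have h2 := two_eq_zero_of_card hF
  have : a + a = 0 := by rw [← two_mul, h2, zero_mul]
  exact neg_eq_of_add_eq_zero_left this

end two

section fixer

variable {F : Type*} [Field F] {ι : Type} [Fintype ι] [DecidableEq ι]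
  (Q : QuadraticForm F (ι → F))

/-- the pointwise fixer of a subspace in the isometry group -/
def fixer (A : Submodule F (ι → F)) : Subgroup ↥(Cfsg.isometryGroup F ⇑Q) where
  carrier := {g | ∀ a ∈ A, gact Q g a = a}
  mul_mem' := by
    intro g h hg hh a ha
    rw [gact_mul, hh a ha, hg a ha]
  one_mem' := fun a _ => gact_one Q a
  inv_mem' := by
    intro g hg a ha
    have := gact_inv_gact Q g a
    rwa [hg a ha] at this

theorem mem_fixer {A : Submodule F (ι → F)} {g : ↥(Cfsg.isometryGroup F ⇑Q)} :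
    g ∈ fixer Q A ↔ ∀ a ∈ A, gact Q g a = a := Iff.rfl

theorem fixer_bot : fixer Q (⊥ : Submodule F (ι → F)) = ⊤ := by
  rw [eq_top_iff]
  intro g _ a ha
  rw [(mem_bot F).mp ha, gact_zero]

theorem fixer_anti {A A' : Submodule F (ι → F)} (h : A ≤ A') : fixer Q A' ≤ fixer Q A :=
  fun _ hg a ha => hg a (h ha)

/-- the orthogonal complement of a subspace -/
noncomputable def perp (A : Submodule F (ι → F)) : Submodule F (ι → F) := perpIn (pB Q) ⊤ A

omit [Fintype ι] [DecidableEq ι] in
theorem mem_perp {A : Submodule F (ι → F)} {x : ι → F} :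
    x ∈ perp Q A ↔ ∀ a ∈ A, polar (⇑Q) a x = 0 := by
  unfold perp
  rw [mem_perpIn]
  simp only [mem_top, true_and]
  rfl

omit [Fintype ι] [DecidableEq ι] in
theorem perp_bot : perp Q (⊥ : Submodule F (ι → F)) = ⊤ := by
  rw [eq_top_iff]
  intro x _
  rw [mem_perp]
  intro a ha
  rw [(mem_bot F).mp ha, polar_zero_left]

/-- the fixer of `A` stabilizes the orthogonal complement of `A` -/
theorem gact_mem_perp {A : Submodule F (ι → F)} {g : ↥(Cfsg.isometryGroup F ⇑Q)}
    (hg : g ∈ fixer Q A) {x : ι → F} (hx : x ∈ perp Q A) : gact Q g x ∈ perp Q A := by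
  rw [mem_perp] at hx ⊢
  intro a ha
  rw [← hg a ha, polar_gact]
  exact hx a ha

theorem mem_fixer_sup_pair {A : Submodule F (ι → F)} {u u' : ι → F}
    {g : ↥(Cfsg.isometryGroup F ⇑Q)} :
    g ∈ fixer Q (A ⊔ span F {u, u'}) ↔
      g ∈ fixer Q A ∧ gact Q g u = u ∧ gact Q g u' = u' := by
  constructor
  · intro h
    refine ⟨fixer_anti Q le_sup_left h, ?_, ?_⟩
    · exact h u (mem_sup_right (subset_span (by simp)))
    · exact h u' (mem_sup_right (subset_span (by simp)))
  · rintro ⟨h1, h2, h3⟩ x hx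
    obtain ⟨a, ha, p, hp, rfl⟩ := mem_sup.mp hx
    obtain ⟨c, d, rfl⟩ := mem_span_pair.mp hp
    rw [gact_add, gact_add, gact_smul, gact_smul, h1 a ha, h2, h3]

omit [Fintype ι] [DecidableEq ι] in
theorem perp_sup_pair (A : Submodule F (ι → F)) (u u' : ι → F) :
    perp Q (A ⊔ span F {u, u'}) = perpIn (pB Q) (perp Q A) (span F {u, u'}) := by
  ext x
  rw [mem_perp, mem_perpIn, mem_perp]
  constructor
  · intro h
    exact ⟨fun a ha => h a (mem_sup_left ha), fun p hp => h p (mem_sup_right hp)⟩
  · rintro ⟨h1, h2⟩ s hs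
    obtain ⟨a, ha, p, hp, rfl⟩ := mem_sup.mp hs
    rw [polar_add_left, h1 a ha, zero_add]
    exact h2 p hp

end fixer

end Cfsg.Agent.Lib.Helper3.SylO
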