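import Mathlib
import Cfsg.Agent.Lib.Helper3.SylO1

/-!
# Siegel transformations centred at a singular vector, as a `2`-group
-/

set_option autoImplicit false

namespace Cfsg.Agent.Lib.Helper3.SylO

open Module Submodule QuadraticMap Cfsg.Agent.Lib.Helper15 Cfsg.Agent.Lib.Helper15.PSpI
  Cfsg.Agent.Lib.Helper6 Cfsg.Agent.Lib.Helper3.Orth

section sieg

variable {F : Type*} [Field F] {ι : Type} [Fintype ι] [DecidableEq ι]
  (Q : QuadraticForm F (ι → F))

/-- the Siegel transformations `ρ_{u,w}`, `w ∈ W`, `w ⟂ u` -/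
def siegSub (W : Submodule F (ι → F)) (u : ι → F) (hu : Q u = 0) :
    Subgroup ↥(Cfsg.isometryGroup F ⇑Q) where
  carrier := {g | ∃ (w : ι → F) (_ : w ∈ W) (huw : polar (⇑Q) u w = 0), g = siegIso Q u w hu huw}
  mul_mem' := by
    rintro g h ⟨w, hw, huw, rfl⟩ ⟨w', hw', huw', rfl⟩
    exact ⟨w + w', W.add_mem hw hw', _, siegIso_mul Q u w w' hu huw huw'⟩
  one_mem' := ⟨0, W.zero_mem, by simp, (siegIso_zero Q u hu).symm⟩
  inv_mem' := by
    rintro g ⟨w, hw, huw, rfl⟩
    exact ⟨-w, W.neg_mem hw, _, siegIso_inv Q u w hu huw⟩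

theorem siegIso_mem_siegSub {W : Submodule F (ι → F)} {u : ι → F} (hu : Q u = 0) {w : ι → F}
    (hw : w ∈ W) (huw : polar (⇑Q) u w = 0) : siegIso Q u w hu huw ∈ siegSub Q W u hu :=
  ⟨w, hw, huw, rfl⟩

/-- in characteristic two the Siegel group is a `2`-group -/
theorem isPGroup_siegSub (h2 : (2 : F) = 0) (W : Submodule F (ι → F)) (u : ι → F) (hu : Q u = 0) :
    IsPGroup 2 ↥(siegSub Q W u hu) := by
  rintro ⟨g, w, hw, huw, rfl⟩
  refine ⟨1, ?_⟩
  apply Subtype.ext
  rw [pow_one, Subgroup.coe_pow, Subgroup.coe_one, pow_two, siegIso_mul]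
  have : w + w = 0 := by rw [← two_smul F w, h2, zero_smul]
  rw [siegIso_congr Q u (w + w) 0 hu _ this]
  exact siegIso_zero Q u hu

/-- the Siegel group fixes the orthogonal complement of `W + ⟨u⟩` -/
theorem siegSub_le_fixer {A W : Submodule F (ι → F)} {u : ι → F} (hu : Q u = 0)
    (huA : u ∈ perp Q A) (hWA : W ≤ perp Q A) : siegSub Q W u hu ≤ fixer Q A := by
  rintro g ⟨w, hw, huw, rfl⟩ a ha
  rw [gact_siegIso, polar_comm (⇑Q) w a, polar_comm (⇑Q) u a, (mem_perp Q).mp (hWA hw) a ha,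
    (mem_perp Q).mp huA a ha]
  simp

/-- isometries fixing `u` and stabilizing `W` normalize the Siegel group -/
theorem conj_mem_siegSub {W : Submodule F (ι → F)} {u : ι → F} (hu : Q u = 0)
    (g : ↥(Cfsg.isometryGroup F ⇑Q)) (hgu : gact Q g u = u) (hgW : ∀ w ∈ W, gact Q g w ∈ W)
    {n : ↥(Cfsg.isometryGroup F ⇑Q)} (hn : n ∈ siegSub Q W u hu) :
    g * n * g⁻¹ ∈ siegSub Q W u hu := by
  obtain ⟨w, hw, huw, rfl⟩ := hn
  rw [conj_siegIso]
  have h1 : polar (⇑Q) u (gact Q g w) = 0 := by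
    have := polar_gact Q g u w
    rw [hgu] at this
    rw [this, huw]
  refine ⟨gact Q g w, hgW w hw, h1, ?_⟩
  apply iso_ext_gact
  intro x
  rw [gact_siegIso, gact_siegIso, hgu]

/-- a Siegel transformation with `w ∉ ⟨u⟩` is not the identity, if some vector is not
perpendicular to `u` -/
theorem siegIso_ne_one {u w x : ι → F} (hu : Q u = 0) (huw : polar (⇑Q) u w = 0)
    (hux : polar (⇑Q) u x ≠ 0) (hw : ∀ c : F, w ≠ c • u) : siegIso Q u w hu huw ≠ 1 := by
  intro h
  have h1 := congrArg (fun g => gact Q g x) h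
  simp only [gact_one, gact_siegIso] at h1
  have h2 : (polar (⇑Q) w x - Q w * polar (⇑Q) u x) • u + (-(polar (⇑Q) u x)) • w = 0 := by
    have := congrArg (fun y => y - x) h1
    simp only [sub_self] at this
    rw [← this]
    abel
  apply hw ((polar (⇑Q) u x)⁻¹ * (polar (⇑Q) w x - Q w * polar (⇑Q) u x))
  have h3 : (polar (⇑Q) u x) • w = (polar (⇑Q) w x - Q w * polar (⇑Q) u x) • u := by
    rw [neg_smul, add_neg_eq_zero] at h2
    exact h2.symm
  rw [mul_smul, ← h3, smul_smul, inv_mul_cancel₀ hux, one_smul]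

/-- in characteristic two, `ρ_{u,u'} = ρ_{u',u}` for perpendicular singular vectors -/
theorem siegIso_symm (h2 : (2 : F) = 0) {u u' : ι → F} (hu : Q u = 0) (hu' : Q u' = 0)
    (huu' : polar (⇑Q) u u' = 0) :
    siegIso Q u u' hu huu' = siegIso Q u' u hu' (by rw [polar_comm]; exact huu') := by
  apply iso_ext_gact
  intro x
  rw [gact_siegIso, gact_siegIso, hu, hu']
  have hneg : ∀ a : F, -a = a := by
    intro a
    have : a + a = 0 := by rw [← two_mul, h2, zero_mul]
    exact neg_eq_of_add_eq_zero_left this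
  rw [hneg, hneg]
  simp only [zero_mul, sub_zero]
  abel

/-- the Siegel transformation moving a hyperbolic partner of `u` to another one -/
theorem siegIso_move {u v v' : ι → F} (hu : Q u = 0) (hv : Q v = 0) (hv' : Q v' = 0)
    (huv : polar (⇑Q) u v = 1) (huw : polar (⇑Q) u (v - v') = 0) :
    gact Q (siegIso Q u (v - v') hu huw) u = u ∧ gact Q (siegIso Q u (v - v') hu huw) v = v' := by
  constructor
  · rw [gact_siegIso, polar_self, hu, polar_comm (⇑Q) (v - v') u, huw]
    simp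
  · rw [gact_siegIso, huv, Q_sub, hv, hv', polar_sub_left, polar_self, hv, polar_comm (⇑Q) v' v]
    ext i
    simp only [Pi.add_apply, Pi.smul_apply, Pi.sub_apply, smul_eq_mul, nsmul_eq_mul]
    ring

end sieg

end Cfsg.Agent.Lib.Helper3.SylO
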