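import Mathlib
import Cfsg.Agent.Lib.Helper3.SylO2
import Cfsg.Agent.Lib.Helper3.OrthOdd1

/-!
# A `2`-group of isometries of a plus-type space over `𝔽₂` fixes a nonzero singular vector
-/

set_option autoImplicit false

namespace Cfsg.Agent.Lib.Helper3.SylO

open Module Submodule QuadraticMap Cfsg.Agent.Lib.Helper15 Cfsg.Agent.Lib.Helper15.PSpI
  Cfsg.Agent.Lib.Helper6 Cfsg.Agent.Lib.Helper3.Orth Cfsg.Agent.Lib.Helper6.OrtS
  Cfsg.Agent.Lib.Helper14.OrthEven

universe u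

section fix

variable {F : Type u} [Field F] [Fintype F] {ι : Type} [Fintype ι] [DecidableEq ι]
  (Q : QuadraticForm F (ι → F))

/-- the singular vectors of the orthogonal complement of `A` -/
abbrev SingIn (A : Submodule F (ι → F)) : Type _ := {w : ↥(perp Q A) // Q (w : ι → F) = 0}

/-- the action of a subgroup of the fixer of `A` on the singular vectors of `A^⊥` -/
@[reducible] def singAct (A : Submodule F (ι → F)) (S : Subgroup ↥(Cfsg.isometryGroup F ⇑Q))
    (hSK : S ≤ fixer Q A) : MulAction ↥S (SingIn Q A) where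
  smul s x := ⟨⟨gact Q s.1 x.1.1, gact_mem_perp Q (hSK s.2) x.1.2⟩, by
    show Q (gact Q s.1 x.1.1) = 0
    rw [Q_gact]; exact x.2⟩
  one_smul x := Subtype.ext (Subtype.ext (gact_one Q x.1.1))
  mul_smul s t x := Subtype.ext (Subtype.ext (gact_mul Q s.1 t.1 x.1.1))

omit [DecidableEq ι] in
theorem even_card_singIn (hF : Fintype.card F = 2) (A : Submodule F (ι → F)) (e : ℕ) (he : 2 ≤ e)
    (hW : NondegOn (pB Q) (perp Q A)) (hWf : finrank F (perp Q A) = 2 * e)
    (hWp : PlusOn Q (perp Q A)) : 2 ∣ Nat.card (SingIn Q A) := by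
  have hs : SgnOn Q (perp Q A) 1 := (sgnOn_one_iff_plusOn Q (perp Q A) hW e hWf).mpr hWp
  have h0 := hs 0
  rw [if_pos rfl, hF, hWf] at h0
  have he2 : 2 * e / 2 = e := by omega
  rw [he2] at h0
  unfold cnt at h0
  obtain ⟨k, rfl⟩ : ∃ k, e = k + 2 := ⟨e - 2, by omega⟩
  have h1 : ((2 : ℕ) : ℤ) * (Nat.card (SingIn Q A) : ℤ) =
      2 * (2 * ((2 : ℤ) ^ (2 * k + 2) + 2 ^ k)) := by
    have : (Nat.card {v : ↥(perp Q A) // Q (v : ι → F) = 0} : ℤ) = (Nat.card (SingIn Q A) : ℤ) := rfl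
    rw [← this, h0]
    push_cast
    ring
  have h2 : (Nat.card (SingIn Q A) : ℤ) = 2 * ((2 : ℤ) ^ (2 * k + 2) + 2 ^ k) := by
    have h3 : ((2 : ℕ) : ℤ) ≠ 0 := by norm_num
    exact mul_left_cancel₀ h3 (by rw [h1]; push_cast; ring)
  have h4 : (2 : ℤ) ∣ (Nat.card (SingIn Q A) : ℤ) := ⟨_, h2⟩
  exact_mod_cast h4

/-- **fixed point lemma** -/
theorem exists_fixed_singular (hF : Fintype.card F = 2) (A : Submodule F (ι → F)) (e : ℕ)
    (he : 2 ≤ e) (hW : NondegOn (pB Q) (perp Q A)) (hWf : finrank F (perp Q A) = 2 * e)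
    (hWp : PlusOn Q (perp Q A)) (S : Subgroup ↥(Cfsg.isometryGroup F ⇑Q))
    (hSK : S ≤ fixer Q A) (hS : IsPGroup 2 S) :
    ∃ u ∈ perp Q A, u ≠ 0 ∧ Q u = 0 ∧ ∀ s ∈ S, gact Q s u = u := by
  letI := singAct Q A S hSK
  have hdvd := even_card_singIn Q hF A e he hW hWf hWp
  have hfin : Finite (SingIn Q A) := inferInstance
  let a : SingIn Q A := ⟨0, by simp⟩
  have ha : a ∈ MulAction.fixedPoints ↥S (SingIn Q A) := by
    intro s
    apply Subtype.ext
    apply Subtype.ext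
    show gact Q s.1 0 = 0
    exact gact_zero Q s.1
  obtain ⟨b, hb, hab⟩ := hS.exists_fixed_point_of_prime_dvd_card_of_fixed_point (SingIn Q A) hdvd ha
  refine ⟨b.1.1, b.1.2, ?_, b.2, ?_⟩
  · intro h0
    apply hab
    apply Subtype.ext
    apply Subtype.ext
    exact h0.symm
  · intro s hs
    have := hb ⟨s, hs⟩
    exact congrArg (fun y : SingIn Q A => (y.1.1 : ι → F)) this

end fix

end Cfsg.Agent.Lib.Helper3.SylO
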