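import Mathlib
import Cfsg.Agent.Lib.Helper3.SylO3

/-!
# The parabolic decomposition and the inductive step
-/

set_option autoImplicit false

namespace Cfsg.Agent.Lib.Helper3.SylO

open Module Submodule QuadraticMap Cfsg.Agent.Lib.Helper15 Cfsg.Agent.Lib.Helper15.PSpI
  Cfsg.Agent.Lib.Helper6 Cfsg.Agent.Lib.Helper3.Orth

section grp2

variable {G : Type*} [Group G]

theorem le_normalizer_of_conj {H N : Subgroup G} (h : ∀ s ∈ H, ∀ n ∈ N, s * n * s⁻¹ ∈ N) :
    H ≤ Subgroup.normalizer (N : Set G) := by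
  intro s hs
  rw [Subgroup.mem_normalizer_iff]
  intro n
  constructor
  · exact h s hs n
  · intro hn
    have := h s⁻¹ (H.inv_mem hs) _ hn
    rw [inv_inv] at this
    have h2 : s⁻¹ * (s * n * s⁻¹) * s = n := by group
    rwa [h2] at this

theorem inf_ne_bot_of_mem {S S' : Subgroup G} {g : G} (hg : g ∈ S) (hg' : g ∈ S') (hne : g ≠ 1) :
    S ⊓ S' ≠ ⊥ := by
  intro h
  have : g ∈ S ⊓ S' := ⟨hg, hg'⟩
  rw [h, Subgroup.mem_bot] at this
  exact hne this

end grp2

section step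

variable {F : Type*} [Field F] {ι : Type} [Fintype ι] [DecidableEq ι]
  (Q : QuadraticForm F (ι → F))

/-- the parabolic decomposition of an isometry fixing `A` pointwise and the singular vector `u` -/
theorem exists_decomp {A : Submodule F (ι → F)} {u u' : ι → F} (hu : Q u = 0) (hu' : Q u' = 0)
    (huu' : polar (⇑Q) u u' = 1) (huA : u ∈ perp Q A) (hu'A : u' ∈ perp Q A)
    {g : ↥(Cfsg.isometryGroup F ⇑Q)} (hg : g ∈ fixer Q A) (hgu : gact Q g u = u) :
    ∃ n ∈ siegSub Q (perp Q A) u hu, n⁻¹ * g ∈ fixer Q (A ⊔ span F {u, u'}) := by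
  have hv' : Q (gact Q g u') = 0 := by rw [Q_gact, hu']
  have huv' : polar (⇑Q) u (gact Q g u') = 1 := by
    have := polar_gact Q g u u'
    rw [hgu] at this
    rw [this, huu']
  have huw : polar (⇑Q) u (u' - gact Q g u') = 0 := by
    rw [polar_sub_right, huu', huv', sub_self]
  have hwW : u' - gact Q g u' ∈ perp Q A := (perp Q A).sub_mem hu'A (gact_mem_perp Q hg hu'A)
  obtain ⟨hn1, hn2⟩ := siegIso_move Q hu hu' hv' huu' huw
  have hnN := siegIso_mem_siegSub Q hu hwW huw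
  refine ⟨siegIso Q u (u' - gact Q g u') hu huw, hnN, ?_⟩
  rw [mem_fixer_sup_pair]
  refine ⟨(fixer Q A).mul_mem ((fixer Q A).inv_mem (siegSub_le_fixer Q hu huA le_rfl hnN)) hg,
    ?_, ?_⟩
  · rw [gact_mul, hgu]
    have := gact_inv_gact Q (siegIso Q u (u' - gact Q g u') hu huw) u
    rwa [hn1] at this
  · rw [gact_mul]
    have := gact_inv_gact Q (siegIso Q u (u' - gact Q g u') hu huw) u'
    rwa [hn2] at this

/-- the Siegel group at a fixed singular vector lies in a maximal `2`-subgroup -/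
theorem siegSub_le_of_max2 (h2 : (2 : F) = 0) {A : Submodule F (ι → F)} {u : ι → F} (hu : Q u = 0)
    (huA : u ∈ perp Q A) {S : Subgroup ↥(Cfsg.isometryGroup F ⇑Q)} (hS : Max2 (fixer Q A) S)
    (hSu : ∀ s ∈ S, gact Q s u = u) : siegSub Q (perp Q A) u hu ≤ S :=
  le_of_max2 hS (siegSub_le_fixer Q hu huA le_rfl) (isPGroup_siegSub Q h2 _ u hu)
    (fun s hs _ hn => conj_mem_siegSub Q hu s (hSu s hs)
      (fun _ hw => gact_mem_perp Q (hS.1 hs) hw) hn)

/-- **the Dedekind step** -/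
theorem max2_inf (h2 : (2 : F) = 0) {A : Submodule F (ι → F)} {u u' : ι → F} (hu : Q u = 0)
    (hu' : Q u' = 0) (huu' : polar (⇑Q) u u' = 1) (huA : u ∈ perp Q A) (hu'A : u' ∈ perp Q A)
    {S : Subgroup ↥(Cfsg.isometryGroup F ⇑Q)} (hS : Max2 (fixer Q A) S)
    (hSu : ∀ s ∈ S, gact Q s u = u) :
    Max2 (fixer Q (A ⊔ span F {u, u'})) (S ⊓ fixer Q (A ⊔ span F {u, u'})) := by
  have hNS := siegSub_le_of_max2 Q h2 hu huA hS hSu
  have hLK : fixer Q (A ⊔ span F {u, u'}) ≤ fixer Q A := fixer_anti Q le_sup_left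
  refine ⟨inf_le_right, hS.2.1.to_le inf_le_left, ?_⟩
  intro T hTL hT hle
  have hN := isPGroup_siegSub Q h2 (perp Q A) u hu
  have hnorm : T ≤ Subgroup.normalizer ((siegSub Q (perp Q A) u hu : Subgroup _) : Set _) := by
    apply le_normalizer_of_conj
    intro t ht n hn
    have htL := (mem_fixer_sup_pair Q).mp (hTL ht)
    exact conj_mem_siegSub Q hu t htL.2.1 (fun _ hw => gact_mem_perp Q htL.1 hw) hn
  have hT' : IsPGroup 2 ↥(T ⊔ siegSub Q (perp Q A) u hu) :=
    IsPGroup.to_sup_of_normal_right' hT hN hnorm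
  have hT'K : T ⊔ siegSub Q (perp Q A) u hu ≤ fixer Q A :=
    sup_le (hTL.trans hLK) (siegSub_le_fixer Q hu huA le_rfl)
  have hST' : S ≤ T ⊔ siegSub Q (perp Q A) u hu := by
    intro s hs
    obtain ⟨n, hn, hns⟩ := exists_decomp Q hu hu' huu' huA hu'A (hS.1 hs) (hSu s hs)
    have h1 : n⁻¹ * s ∈ T := hle ⟨S.mul_mem (S.inv_mem (hNS hn)) hs, hns⟩
    have h3 : s = n * (n⁻¹ * s) := by group
    rw [h3]
    exact Subgroup.mul_mem _ (Subgroup.mem_sup_right hn) (Subgroup.mem_sup_left h1)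
  have hmax := hS.2.2 _ hT'K hT' hST'
  exact le_inf (le_sup_left.trans hmax) hTL

end step

end Cfsg.Agent.Lib.Helper3.SylO
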