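import Mathlib
import Cfsg.Agent.Lib.Helper3.SylO4

/-!
# Maximal `2`-subgroups of the fixers pairwise meet: the induction
-/

set_option autoImplicit false

namespace Cfsg.Agent.Lib.Helper3.SylO

open Module Submodule QuadraticMap Cfsg.Agent.Lib.Helper15 Cfsg.Agent.Lib.Helper15.PSpI
  Cfsg.Agent.Lib.Helper6 Cfsg.Agent.Lib.Helper3.Orth

universe u

section base

variable {F : Type u} [Field F] [Fintype F] {ι : Type} [Fintype ι] [DecidableEq ι]
  (Q : QuadraticForm F (ι → F))

omit [Fintype F] [DecidableEq ι] in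
theorem nondegOn_perp (hV : NondegOn (pB Q) ⊤) {A : Submodule F (ι → F)}
    (hA : NondegOn (pB Q) A) : NondegOn (pB Q) (perp Q A) := by
  unfold perp
  exact nondegOn_perpIn (pB_refl Q) le_top hA hV

omit [Fintype F] [Fintype ι] [DecidableEq ι] in
theorem Q_pair {u f : ι → F} (hu : Q u = 0) (hf : Q f = 0) (huf : polar (⇑Q) u f = 1) (a b : F) :
    Q (a • u + b • f) = a * b := by
  rw [quad_add', QuadraticMap.map_smul, QuadraticMap.map_smul, hu, hf, polar_smul_left,
    polar_smul_right, huf]
  simp only [smul_eq_mul, mul_zero, mul_one, zero_add]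

/-- the base case: `A^⊥` is a hyperbolic plane -/
theorem base_case (hF : Fintype.card F = 2) (hV : NondegOn (pB Q) ⊤) (A : Submodule F (ι → F))
    (hA : NondegOn (pB Q) A) (hWf : finrank F (perp Q A) = 2) (hWp : PlusOn Q (perp Q A))
    (S S' : Subgroup ↥(Cfsg.isometryGroup F ⇑Q)) (hS : Max2 (fixer Q A) S)
    (hS' : Max2 (fixer Q A) S') : S ⊓ S' ≠ ⊥ := by
  have hW := nondegOn_perp Q hV hA
  have h2 := two_eq_zero_of_card hF
  obtain ⟨U, hUW, hUts, hUf⟩ := hWp
  have hU0 : U ≠ ⊥ := by
    intro h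
    rw [h, finrank_bot] at hUf
    omega
  obtain ⟨u, huU, hu0⟩ := Submodule.exists_mem_ne_zero_of_ne_bot hU0
  have hu := hUts u huU
  obtain ⟨f, hfW, hf, huf, hPW, hsup, -, hfin, -⟩ := exists_split hW (hUW huU) hu0 hu
  have hbot : perpIn (pB Q) (perp Q A) (span F {u, f}) = ⊥ :=
    Submodule.finrank_eq_zero.mp (by omega)
  rw [hbot, sup_bot_eq] at hsup
  -- the nonsingular vector
  have hz1 : Q (u + f) = 1 := by rw [quad_add', hu, hf, huf]; ring
  have hz : Q (u + f) ≠ 0 := by rw [hz1]; exact one_ne_zero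
  have hzW : u + f ∈ perp Q A := (perp Q A).add_mem (hUW huU) hfW
  have hfix : ∀ g ∈ fixer Q A, gact Q g (u + f) = u + f := by
    intro g hg
    have h1 : gact Q g (u + f) ∈ span F {u, f} := by
      rw [hsup]
      exact gact_mem_perp Q hg hzW
    obtain ⟨a, b, hab⟩ := mem_span_pair.mp h1
    have h3 : a * b = 1 := by
      rw [← Q_pair Q hu hf huf a b, hab, Q_gact, hz1]
    have ha : a = 1 := by
      rcases eq_zero_or_one_of_card hF a with h | h
      · rw [h, zero_mul] at h3
        exact absurd h3 zero_ne_one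
      · exact h
    have hb : b = 1 := by
      rcases eq_zero_or_one_of_card hF b with h | h
      · rw [h, mul_zero] at h3
        exact absurd h3 zero_ne_one
      · exact h
    rw [← hab, ha, hb, one_smul, one_smul]
  -- the reflection
  set r := reflIso Q (u + f) hz with hr
  have hr1 : r ≠ 1 := by
    intro h
    have h1 := congrArg (fun g => gact Q g u) h
    simp only [gact_one, hr, gact_reflIso] at h1
    have h3 : polar (⇑Q) (u + f) u = 1 := by
      rw [polar_add_left, polar_self, hu, polar_comm (⇑Q) f u, huf]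
      simp
    rw [h3, hz1] at h1
    have h4 : u + f = 0 := by
      have := sub_eq_self.mp h1
      simpa using this
    rw [h4, map_zero] at hz1
    exact zero_ne_one hz1
  have hr2 : r ^ 2 = 1 := by rw [pow_two, hr]; exact reflIso_mul_self Q _ hz
  have hord : orderOf r = 2 := orderOf_eq_prime hr2 hr1
  have hN : IsPGroup 2 ↥(Subgroup.zpowers r) := by
    apply IsPGroup.of_card (n := 1)
    rw [Nat.card_zpowers, hord, pow_one]
  have hrK : r ∈ fixer Q A := by
    intro a ha
    rw [hr, gact_reflIso, polar_comm (⇑Q) (u + f) a, (mem_perp Q).mp hzW a ha]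
    simp
  have hNK : Subgroup.zpowers r ≤ fixer Q A := (Subgroup.zpowers_le).mpr hrK
  have hconj : ∀ s ∈ fixer Q A, ∀ n ∈ Subgroup.zpowers r, s * n * s⁻¹ ∈ Subgroup.zpowers r := by
    intro s hs n hn
    obtain ⟨k, rfl⟩ := Subgroup.mem_zpowers_iff.mp hn
    have h1 : s * r * s⁻¹ = r := by
      rw [hr, conj_reflIso]
      exact (reflIso_congr Q _ _ _ (hfix s hs))
    rw [← conj_zpow, h1]
    exact Subgroup.zpow_mem_zpowers r k
  have h1 : Subgroup.zpowers r ≤ S :=
    le_of_max2 hS hNK hN (fun s hs => hconj s (hS.1 hs))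
  have h1' : Subgroup.zpowers r ≤ S' :=
    le_of_max2 hS' hNK hN (fun s hs => hconj s (hS'.1 hs))
  exact inf_ne_bot_of_mem (h1 (Subgroup.mem_zpowers r)) (h1' (Subgroup.mem_zpowers r)) hr1

end base

end Cfsg.Agent.Lib.Helper3.SylO
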