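import Mathlib
import Cfsg.Agent.Lib.Helper3.SylO5

/-!
# Maximal `2`-subgroups of the fixers pairwise meet: the inductive step and the conclusion
-/

set_option autoImplicit false

namespace Cfsg.Agent.Lib.Helper3.SylO

open Module Submodule QuadraticMap Cfsg.Agent.Lib.Helper15 Cfsg.Agent.Lib.Helper15.PSpI
  Cfsg.Agent.Lib.Helper6 Cfsg.Agent.Lib.Helper3.Orth

universe u

section main

variable {F : Type u} [Field F] [Fintype F] {ι : Type} [Fintype ι] [DecidableEq ι]
  (Q : QuadraticForm F (ι → F))

omit [Fintype F] [Fintype ι] [DecidableEq ι] in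
theorem orth_pair {A : Submodule F (ι → F)} {u u' : ι → F} (huA : u ∈ perp Q A)
    (hu'A : u' ∈ perp Q A) : Orth (pB Q) A (span F {u, u'}) := by
  intro a ha p hp
  obtain ⟨c, d, rfl⟩ := mem_span_pair.mp hp
  rw [pB_apply, polar_add_right, polar_smul_right, polar_smul_right, (mem_perp Q).mp huA a ha,
    (mem_perp Q).mp hu'A a ha]
  simp

theorem main_induction (hF : Fintype.card F = 2) (hV : NondegOn (pB Q) ⊤) :
    ∀ (e : ℕ), 1 ≤ e → ∀ (A : Submodule F (ι → F)), NondegOn (pB Q) A →
      finrank F (perp Q A) = 2 * e → PlusOn Q (perp Q A) →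
      ∀ (S S' : Subgroup ↥(Cfsg.isometryGroup F ⇑Q)), Max2 (fixer Q A) S →
        Max2 (fixer Q A) S' → S ⊓ S' ≠ ⊥ := by
  intro e he
  induction e, he using Nat.le_induction with
  | base =>
    intro A hA hWf hWp S S' hS hS'
    exact base_case Q hF hV A hA hWf hWp S S' hS hS'
  | succ e he ih =>
    intro A hA hWf hWp S S' hS hS'
    have hW := nondegOn_perp Q hV hA
    have h2 := two_eq_zero_of_card hF
    obtain ⟨u, huW, hu0, hu, hSu⟩ :=
      exists_fixed_singular Q hF A (e + 1) (by omega) hW hWf hWp S hS.1 hS.2.1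
    obtain ⟨u', hu'W, hu'0, hu', hS'u'⟩ :=
      exists_fixed_singular Q hF A (e + 1) (by omega) hW hWf hWp S' hS'.1 hS'.2.1
    have hNS := siegSub_le_of_max2 Q h2 hu huW hS hSu
    have hNS' := siegSub_le_of_max2 Q h2 hu' hu'W hS' hS'u'
    rcases eq_zero_or_one_of_card hF (polar (⇑Q) u u') with h0 | h1
    · by_cases huu' : u = u'
      · subst huu'
        obtain ⟨f, hfW, hf, huf, hPW, hsup, -, hfin, hperp⟩ := exists_split hW huW hu0 hu
        have hne : perpIn (pB Q) (perp Q A) (span F {u, f}) ≠ ⊥ := by
          intro h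
          rw [h, finrank_bot] at hfin
          omega
        obtain ⟨w, hw, hw0⟩ := Submodule.exists_mem_ne_zero_of_ne_bot hne
        have hwW : w ∈ perp Q A := perpIn_le _ _ hw
        have huw : polar (⇑Q) u w = 0 := (hperp w hw).1
        have hfw : polar (⇑Q) f w = 0 := (hperp w hw).2
        have hwu : ∀ c : F, w ≠ c • u := by
          intro c hc
          rw [hc, polar_smul_right, polar_comm (⇑Q) f u, huf, smul_eq_mul, mul_one] at hfw
          rw [hfw, zero_smul] at hc
          exact hw0 hc
        have hmem := siegIso_mem_siegSub Q hu hwW huw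
        exact inf_ne_bot_of_mem (hNS hmem) (hNS' hmem)
          (siegIso_ne_one Q hu huw (by rw [huf]; exact one_ne_zero) hwu)
      · obtain ⟨f, hfW, hf, huf⟩ := exists_partner_in hW huW hu0 hu
        have hmem := siegIso_mem_siegSub Q hu hu'W h0
        have h0' : polar (⇑Q) u' u = 0 := by rw [polar_comm]; exact h0
        have hmem' := siegIso_mem_siegSub Q hu' huW h0'
        rw [← siegIso_symm Q h2 hu hu' h0] at hmem'
        have hwu : ∀ c : F, u' ≠ c • u := by
          intro c hc
          rcases eq_zero_or_one_of_card hF c with h | h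
          · rw [h, zero_smul] at hc
            exact hu'0 hc
          · rw [h, one_smul] at hc
            exact huu' hc.symm
        exact inf_ne_bot_of_mem (hNS hmem) (hNS' hmem')
          (siegIso_ne_one Q hu h0 (by rw [huf]; exact one_ne_zero) hwu)
    · have h1' : polar (⇑Q) u' u = 1 := by rw [polar_comm]; exact h1
      have hM := max2_inf Q h2 hu hu' h1 huW hu'W hS hSu
      have hM' := max2_inf Q h2 hu' hu h1' hu'W huW hS' hS'u'
      rw [Set.pair_comm u' u] at hM'
      have hPW : span F {u, u'} ≤ perp Q A := by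
        rw [span_le]
        rintro x (rfl | rfl)
        · exact huW
        · exact hu'W
      have hPn := hyp_plane_nondeg hu hu' h1
      have hA' : NondegOn (pB Q) (A ⊔ span F {u, u'}) :=
        nondegOn_sup (pB_refl Q) (orth_pair Q huW hu'W) hA hPn
      have hf' : finrank F (perp Q (A ⊔ span F {u, u'})) = 2 * e := by
        rw [perp_sup_pair]
        have := finrank_perpIn (pB_refl Q) hPW hPn
        rw [hyp_plane_finrank hu hu' h1] at this
        omega
      have hX : ∀ x ∈ perpIn (pB Q) (perp Q A) (span F {u, u'}),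
          polar (⇑Q) u x = 0 ∧ polar (⇑Q) u' x = 0 := by
        intro x hx
        have h := (mem_perpIn.mp hx).2
        exact ⟨h u (subset_span (by simp)), h u' (subset_span (by simp))⟩
      have hp' : PlusOn Q (perp Q (A ⊔ span F {u, u'})) := by
        rw [perp_sup_pair]
        apply plusOn_of_plane hu hu' h1 _ hX (nondegOn_perpIn (pB_refl Q) hPW hPn hW)
        rw [sup_perpIn (pB_refl Q) hPW hPn]
        exact hWp
      have := ih (A ⊔ span F {u, u'}) hA' hf' hp' _ _ hM hM'
      intro hbot
      apply this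
      rw [eq_bot_iff, ← hbot]
      exact inf_le_inf inf_le_left inf_le_left

/-- **any two maximal `2`-subgroups of the isometry group of a plus-type quadratic space over
the field of two elements meet nontrivially** -/
theorem max2_inf_ne_bot (hF : Fintype.card F = 2) (hV : NondegOn (pB Q) ⊤) (e : ℕ) (he : 1 ≤ e)
    (hf : Fintype.card ι = 2 * e) (hp : PlusOn Q ⊤)
    (S S' : Subgroup ↥(Cfsg.isometryGroup F ⇑Q)) (hS : Max2 ⊤ S) (hS' : Max2 ⊤ S') :
    S ⊓ S' ≠ ⊥ := by
  have h1 : finrank F (perp Q (⊥ : Submodule F (ι → F))) = 2 * e := by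
    rw [perp_bot, finrank_top, Module.finrank_fintype_fun_eq_card, hf]
  have h2 : PlusOn Q (perp Q (⊥ : Submodule F (ι → F))) := by rw [perp_bot]; exact hp
  have h3 := main_induction Q hF hV e he ⊥ nondegOn_bot h1 h2 S S'
  rw [fixer_bot] at h3
  exact h3 hS hS'

end main

end Cfsg.Agent.Lib.Helper3.SylO
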