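import Mathlib

/-!
# The field with 8 elements as an enumeration (helper3, for helper7's S2112)

`K8` is `F_2[x]/(x^3+x+1)`; the constructor `k_n` has the binary digits of `n` as coefficients, so `k2` is the
class `ζ` of `x`, with `ζ^3 = ζ + 1`.  The operations are given by tables, which evaluate quickly in the kernel.
-/

set_option autoImplicit false

namespace Cfsg.Agent.Lib.Helper3.Sz8

/-- the field with 8 elements `F_2[x]/(x^3+x+1)` -/
inductive K8 : Type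
  | k0
  | k1
  | k2
  | k3
  | k4
  | k5
  | k6
  | k7
  deriving DecidableEq

namespace K8

/-- addition table -/
def add' : K8 → K8 → K8
  | k0, k0 => k0
  | k0, k1 => k1
  | k0, k2 => k2
  | k0, k3 => k3
  | k0, k4 => k4
  | k0, k5 => k5
  | k0, k6 => k6
  | k0, k7 => k7
  | k1, k0 => k1
  | k1, k1 => k0
  | k1, k2 => k3
  | k1, k3 => k2
  | k1, k4 => k5
  | k1, k5 => k4
  | k1, k6 => k7
  | k1, k7 => k6
  | k2, k0 => k2
  | k2, k1 => k3
  | k2, k2 => k0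
  | k2, k3 => k1
  | k2, k4 => k6
  | k2, k5 => k7
  | k2, k6 => k4
  | k2, k7 => k5
  | k3, k0 => k3
  | k3, k1 => k2
  | k3, k2 => k1
  | k3, k3 => k0
  | k3, k4 => k7
  | k3, k5 => k6
  | k3, k6 => k5
  | k3, k7 => k4
  | k4, k0 => k4
  | k4, k1 => k5
  | k4, k2 => k6
  | k4, k3 => k7
  | k4, k4 => k0
  | k4, k5 => k1
  | k4, k6 => k2
  | k4, k7 => k3
  | k5, k0 => k5
  | k5, k1 => k4
  | k5, k2 => k7
  | k5, k3 => k6
  | k5, k4 => k1
  | k5, k5 => k0
  | k5, k6 => k3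
  | k5, k7 => k2
  | k6, k0 => k6
  | k6, k1 => k7
  | k6, k2 => k4
  | k6, k3 => k5
  | k6, k4 => k2
  | k6, k5 => k3
  | k6, k6 => k0
  | k6, k7 => k1
  | k7, k0 => k7
  | k7, k1 => k6
  | k7, k2 => k5
  | k7, k3 => k4
  | k7, k4 => k3
  | k7, k5 => k2
  | k7, k6 => k1
  | k7, k7 => k0

/-- multiplication table -/
def mul' : K8 → K8 → K8
  | k0, k0 => k0
  | k0, k1 => k0
  | k0, k2 => k0
  | k0, k3 => k0
  | k0, k4 => k0
  | k0, k5 => k0
  | k0, k6 => k0
  | k0, k7 => k0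
  | k1, k0 => k0
  | k1, k1 => k1
  | k1, k2 => k2
  | k1, k3 => k3
  | k1, k4 => k4
  | k1, k5 => k5
  | k1, k6 => k6
  | k1, k7 => k7
  | k2, k0 => k0
  | k2, k1 => k2
  | k2, k2 => k4
  | k2, k3 => k6
  | k2, k4 => k3
  | k2, k5 => k1
  | k2, k6 => k7
  | k2, k7 => k5
  | k3, k0 => k0
  | k3, k1 => k3
  | k3, k2 => k6
  | k3, k3 => k5
  | k3, k4 => k7
  | k3, k5 => k4
  | k3, k6 => k1
  | k3, k7 => k2
  | k4, k0 => k0
  | k4, k1 => k4
  | k4, k2 => k3
  | k4, k3 => k7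
  | k4, k4 => k6
  | k4, k5 => k2
  | k4, k6 => k5
  | k4, k7 => k1
  | k5, k0 => k0
  | k5, k1 => k5
  | k5, k2 => k1
  | k5, k3 => k4
  | k5, k4 => k2
  | k5, k5 => k7
  | k5, k6 => k3
  | k5, k7 => k6
  | k6, k0 => k0
  | k6, k1 => k6
  | k6, k2 => k7
  | k6, k3 => k1
  | k6, k4 => k5
  | k6, k5 => k3
  | k6, k6 => k2
  | k6, k7 => k4
  | k7, k0 => k0
  | k7, k1 => k7
  | k7, k2 => k5
  | k7, k3 => k2
  | k7, k4 => k1
  | k7, k5 => k6
  | k7, k6 => k4
  | k7, k7 => k3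

/-- inversion table (with `0⁻¹ = 0`) -/
def inv' : K8 → K8
  | k0 => k0
  | k1 => k1
  | k2 => k5
  | k3 => k6
  | k4 => k7
  | k5 => k2
  | k6 => k3
  | k7 => k4

instance : Add K8 := ⟨add'⟩
instance : Mul K8 := ⟨mul'⟩
instance : Neg K8 := ⟨id⟩
instance : Inv K8 := ⟨inv'⟩
instance : Zero K8 := ⟨k0⟩
instance : One K8 := ⟨k1⟩

instance : Fintype K8 where
  elems := {k0, k1, k2, k3, k4, k5, k6, k7}
  complete := by intro x; cases x <;> decide

theorem card_eq : Fintype.card K8 = 8 := rfl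

instance instField : Field K8 :=
  Field.ofMinimalAxioms K8 (by decide) (by decide) (by decide) (by decide) (by decide) (by decide)
    (by decide) (by decide) (by decide) ⟨k0, k1, by decide⟩

end K8

end Cfsg.Agent.Lib.Helper3.Sz8
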