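import Mathlib
import Cfsg.Agent.Lib.Helper3.Suzuki17

set_option autoImplicit false

namespace Cfsg.Agent.Lib.Helper3.Sz

open Matrix Cfsg
open scoped Pointwise

variable {F : Type*} [Field F] [Fintype F] {m : ℕ} (hF : Fintype.card F = 2 ^ (2 * m + 1))
  (hm : 1 ≤ m)

/-- the image of the point at infinity -/
def ptOf (g : Sz F m) : Projectivization F (Fin 4 → F) :=
  (g : Matrix.SpecialLinearGroup (Fin 4) F) • suzukiPointInfinity F

omit [Fintype F] in
lemma ptOf_mul (g h : Sz F m) :
    ptOf (g * h) = (g : Matrix.SpecialLinearGroup (Fin 4) F) • ptOf h := by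
  unfold ptOf
  rw [Subgroup.coe_mul, mul_smul]

omit [Fintype F] in
lemma ptOf_mul_of_mem (g : Sz F m) {h : Sz F m} (hh : h ∈ stabInf F m) : ptOf (g * h) = ptOf g := by
  rw [ptOf_mul]
  unfold ptOf
  rw [(mem_stabInf_iff h).1 hh]

omit [Fintype F] in
lemma mem_stabInf_iff_ptOf (g : Sz F m) : g ∈ stabInf F m ↔ ptOf g = suzukiPointInfinity F :=
  mem_stabInf_iff g

lemma ptOf_tS_wS (a b : F) : ptOf (tS hF a b * wS hF) = Cfsg.Agent.S0326.param m (some (a, b)) := by
  rw [ptOf_mul]
  show transS m a b • (invS • suzukiPointInfinity F) = _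
  rw [invS_inf hF, transS_zero hF]

lemma ptOf_bruhat (a b : F) {h : Sz F m} (hh : h ∈ stabInf F m) :
    ptOf (tS hF a b * wS hF * h) = Cfsg.Agent.S0326.param m (some (a, b)) := by
  rw [ptOf_mul_of_mem _ hh, ptOf_tS_wS]

include hm

/-- Bruhat decomposition -/
lemma bruhat (g : Sz F m) (hg : g ∉ stabInf F m) :
    ∃ (a b : F) (h : Sz F m), h ∈ stabInf F m ∧ g = tS hF a b * wS hF * h := by
  rcases decomp hF hm g.1 g.2 with ⟨a, b, k, h⟩ | ⟨a, b, a', b', k, h⟩
  · exfalso
    apply hg
    rw [mem_stabInf_iff_exists hF hm]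
    exact ⟨a, b, k, Subtype.ext h⟩
  · refine ⟨a, b, tS hF a' b' * kS hF k, ?_, Subtype.ext h⟩
    rw [mem_stabInf_iff_exists hF hm]
    exact ⟨a', b', k, rfl⟩

/-- uniqueness in the Bruhat decomposition -/
lemma bruhat_unique {a b a' b' : F} {h h' : Sz F m} (hh : h ∈ stabInf F m) (hh' : h' ∈ stabInf F m)
    (e : tS hF a b * wS hF * h = tS hF a' b' * wS hF * h') : a = a' ∧ b = b' ∧ h = h' := by
  have h1 := ptOf_bruhat hF a b hh
  have h2 := ptOf_bruhat hF a' b' hh'
  rw [e, h2] at h1
  have := Cfsg.Agent.S0326.param_injective m h1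
  simp only [Option.some.injEq, Prod.mk.injEq] at this
  obtain ⟨ha, hb⟩ := this
  subst ha hb
  exact ⟨rfl, rfl, (mul_left_cancel e)⟩

/-- a translation whose conjugate under the inversion fixes the point at infinity is trivial -/
lemma eq_one_of_wS_conj_mem {t : Sz F m} (ht : t ∈ transGroup hF hm)
    (h : wS hF * t * wS hF ∈ stabInf F m) : t = 1 := by
  obtain ⟨a, b, rfl⟩ := (mem_transGroup hF hm t).1 ht
  rw [mem_stabInf_iff_ptOf, ptOf_mul] at h
  have h1 : ptOf (wS (m := m) hF) = suzukiPointZero F := invS_inf hF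
  rw [h1, Subgroup.coe_mul, mul_smul] at h
  have h2 : ((tS hF a b : Sz F m) : Matrix.SpecialLinearGroup (Fin 4) F) • suzukiPointZero F
      = Cfsg.Agent.S0326.param m (some (a, b)) := transS_zero hF a b
  rw [h2] at h
  have h3 : ((wS (m := m) hF : Sz F m) : Matrix.SpecialLinearGroup (Fin 4) F)
      • Cfsg.Agent.S0326.param m (some (a, b)) = Cfsg.Agent.S0326.param m (omega m (some (a, b))) :=
    invS_param hF _
  rw [h3, inf_eq (m := m)] at h
  have h4 := Cfsg.Agent.S0326.param_injective m h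
  by_cases hf : fpoly m a b = 0
  · obtain ⟨ha, hb⟩ := fpoly_eq_zero hF hf
    subst ha hb
    exact tS_zero_zero hF hm
  · simp [omega, hf] at h4

/-- central translations commute with translations -/
lemma tS_central (b x y : F) : tS hF (0 : F) b * tS hF x y = tS hF x y * tS hF 0 b := by
  rw [tS_mul hF hm, tS_mul hF hm]
  congr 1
  · ring
  · rw [zero_pow (by positivity)]; ring

/-- conjugating a central translation by an element of the point stabiliser -/
lemma conj_central (c d : F) (k : Fˣ) (b : F) :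
    (tS hF c d * kS hF k) * tS hF 0 b * (tS hF c d * kS hF k)⁻¹
      = tS hF 0 ((k : F) ^ (2 ^ (m + 1) + 1) * b) := by
  have h1 : kS hF k * tS hF 0 b = tS hF 0 ((k : F) ^ (2 ^ (m + 1) + 1) * b) * kS hF k := by
    rw [kS_tS hF hm, mul_zero]
  calc (tS hF c d * kS hF k) * tS hF 0 b * (tS hF c d * kS hF k)⁻¹
      = tS hF c d * (kS hF k * tS hF 0 b) * (kS hF k)⁻¹ * (tS hF c d)⁻¹ := by group
    _ = tS hF c d * tS hF 0 ((k : F) ^ (2 ^ (m + 1) + 1) * b) * (tS hF c d)⁻¹ := by
        rw [h1]; group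
    _ = _ := by rw [← tS_central hF hm]; group

lemma tS_zero_ne_one {b : F} (hb : b ≠ 0) : tS hF (0 : F) b ≠ 1 := by
  intro h
  rw [← tS_zero_zero hF hm] at h
  exact hb (tS_injective hF h).2

lemma tS_zero_mul (b b' : F) : tS hF (0 : F) b * tS hF 0 b' = tS hF 0 (b + b') := by
  rw [tS_mul hF hm]
  congr 1
  · ring
  · rw [mul_zero, add_zero, add_comm]

lemma tS_zero_inv (b : F) : (tS hF (0 : F) b)⁻¹ = tS hF 0 b := by
  rw [inv_eq_iff_mul_eq_one]
  exact tS_zero_sq hF hm b

/-- a product of a translation and a torus element is trivial only if both are -/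
lemma tS_kS_eq_one {x y : F} {l : Fˣ} (h : tS hF x y * kS hF l = 1) : x = 0 ∧ y = 0 ∧ l = 1 := by
  have h1 : ((tS hF x y * kS hF l : Sz F m) : Matrix.SpecialLinearGroup (Fin 4) F)
      • suzukiPointZero F = suzukiPointZero F := by rw [h]; exact one_smul _ _
  rw [Subgroup.coe_mul, mul_smul] at h1
  have h2 : ((kS hF l : Sz F m) : Matrix.SpecialLinearGroup (Fin 4) F) • suzukiPointZero F
      = suzukiPointZero F := torS_zero hF l
  rw [h2] at h1
  have h3 : ((tS hF x y : Sz F m) : Matrix.SpecialLinearGroup (Fin 4) F) • suzukiPointZero F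
      = Cfsg.Agent.S0326.param m (some (x, y)) := transS_zero hF x y
  rw [h3, zero_eq (m := m)] at h1
  have h4 := Cfsg.Agent.S0326.param_injective m h1
  simp only [Option.some.injEq, Prod.mk.injEq] at h4
  obtain ⟨hx, hy⟩ := h4
  subst hx hy
  refine ⟨rfl, rfl, ?_⟩
  rw [tS_zero_zero hF hm, one_mul, ← kS_one hF] at h
  exact kS_injective hF h

/-- uniqueness of the decomposition of the point stabiliser -/
lemma tS_kS_unique {x y x' y' : F} {l l' : Fˣ} (h : tS hF x y * kS hF l = tS hF x' y' * kS hF l') :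
    tS hF x y = tS hF x' y' ∧ l = l' := by
  have h1 : (tS hF x' y')⁻¹ * tS hF x y * kS hF (l * l'⁻¹) = 1 := by
    rw [kS_mul, ← kS_inv]
    calc (tS hF x' y')⁻¹ * tS hF x y * (kS hF l * (kS hF l')⁻¹)
        = (tS hF x' y')⁻¹ * (tS hF x y * kS hF l) * (kS hF l')⁻¹ := by group
      _ = 1 := by rw [h]; group
  rw [tS_inv hF hm, tS_mul hF hm] at h1
  obtain ⟨h2, h3, h4⟩ := tS_kS_eq_one hF hm h1
  have hl : l = l' := by
    have := congrArg (· * l') h4
    simpa using this
  subst hl
  exact ⟨mul_right_cancel h, rfl⟩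

/-- involutions of the point stabiliser are central translations -/
lemma involution_of_mem_stabInf {g : Sz F m} (hg : g ∈ stabInf F m) (h2 : g * g = 1) :
    ∃ b : F, g = tS hF 0 b := by
  obtain ⟨c, d, k, rfl⟩ := (mem_stabInf_iff_exists hF hm g).1 hg
  have h1 : tS hF c d * kS hF k * (tS hF c d * kS hF k)
      = tS hF c d * tS hF ((k : F) * c) ((k : F) ^ (2 ^ (m + 1) + 1) * d) * kS hF (k * k) := by
    rw [kS_mul]
    calc tS hF c d * kS hF k * (tS hF c d * kS hF k)
        = tS hF c d * (kS hF k * tS hF c d) * kS hF k := by group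
      _ = _ := by rw [kS_tS hF hm]; group
  rw [h1, tS_mul hF hm] at h2
  obtain ⟨_, hy, hk⟩ := tS_kS_eq_one hF hm h2
  have hk1 : k = 1 := by
    apply Units.ext
    apply sq_eq_one hF
    have := congrArg Units.val hk
    rw [Units.val_mul, Units.val_one] at this
    rw [pow_two]; exact this
  subst hk1
  rw [Units.val_one, one_mul, one_pow, one_mul] at hy
  have h2' := two_eq_zero hF
  have hc : c ^ (2 ^ (m + 1)) * c = 0 := by linear_combination hy - d * h2'
  have hc0 : c = 0 := by
    rcases mul_eq_zero.mp hc with h | h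
    · exact pow_eq_zero_iff (by positivity) |>.1 h
    · exact h
  subst hc0
  exact ⟨d, by rw [kS_one, mul_one]⟩

/-- an element interchanging the two base points is the inversion times a torus element -/
lemma eq_wS_kS {r : Sz F m} (h1 : wS hF * r ∈ stabInf F m) (h2 : r * wS hF ∈ stabInf F m) :
    ∃ κ : Fˣ, r = wS hF * kS hF κ := by
  obtain ⟨c, d, k, hk⟩ := (mem_stabInf_iff_exists hF hm _).1 h1
  have hw := wS_mul_self (m := m) hF
  have e1 : r * wS hF = (wS hF * tS hF c d * wS hF) * kS hF k⁻¹ := by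
    rw [← wS_kS hF k]
    calc r * wS hF = wS hF * wS hF * r * wS hF := by rw [hw, one_mul]
      _ = wS hF * (wS hF * r) * wS hF := by group
      _ = wS hF * (tS hF c d * kS hF k) * wS hF := by rw [hk]
      _ = wS hF * tS hF c d * (wS hF * wS hF) * kS hF k * wS hF := by rw [hw]; group
      _ = _ := by group
  have e2 : wS hF * tS hF c d * wS hF ∈ stabInf F m := by
    have : wS hF * tS hF c d * wS hF = (r * wS hF) * (kS hF k⁻¹)⁻¹ := by rw [e1]; group
    rw [this]
    exact mul_mem h2 (inv_mem (torusH_le_stabInf hF (kS_mem_torusH hF _)))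
  have e3 := eq_one_of_wS_conj_mem hF hm (tS_mem hF hm c d) e2
  refine ⟨k, ?_⟩
  rw [e3, one_mul] at hk
  rw [← hk, ← mul_assoc, hw, one_mul]

end Cfsg.Agent.Lib.Helper3.Sz
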