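import Mathlib
import Cfsg.Agent.Lib.Helper3.SzSub1

set_option autoImplicit false

namespace Cfsg.Agent.Lib.Helper3.Sz

open Matrix Cfsg
open scoped Pointwise

variable {F : Type*} [Field F] [Fintype F] {m : ℕ} (hF : Fintype.card F = 2 ^ (2 * m + 1))
  (hm : 1 ≤ m)

include hF in
/-- injectivity of the power map `x ↦ x ^ (σ + 1)` -/
lemma pow_sig_succ_injective {x y : F} (h : x ^ (2 ^ (m + 1) + 1) = y ^ (2 ^ (m + 1) + 1)) :
    x = y := by
  by_cases hy : y = 0
  · subst hy
    rw [zero_pow (by positivity)] at h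
    exact pow_eq_zero_iff (by positivity) |>.1 h
  · have h1 : (x / y) ^ (2 ^ (m + 1) + 1) = 1 := by
      rw [div_pow, h, div_self (pow_ne_zero _ hy)]
    have := eq_one_of_pow_sig_succ hF h1
    field_simp at this
    exact this

lemma isCyclic_of_forall_mem_zpowers {G : Type*} [Group G] (S : Subgroup G) (x : G) (hx : x ∈ S)
    (h : ∀ y ∈ S, y ∈ Subgroup.zpowers x) : IsCyclic S := by
  refine ⟨⟨⟨x, hx⟩, ?_⟩⟩
  rintro ⟨y, hy⟩
  obtain ⟨j, hj⟩ := Subgroup.mem_zpowers_iff.1 (h y hy)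
  refine Subgroup.mem_zpowers_iff.2 ⟨j, ?_⟩
  apply Subtype.ext
  rw [Subgroup.coe_zpow]
  exact hj

include hm in
/-- a subgroup of the translation group with at most one central involution is cyclic -/
theorem isCyclic_of_unique_central (S : Subgroup (Sz F m)) (hS : S ≤ transGroup hF hm)
    (huniq : ∀ b b' : F, b ≠ 0 → b' ≠ 0 → tS hF 0 b ∈ S → tS hF 0 b' ∈ S → b = b') :
    IsCyclic S := by
  by_cases hcent : ∀ x ∈ S, ∃ b : F, x = tS hF 0 b
  · by_cases hbot : S = ⊥
    · rw [hbot]; infer_instance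
    · obtain ⟨⟨x₀, hx₀⟩, hx₀1'⟩ := (Subgroup.ne_bot_iff_exists_ne_one (H := S)).1 hbot
      have hx₀1 : x₀ ≠ 1 := fun h => hx₀1' (Subtype.ext h)
      obtain ⟨b₀, rfl⟩ := hcent _ hx₀
      have hb₀ : b₀ ≠ 0 := by
        rintro rfl
        exact hx₀1 (tS_zero_zero hF hm)
      apply isCyclic_of_forall_mem_zpowers S _ hx₀
      intro y hy
      obtain ⟨b, rfl⟩ := hcent y hy
      by_cases hb : b = 0
      · subst hb
        rw [tS_zero_zero hF hm]
        exact one_mem _
      · rw [huniq b b₀ hb hb₀ hy hx₀]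
        exact Subgroup.mem_zpowers _
  · push Not at hcent
    obtain ⟨x, hx, hxc⟩ := hcent
    obtain ⟨a, b, rfl⟩ := (mem_transGroup hF hm x).1 (hS hx)
    have ha : a ≠ 0 := by
      rintro rfl
      exact hxc b rfl
    have hz : tS hF 0 (a ^ (2 ^ (m + 1)) * a) ∈ S := by
      rw [← tS_sq hF hm a b]; exact mul_mem hx hx
    have hz0 : a ^ (2 ^ (m + 1)) * a ≠ 0 := mul_ne_zero (pow_ne_zero _ ha) ha
    -- central elements of `S`
    have hcen : ∀ β : F, tS hF 0 β ∈ S → tS hF 0 β ∈ Subgroup.zpowers (tS hF a b) := by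
      intro β hβ
      by_cases hβ0 : β = 0
      · subst hβ0
        rw [tS_zero_zero hF hm]; exact one_mem _
      · rw [huniq β _ hβ0 hz0 hβ hz, ← tS_sq hF hm a b]
        exact mul_mem (Subgroup.mem_zpowers _) (Subgroup.mem_zpowers _)
    apply isCyclic_of_forall_mem_zpowers S _ hx
    intro y hy
    obtain ⟨a', b', rfl⟩ := (mem_transGroup hF hm y).1 (hS hy)
    by_cases ha' : a' = 0
    · subst ha'
      exact hcen b' hy
    · have hz' : tS hF 0 (a' ^ (2 ^ (m + 1)) * a') ∈ S := by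
        rw [← tS_sq hF hm a' b']; exact mul_mem hy hy
      have hz0' : a' ^ (2 ^ (m + 1)) * a' ≠ 0 := mul_ne_zero (pow_ne_zero _ ha') ha'
      have e := huniq _ _ hz0' hz0 hz' hz
      have haa : a' = a := by
        apply pow_sig_succ_injective hF
        rw [pow_succ (a' : F), pow_succ (a : F)]; exact e
      subst haa
      -- `y * x⁻¹` is central
      have h2 := two_eq_zero hF
      have e2 : tS hF a' b' * (tS hF a' b)⁻¹
          = tS hF 0 (b + a' ^ (2 ^ (m + 1)) * a' + b' + a' ^ (2 ^ (m + 1)) * a') := by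
        rw [tS_inv hF hm, tS_mul hF hm]
        congr 1
        linear_combination a' * h2
      have h3 : tS hF 0 (b + a' ^ (2 ^ (m + 1)) * a' + b' + a' ^ (2 ^ (m + 1)) * a') ∈ S := by
        rw [← e2]; exact mul_mem hy (inv_mem hx)
      have h4 := hcen _ h3
      have : tS hF a' b' = tS hF 0 (b + a' ^ (2 ^ (m + 1)) * a' + b' + a' ^ (2 ^ (m + 1)) * a')
          * tS hF a' b := by rw [← e2]; group
      rw [this]
      exact mul_mem h4 (Subgroup.mem_zpowers _)

end Cfsg.Agent.Lib.Helper3.Sz
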