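import Mathlib
import Cfsg.Agent.Lib.Helper3.SzSub2
import Cfsg.Agent.Lib.Helper3.Dihedral

set_option autoImplicit false

namespace Cfsg.Agent.Lib.Helper3.Sz

open Matrix Cfsg
open scoped Pointwise

variable {F : Type*} [Field F] [Fintype F] {m : ℕ} (hF : Fintype.card F = 2 ^ (2 * m + 1))
  (hm : 1 ≤ m)

lemma mem_conj {G : Type*} [Group G] (M : Subgroup G) (g x : G) :
    x ∈ M.map (MulAut.conj g).toMonoidHom ↔ g⁻¹ * x * g ∈ M := by
  rw [Subgroup.mem_map_equiv, MulAut.conj_symm_apply]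

lemma map_conj_map_conj {G : Type*} [Group G] (M : Subgroup G) (g h : G) :
    (M.map (MulAut.conj h).toMonoidHom).map (MulAut.conj g).toMonoidHom
      = M.map (MulAut.conj (g * h)).toMonoidHom := by
  ext x
  rw [mem_conj, mem_conj, mem_conj]
  have : h⁻¹ * (g⁻¹ * x * g) * h = (g * h)⁻¹ * x * (g * h) := by group
  rw [this]

include hm

lemma wS_conj_sq (c : F) : (wS hF * tS hF 0 c * wS hF) * (wS hF * tS hF 0 c * wS hF) = 1 := by
  have hw := wS_mul_self (m := m) hF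
  calc (wS hF * tS hF 0 c * wS hF) * (wS hF * tS hF 0 c * wS hF)
      = wS hF * tS hF 0 c * (wS hF * wS hF) * tS hF 0 c * wS hF := by group
    _ = wS hF * (tS hF 0 c * tS hF 0 c) * wS hF := by rw [hw]; group
    _ = 1 := by rw [tS_zero_sq hF hm, mul_one, hw]

/-- the involution interchanging the fixed points of two involutions -/
theorem exists_swap (M : Subgroup (Sz F m)) {b c : F} (hb : b ≠ 0) (hc : c ≠ 0) (τ : Sz F m)
    (hτ : τ ∈ transGroup hF hm) (hs : tS hF 0 b ∈ M)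
    (ht : τ * (wS hF * tS hF 0 c * wS hF) * τ⁻¹ ∈ M) :
    ∃ κ : Fˣ, τ * (wS hF * kS hF κ) * τ⁻¹ ∈ M ∧ (κ : F) ^ (2 ^ (m + 1) + 1) * b = c := by
  have hfin : Finite (Sz F m) := finite_Sz
  have hw := wS_mul_self (m := m) hF
  have hwi := wS_inv (m := m) hF
  obtain ⟨s, hsdef⟩ : ∃ s : Sz F m, s = tS hF 0 b := ⟨_, rfl⟩
  obtain ⟨t₂, ht₂def⟩ : ∃ t₂ : Sz F m, t₂ = τ * (wS hF * tS hF 0 c * wS hF) * τ⁻¹ := ⟨_, rfl⟩
  rw [← hsdef] at hs
  rw [← ht₂def] at ht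
  have hss : s * s = 1 := by rw [hsdef]; exact tS_zero_sq hF hm b
  have htt : t₂ * t₂ = 1 := by
    calc t₂ * t₂ = τ * ((wS hF * tS hF 0 c * wS hF) * (wS hF * tS hF 0 c * wS hF)) * τ⁻¹ := by
          rw [ht₂def]; group
      _ = 1 := by rw [wS_conj_sq hF hm]; group
  have hτs : τ * s = s * τ := by
    obtain ⟨x, y, rfl⟩ := (mem_transGroup hF hm τ).1 hτ
    rw [hsdef]; exact (tS_central hF hm b x y).symm
  -- the order of the product is odd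
  have hodd : ∃ j : ℕ, (s * t₂) ^ (2 * j + 1) = 1 := by
    rcases Nat.even_or_odd' (orderOf (s * t₂)) with ⟨n, hn | hn⟩
    · exfalso
      have hn0 : 0 < n := by
        have := orderOf_pos (s * t₂)
        omega
      obtain ⟨z, hz1, hzz, hzs, hzt⟩ := Dihedral.exists_central_involution s t₂ hss htt n hn0 hn
      have hzQ : z ∈ transGroup hF hm := mem_transGroup_of_commute hF hm hb z (by rw [← hsdef]; exact hzs)
      have hz'Q : τ⁻¹ * z * τ ∈ transGroup hF hm := mul_mem (mul_mem (inv_mem hτ) hzQ) hτ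
      have hcomm : (wS hF * (τ⁻¹ * z * τ) * wS hF) * tS hF 0 c
          = tS hF 0 c * (wS hF * (τ⁻¹ * z * τ) * wS hF) := by
        have h1 : (τ⁻¹ * z * τ) * (wS hF * tS hF 0 c * wS hF)
            = (wS hF * tS hF 0 c * wS hF) * (τ⁻¹ * z * τ) := by
          calc (τ⁻¹ * z * τ) * (wS hF * tS hF 0 c * wS hF) = τ⁻¹ * (z * t₂) * τ := by
                rw [ht₂def]; group
            _ = τ⁻¹ * (t₂ * z) * τ := by rw [hzt]
            _ = _ := by rw [ht₂def]; group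
        calc (wS hF * (τ⁻¹ * z * τ) * wS hF) * tS hF 0 c
            = wS hF * (τ⁻¹ * z * τ) * wS hF * tS hF 0 c * (wS hF * wS hF) := by rw [hw, mul_one]
          _ = wS hF * ((τ⁻¹ * z * τ) * (wS hF * tS hF 0 c * wS hF)) * wS hF := by group
          _ = wS hF * ((wS hF * tS hF 0 c * wS hF) * (τ⁻¹ * z * τ)) * wS hF := by rw [h1]
          _ = (wS hF * wS hF) * tS hF 0 c * (wS hF * (τ⁻¹ * z * τ) * wS hF) := by group
          _ = _ := by rw [hw, one_mul]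
      have h2 := mem_transGroup_of_commute hF hm hc _ hcomm
      have h3 : wS hF * (τ⁻¹ * z * τ) * wS hF ∈ stabInf F m := by
        rw [← normalizer_transGroup hF hm]
        exact Subgroup.le_normalizer h2
      have h4 := eq_one_of_wS_conj_mem hF hm hz'Q h3
      apply hz1
      have : z = τ * (τ⁻¹ * z * τ) * τ⁻¹ := by group
      rw [this, h4]; group
    · exact ⟨n, by rw [← hn]; exact pow_orderOf_eq_one _⟩
  obtain ⟨j, hj⟩ := hodd
  obtain ⟨hrr, hrs⟩ := Dihedral.exists_conj_involution s t₂ hss htt j hj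
  obtain ⟨r, hrdef⟩ : ∃ r : Sz F m, r = (s * t₂) ^ j * s := ⟨_, rfl⟩
  rw [← hrdef] at hrr hrs
  have hrM : r ∈ M := by rw [hrdef]; exact mul_mem (pow_mem (mul_mem hs ht) j) hs
  have hrinv : r⁻¹ = r := inv_eq_of_mul_eq_one_right hrr
  -- the conjugate `r' = τ⁻¹ r τ`
  obtain ⟨r', hr'def⟩ : ∃ r' : Sz F m, r' = τ⁻¹ * r * τ := ⟨_, rfl⟩
  have hr'r' : r' * r' = 1 := by
    calc r' * r' = τ⁻¹ * (r * r) * τ := by rw [hr'def]; group
      _ = 1 := by rw [hrr]; group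
  have hr'inv : r'⁻¹ = r' := inv_eq_of_mul_eq_one_right hr'r'
  have hr's : r' * s * r'⁻¹ = wS hF * tS hF 0 c * wS hF := by
    calc r' * s * r'⁻¹ = τ⁻¹ * r * (τ * s) * τ⁻¹ * r⁻¹ * τ := by rw [hr'def]; group
      _ = τ⁻¹ * r * (s * τ) * τ⁻¹ * r⁻¹ * τ := by rw [hτs]
      _ = τ⁻¹ * (r * s * r⁻¹) * τ := by group
      _ = τ⁻¹ * t₂ * τ := by rw [hrs]
      _ = _ := by rw [ht₂def]; group
  have hs1 : s ≠ 1 := by rw [hsdef]; exact tS_zero_ne_one hF hm hb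
  have hsQ : s ∈ transGroup hF hm := by rw [hsdef]; exact tS_mem hF hm 0 b
  have h1 : wS hF * r' ∈ stabInf F m := by
    rw [← normalizer_transGroup hF hm]
    apply transGroup_TI hF hm _ s hsQ hs1
    have : wS hF * r' * s * (wS hF * r')⁻¹ = wS hF * (r' * s * r'⁻¹) * (wS hF)⁻¹ := by group
    rw [this, hr's, hwi]
    have : wS hF * (wS hF * tS hF 0 c * wS hF) * wS hF
        = (wS hF * wS hF) * tS hF 0 c * (wS hF * wS hF) := by group
    rw [this, hw, one_mul, mul_one]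
    exact tS_mem hF hm 0 c
  have h2 : r' * wS hF ∈ stabInf F m := by
    rw [← normalizer_transGroup hF hm]
    apply transGroup_TI hF hm _ (tS hF 0 c) (tS_mem hF hm 0 c) (tS_zero_ne_one hF hm hc)
    have e : r' * wS hF * tS hF 0 c * (r' * wS hF)⁻¹
        = r' * (wS hF * tS hF 0 c * wS hF) * r'⁻¹ := by
      rw [_root_.mul_inv_rev, hwi]; group
    rw [e, ← hr's]
    have : r' * (r' * s * r'⁻¹) * r'⁻¹ = (r' * r') * s * (r' * r')⁻¹ := by group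
    rw [this, hr'r']
    simpa using hsQ
  obtain ⟨κ, hκ⟩ := eq_wS_kS hF hm h1 h2
  refine ⟨κ, ?_, ?_⟩
  · rw [← hκ, hr'def]
    have : τ * (τ⁻¹ * r * τ) * τ⁻¹ = r := by group
    rw [this]; exact hrM
  · rw [hκ] at hr's
    have e : wS hF * kS hF κ * s * (wS hF * kS hF κ)⁻¹
        = wS hF * tS hF 0 ((κ : F) ^ (2 ^ (m + 1) + 1) * b) * wS hF := by
      have h3 := conj_central hF hm 0 0 κ b
      rw [tS_zero_zero hF hm, one_mul] at h3
      calc wS hF * kS hF κ * s * (wS hF * kS hF κ)⁻¹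
          = wS hF * (kS hF κ * tS hF 0 b * (kS hF κ)⁻¹) * (wS hF)⁻¹ := by rw [hsdef]; group
        _ = _ := by rw [h3, hwi]
    rw [e] at hr's
    have := mul_left_cancel (mul_right_cancel hr's)
    exact (tS_injective hF this).2


/-- normalisation: a subgroup containing a Klein four-group and fixing no point has a conjugate
containing the inversion and two central translations -/
theorem exists_conj_normal_form (M : Subgroup (Sz F m))
    (hne : ∀ g : Sz F m, ¬ (M.map (MulAut.conj g).toMonoidHom ≤ stabInf F m))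
    {b₁ b₂ : F} (hb₁ : b₁ ≠ 0) (hb₂ : b₂ ≠ 0) (hb : b₁ ≠ b₂) (g₀ : Sz F m)
    (h₁ : g₀ * tS hF 0 b₁ * g₀⁻¹ ∈ M) (h₂ : g₀ * tS hF 0 b₂ * g₀⁻¹ ∈ M) :
    ∃ g : Sz F m, wS hF ∈ M.map (MulAut.conj g).toMonoidHom ∧
      ∃ c₁ c₂ : F, c₁ ≠ 0 ∧ c₂ ≠ 0 ∧ c₁ ≠ c₂ ∧
        tS hF 0 c₁ ∈ M.map (MulAut.conj g).toMonoidHom ∧
        tS hF 0 c₂ ∈ M.map (MulAut.conj g).toMonoidHom := by
  have hw := wS_mul_self (m := m) hF
  have hwi := wS_inv (m := m) hF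
  -- first conjugation
  obtain ⟨M₁, hM₁⟩ : ∃ M₁, M₁ = M.map (MulAut.conj g₀⁻¹).toMonoidHom := ⟨_, rfl⟩
  have mem₁ : ∀ x, x ∈ M₁ ↔ g₀ * x * g₀⁻¹ ∈ M := by
    intro x
    rw [hM₁, mem_conj, inv_inv]
  have hne₁ : ¬ (M₁ ≤ stabInf F m) := by rw [hM₁]; exact hne _
  obtain ⟨g₁, hg₁, hg₁B⟩ := SetLike.not_le_iff_exists.1 hne₁
  obtain ⟨x, y, h, hh, hg₁eq⟩ := bruhat hF hm g₁ hg₁B
  -- second conjugation
  obtain ⟨M₂, hM₂⟩ : ∃ M₂, M₂ = M₁.map (MulAut.conj (tS hF x y)⁻¹).toMonoidHom := ⟨_, rfl⟩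
  have mem₂ : ∀ z, z ∈ M₂ ↔ tS hF x y * z * (tS hF x y)⁻¹ ∈ M₁ := by
    intro z
    rw [hM₂, mem_conj, inv_inv]
  have hcen : ∀ b : F, tS hF x y * tS hF 0 b * (tS hF x y)⁻¹ = tS hF 0 b := by
    intro b
    rw [← tS_central hF hm]; group
  have h₁' : tS hF 0 b₁ ∈ M₂ := by rw [mem₂, hcen, mem₁]; exact h₁
  have h₂' : tS hF 0 b₂ ∈ M₂ := by rw [mem₂, hcen, mem₁]; exact h₂
  have hh' : h * tS hF x y ∈ stabInf F m := by
    refine mul_mem hh ?_
    rw [mem_stabInf_iff_exists hF hm]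
    exact ⟨x, y, 1, by rw [kS_one, mul_one]⟩
  have hg₂ : wS hF * (h * tS hF x y) ∈ M₂ := by
    rw [mem₂]
    have : tS hF x y * (wS hF * (h * tS hF x y)) * (tS hF x y)⁻¹ = tS hF x y * wS hF * h := by group
    rw [this, ← hg₁eq]; exact hg₁
  obtain ⟨c, d, ν, hν⟩ := (mem_stabInf_iff_exists hF hm _).1 hh'
  have ht' : wS hF * tS hF 0 ((ν : F) ^ (2 ^ (m + 1) + 1) * b₁) * wS hF ∈ M₂ := by
    have e : wS hF * tS hF 0 ((ν : F) ^ (2 ^ (m + 1) + 1) * b₁) * wS hF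
        = (wS hF * (h * tS hF x y)) * tS hF 0 b₁ * (wS hF * (h * tS hF x y))⁻¹ := by
      calc wS hF * tS hF 0 ((ν : F) ^ (2 ^ (m + 1) + 1) * b₁) * wS hF
          = wS hF * ((tS hF c d * kS hF ν) * tS hF 0 b₁ * (tS hF c d * kS hF ν)⁻¹) * (wS hF)⁻¹ := by
            rw [conj_central hF hm c d ν b₁, hwi]
        _ = _ := by rw [hν]; group
    rw [e]
    exact mul_mem (mul_mem hg₂ h₁') (inv_mem hg₂)
  have hc₀ : (ν : F) ^ (2 ^ (m + 1) + 1) * b₁ ≠ 0 := mul_ne_zero (pow_ne_zero _ ν.ne_zero) hb₁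
  obtain ⟨κ, hκ, -⟩ := exists_swap hF hm M₂ hb₁ hc₀ 1 (one_mem _) h₁'
    (by simpa using ht')
  have hκ' : wS hF * kS hF κ ∈ M₂ := by simpa using hκ
  -- third conjugation
  obtain ⟨l, hl⟩ : ∃ l : Fˣ, l * l = κ := by
    refine ⟨κ ^ (2 ^ (2 * m)), ?_⟩
    apply Units.ext
    rw [Units.val_mul, Units.val_pow_eq_pow_val, ← pow_two, ← pow_mul, ← pow_succ, pow_q hF]
  obtain ⟨M₃, hM₃⟩ : ∃ M₃, M₃ = M₂.map (MulAut.conj (kS hF l)).toMonoidHom := ⟨_, rfl⟩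
  have mem₃ : ∀ z, z ∈ M₃ ↔ (kS hF l)⁻¹ * z * kS hF l ∈ M₂ := by
    intro z
    rw [hM₃, mem_conj]
  have hM₃eq : M₃ = M.map (MulAut.conj (kS hF l * ((tS hF x y)⁻¹ * g₀⁻¹))).toMonoidHom := by
    rw [hM₃, hM₂, hM₁, map_conj_map_conj, map_conj_map_conj, mul_assoc]
  have hwM₃ : wS hF ∈ M₃ := by
    rw [mem₃]
    have e : (kS hF l)⁻¹ * wS hF * kS hF l = wS hF * kS hF κ := by
      have h3 := wS_kS hF (m := m) l⁻¹
      rw [inv_inv, ← kS_inv] at h3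
      calc (kS hF l)⁻¹ * wS hF * kS hF l
          = (wS hF * wS hF) * (kS hF l)⁻¹ * wS hF * kS hF l := by rw [hw, one_mul]
        _ = wS hF * (wS hF * (kS hF l)⁻¹ * wS hF) * kS hF l := by group
        _ = wS hF * (kS hF l * kS hF l) := by rw [h3]; group
        _ = _ := by rw [← kS_mul, hl]
    rw [e]; exact hκ'
  have hcM₃ : ∀ b : F, tS hF 0 b ∈ M₂ → tS hF 0 ((l : F) ^ (2 ^ (m + 1) + 1) * b) ∈ M₃ := by
    intro b hbM
    rw [mem₃]
    have h3 := conj_central hF hm 0 0 l b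
    rw [tS_zero_zero hF hm, one_mul] at h3
    rw [← h3]
    have : (kS hF l)⁻¹ * (kS hF l * tS hF 0 b * (kS hF l)⁻¹) * kS hF l = tS hF 0 b := by group
    rw [this]; exact hbM
  have hl0 : (l : F) ^ (2 ^ (m + 1) + 1) ≠ 0 := pow_ne_zero _ l.ne_zero
  refine ⟨kS hF l * ((tS hF x y)⁻¹ * g₀⁻¹), ?_, _, _, mul_ne_zero hl0 hb₁, mul_ne_zero hl0 hb₂,
    ?_, ?_, ?_⟩
  · rw [← hM₃eq]; exact hwM₃
  · intro h
    exact hb (mul_left_cancel₀ hl0 h)
  · rw [← hM₃eq]; exact hcM₃ b₁ h₁'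
  · rw [← hM₃eq]; exact hcM₃ b₂ h₂'

end Cfsg.Agent.Lib.Helper3.Sz
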