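import Mathlib
import Cfsg.Agent.Lib.Helper3.SzSub3

set_option autoImplicit false

namespace Cfsg.Agent.Lib.Helper3.Sz

open Matrix Cfsg
open scoped Pointwise

variable {F : Type*} [Field F] [Fintype F] {m : ℕ} (hF : Fintype.card F = 2 ^ (2 * m + 1))
  (hm : 1 ≤ m)

include hF in
/-- subfields are closed under extraction of `(σ + 1)`-th roots -/
lemma mem_of_pow_sig_succ_mem (F₀ : Subfield F) {y : F} (hy : y ^ (2 ^ (m + 1) + 1) ∈ F₀) :
    y ∈ F₀ := by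
  classical
  let φ : F₀ → F₀ := fun x => x ^ (2 ^ (m + 1) + 1)
  have hinj : Function.Injective φ := by
    intro x x' h
    apply Subtype.ext
    apply pow_sig_succ_injective hF
    have := congrArg Subtype.val h
    simpa [φ] using this
  have hsurj : Function.Surjective φ := Finite.injective_iff_surjective.1 hinj
  obtain ⟨x, hx⟩ := hsurj ⟨_, hy⟩
  have h1 : (x : F) ^ (2 ^ (m + 1) + 1) = y ^ (2 ^ (m + 1) + 1) := by
    have := congrArg Subtype.val hx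
    simpa [φ] using this
  rw [← pow_sig_succ_injective hF h1]
  exact x.2

include hF in
/-- subfields are closed under extraction of square roots -/
lemma mem_of_sq_mem (F₀ : Subfield F) {y : F} (hy : y ^ 2 ∈ F₀) : y ∈ F₀ := by
  have h1 : (y ^ 2) ^ (2 ^ (2 * m)) = y := by
    rw [← pow_mul, ← pow_succ', pow_q hF]
  rw [← h1]
  exact pow_mem hy _

/-- the generators of the standard subfield subgroup -/
def stdGens (F₀ : Subfield F) : Set (Sz F m) :=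
  {g | (∃ a b : F, a ∈ F₀ ∧ b ∈ F₀ ∧ g = tS hF a b) ∨ (∃ κ : Fˣ, (κ : F) ∈ F₀ ∧ g = kS hF κ) ∨
    g = wS hF}

/-- the standard subfield subgroup -/
def stdSub (F₀ : Subfield F) : Subgroup (Sz F m) := Subgroup.closure (stdGens hF F₀)


section struct

variable (M : Subgroup (Sz F m)) (hwM : wS hF ∈ M) {b₁ : F} (hb₁ : b₁ ≠ 0) (h₁ : tS hF 0 b₁ ∈ M)

include hm hwM in
/-- (C1) torus elements connecting two central involutions -/
lemma exists_kS_of_central {b b' : F} (hb : b ≠ 0) (hb' : b' ≠ 0) (h : tS hF 0 b ∈ M)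
    (h' : tS hF 0 b' ∈ M) : ∃ κ : Fˣ, kS hF κ ∈ M ∧ (κ : F) ^ (2 ^ (m + 1) + 1) * b = b' := by
  have ht : (1 : Sz F m) * (wS hF * tS hF 0 b' * wS hF) * 1⁻¹ ∈ M := by
    simpa using mul_mem (mul_mem hwM h') hwM
  obtain ⟨κ, hκ, e⟩ := exists_swap hF hm M hb hb' 1 (one_mem _) h ht
  refine ⟨κ, ?_, e⟩
  have h1 : wS hF * kS hF κ ∈ M := by simpa using hκ
  have : kS hF κ = wS hF * (wS hF * kS hF κ) := by
    rw [← mul_assoc, wS_mul_self, one_mul]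
  rw [this]
  exact mul_mem hwM h1

include hm in
/-- (C2) the torus acts on the central translations -/
lemma central_smul {κ : Fˣ} {b : F} (hκ : kS hF κ ∈ M) (h : tS hF 0 b ∈ M) :
    tS hF 0 ((κ : F) ^ (2 ^ (m + 1) + 1) * b) ∈ M := by
  have h3 := conj_central hF hm 0 0 κ b
  rw [tS_zero_zero hF hm, one_mul] at h3
  rw [← h3]
  exact mul_mem (mul_mem hκ h) (inv_mem hκ)

/-- the subfield attached to the subgroup -/
def subF : Subfield F where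
  carrier := {x | tS hF 0 (x * b₁) ∈ M}
  mul_mem' := by
    intro x y hx hy
    by_cases hx0 : x = 0
    · subst hx0
      simpa using hx
    · have hx' : tS hF 0 (x * b₁) ∈ M := hx
      obtain ⟨κ, hκ, e⟩ := exists_kS_of_central hF hm M hwM hb₁ (mul_ne_zero hx0 hb₁) h₁ hx'
      have hκx : (κ : F) ^ (2 ^ (m + 1) + 1) = x := mul_right_cancel₀ hb₁ e
      have := central_smul hF hm M hκ (show tS hF 0 (y * b₁) ∈ M from hy)
      rw [hκx, ← mul_assoc] at this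
      exact this
  one_mem' := by
    show tS hF 0 (1 * b₁) ∈ M
    rw [one_mul]; exact h₁
  add_mem' := by
    intro x y hx hy
    show tS hF 0 ((x + y) * b₁) ∈ M
    rw [add_mul, ← tS_zero_mul hF hm]
    exact mul_mem hx hy
  zero_mem' := by
    show tS hF 0 (0 * b₁) ∈ M
    rw [zero_mul, tS_zero_zero hF hm]
    exact one_mem _
  neg_mem' := by
    intro x hx
    show tS hF 0 (-x * b₁) ∈ M
    rw [neg_eq hF]
    exact hx
  inv_mem' := by
    intro x hx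
    by_cases hx0 : x = 0
    · subst hx0
      simpa using hx
    · have hx' : tS hF 0 (x * b₁) ∈ M := hx
      obtain ⟨κ, hκ, e⟩ := exists_kS_of_central hF hm M hwM hb₁ (mul_ne_zero hx0 hb₁) h₁ hx'
      have hκx : (κ : F) ^ (2 ^ (m + 1) + 1) = x := mul_right_cancel₀ hb₁ e
      have hκi : kS hF κ⁻¹ ∈ M := by rw [← kS_inv]; exact inv_mem hκ
      have := central_smul hF hm M hκi h₁
      show tS hF 0 (x⁻¹ * b₁) ∈ M
      rw [← hκx, ← inv_pow, ← Units.val_inv_eq_inv_val]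
      exact this


include hm hwM hb₁ h₁

lemma mem_subF (x : F) : x ∈ subF hF hm M hwM hb₁ h₁ ↔ tS hF 0 (x * b₁) ∈ M := Iff.rfl

/-- (C3') non-zero elements of the subfield come from torus elements of the subgroup -/
lemma exists_kS_of_mem_subF {x : F} (hx : x ∈ subF hF hm M hwM hb₁ h₁) (hx0 : x ≠ 0) :
    ∃ κ : Fˣ, kS hF κ ∈ M ∧ (κ : F) ^ (2 ^ (m + 1) + 1) = x := by
  obtain ⟨κ, hκ, e⟩ := exists_kS_of_central hF hm M hwM hb₁ (mul_ne_zero hx0 hb₁) h₁ hx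
  exact ⟨κ, hκ, mul_right_cancel₀ hb₁ e⟩

lemma central_mem_iff (b : F) : tS hF 0 b ∈ M ↔ b / b₁ ∈ subF hF hm M hwM hb₁ h₁ := by
  rw [mem_subF, div_mul_cancel₀ _ hb₁]

/-- (C4) the torus elements of the subgroup -/
lemma kS_mem_iff (κ : Fˣ) : kS hF κ ∈ M ↔ (κ : F) ∈ subF hF hm M hwM hb₁ h₁ := by
  constructor
  · intro h
    apply mem_of_pow_sig_succ_mem hF
    exact central_smul hF hm M h h₁
  · intro h
    have h1 : (κ : F) ^ (2 ^ (m + 1) + 1) ∈ subF hF hm M hwM hb₁ h₁ := pow_mem h _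
    obtain ⟨κ', hκ', e⟩ := exists_kS_of_mem_subF hF hm M hwM hb₁ h₁ h1
      (pow_ne_zero _ κ.ne_zero)
    have : κ' = κ := Units.ext (pow_sig_succ_injective hF e)
    rw [← this]; exact hκ'

/-- (C5) the point stabiliser in the subgroup -/
lemma mem_of_tS_kS_mem {a b : F} {κ : Fˣ} (h : tS hF a b * kS hF κ ∈ M) :
    tS hF a b ∈ M ∧ kS hF κ ∈ M := by
  have h2 : tS hF 0 ((κ : F) ^ (2 ^ (m + 1) + 1) * b₁) ∈ M := by
    rw [← conj_central hF hm a b κ b₁]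
    exact mul_mem (mul_mem h h₁) (inv_mem h)
  have h3 : (κ : F) ∈ subF hF hm M hwM hb₁ h₁ := mem_of_pow_sig_succ_mem hF _ h2
  have h4 : kS hF κ ∈ M := (kS_mem_iff hF hm M hwM hb₁ h₁ κ).2 h3
  refine ⟨?_, h4⟩
  have : tS hF a b = tS hF a b * kS hF κ * (kS hF κ)⁻¹ := by group
  rw [this]
  exact mul_mem h (inv_mem h4)

/-- (C6a) conjugates of the torus of the subgroup -/
lemma conj_kS_mem {g h : Sz F m} {x y : F} (hg : g ∈ M) (hh : h ∈ stabInf F m)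
    (e : g = tS hF x y * wS hF * h) {μ : Fˣ} (hμ : kS hF μ ∈ M) :
    tS hF x y * kS hF μ * (tS hF x y)⁻¹ ∈ M := by
  have hwi := wS_inv (m := m) hF
  obtain ⟨c, d, ν, hν⟩ := (mem_stabInf_iff_exists hF hm h).1 hh
  -- conjugates of central involutions
  have key : ∀ b : F, tS hF 0 b ∈ M →
      tS hF x y * (wS hF * tS hF 0 ((ν : F) ^ (2 ^ (m + 1) + 1) * b) * wS hF) * (tS hF x y)⁻¹ ∈ M := by
    intro b hb
    have e2 : tS hF x y * (wS hF * tS hF 0 ((ν : F) ^ (2 ^ (m + 1) + 1) * b) * wS hF)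
        * (tS hF x y)⁻¹ = g * tS hF 0 b * g⁻¹ := by
      rw [e, hν, ← conj_central hF hm c d ν b]
      calc tS hF x y * (wS hF * (tS hF c d * kS hF ν * tS hF 0 b * (tS hF c d * kS hF ν)⁻¹)
            * wS hF) * (tS hF x y)⁻¹
          = tS hF x y * wS hF * (tS hF c d * kS hF ν) * tS hF 0 b * (tS hF c d * kS hF ν)⁻¹
            * (wS hF)⁻¹ * (tS hF x y)⁻¹ := by rw [hwi]; group
        _ = _ := by group
    rw [e2]
    exact mul_mem (mul_mem hg hb) (inv_mem hg)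
  have hν0 : (ν : F) ^ (2 ^ (m + 1) + 1) ≠ 0 := pow_ne_zero _ ν.ne_zero
  have hμ0 : (μ : F) ^ (2 ^ (m + 1) + 1) ≠ 0 := pow_ne_zero _ μ.ne_zero
  have hτ : tS hF x y ∈ transGroup hF hm := tS_mem hF hm x y
  have hc₂ : (ν : F) ^ (2 ^ (m + 1) + 1) * b₁ ≠ 0 := mul_ne_zero hν0 hb₁
  -- the two swaps
  obtain ⟨κ₁, hκ₁, e₁⟩ := exists_swap hF hm M hb₁ hc₂ _ hτ h₁ (key b₁ h₁)
  have hb' : tS hF 0 ((μ : F) ^ (2 ^ (m + 1) + 1) * b₁) ∈ M := central_smul hF hm M hμ h₁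
  obtain ⟨κ₂, hκ₂, e₂⟩ := exists_swap hF hm M (mul_ne_zero hμ0 hb₁) hc₂ _ hτ hb' (key b₁ h₁)
  have hμeq : μ = κ₂⁻¹ * κ₁ := by
    have h3 : ((κ₂ : F) * μ) ^ (2 ^ (m + 1) + 1) = (κ₁ : F) ^ (2 ^ (m + 1) + 1) := by
      rw [mul_pow]
      apply mul_right_cancel₀ hb₁
      rw [e₁, mul_assoc, e₂]
    have h4 : (κ₂ : F) * μ = κ₁ := pow_sig_succ_injective hF h3
    have h5 : κ₂ * μ = κ₁ := Units.ext (by rw [Units.val_mul]; exact h4)
    rw [← h5]; group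
  have hprod : tS hF x y * kS hF μ * (tS hF x y)⁻¹
      = (tS hF x y * (wS hF * kS hF κ₂) * (tS hF x y)⁻¹)
        * (tS hF x y * (wS hF * kS hF κ₁) * (tS hF x y)⁻¹) := by
    have h6 : wS hF * kS hF κ₂ * (wS hF * kS hF κ₁) = kS hF μ := by
      rw [hμeq, kS_mul, ← wS_kS hF κ₂]
      group
    calc tS hF x y * kS hF μ * (tS hF x y)⁻¹
        = tS hF x y * (wS hF * kS hF κ₂ * (wS hF * kS hF κ₁)) * (tS hF x y)⁻¹ := by rw [h6]
      _ = _ := by group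
  rw [hprod]
  exact mul_mem hκ₂ hκ₁


omit hwM hb₁ h₁ in
lemma kS_conj_tS (k : Fˣ) (a b : F) :
    kS hF k * tS hF a b * (kS hF k)⁻¹ = tS hF ((k : F) * a) ((k : F) ^ (2 ^ (m + 1) + 1) * b) := by
  rw [kS_tS hF hm]; group

variable {b₂ : F} (hb₂ : b₂ ≠ 0) (hb : b₁ ≠ b₂) (h₂ : tS hF 0 b₂ ∈ M)
include hb₂ hb h₂

/-- a torus element of the subgroup acting non-trivially on the central translations -/
lemma exists_kS_ne_one : ∃ μ : Fˣ, kS hF μ ∈ M ∧ (μ : F) ^ (2 ^ (m + 1) + 1) ≠ 1 := by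
  obtain ⟨μ, hμ, e⟩ := exists_kS_of_central hF hm M hwM hb₁ hb₂ h₁ h₂
  refine ⟨μ, hμ, ?_⟩
  intro h
  rw [h, one_mul] at e
  exact hb e

/-- (C6b) the translation part of an element of the subgroup lies in the subgroup -/
lemma tS_mem_of_bruhat {g h : Sz F m} {x y : F} (hg : g ∈ M) (hh : h ∈ stabInf F m)
    (e : g = tS hF x y * wS hF * h) : tS hF x y ∈ M := by
  have h2' := two_eq_zero hF
  obtain ⟨μ, hμ, hμ1⟩ := exists_kS_ne_one hF hm M hwM hb₁ h₁ hb₂ hb h₂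
  have hμF : (μ : F) ∈ subF hF hm M hwM hb₁ h₁ := (kS_mem_iff hF hm M hwM hb₁ h₁ μ).1 hμ
  have hμne : (μ : F) ≠ 1 := by
    intro h
    apply hμ1
    rw [h, one_pow]
  -- Step A
  have hA := conj_kS_mem hF hm M hwM hb₁ h₁ hg hh e hμ
  have hA' : tS hF ((μ : F) * x + x) ((μ : F) ^ (2 ^ (m + 1) + 1) * (y + x ^ (2 ^ (m + 1)) * x) + y
      + x ^ (2 ^ (m + 1)) * ((μ : F) * x)) ∈ M := by
    have e1 : tS hF ((μ : F) * x + x) ((μ : F) ^ (2 ^ (m + 1) + 1) * (y + x ^ (2 ^ (m + 1)) * x) + y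
        + x ^ (2 ^ (m + 1)) * ((μ : F) * x))
        = (tS hF x y * kS hF μ * (tS hF x y)⁻¹) * (kS hF μ)⁻¹ := by
      rw [← tS_mul hF hm, ← kS_conj_tS hF hm, ← tS_inv hF hm]
      group
    rw [e1]
    exact mul_mem hA (inv_mem hμ)
  -- Step B
  have hν₁ : (μ : F) + 1 ∈ subF hF hm M hwM hb₁ h₁ := add_mem hμF (one_mem _)
  have hν₁0 : (μ : F) + 1 ≠ 0 := by
    intro h
    apply hμne
    linear_combination h - h2'
  have hkν : kS hF (Units.mk0 _ hν₁0)⁻¹ ∈ M := by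
    rw [← kS_inv]
    exact inv_mem ((kS_mem_iff hF hm M hwM hb₁ h₁ _).2 (by simpa using hν₁))
  obtain ⟨y₁, hy₁⟩ : ∃ y₁ : F, tS hF x y₁ ∈ M := by
    have := mul_mem (mul_mem hkν hA') (inv_mem hkν)
    rw [kS_conj_tS hF hm] at this
    have e2 : (((Units.mk0 _ hν₁0)⁻¹ : Fˣ) : F) * ((μ : F) * x + x) = x := by
      rw [Units.val_inv_eq_inv_val, Units.val_mk0]
      field_simp
    rw [e2] at this
    exact ⟨_, this⟩
  -- Step C
  have hg' : (tS hF x y₁)⁻¹ * g ∈ M := mul_mem (inv_mem hy₁) hg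
  obtain ⟨y₂, hy₂⟩ : ∃ y₂ : F, (tS hF x y₁)⁻¹ * tS hF x y = tS hF 0 y₂ := by
    rw [tS_inv hF hm, tS_mul hF hm]
    refine ⟨y + (y₁ + x ^ (2 ^ (m + 1)) * x) + x ^ (2 ^ (m + 1)) * x, ?_⟩
    congr 1
    linear_combination x * h2'
  have e' : (tS hF x y₁)⁻¹ * g = tS hF 0 y₂ * wS hF * h := by
    rw [e, ← hy₂]; group
  have hC := conj_kS_mem hF hm M hwM hb₁ h₁ hg' hh e' hμ
  have hC' : tS hF 0 (y₂ + (μ : F) ^ (2 ^ (m + 1) + 1) * y₂) ∈ M := by
    have e3 : tS hF 0 (y₂ + (μ : F) ^ (2 ^ (m + 1) + 1) * y₂)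
        = (tS hF 0 y₂ * kS hF μ * (tS hF 0 y₂)⁻¹) * (kS hF μ)⁻¹ := by
      have h5 := kS_conj_tS hF hm μ 0 y₂
      rw [mul_zero] at h5
      rw [tS_zero_inv hF hm, ← tS_zero_mul hF hm, ← h5]
      group
    rw [e3]
    exact mul_mem hC (inv_mem hμ)
  rw [central_mem_iff hF hm M hwM hb₁ h₁] at hC'
  have hν₂ : 1 + (μ : F) ^ (2 ^ (m + 1) + 1) ∈ subF hF hm M hwM hb₁ h₁ :=
    add_mem (one_mem _) (pow_mem hμF _)
  have hν₂0 : 1 + (μ : F) ^ (2 ^ (m + 1) + 1) ≠ 0 := by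
    intro h
    apply hμ1
    linear_combination h - h2'
  have hy₂M : tS hF 0 y₂ ∈ M := by
    rw [central_mem_iff hF hm M hwM hb₁ h₁]
    have : y₂ / b₁ = (1 + (μ : F) ^ (2 ^ (m + 1) + 1))⁻¹
        * ((y₂ + (μ : F) ^ (2 ^ (m + 1) + 1) * y₂) / b₁) := by
      field_simp
    rw [this]
    exact mul_mem (inv_mem hν₂) hC'
  have : tS hF x y = tS hF x y₁ * tS hF 0 y₂ := by rw [← hy₂]; group
  rw [this]
  exact mul_mem hy₁ hy₂M

end struct

end Cfsg.Agent.Lib.Helper3.Sz
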