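import Mathlib
import Cfsg.Agent.Lib.Helper3.SzSub4

set_option autoImplicit false

namespace Cfsg.Agent.Lib.Helper3.Sz

open Matrix Cfsg
open scoped Pointwise

variable {F : Type*} [Field F] [Fintype F] {m : ℕ} (hF : Fintype.card F = 2 ^ (2 * m + 1))
  (hm : 1 ≤ m)

section struct

variable (M : Subgroup (Sz F m)) (hwM : wS hF ∈ M) {b₁ : F} (hb₁ : b₁ ≠ 0) (h₁ : tS hF 0 b₁ ∈ M)
  {b₂ : F} (hb₂ : b₂ ≠ 0) (hb : b₁ ≠ b₂) (h₂ : tS hF 0 b₂ ∈ M)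

include hm hwM hb₁ h₁ hb₂ hb h₂

/-- (C7) normal forms of the elements of the subgroup -/
lemma mem_cases {g : Sz F m} (hg : g ∈ M) :
    (∃ (a b : F) (κ : Fˣ), tS hF a b ∈ M ∧ kS hF κ ∈ M ∧ g = tS hF a b * kS hF κ) ∨
    (∃ (x y a b : F) (κ : Fˣ), tS hF x y ∈ M ∧ tS hF a b ∈ M ∧ kS hF κ ∈ M ∧
      g = tS hF x y * wS hF * (tS hF a b * kS hF κ)) := by
  by_cases hs : g ∈ stabInf F m
  · obtain ⟨a, b, κ, e⟩ := (mem_stabInf_iff_exists hF hm g).1 hs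
    have h3 := mem_of_tS_kS_mem hF hm M hwM hb₁ h₁ (e ▸ hg)
    exact Or.inl ⟨a, b, κ, h3.1, h3.2, e⟩
  · obtain ⟨x, y, h, hh, e⟩ := bruhat hF hm g hs
    have hx := tS_mem_of_bruhat hF hm M hwM hb₁ h₁ hb₂ hb h₂ hg hh e
    subst e
    have hhM : h ∈ M := by
      have : h = wS hF * ((tS hF x y)⁻¹ * (tS hF x y * wS hF * h)) := by
        rw [mul_assoc (tS hF x y), inv_mul_cancel_left, ← mul_assoc, wS_mul_self, one_mul]
      rw [this]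
      exact mul_mem hwM (mul_mem (inv_mem hx) hg)
    obtain ⟨a, b, κ, e'⟩ := (mem_stabInf_iff_exists hF hm h).1 hh
    have h3 := mem_of_tS_kS_mem hF hm M hwM hb₁ h₁ (e' ▸ hhM)
    exact Or.inr ⟨x, y, a, b, κ, hx, h3.1, h3.2, by rw [e']⟩

/-- (C8) the inversion acting on the translations of the subgroup -/
lemma conj_wS_mem {a b : F} (h : tS hF a b ∈ M) (hf : fpoly m a b ≠ 0) :
    tS hF (b / fpoly m a b) (a / fpoly m a b) ∈ M := by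
  have hg : wS hF * tS hF a b * wS hF ∈ M := mul_mem (mul_mem hwM h) hwM
  have hpt : ptOf (wS hF * tS hF a b * wS hF)
      = Cfsg.Agent.S0326.param m (some (b / fpoly m a b, a / fpoly m a b)) := by
    rw [mul_assoc, ptOf_mul, ptOf_tS_wS]
    have h3 : ((wS (m := m) hF : Sz F m) : Matrix.SpecialLinearGroup (Fin 4) F)
        • Cfsg.Agent.S0326.param m (some (a, b))
        = Cfsg.Agent.S0326.param m (omega m (some (a, b))) := invS_param hF _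
    rw [h3]
    simp [omega, hf]
  have hs : wS hF * tS hF a b * wS hF ∉ stabInf F m := by
    rw [mem_stabInf_iff_ptOf, hpt, inf_eq (m := m)]
    intro h4
    have := Cfsg.Agent.S0326.param_injective m h4
    simp at this
  obtain ⟨x, y, h', hh', e⟩ := bruhat hF hm _ hs
  have hx := tS_mem_of_bruhat hF hm M hwM hb₁ h₁ hb₂ hb h₂ hg hh' e
  have h5 := ptOf_bruhat hF x y hh'
  rw [← e, hpt] at h5
  have := Cfsg.Agent.S0326.param_injective m h5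
  simp only [Option.some.injEq, Prod.mk.injEq] at this
  rw [this.1, this.2]
  exact hx

/-- (C9) the normalising constant lies in the subfield -/
lemma b₁_mem_subF : b₁ ∈ subF hF hm M hwM hb₁ h₁ := by
  have hf : fpoly m 0 b₁ = b₁ ^ (2 ^ (m + 1)) := by simp [fpoly]
  have hf0 : fpoly m 0 b₁ ≠ 0 := by rw [hf]; exact pow_ne_zero _ hb₁
  have h3 := conj_wS_mem hF hm M hwM hb₁ h₁ hb₂ hb h₂ h₁ hf0
  rw [hf, zero_div] at h3
  have h4 := mul_mem h3 h3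
  rw [tS_sq hF hm] at h4
  have e : (b₁ / b₁ ^ (2 ^ (m + 1))) ^ (2 ^ (m + 1)) * (b₁ / b₁ ^ (2 ^ (m + 1))) = b₁⁻¹ := by
    rw [div_pow, sig_sig hF]
    have := pow_ne_zero (2 ^ (m + 1)) hb₁
    field_simp
  rw [e, central_mem_iff hF hm M hwM hb₁ h₁] at h4
  have h5 : (b₁⁻¹) ^ 2 ∈ subF hF hm M hwM hb₁ h₁ := by
    have : (b₁⁻¹) ^ 2 = b₁⁻¹ / b₁ := by field_simp
    rw [this]; exact h4
  have h6 := mem_of_sq_mem hF _ h5
  simpa using inv_mem h6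

lemma central_mem_iff' (b : F) : tS hF 0 b ∈ M ↔ b ∈ subF hF hm M hwM hb₁ h₁ := by
  have hb₁L := b₁_mem_subF hF hm M hwM hb₁ h₁ hb₂ hb h₂
  rw [central_mem_iff hF hm M hwM hb₁ h₁]
  constructor
  · intro h
    have := mul_mem h hb₁L
    rwa [div_mul_cancel₀ _ hb₁] at this
  · intro h
    exact div_mem h hb₁L

/-- (C10) -/
lemma fst_mem {a b : F} (h : tS hF a b ∈ M) : a ∈ subF hF hm M hwM hb₁ h₁ := by
  have h4 := mul_mem h h
  rw [tS_sq hF hm, central_mem_iff' hF hm M hwM hb₁ h₁ hb₂ hb h₂, ← pow_succ] at h4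
  exact mem_of_pow_sig_succ_mem hF _ h4

/-- (C11) -/
lemma tS_one_zero_mem : tS hF 1 0 ∈ M := by
  have h3 : tS hF 0 1 ∈ M := (central_mem_iff' hF hm M hwM hb₁ h₁ hb₂ hb h₂ 1).2 (one_mem _)
  have hf : fpoly m 0 (1 : F) = 1 := by simp [fpoly]
  have h4 := conj_wS_mem hF hm M hwM hb₁ h₁ hb₂ hb h₂ h3 (by rw [hf]; exact one_ne_zero)
  rw [hf] at h4
  simpa using h4

lemma tS_fst_mem {a : F} (ha : a ∈ subF hF hm M hwM hb₁ h₁) : tS hF a 0 ∈ M := by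
  by_cases ha0 : a = 0
  · subst ha0
    rw [tS_zero_zero hF hm]; exact one_mem _
  · have hk : kS hF (Units.mk0 a ha0) ∈ M := (kS_mem_iff hF hm M hwM hb₁ h₁ _).2 (by simpa using ha)
    have := mul_mem (mul_mem hk (tS_one_zero_mem hF hm M hwM hb₁ h₁ hb₂ hb h₂)) (inv_mem hk)
    rw [kS_conj_tS hF hm] at this
    simpa using this

/-- (C12) -/
lemma snd_mem {a b : F} (h : tS hF a b ∈ M) : b ∈ subF hF hm M hwM hb₁ h₁ := by
  have h2' := two_eq_zero hF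
  have ha := fst_mem hF hm M hwM hb₁ h₁ hb₂ hb h₂ h
  have h3 := tS_fst_mem hF hm M hwM hb₁ h₁ hb₂ hb h₂ ha
  have h4 := mul_mem (inv_mem h3) h
  have e : (tS hF a 0)⁻¹ * tS hF a b = tS hF 0 b := by
    rw [tS_inv hF hm, tS_mul hF hm]
    congr 1
    · linear_combination a * h2'
    · linear_combination (a ^ (2 ^ (m + 1)) * a) * h2'
  rw [e] at h4
  exact (central_mem_iff' hF hm M hwM hb₁ h₁ hb₂ hb h₂ b).1 h4

/-- (C13) the translations of the subgroup -/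
lemma tS_mem_iff (a b : F) :
    tS hF a b ∈ M ↔ a ∈ subF hF hm M hwM hb₁ h₁ ∧ b ∈ subF hF hm M hwM hb₁ h₁ := by
  constructor
  · intro h
    exact ⟨fst_mem hF hm M hwM hb₁ h₁ hb₂ hb h₂ h, snd_mem hF hm M hwM hb₁ h₁ hb₂ hb h₂ h⟩
  · rintro ⟨ha, hb'⟩
    have h3 := tS_fst_mem hF hm M hwM hb₁ h₁ hb₂ hb h₂ ha
    have h4 := (central_mem_iff' hF hm M hwM hb₁ h₁ hb₂ hb h₂ b).2 hb'
    have := mul_mem h3 h4
    rw [tS_mul hF hm] at this
    simpa using this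

/-- the subgroup is the standard subfield subgroup -/
theorem eq_stdSub : M = stdSub hF (subF hF hm M hwM hb₁ h₁) := by
  apply le_antisymm
  · intro g hg
    have hgen : ∀ x ∈ stdGens hF (subF hF hm M hwM hb₁ h₁),
        x ∈ stdSub hF (subF hF hm M hwM hb₁ h₁) := fun x hx => Subgroup.subset_closure hx
    have ht : ∀ a b : F, tS hF a b ∈ M → tS hF a b ∈ stdSub hF (subF hF hm M hwM hb₁ h₁) := by
      intro a b h
      obtain ⟨ha, hb'⟩ := (tS_mem_iff hF hm M hwM hb₁ h₁ hb₂ hb h₂ a b).1 h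
      exact hgen _ (Or.inl ⟨a, b, ha, hb', rfl⟩)
    have hk : ∀ κ : Fˣ, kS hF κ ∈ M → kS hF κ ∈ stdSub hF (subF hF hm M hwM hb₁ h₁) := by
      intro κ h
      exact hgen _ (Or.inr (Or.inl ⟨κ, (kS_mem_iff hF hm M hwM hb₁ h₁ κ).1 h, rfl⟩))
    have hw : wS hF ∈ stdSub hF (subF hF hm M hwM hb₁ h₁) := hgen _ (Or.inr (Or.inr rfl))
    rcases mem_cases hF hm M hwM hb₁ h₁ hb₂ hb h₂ hg with ⟨a, b, κ, h3, h4, rfl⟩ |
      ⟨x, y, a, b, κ, h3, h4, h5, rfl⟩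
    · exact mul_mem (ht _ _ h3) (hk _ h4)
    · exact mul_mem (mul_mem (ht _ _ h3) hw) (mul_mem (ht _ _ h4) (hk _ h5))
  · unfold stdSub
    rw [Subgroup.closure_le]
    rintro x (⟨a, b, ha, hb', rfl⟩ | ⟨κ, hκ, rfl⟩ | rfl)
    · exact (tS_mem_iff hF hm M hwM hb₁ h₁ hb₂ hb h₂ a b).2 ⟨ha, hb'⟩
    · exact (kS_mem_iff hF hm M hwM hb₁ h₁ κ).2 hκ
    · exact hwM

end struct

include hm in
/-- a subgroup containing a Klein four-group and fixing no point is conjugate to a standard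
subfield subgroup -/
theorem exists_conj_eq_stdSub (M : Subgroup (Sz F m))
    (hne : ∀ g : Sz F m, ¬ (M.map (MulAut.conj g).toMonoidHom ≤ stabInf F m))
    {b₁ b₂ : F} (hb₁ : b₁ ≠ 0) (hb₂ : b₂ ≠ 0) (hb : b₁ ≠ b₂) (g₀ : Sz F m)
    (h₁ : g₀ * tS hF 0 b₁ * g₀⁻¹ ∈ M) (h₂ : g₀ * tS hF 0 b₂ * g₀⁻¹ ∈ M) :
    ∃ (g : Sz F m) (F₀ : Subfield F), M.map (MulAut.conj g).toMonoidHom = stdSub hF F₀ ∧
      ∃ x ∈ F₀, x ≠ 0 ∧ x ≠ 1 := by
  obtain ⟨g, hw, c₁, c₂, hc₁, hc₂, hc, hm₁, hm₂⟩ :=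
    exists_conj_normal_form hF hm M hne hb₁ hb₂ hb g₀ h₁ h₂
  refine ⟨g, _, eq_stdSub hF hm _ hw hc₁ hm₁ hc₂ hc hm₂, c₂ / c₁, ?_, ?_, ?_⟩
  · exact (central_mem_iff hF hm _ hw hc₁ hm₁ c₂).1 hm₂
  · exact div_ne_zero hc₂ hc₁
  · intro h
    rw [div_eq_one_iff_eq hc₁] at h
    exact hc h.symm

end Cfsg.Agent.Lib.Helper3.Sz
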