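import Mathlib
import Cfsg.Agent.Lib.Helper3.SzSub5

set_option autoImplicit false

namespace Cfsg.Agent.Lib.Helper3.Sz

open Matrix Cfsg
open scoped Pointwise

/-- arithmetic: odd divisors -/
lemma exists_eq_add_mul {k m : ℕ} (hdiv : 2 * k + 1 ∣ 2 * m + 1) :
    ∃ j, m = k + (2 * k + 1) * j := by
  obtain ⟨c, hc⟩ := hdiv
  obtain ⟨j, rfl | rfl⟩ := Nat.even_or_odd' c
  · exfalso
    have : (2 * k + 1) * (2 * j) = 2 * ((2 * k + 1) * j) := by ring
    omega
  · refine ⟨j, ?_⟩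
    have : (2 * k + 1) * (2 * j + 1) = 2 * ((2 * k + 1) * j) + 2 * k + 1 := by ring
    omega

section emb

variable {F : Type*} [Field F] [Fintype F] {m : ℕ} (hF : Fintype.card F = 2 ^ (2 * m + 1))
  (hm : 1 ≤ m)
variable {K : Type*} [Field K] [Fintype K] {k : ℕ} (hK : Fintype.card K = 2 ^ (2 * k + 1))
  (hk : 1 ≤ k) (hdiv : 2 * k + 1 ∣ 2 * m + 1) (ι : K →+* F)

include hK in
lemma pow_two_pow_add (x : K) (i j : ℕ) : x ^ (2 ^ (i + (2 * k + 1) * j)) = x ^ (2 ^ i) := by
  have : 2 ^ (i + (2 * k + 1) * j) = (2 ^ (2 * k + 1)) ^ j * 2 ^ i := by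
    rw [pow_add, pow_mul, mul_comm]
  rw [this, pow_mul, ← hK, FiniteField.pow_card_pow]

include hK hdiv in
lemma map_sig (x : K) : (ι x) ^ (2 ^ (m + 1)) = ι (x ^ (2 ^ (k + 1))) := by
  obtain ⟨j, rfl⟩ := exists_eq_add_mul hdiv
  rw [← map_pow]
  have : k + (2 * k + 1) * j + 1 = (k + 1) + (2 * k + 1) * j := by ring
  rw [this, pow_two_pow_add hK]

include hK hdiv in
lemma map_half (x : K) : (ι x) ^ (2 ^ m) = ι (x ^ (2 ^ k)) := by
  obtain ⟨j, rfl⟩ := exists_eq_add_mul hdiv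
  rw [← map_pow, pow_two_pow_add hK]

include hK hdiv in
lemma map_transS (a b : K) :
    Matrix.SpecialLinearGroup.map ι (transS k a b) = transS m (ι a) (ι b) := by
  have hs := map_sig hK hdiv ι
  apply Subtype.ext
  rw [Matrix.SpecialLinearGroup.map_apply_coe]
  show (transM k a b).map ι = transM m (ι a) (ι b)
  ext i j
  fin_cases i <;> fin_cases j <;> simp [transM, hs]

lemma map_invS : Matrix.SpecialLinearGroup.map ι (invS : Matrix.SpecialLinearGroup (Fin 4) K)
    = invS := by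
  apply Subtype.ext
  rw [Matrix.SpecialLinearGroup.map_apply_coe]
  show (invM : Matrix (Fin 4) (Fin 4) K).map ι = invM
  ext i j
  fin_cases i <;> fin_cases j <;> simp [invM]

include hK hdiv in
lemma map_torS (κ : Kˣ) :
    Matrix.SpecialLinearGroup.map ι (torS k κ) = torS m (Units.map ι.toMonoidHom κ) := by
  have hs := map_half hK hdiv ι
  apply Subtype.ext
  rw [Matrix.SpecialLinearGroup.map_apply_coe]
  show (torM k κ).map ι = torM m (Units.map ι.toMonoidHom κ)
  ext i j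
  fin_cases i <;> fin_cases j <;> simp [torM, hs, pow_add]

include hF hK hk hdiv in
lemma map_mem {A : Matrix.SpecialLinearGroup (Fin 4) K} (hA : A ∈ Sz K k) :
    Matrix.SpecialLinearGroup.map ι A ∈ Sz F m := by
  rcases decomp hK hk A hA with ⟨a, b, κ, rfl⟩ | ⟨a, b, a', b', κ, rfl⟩
  · rw [map_mul, map_transS hK hdiv, map_torS hK hdiv]
    exact mul_mem (transS_mem hF _ _) (torS_mem hF _)
  · rw [map_mul, map_mul, map_mul, map_transS hK hdiv, map_transS hK hdiv, map_torS hK hdiv,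
      map_invS]
    exact mul_mem (mul_mem (transS_mem hF _ _) (invS_mem hF))
      (mul_mem (transS_mem hF _ _) (torS_mem hF _))

/-- the embedding of the Suzuki group over a subfield -/
def szMap : Sz K k →* Sz F m :=
  ((Matrix.SpecialLinearGroup.map ι).comp (Sz K k).subtype).codRestrict (Sz F m)
    (fun A => map_mem hF hK hk hdiv ι A.2)

lemma szMap_injective : Function.Injective (szMap hF hK hk hdiv ι) := by
  intro A B h
  have h1 : Matrix.SpecialLinearGroup.map ι A.1 = Matrix.SpecialLinearGroup.map ι B.1 :=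
    congrArg Subtype.val h
  have h2 : (A.1.1).map ι = (B.1.1).map ι := by
    have := congrArg Subtype.val h1
    simpa [Matrix.SpecialLinearGroup.map_apply_coe] using this
  exact Subtype.ext (Subtype.ext (Matrix.map_injective ι.injective h2))

lemma szMap_tS (a b : K) : szMap hF hK hk hdiv ι (tS hK a b) = tS hF (ι a) (ι b) :=
  Subtype.ext (map_transS hK hdiv ι a b)

lemma szMap_kS (κ : Kˣ) :
    szMap hF hK hk hdiv ι (kS hK κ) = kS hF (Units.map ι.toMonoidHom κ) :=
  Subtype.ext (map_torS hK hdiv ι κ)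

lemma szMap_wS : szMap hF hK hk hdiv ι (wS hK) = wS hF := Subtype.ext (map_invS ι)

include hm in
theorem range_szMap : (szMap hF hK hk hdiv ι).range = stdSub hF ι.fieldRange := by
  have ht : ∀ a b : K, tS hF (ι a) (ι b) ∈ stdSub hF ι.fieldRange := fun a b =>
    Subgroup.subset_closure (Or.inl ⟨_, _, ⟨a, rfl⟩, ⟨b, rfl⟩, rfl⟩)
  have hκ : ∀ κ : Kˣ, kS hF (Units.map ι.toMonoidHom κ) ∈ stdSub hF ι.fieldRange := fun κ =>
    Subgroup.subset_closure (Or.inr (Or.inl ⟨_, ⟨(κ : K), rfl⟩, rfl⟩))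
  have hw : wS hF ∈ stdSub hF ι.fieldRange := Subgroup.subset_closure (Or.inr (Or.inr rfl))
  apply le_antisymm
  · rintro _ ⟨A, rfl⟩
    by_cases hs : A ∈ stabInf K k
    · obtain ⟨a, b, κ, rfl⟩ := (mem_stabInf_iff_exists hK hk A).1 hs
      rw [map_mul, szMap_tS, szMap_kS]
      exact mul_mem (ht a b) (hκ κ)
    · obtain ⟨x, y, h, hh, rfl⟩ := bruhat hK hk A hs
      obtain ⟨a, b, κ, rfl⟩ := (mem_stabInf_iff_exists hK hk h).1 hh
      rw [map_mul, map_mul, map_mul, szMap_tS, szMap_tS, szMap_kS, szMap_wS]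
      exact mul_mem (mul_mem (ht _ _) hw) (mul_mem (ht _ _) (hκ _))
  · unfold stdSub
    rw [Subgroup.closure_le]
    rintro x (⟨a, b, ⟨a', rfl⟩, ⟨b', rfl⟩, rfl⟩ | ⟨κ, ⟨x', hx'⟩, rfl⟩ | rfl)
    · exact ⟨tS hK a' b', szMap_tS hF hK hk hdiv ι a' b'⟩
    · have hx0 : x' ≠ 0 := by
        rintro rfl
        rw [map_zero] at hx'
        exact κ.ne_zero hx'.symm
      refine ⟨kS hK (Units.mk0 x' hx0), ?_⟩
      rw [szMap_kS]
      congr 1
      ext
      simpa using hx'
    · exact ⟨wS hK, szMap_wS hF hK hk hdiv ι⟩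

include hm hK hk hdiv in
/-- the standard subfield subgroup is a Suzuki group -/
theorem nonempty_equiv_stdSub : Nonempty (↥(stdSub hF ι.fieldRange) ≃* ↥(Sz K k)) :=
  ⟨((MonoidHom.ofInjective (szMap_injective hF hK hk hdiv ι)).trans
    (MulEquiv.subgroupCongr (range_szMap hF hm hK hk hdiv ι))).symm⟩

end emb

end Cfsg.Agent.Lib.Helper3.Sz
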