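import Mathlib
import Cfsg.Agent.Lib.Helper3.SzSub6
import Cfsg.Agent.Lib.Helper3.SzBridge
import Cfsg.Agent.Lib.Helper3.Sz8K
import Cfsg.Agent.Lib.Helper7.Sz8Data

/-!
# S2112 (architect helper7), piece [G]: a generating triple of `Sz(8)` satisfying helper7's relators

The relators are checked in the Suzuki group over the concrete field `K8` through the action on the 65 points of the
ovoid (kernel computation), the generation statement is proved from the Bruhat decomposition, and everything is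
transported to an arbitrary field with 8 elements through `szMap` and `SzBridge.lieSzEquiv`.
-/

set_option autoImplicit false

namespace Cfsg.Agent.Lib.Helper7.Sz8

open Cfsg Cfsg.H5.TCk

namespace Helper3

open Cfsg.Agent.Lib.Helper3.Sz Cfsg.Agent.Lib.Helper3.Sz8 Cfsg.Agent.Lib.Helper3.Sz8.K8

/-- the parameters of the 65 points of the ovoid -/
abbrev Pt : Type := Option (K8 × K8)

theorem hK : Fintype.card K8 = 2 ^ (2 * 1 + 1) := rfl

/-! ### transport of triples -/

theorem ev_map {G G' : Type*} [Group G] [Group G'] (e : G →* G') (g : ℕ → G) (w : List ℕ) :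
    ev (fun i => e (g i)) w = e (ev g w) := by
  induction w with
  | nil => simp [ev]
  | cons l w ih =>
    have h1 : gl (fun i => e (g i)) l = e (gl g l) := by
      unfold gl
      split_ifs
      · rfl
      · rw [map_inv]
    simp only [ev, ih, h1, map_mul]

theorem IsSz8Triple.map {G G' : Type*} [Group G] [Group G'] (e : G ≃* G') {g : ℕ → G}
    (hg : IsSz8Triple g) : IsSz8Triple (fun i => e (g i)) := by
  have hev : ∀ w, ev (fun i => e (g i)) w = e (ev g w) := fun w => ev_map e.toMonoidHom g w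
  refine ⟨?_, ?_, ?_, ?_, ?_, ?_, ?_⟩
  · rw [← hg.card]
    exact Nat.card_congr e.toEquiv.symm
  · have h1 : (Set.range fun i : Fin 3 => e (g i.val)) =
        e.toMonoidHom '' (Set.range fun i : Fin 3 => g i.val) := by
      rw [← Set.range_comp]
      rfl
    rw [h1, ← MonoidHom.map_closure, hg.gen]
    exact Subgroup.map_top_of_surjective _ e.surjective
  · intro r hr
    rw [hev, hg.rels r hr, map_one]
  · rw [hev, hg.c1, map_one]
  · rw [hev, hg.c2, map_one]
  · rw [hev, hg.w1sq, map_one]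
  · rw [hev, hg.w2sq, map_one]

/-! ### the action on the parameters -/

/-- a computable form of the inversion on parameters -/
def omegaC : Pt → Pt
  | none => some (0, 0)
  | some (x, y) => if fpoly 1 x y = 0 then none else some (y / fpoly 1 x y, x / fpoly 1 x y)

theorem omega_eq (c : Pt) : omega 1 c = omegaC c := by
  rcases c with _ | ⟨x, y⟩
  · rfl
  · by_cases h : fpoly 1 x y = 0 <;> simp [omega, omegaC, h]

/-- `s` acts on the parameters of the ovoid through `f` -/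
def Acts (s : Sz K8 1) (f : Pt → Pt) : Prop :=
  ∀ c : Pt, (s : Matrix.SpecialLinearGroup (Fin 4) K8) • Cfsg.Agent.S0326.param (F := K8) 1 c =
    Cfsg.Agent.S0326.param 1 (f c)

theorem acts_tS (a b : K8) : Acts (tS hK a b) (tau 1 a b) := fun c => transS_param hK a b c

theorem acts_kS (k : K8ˣ) : Acts (kS hK k) (delta 1 (k : K8)) := fun c => torS_param hK k c

theorem acts_wS : Acts (wS hK) omegaC := fun c => by
  rw [← omega_eq]
  exact invS_param hK c

theorem acts_one : Acts 1 id := fun _ => one_smul _ _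

theorem acts_mul {s t : Sz K8 1} {f g : Pt → Pt} (hs : Acts s f) (ht : Acts t g) :
    Acts (s * t) (f ∘ g) := fun c => by
  rw [Subgroup.coe_mul, mul_smul, ht c, hs (g c)]
  rfl

theorem acts_inv {s : Sz K8 1} {f g : Pt → Pt} (hs : Acts s f) (h : ∀ c, f (g c) = c) :
    Acts s⁻¹ g := fun c => by
  rw [Subgroup.coe_inv, inv_smul_eq_iff, hs (g c), h c]

theorem eq_of_acts {s t : Sz K8 1} {f g : Pt → Pt} (hs : Acts s f) (ht : Acts t g)
    (h : ∀ c, f c = g c) : s = t :=
  Subtype.ext (eq_of_forall hK le_rfl _ _ s.2 t.2 (fun c => by rw [hs c, ht c, h c]))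

/-! ### the generators -/

/-- `ζ`, the class of `x` -/
def zU : K8ˣ := ⟨k2, k5, by decide, by decide⟩

/-- `h₁ = δ(ζ)` -/
def H1 : Sz K8 1 := kS hK zU
/-- `τ(1,0)` -/
def T : Sz K8 1 := tS hK 1 0
/-- `h₂ = τ(1,0) h₁ τ(1,0)⁻¹` -/
def H2 : Sz K8 1 := T * H1 * T⁻¹
/-- `h₃ = ω h₂ ω⁻¹` -/
def H3 : Sz K8 1 := wS hK * H2 * (wS hK)⁻¹

/-- the triple -/
def γ : ℕ → Sz K8 1
  | 0 => H1
  | 1 => H2
  | 2 => H3
  | _ => 1

def A1 : Pt → Pt := delta 1 k2
def A1i : Pt → Pt := delta 1 k5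
def At : Pt → Pt := tau 1 1 0
def Ati : Pt → Pt := tau 1 1 1
def A2 : Pt → Pt := At ∘ A1 ∘ Ati
def A2i : Pt → Pt := At ∘ A1i ∘ Ati
def A3 : Pt → Pt := omegaC ∘ A2 ∘ omegaC
def A3i : Pt → Pt := omegaC ∘ A2i ∘ omegaC

/-- the action of a letter -/
def aL : ℕ → Pt → Pt
  | 0 => A1
  | 1 => A1i
  | 2 => A2
  | 3 => A2i
  | 4 => A3
  | 5 => A3i
  | _ => id

/-- the action of a word -/
def actW : List ℕ → Pt → Pt
  | [] => id
  | l :: w => aL l ∘ actW w

/-- the elements of `K8` -/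
def els : List K8 := [k0, k1, k2, k3, k4, k5, k6, k7]

/-- all parameters -/
def allPts : List Pt := none :: els.flatMap fun x => els.map fun y => some (x, y)

theorem mem_allPts (c : Pt) : c ∈ allPts := by
  rcases c with _ | ⟨x, y⟩
  · decide
  · cases x <;> cases y <;> decide

/-- two maps agree on all parameters -/
def checkEq (f g : Pt → Pt) : Bool := allPts.all fun c => decide (f c = g c)

theorem eq_of_checkEq {f g : Pt → Pt} (h : checkEq f g = true) (c : Pt) : f c = g c :=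
  of_decide_eq_true (List.all_eq_true.mp h c (mem_allPts c))

theorem chk_inv : checkEq (A1 ∘ A1i) id = true ∧ checkEq (At ∘ Ati) id = true ∧
    checkEq (omegaC ∘ omegaC) id = true ∧ checkEq (A2 ∘ A2i) id = true ∧
    checkEq (A3 ∘ A3i) id = true := by
  decide +kernel

theorem acts_H1 : Acts H1 A1 := acts_kS zU

theorem acts_H1i : Acts H1⁻¹ A1i := acts_inv acts_H1 (eq_of_checkEq chk_inv.1)

theorem acts_T : Acts T At := acts_tS 1 0

theorem acts_Ti : Acts T⁻¹ Ati := acts_inv acts_T (eq_of_checkEq chk_inv.2.1)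

theorem acts_wSi : Acts (wS hK)⁻¹ omegaC := acts_inv acts_wS (eq_of_checkEq chk_inv.2.2.1)

theorem acts_H2 : Acts H2 A2 := fun c => acts_mul (acts_mul acts_T acts_H1) acts_Ti c

theorem acts_H2i : Acts H2⁻¹ A2i := acts_inv acts_H2 (eq_of_checkEq chk_inv.2.2.2.1)

theorem acts_H3 : Acts H3 A3 := fun c => acts_mul (acts_mul acts_wS acts_H2) acts_wSi c

theorem acts_H3i : Acts H3⁻¹ A3i := acts_inv acts_H3 (eq_of_checkEq chk_inv.2.2.2.2)

theorem acts_gl : ∀ l : ℕ, Acts (gl γ l) (aL l)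
  | 0 => acts_H1
  | 1 => acts_H1i
  | 2 => acts_H2
  | 3 => acts_H2i
  | 4 => acts_H3
  | 5 => acts_H3i
  | l + 6 => by
    have h1 : gl γ (l + 6) = 1 := by
      unfold gl
      have h2 : (l + 6) / 2 = l / 2 + 3 := by omega
      rw [h2]
      show (if (l + 6) % 2 = 0 then (1 : Sz K8 1) else (1 : Sz K8 1)⁻¹) = 1
      split_ifs
      · rfl
      · exact inv_one
    rw [h1]
    exact acts_one

theorem acts_ev : ∀ w : List ℕ, Acts (ev γ w) (actW w)
  | [] => acts_one
  | l :: w => acts_mul (acts_gl l) (acts_ev w)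

/-- a word acts trivially on all parameters -/
def checkW (w : List ℕ) : Bool := checkEq (actW w) id

theorem ev_eq_one_of_check (w : List ℕ) (h : checkW w = true) : ev γ w = 1 :=
  eq_of_acts (acts_ev w) acts_one (eq_of_checkEq h)

theorem chk_rels : ∀ r ∈ relsG, checkW r = true := by decide +kernel

theorem chk_extra : checkW wordC1 = true ∧ checkW wordC2 = true ∧ checkW (w1 ++ w1) = true ∧
    checkW (w2 ++ w2) = true := by decide +kernel

/-! ### generation -/

theorem kS_pow (k : K8ˣ) (i : ℕ) : kS hK (k ^ i) = (kS hK k) ^ i := by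
  induction i with
  | zero => rw [pow_zero, pow_zero, kS_one]
  | succ i ih => rw [pow_succ, pow_succ, kS_mul, ih]

theorem exists_pow : ∀ a : K8, a ≠ 0 → ∃ i < 7, a = k2 ^ i := by decide +kernel

theorem k8_id1 : ∀ c b1 : K8, c ^ 3 + c ^ 3 = 0 ∧ b1 + b1 + (c ^ 3) ^ (2 ^ (1 + 1)) * c ^ 3 = c := by
  decide +kernel

theorem k8_id2 : ∀ a b b1 : K8, a + 0 = a ∧ b1 + (b + b1) + (0 : K8) ^ (2 ^ (1 + 1)) * a = b := by
  decide +kernel

/-- the subgroup generated by the triple -/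
def C : Subgroup (Sz K8 1) := Subgroup.closure (Set.range fun i : Fin 3 => γ i.val)

theorem H1_mem : H1 ∈ C := Subgroup.subset_closure ⟨0, rfl⟩

theorem H2_mem : H2 ∈ C := Subgroup.subset_closure ⟨1, rfl⟩

theorem H3_mem : H3 ∈ C := Subgroup.subset_closure ⟨2, rfl⟩

theorem kS_mem (k : K8ˣ) : kS hK k ∈ C := by
  obtain ⟨i, -, hi⟩ := exists_pow (k : K8) k.ne_zero
  have h : k = zU ^ i := Units.ext (by rw [Units.val_pow_eq_pow_val]; exact hi)
  rw [h, kS_pow]
  exact Subgroup.pow_mem _ H1_mem i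

theorem chk_t0 : checkEq (A2 ∘ A1i) (tau 1 k3 k5) = true := by decide +kernel

theorem t0_eq : H2 * H1⁻¹ = tS hK k3 k5 :=
  eq_of_acts (acts_mul acts_H2 acts_H1i) (acts_tS k3 k5) (eq_of_checkEq chk_t0)

theorem t0_mem : tS hK k3 k5 ∈ C := by
  rw [← t0_eq]
  exact C.mul_mem H2_mem (C.inv_mem H1_mem)

theorem conj_tS (k : K8ˣ) (a b : K8) : kS hK k * tS hK a b * (kS hK k)⁻¹ =
    tS hK ((k : K8) * a) ((k : K8) ^ (2 ^ (1 + 1) + 1) * b) := by
  rw [kS_tS hK le_rfl, mul_assoc, mul_inv_cancel, mul_one]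

theorem tS_mem_of_ne (a : K8) (ha : a ≠ 0) : ∃ b1, tS hK a b1 ∈ C := by
  have h3 : (k3 : K8) ≠ 0 := by decide
  have hk : a / k3 ≠ 0 := div_ne_zero ha h3
  refine ⟨(a / k3) ^ (2 ^ (1 + 1) + 1) * k5, ?_⟩
  have h := conj_tS (Units.mk0 (a / k3) hk) k3 k5
  rw [Units.val_mk0, div_mul_cancel₀ a h3] at h
  rw [← h]
  exact C.mul_mem (C.mul_mem (kS_mem _) t0_mem) (C.inv_mem (kS_mem _))

theorem tS_zero_mem (c : K8) : tS hK 0 c ∈ C := by
  by_cases hc : c = 0
  · rw [hc, tS_zero_zero hK le_rfl]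
    exact C.one_mem
  · have ha : c ^ 3 ≠ 0 := pow_ne_zero 3 hc
    obtain ⟨b1, hb1⟩ := tS_mem_of_ne (c ^ 3) ha
    have h := tS_mul hK le_rfl (c ^ 3) b1 (c ^ 3) b1
    rw [(k8_id1 c b1).1, (k8_id1 c b1).2] at h
    rw [← h]
    exact C.mul_mem hb1 hb1

theorem tS_mem (a b : K8) : tS hK a b ∈ C := by
  by_cases ha : a = 0
  · rw [ha]
    exact tS_zero_mem b
  · obtain ⟨b1, hb1⟩ := tS_mem_of_ne a ha
    have h := tS_mul hK le_rfl a b1 0 (b + b1)
    rw [(k8_id2 a b b1).1, (k8_id2 a b b1).2] at h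
    rw [← h]
    exact C.mul_mem (tS_zero_mem _) hb1

theorem A3_none : A3 none = some (k5, k3) := by decide +kernel

theorem wS_mem : wS hK ∈ C := by
  rcases decomp hK le_rfl (H3 : Matrix.SpecialLinearGroup (Fin 4) K8) H3.2 with
    ⟨a, b, k, h⟩ | ⟨a, b, a', b', k, h⟩
  · exfalso
    have h1 : H3 = tS hK a b * kS hK k := Subtype.ext h
    have h2 : Acts H3 (tau 1 a b ∘ delta 1 (k : K8)) := by
      rw [h1]
      exact acts_mul (acts_tS a b) (acts_kS k)
    have h3 := acts_H3 none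
    rw [h2 none, A3_none] at h3
    have h4 := Cfsg.Agent.S0326.param_injective 1 h3
    change (none : Pt) = some (k5, k3) at h4
    exact absurd h4 (by simp)
  · have h1 : H3 = tS hK a b * wS hK * (tS hK a' b' * kS hK k) := Subtype.ext h
    have h2 : wS hK = (tS hK a b)⁻¹ * H3 * (tS hK a' b' * kS hK k)⁻¹ := by
      rw [h1]
      group
    rw [h2]
    exact C.mul_mem (C.mul_mem (C.inv_mem (tS_mem a b)) H3_mem)
      (C.inv_mem (C.mul_mem (tS_mem a' b') (kS_mem k)))

theorem closure_eq_top : Subgroup.closure (Set.range fun i : Fin 3 => γ i.val) = ⊤ := by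
  rw [eq_top_iff]
  intro g _
  show g ∈ C
  rcases decomp hK le_rfl (g : Matrix.SpecialLinearGroup (Fin 4) K8) g.2 with
    ⟨a, b, k, h⟩ | ⟨a, b, a', b', k, h⟩
  · have h1 : g = tS hK a b * kS hK k := Subtype.ext h
    rw [h1]
    exact C.mul_mem (tS_mem a b) (kS_mem k)
  · have h1 : g = tS hK a b * wS hK * (tS hK a' b' * kS hK k) := Subtype.ext h
    rw [h1]
    exact C.mul_mem (C.mul_mem (tS_mem a b) wS_mem) (C.mul_mem (tS_mem a' b') (kS_mem k))

/-- the triple in the Suzuki group over `K8` -/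
theorem triple : IsSz8Triple γ := by
  refine ⟨?_, closure_eq_top, fun r hr => ev_eq_one_of_check r (chk_rels r hr),
    ev_eq_one_of_check _ chk_extra.1, ev_eq_one_of_check _ chk_extra.2.1,
    ev_eq_one_of_check _ chk_extra.2.2.1, ev_eq_one_of_check _ chk_extra.2.2.2⟩
  rw [card_Sz hK le_rfl]
  norm_num

end Helper3

/-- [G] a triple in the Suzuki group over any field with `8` elements -/
theorem exists_triple {F : Type*} [Field F] [Fintype F] (hF : Fintype.card F = 8) :
    ∃ g : ℕ → ↥(Cfsg.Lie.Sz F 4), IsSz8Triple g := by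
  have hF' : Fintype.card F = 2 ^ (2 * 1 + 1) := by rw [hF]; norm_num
  have hcard : Fintype.card Cfsg.Agent.Lib.Helper3.Sz8.K8 = Fintype.card F := by
    rw [hF]; rfl
  let ι : Cfsg.Agent.Lib.Helper3.Sz8.K8 →+* F := (FiniteField.ringEquivOfCardEq hcard).toRingHom
  let φ := Cfsg.Agent.Lib.Helper3.Sz.szMap hF' Helper3.hK le_rfl (dvd_refl _) ι
  have : Finite (Cfsg.Sz F 1) := Cfsg.Agent.Lib.Helper3.Sz.finite_Sz
  have hbij : Function.Bijective φ := by
    apply (Cfsg.Agent.Lib.Helper3.Sz.szMap_injective hF' Helper3.hK le_rfl (dvd_refl _) ι).bijective_of_nat_card_le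
    rw [Cfsg.Agent.Lib.Helper3.Sz.card_Sz hF' le_rfl, Cfsg.Agent.Lib.Helper3.Sz.card_Sz Helper3.hK le_rfl]
  let e1 : Cfsg.Sz Cfsg.Agent.Lib.Helper3.Sz8.K8 1 ≃* Cfsg.Sz F 1 := MulEquiv.ofBijective φ hbij
  let e := e1.trans (Cfsg.Agent.Lib.Helper3.SzBridge.lieSzEquiv hF' le_rfl).symm
  exact ⟨fun i => e (Helper3.γ i), Helper3.IsSz8Triple.map e Helper3.triple⟩

end Cfsg.Agent.Lib.Helper7.Sz8
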