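import Mathlib
import Cfsg.Agent.S1140
import Cfsg.Agent.Lib.Helper3.SU3Aut6

set_option autoImplicit false
set_option linter.unusedSectionVars false
set_option linter.style.haveILetI false

/-! Invariant biadditive forms on a finite field of characteristic two vanish. -/

namespace Cfsg.Agent.Lib.Helper3.SzMult

variable {F : Type*} [Field F] [Fintype F]

/-- the functions `(x, y) ↦ σ x * τ y` are linearly independent -/
lemma tensor_indep [CharP F 2] (S₁ S₂ : Finset (F ≃+* F)) (c : (F ≃+* F) × (F ≃+* F) → F)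
    (h : ∀ x y : F, ∑ σ ∈ S₁, ∑ τ ∈ S₂, c (σ, τ) * (σ x * τ y) = 0) :
    ∀ σ ∈ S₁, ∀ τ ∈ S₂, c (σ, τ) = 0 := by
  have hli := (Cfsg.Agent.S1140.result (F := F)).1
  rw [linearIndependent_iff'] at hli
  have h1 : ∀ y : F, ∀ σ ∈ S₁, ∑ τ ∈ S₂, c (σ, τ) * τ y = 0 := by
    intro y
    apply hli S₁ (fun σ => ∑ τ ∈ S₂, c (σ, τ) * τ y)
    funext x
    simp only [Finset.sum_apply, Pi.smul_apply, smul_eq_mul, Pi.zero_apply]
    rw [← h x y]
    apply Finset.sum_congr rfl
    intro σ _
    rw [Finset.sum_mul]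
    apply Finset.sum_congr rfl
    intro τ _
    show c (σ, τ) * τ y * σ x = c (σ, τ) * (σ x * τ y)
    ring
  intro σ hσ
  apply hli S₂ (fun τ => c (σ, τ))
  funext y
  simp only [Finset.sum_apply, Pi.smul_apply, smul_eq_mul, Pi.zero_apply]
  exact h1 y σ hσ

/-- no automorphism `ρ` of a field of order `2 ^ (2 * m + 1)` satisfies `ρ k * k ^ e = 1` for
all nonzero `k`, when `e` is small -/
lemma no_aut_pow {m e : ℕ} (hF : Fintype.card F = 2 ^ (2 * m + 1)) (h2 : (2 : F) = 0)
    (he : 2 ^ (2 * m) + e + 1 < 2 ^ (2 * m + 1)) (ρ : F ≃+* F)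
    (h : ∀ k : F, k ≠ 0 → ρ k * k ^ e = 1) : False := by
  classical
  obtain ⟨j, hj, hρ⟩ := Cfsg.Agent.Lib.Helper3.SU3.ringAut_eq_frob h2 hF ρ
  have hj' : 2 ^ j ≤ 2 ^ (2 * m) := Nat.pow_le_pow_right (by norm_num) (by omega)
  set N := 2 ^ j + e + 1 with hN
  have hN2 : 2 ≤ N := by
    have : 1 ≤ 2 ^ j := Nat.one_le_two_pow
    omega
  have hroot : ∀ k : F, k ^ N = k := by
    intro k
    by_cases hk : k = 0
    · rw [hk, zero_pow (by omega)]
    · have := h k hk
      rw [hρ] at this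
      rw [hN, pow_succ, pow_add, this, one_mul]
  set P : Polynomial F := Polynomial.X ^ N - Polynomial.X with hP
  have hdeg : P.natDegree = N := by
    rw [hP]
    have h1 : (Polynomial.X : Polynomial F).natDegree < (Polynomial.X ^ N : Polynomial F).natDegree := by
      rw [Polynomial.natDegree_X_pow, Polynomial.natDegree_X]
      omega
    rw [Polynomial.natDegree_sub_eq_left_of_natDegree_lt h1, Polynomial.natDegree_X_pow]
  have hP0 : P ≠ 0 := by
    intro h0
    rw [h0, Polynomial.natDegree_zero] at hdeg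
    omega
  have h1 : ∀ x : F, x ∈ P.roots := by
    intro x
    rw [Polynomial.mem_roots hP0]
    simp [hP, hroot x]
  have h3 : Fintype.card F ≤ P.roots.toFinset.card := by
    rw [← Finset.card_univ]
    apply Finset.card_le_card
    intro x _
    exact Multiset.mem_toFinset.2 (h1 x)
  have h4 : P.roots.toFinset.card ≤ N := by
    calc _ ≤ Multiset.card P.roots := Multiset.toFinset_card_le _
      _ ≤ P.natDegree := Polynomial.card_roots' _
      _ = N := hdeg
  rw [hF] at h3
  omega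

/-- a biadditive form invariant under `(x, y) ↦ (k x, k ^ e y)` vanishes -/
theorem invariant_form_eq_zero {m e : ℕ} (hF : Fintype.card F = 2 ^ (2 * m + 1)) (h2 : (2 : F) = 0)
    (he : 2 ^ (2 * m) + e + 1 < 2 ^ (2 * m + 1)) (B : F →+ F →+ F)
    (hinv : ∀ k : F, k ≠ 0 → ∀ x y : F, B (k * x) (k ^ e * y) = B x y) :
    ∀ x y : F, B x y = 0 := by
  classical
  haveI : CharP F 2 := CharTwo.of_one_ne_zero_of_two_eq_zero one_ne_zero h2
  obtain ⟨s, c, hc⟩ := (Cfsg.Agent.S1140.result (F := F)).2.2 B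
  set S₁ := s.image Prod.fst with hS₁
  set S₂ := s.image Prod.snd with hS₂
  set c' : (F ≃+* F) × (F ≃+* F) → F := fun p => if p ∈ s then c p else 0 with hc'
  have hB : ∀ x y : F, B x y = ∑ σ ∈ S₁, ∑ τ ∈ S₂, c' (σ, τ) * (σ x * τ y) := by
    intro x y
    rw [hc x y, ← Finset.sum_product']
    symm
    have hsub : s ⊆ S₁ ×ˢ S₂ := by
      intro p hp
      rw [Finset.mem_product]
      exact ⟨Finset.mem_image_of_mem _ hp, Finset.mem_image_of_mem _ hp⟩
    rw [← Finset.sum_subset hsub]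
    · apply Finset.sum_congr rfl
      intro p hp
      simp only [hc', hp, if_true]
    · intro p _ hp
      simp only [hc', hp, if_false, zero_mul]
  have hzero : ∀ σ ∈ S₁, ∀ τ ∈ S₂, c' (σ, τ) = 0 := by
    by_contra hne
    push Not at hne
    obtain ⟨σ, hσ, τ, hτ, hne⟩ := hne
    -- the automorphism `τ⁻¹ σ`
    apply no_aut_pow hF h2 he (σ.trans τ.symm)
    intro k hk
    have h3 : ∀ x y : F, ∑ σ ∈ S₁, ∑ τ ∈ S₂,
        (c' (σ, τ) * (σ k * τ k ^ e - 1)) * (σ x * τ y) = 0 := by
      intro x y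
      have h4 := hinv k hk x y
      rw [hB, hB] at h4
      rw [← sub_eq_zero, ← Finset.sum_sub_distrib] at h4
      rw [← h4]
      apply Finset.sum_congr rfl
      intro σ _
      rw [← Finset.sum_sub_distrib]
      apply Finset.sum_congr rfl
      intro τ _
      rw [map_mul, map_mul, map_pow]
      ring
    have h5 := tensor_indep S₁ S₂ (fun p => c' p * (p.1 k * p.2 k ^ e - 1)) h3 σ hσ τ hτ
    simp only at h5
    rcases mul_eq_zero.1 h5 with h6 | h6
    · exact absurd h6 hne
    · have h7 : σ k * τ k ^ e = 1 := sub_eq_zero.1 h6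
      have h8 := congrArg τ.symm h7
      rw [map_mul, map_pow, RingEquiv.symm_apply_apply, map_one] at h8
      exact h8
  intro x y
  rw [hB]
  apply Finset.sum_eq_zero
  intro σ hσ
  apply Finset.sum_eq_zero
  intro τ hτ
  rw [hzero σ hσ τ hτ, zero_mul]

end Cfsg.Agent.Lib.Helper3.SzMult
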