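import Mathlib
import Cfsg.Agent.Lib.Helper3.SzMult1
import Cfsg.Agent.Lib.Helper3.Suzuki11

set_option autoImplicit false
set_option linter.unusedSectionVars false
set_option linter.unusedVariables false
set_option linter.style.haveILetI false

/-! A central extension of the Suzuki group by a group of order two: the preimage of the centre
of a Sylow 2-subgroup is central in the preimage of the Sylow 2-subgroup. -/

namespace Cfsg.Agent.Lib.Helper3.SzMult

open Cfsg Cfsg.Agent.Lib.Helper3.Sz

variable {F : Type*} [Field F] [Fintype F] {m : ℕ} (hF : Fintype.card F = 2 ^ (2 * m + 1))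
variable {Γ : Type*} [Group Γ]

include hF in
lemma add_self' (b : F) : b + b = 0 := by
  have := two_eq_zero hF
  linear_combination b * this

include hF in
lemma card_ge (hm : 1 ≤ m) : 8 ≤ Fintype.card F := by
  rw [hF]
  calc 8 = 2 ^ 3 := by norm_num
    _ ≤ 2 ^ (2 * m + 1) := Nat.pow_le_pow_right (by norm_num) (by omega)

/-- the data of a central extension of `Sz F m` with kernel `{1, z}` -/
structure Cover (ψ : Γ →* Sz F m) (z : Γ) : Prop where
  surj : Function.Surjective ψ
  z_ne : z ≠ 1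
  z_sq : z * z = 1
  ker : ∀ x : Γ, ψ x = 1 ↔ x = 1 ∨ x = z
  central : ∀ x : Γ, x * z = z * x

namespace Cover

variable {hF} {ψ : Γ →* Sz F m} {z : Γ} (C : Cover ψ z) (hm : 1 ≤ m)
include C

lemma psi_z : ψ z = 1 := (C.ker z).2 (Or.inr rfl)

lemma z_inv : z⁻¹ = z := inv_eq_of_mul_eq_one_left C.z_sq

lemma eq_or_of_psi_eq {x y : Γ} (h : ψ x = ψ y) : y = x ∨ y = x * z := by
  have h1 : ψ (x⁻¹ * y) = 1 := by rw [map_mul, map_inv, h, inv_mul_cancel]
  rcases (C.ker _).1 h1 with h2 | h2
  · left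
    have := congrArg (x * ·) h2
    simpa using this
  · right
    have := congrArg (x * ·) h2
    simpa using this

lemma ker_central {w : Γ} (hw : ψ w = 1) (x : Γ) : x * w = w * x := by
  rcases (C.ker w).1 hw with h | h
  · rw [h, mul_one, one_mul]
  · rw [h]; exact C.central x

/-- squares depend only on the image -/
lemma sq_indep {x y : Γ} (h : ψ x = ψ y) : y * y = x * x := by
  rcases C.eq_or_of_psi_eq h with h1 | h1
  · rw [h1]
  · rw [h1]
    calc x * z * (x * z) = x * (z * x) * z := by group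
      _ = x * (x * z) * z := by rw [C.central x]
      _ = x * x * (z * z) := by group
      _ = x * x := by rw [C.z_sq, mul_one]

include hm

lemma tS_zero_mul (b d : F) : tS hF (0 : F) b * tS hF 0 d = tS hF 0 (b + d) := by
  rw [tS_mul hF hm]
  congr 1
  · ring
  · rw [mul_zero, add_zero, add_comm]

lemma tS_zero_comm (a b d : F) : tS hF a b * tS hF 0 d = tS hF 0 d * tS hF a b := by
  rw [tS_mul hF hm, tS_mul hF hm]
  congr 1
  · ring
  · rw [mul_zero, zero_pow (by positivity), zero_mul]
    ring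

lemma kS_conj (k : Fˣ) (a b : F) :
    kS hF k * tS hF a b * (kS hF k)⁻¹ = tS hF ((k : F) * a) ((k : F) ^ (2 ^ (m + 1) + 1) * b) := by
  rw [kS_tS hF hm, mul_assoc, mul_inv_cancel, mul_one]

lemma conj_lift {h x : Γ} {k : Fˣ} {a b : F} (hh : ψ h = kS hF k) (hx : ψ x = tS hF a b) :
    ψ (h * x * h⁻¹) = tS hF ((k : F) * a) ((k : F) ^ (2 ^ (m + 1) + 1) * b) := by
  rw [map_mul, map_mul, map_inv, hh, hx, kS_conj C hm]

lemma sq_ker {x : Γ} {b : F} (hx : ψ x = tS hF 0 b) : ψ (x * x) = 1 := by
  rw [map_mul, hx, tS_zero_sq hF hm]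

/-- Step A: every lift of a central translation is an involution (or trivial) -/
theorem sq_eq_one {x : Γ} {b : F} (hx : ψ x = tS hF 0 b) : x * x = 1 := by
  classical
  by_contra hne
  have hxz : x * x = z := by
    rcases (C.ker _).1 (C.sq_ker hm hx) with h | h
    · exact absurd h hne
    · exact h
  have hb0 : b ≠ 0 := by
    intro hb
    rw [hb, tS_zero_zero hF hm] at hx
    rcases (C.ker _).1 hx with h | h
    · apply hne; rw [h, one_mul]
    · apply hne; rw [h, C.z_sq]
  -- all lifts of nonzero central translations square to `z`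
  have hall : ∀ (d : F), d ≠ 0 → ∀ y : Γ, ψ y = tS hF 0 d → y * y = z := by
    intro d hd y hy
    obtain ⟨k, hk⟩ := pow_sig_succ_surjective hF (d / b)
    have hk' : k ^ (2 ^ (m + 1) + 1) = d / b := hk
    have hk0 : k ≠ 0 := by
      intro h0
      rw [h0, zero_pow (by omega)] at hk'
      have : d / b ≠ 0 := div_ne_zero hd hb0
      exact this hk'.symm
    obtain ⟨h, hh⟩ := C.surj (kS hF (Units.mk0 k hk0))
    have h1 := C.conj_lift hm hh hx
    rw [Units.val_mk0, mul_zero, hk', div_mul_cancel₀ d hb0] at h1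
    have h2 : y * y = (h * x * h⁻¹) * (h * x * h⁻¹) := C.sq_indep (h1.trans hy.symm)
    rw [h2]
    calc h * x * h⁻¹ * (h * x * h⁻¹) = h * (x * x) * h⁻¹ := by group
      _ = h * z * h⁻¹ := by rw [hxz]
      _ = z := by rw [C.central h, mul_assoc, mul_inv_cancel, mul_one]
  -- hence lifts of distinct nonzero central translations anticommute
  have hanti : ∀ (d e : F), d ≠ 0 → e ≠ 0 → d ≠ e → ∀ y w : Γ, ψ y = tS hF 0 d → ψ w = tS hF 0 e →
      w * y = z * (y * w) := by
    intro d e hd he hde y w hy hw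
    have hyw : ψ (y * w) = tS hF 0 (d + e) := by
      rw [map_mul, hy, hw, C.tS_zero_mul hm]
    have hde0 : d + e ≠ 0 := by
      intro h0
      apply hde
      have := add_self' hF e
      have h3 : d = d + (e + e) := by rw [this, add_zero]
      rw [h3, ← add_assoc, h0, zero_add]
    have h1 := hall (d + e) hde0 _ hyw
    have h2 := hall d hd y hy
    have h3 := hall e he w hw
    have hyinv : y⁻¹ = y * z := by
      rw [inv_eq_iff_mul_eq_one]
      calc y * (y * z) = (y * y) * z := by group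
        _ = 1 := by rw [h2, C.z_sq]
    have hwinv : w⁻¹ = w * z := by
      rw [inv_eq_iff_mul_eq_one]
      calc w * (w * z) = (w * w) * z := by group
        _ = 1 := by rw [h3, C.z_sq]
    have h4 : w * y = y⁻¹ * (y * w * (y * w)) * w⁻¹ := by group
    rw [h4, h1, hyinv, hwinv]
    calc y * z * z * (w * z) = y * (z * z) * (w * z) := by group
      _ = y * (w * z) := by rw [C.z_sq, mul_one]
      _ = (y * w) * z := by group
      _ = z * (y * w) := C.central _
  -- pick three suitable elements of the field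
  have hcard := card_ge hF hm
  obtain ⟨t, -, ht⟩ := Finset.exists_mem_notMem_of_card_lt_card
    (s := ({0, 1} : Finset F)) (t := Finset.univ) (by
      rw [Finset.card_univ]
      calc ({0, 1} : Finset F).card ≤ 2 := Finset.card_le_two
        _ < Fintype.card F := by omega)
  obtain ⟨u, -, hu⟩ := Finset.exists_mem_notMem_of_card_lt_card
    (s := ({0, 1, t, 1 + t} : Finset F)) (t := Finset.univ) (by
      rw [Finset.card_univ]
      calc ({0, 1, t, 1 + t} : Finset F).card ≤ 4 := Finset.card_le_four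
        _ < Fintype.card F := by omega)
  simp only [Finset.mem_insert, Finset.mem_singleton, not_or] at ht hu
  obtain ⟨ht0, ht1⟩ := ht
  obtain ⟨hu0, hu1, hut, hu1t⟩ := hu
  obtain ⟨x₁, hx₁⟩ := C.surj (tS hF 0 u)
  obtain ⟨x₂, hx₂⟩ := C.surj (tS hF 0 1)
  obtain ⟨x₃, hx₃⟩ := C.surj (tS hF 0 t)
  have h23 : ψ (x₂ * x₃) = tS hF 0 (1 + t) := by
    rw [map_mul, hx₂, hx₃, C.tS_zero_mul hm]
  have h1t0 : (1 : F) + t ≠ 0 := by
    intro h0
    apply ht1
    have := add_self' hF t
    have h3 : (1 : F) = 1 + (t + t) := by rw [this, add_zero]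
    rw [h3, ← add_assoc, h0, zero_add]
  have e1 := hanti u 1 hu0 one_ne_zero hu1 x₁ x₂ hx₁ hx₂
  have e2 := hanti u t hu0 ht0 hut x₁ x₃ hx₁ hx₃
  have e3 := hanti u (1 + t) hu0 h1t0 hu1t x₁ (x₂ * x₃) hx₁ h23
  have e4 : x₂ * x₃ * x₁ = x₁ * (x₂ * x₃) := by
    calc x₂ * x₃ * x₁ = x₂ * (x₃ * x₁) := by group
      _ = x₂ * (z * (x₁ * x₃)) := by rw [e2]
      _ = x₂ * z * (x₁ * x₃) := by group
      _ = z * x₂ * (x₁ * x₃) := by rw [C.central x₂]
      _ = z * (x₂ * x₁) * x₃ := by group
      _ = z * (z * (x₁ * x₂)) * x₃ := by rw [e1]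
      _ = (z * z) * (x₁ * (x₂ * x₃)) := by group
      _ = x₁ * (x₂ * x₃) := by rw [C.z_sq, one_mul]
  rw [e4] at e3
  apply C.z_ne
  have := mul_right_cancel (a := (1 : Γ)) (b := x₁ * (x₂ * x₃)) (c := z) (by rw [one_mul]; exact e3)
  exact this.symm

/-- lifts of central translations commute -/
theorem ztil_comm {x y : Γ} {b d : F} (hx : ψ x = tS hF 0 b) (hy : ψ y = tS hF 0 d) :
    x * y = y * x := by
  have hxy : ψ (x * y) = tS hF 0 (b + d) := by rw [map_mul, hx, hy, C.tS_zero_mul hm]
  have h1 := C.sq_eq_one hm hx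
  have h2 := C.sq_eq_one hm hy
  have h3 := C.sq_eq_one hm hxy
  have hxinv : x⁻¹ = x := inv_eq_of_mul_eq_one_left h1
  have hyinv : y⁻¹ = y := inv_eq_of_mul_eq_one_left h2
  have h4 : (x * y)⁻¹ = x * y := inv_eq_of_mul_eq_one_left h3
  rw [mul_inv_rev, hxinv, hyinv] at h4
  exact h4.symm

end Cover

end Cfsg.Agent.Lib.Helper3.SzMult
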