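import Mathlib
import Cfsg.Agent.Lib.Helper3.SzMult2

set_option autoImplicit false
set_option linter.unusedSectionVars false
set_option linter.unusedVariables false
set_option linter.style.haveILetI false

/-! Step B: in a double cover of the Suzuki group (`q ≥ 32`), lifts of central translations
are central in the preimage of the translation group. -/

namespace Cfsg.Agent.Lib.Helper3.SzMult

open Cfsg Cfsg.Agent.Lib.Helper3.Sz

variable {F : Type*} [Field F] [Fintype F] {m : ℕ} (hF : Fintype.card F = 2 ^ (2 * m + 1))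
variable {Γ : Type*} [Group Γ]

open Classical in
/-- the additive character of the kernel -/
noncomputable def iota (w : Γ) : F := if w = 1 then 0 else 1

omit [Fintype F] in
lemma iota_eq_zero {w : Γ} : (iota w : F) = 0 ↔ w = 1 := by
  classical
  unfold iota
  constructor
  · intro h
    by_contra hne
    rw [if_neg hne] at h
    exact one_ne_zero h
  · intro h
    rw [if_pos h]

include hF in
lemma arith_bound (hm : 2 ≤ m) : 2 ^ (2 * m) + (2 ^ (m + 1) + 1) + 1 < 2 ^ (2 * m + 1) := by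
  have h1 : 2 ^ (2 * m) = 2 ^ (m + 1) * 2 ^ (m - 1) := by
    rw [← pow_add]; congr 1; omega
  have h2 : 2 ≤ 2 ^ (m - 1) := by
    calc 2 = 2 ^ 1 := by norm_num
      _ ≤ 2 ^ (m - 1) := Nat.pow_le_pow_right (by norm_num) (by omega)
  have h3 : 8 ≤ 2 ^ (m + 1) := by
    calc 8 = 2 ^ 3 := by norm_num
      _ ≤ 2 ^ (m + 1) := Nat.pow_le_pow_right (by norm_num) (by omega)
  have h4 : 2 ^ (2 * m + 1) = 2 * 2 ^ (2 * m) := by rw [pow_succ]; ring
  rw [h4]
  nlinarith

omit [Fintype F] in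
lemma comm_mul_left {x x' y c c' : Γ} (hc : x * y * x⁻¹ * y⁻¹ = c) (hc' : x' * y * x'⁻¹ * y⁻¹ = c')
    (hcen : x' * c = c * x') : x' * x * y * (x' * x)⁻¹ * y⁻¹ = c * c' := by
  subst hc hc'
  calc x' * x * y * (x' * x)⁻¹ * y⁻¹ = x' * (x * y * x⁻¹ * y⁻¹) * y * x'⁻¹ * y⁻¹ := by group
    _ = (x * y * x⁻¹ * y⁻¹) * x' * y * x'⁻¹ * y⁻¹ := by rw [hcen]
    _ = x * y * x⁻¹ * y⁻¹ * (x' * y * x'⁻¹ * y⁻¹) := by group

lemma comm_mul_right {x y y' c c' : Γ} (hc : x * y * x⁻¹ * y⁻¹ = c) (hc' : x * y' * x⁻¹ * y'⁻¹ = c')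
    (hcen : ∀ g : Γ, g * c' = c' * g) : x * (y * y') * x⁻¹ * (y * y')⁻¹ = c * c' := by
  subst hc
  have h1 := hcen (x * y * x⁻¹)
  have h2 := hcen (x * y * x⁻¹ * y⁻¹)
  subst hc'
  calc x * (y * y') * x⁻¹ * (y * y')⁻¹ = (x * y * x⁻¹) * (x * y' * x⁻¹ * y'⁻¹) * y⁻¹ := by group
    _ = (x * y' * x⁻¹ * y'⁻¹) * (x * y * x⁻¹) * y⁻¹ := by rw [h1]
    _ = (x * y' * x⁻¹ * y'⁻¹) * (x * y * x⁻¹ * y⁻¹) := by group
    _ = x * y * x⁻¹ * y⁻¹ * (x * y' * x⁻¹ * y'⁻¹) := h2.symm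

lemma comm_conj {h x y c : Γ} (hc : x * y * x⁻¹ * y⁻¹ = c) (hcen : h * c = c * h) :
    (h * x * h⁻¹) * (h * y * h⁻¹) * (h * x * h⁻¹)⁻¹ * (h * y * h⁻¹)⁻¹ = c := by
  subst hc
  calc h * x * h⁻¹ * (h * y * h⁻¹) * (h * x * h⁻¹)⁻¹ * (h * y * h⁻¹)⁻¹
      = h * (x * y * x⁻¹ * y⁻¹) * h⁻¹ := by group
    _ = (x * y * x⁻¹ * y⁻¹) * h * h⁻¹ := by rw [hcen]
    _ = x * y * x⁻¹ * y⁻¹ := by group

namespace Cover

variable {ψ : Γ →* Sz F m} {z : Γ} (C : Cover ψ z)
include C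

/-- a chosen lift -/
noncomputable def sec (a b : F) : Γ := Function.surjInv C.surj (tS hF a b)

lemma psi_sec (a b : F) : ψ (C.sec hF a b) = tS hF a b := Function.surjInv_eq C.surj _

/-- the commutator of chosen lifts -/
noncomputable def com (a d : F) : Γ :=
  C.sec hF a 0 * C.sec hF 0 d * (C.sec hF a 0)⁻¹ * (C.sec hF 0 d)⁻¹

include hF in
lemma iota_mul {w w' : Γ} (hw : ψ w = 1) (hw' : ψ w' = 1) :
    (iota (w * w') : F) = iota w + iota w' := by
  classical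
  have h11 : (iota (1 : Γ) : F) = 0 := iota_eq_zero.2 rfl
  have hz : (iota z : F) = 1 := by
    unfold iota
    rw [if_neg C.z_ne]
  rcases (C.ker w).1 hw with h | h <;> rcases (C.ker w').1 hw' with h' | h'
  · rw [h, h', mul_one, h11, add_zero]
  · rw [h, h', one_mul, h11, hz, zero_add]
  · rw [h, h', mul_one, h11, hz, add_zero]
  · rw [h, h', C.z_sq, h11, hz, add_self' hF]

variable (hm : 1 ≤ m)
include hm

lemma inv_mul_lift (a b b' : F) : (tS hF a b)⁻¹ * tS hF a b' = tS hF 0 (b + b') := by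
  have h2 := two_eq_zero hF
  rw [tS_inv hF hm, tS_mul hF hm]
  congr 1
  · linear_combination a * h2
  · linear_combination (a ^ (2 ^ (m + 1)) * a) * h2

lemma comm_ker {x y : Γ} {a b d : F} (hx : ψ x = tS hF a b) (hy : ψ y = tS hF 0 d) :
    ψ (x * y * x⁻¹ * y⁻¹) = 1 := by
  rw [map_mul, map_mul, map_mul, map_inv, map_inv, hx, hy, C.tS_zero_comm hm]
  group

/-- the commutator does not depend on the lifts -/
lemma com_indep {x x' y y' : Γ} {a b b' d : F} (hx : ψ x = tS hF a b) (hx' : ψ x' = tS hF a b')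
    (hy : ψ y = tS hF 0 d) (hy' : ψ y' = tS hF 0 d) :
    x' * y' * x'⁻¹ * y'⁻¹ = x * y * x⁻¹ * y⁻¹ := by
  -- first replace `y'` by `y`
  have h1 : x' * y' * x'⁻¹ * y'⁻¹ = x' * y * x'⁻¹ * y⁻¹ := by
    rcases C.eq_or_of_psi_eq (hy.trans hy'.symm) with h | h
    · rw [h]
    · rw [h, mul_inv_rev, C.z_inv]
      calc x' * (y * z) * x'⁻¹ * (z * y⁻¹) = x' * y * (z * x'⁻¹) * z * y⁻¹ := by group
        _ = x' * y * (x'⁻¹ * z) * z * y⁻¹ := by rw [C.central x'⁻¹]
        _ = x' * y * x'⁻¹ * (z * z) * y⁻¹ := by group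
        _ = x' * y * x'⁻¹ * y⁻¹ := by rw [C.z_sq, mul_one]
  rw [h1]
  -- now `x' = x * w` with `w` a lift of a central translation
  set w := x⁻¹ * x' with hw
  have hψw : ψ w = tS hF 0 (b + b') := by
    rw [hw, map_mul, map_inv, hx, hx', C.inv_mul_lift hF hm]
  have hwy : w * y = y * w := C.ztil_comm hm hψw hy
  have hx'w : x' = x * w := by rw [hw]; group
  rw [hx'w]
  calc x * w * y * (x * w)⁻¹ * y⁻¹ = x * (w * y) * w⁻¹ * x⁻¹ * y⁻¹ := by group
    _ = x * (y * w) * w⁻¹ * x⁻¹ * y⁻¹ := by rw [hwy]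
    _ = x * y * x⁻¹ * y⁻¹ := by group

lemma com_eq {x y : Γ} {a b d : F} (hx : ψ x = tS hF a b) (hy : ψ y = tS hF 0 d) :
    x * y * x⁻¹ * y⁻¹ = C.com hF a d :=
  C.com_indep hF hm (C.psi_sec hF a 0) hx (C.psi_sec hF 0 d) hy

lemma psi_com (a d : F) : ψ (C.com hF a d) = 1 :=
  C.comm_ker hF hm (C.psi_sec hF a 0) (C.psi_sec hF 0 d)

lemma com_add_left (a a' d : F) :
    C.com hF (a + a') d = C.com hF a d * C.com hF a' d := by
  have hψ : ψ (C.sec hF a' 0 * C.sec hF a 0)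
      = tS hF (a + a') (0 + 0 + a' ^ (2 ^ (m + 1)) * a) := by
    rw [map_mul, C.psi_sec, C.psi_sec, tS_mul hF hm]
  rw [← C.com_eq hF hm hψ (C.psi_sec hF 0 d)]
  exact comm_mul_left rfl rfl (C.ker_central (C.psi_com hF hm a d) _)

lemma com_add_right (a d d' : F) :
    C.com hF a (d + d') = C.com hF a d * C.com hF a d' := by
  have hψ : ψ (C.sec hF 0 d * C.sec hF 0 d') = tS hF 0 (d + d') := by
    rw [map_mul, C.psi_sec, C.psi_sec, C.tS_zero_mul hm]
  rw [← C.com_eq hF hm (C.psi_sec hF a 0) hψ]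
  exact comm_mul_right rfl rfl (fun g => C.ker_central (C.psi_com hF hm a d') g)

lemma com_conj {h : Γ} {k : Fˣ} (hh : ψ h = kS hF k) (a d : F) :
    C.com hF ((k : F) * a) ((k : F) ^ (2 ^ (m + 1) + 1) * d) = C.com hF a d := by
  have h1 := C.conj_lift hm hh (C.psi_sec hF a 0)
  have h2 := C.conj_lift hm hh (C.psi_sec hF 0 d)
  rw [mul_zero] at h2
  rw [← C.com_eq hF hm h1 h2]
  exact comm_conj rfl (C.ker_central (C.psi_com hF hm a d) h)

/-- the commutator form -/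
noncomputable def Bform : F →+ F →+ F :=
  AddMonoidHom.mk' (fun a => AddMonoidHom.mk' (fun d => (iota (C.com hF a d) : F))
    (fun d d' => by
      rw [C.com_add_right hF hm, C.iota_mul hF (C.psi_com hF hm a d) (C.psi_com hF hm a d')]))
    (fun a a' => by
      ext d
      simp only [AddMonoidHom.mk'_apply, AddMonoidHom.add_apply]
      rw [C.com_add_left hF hm, C.iota_mul hF (C.psi_com hF hm a d) (C.psi_com hF hm a' d)])

lemma Bform_apply (a d : F) : C.Bform hF hm a d = (iota (C.com hF a d) : F) := rfl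

/-- Step B: lifts of central translations are central in the preimage of the translations -/
theorem ztil_central (hm2 : 2 ≤ m) {x y : Γ} {a b d : F} (hx : ψ x = tS hF a b)
    (hy : ψ y = tS hF 0 d) : x * y = y * x := by
  have hinv : ∀ k : F, k ≠ 0 → ∀ a d : F,
      C.Bform hF hm (k * a) (k ^ (2 ^ (m + 1) + 1) * d) = C.Bform hF hm a d := by
    intro k hk a d
    obtain ⟨h, hh⟩ := C.surj (kS hF (Units.mk0 k hk))
    have := C.com_conj hF hm hh a d
    rw [Units.val_mk0] at this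
    rw [C.Bform_apply hF hm, C.Bform_apply hF hm, this]
  have h0 := invariant_form_eq_zero hF (two_eq_zero hF) (arith_bound hF hm2) (C.Bform hF hm) hinv a d
  rw [C.Bform_apply hF hm, iota_eq_zero] at h0
  rw [← C.com_eq hF hm hx hy] at h0
  have : x * y = (x * y * x⁻¹ * y⁻¹) * (y * x) := by group
  rw [this, h0, one_mul]

end Cover

end Cfsg.Agent.Lib.Helper3.SzMult
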