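import Mathlib
import Cfsg.Agent.Lib.Helper3.SzMult3

set_option autoImplicit false
set_option linter.unusedSectionVars false
set_option linter.unusedVariables false
set_option linter.style.haveILetI false

/-! Step C: in a double cover of the Suzuki group (`q ≥ 32`), the central involution does not lie
in the commutator subgroup of the preimage of the translation group. -/

namespace Cfsg.Agent.Lib.Helper3.SzMult

open Cfsg Cfsg.Agent.Lib.Helper3.Sz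

variable {F : Type*} [Field F] [Fintype F] {m : ℕ} (hF : Fintype.card F = 2 ^ (2 * m + 1))
variable {Γ : Type*} [Group Γ]

/-- the "norm" of `w` under conjugation by powers of `h` -/
def Nf (h : Γ) : ℕ → Γ → Γ
  | 0, _ => 1
  | (j + 1), w => Nf h j w * (h ^ j * w * (h ^ j)⁻¹)

lemma Nf_zero (h w : Γ) : Nf h 0 w = 1 := rfl

lemma Nf_succ (h w : Γ) (j : ℕ) : Nf h (j + 1) w = Nf h j w * (h ^ j * w * (h ^ j)⁻¹) := rfl

lemma Nf_succ' (h : Γ) (j : ℕ) : ∀ w : Γ, Nf h (j + 1) w = w * Nf h j (h * w * h⁻¹) := by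
  induction j with
  | zero =>
    intro w
    rw [Nf_succ, Nf_zero, Nf_zero, pow_zero]
    group
  | succ j ih =>
    intro w
    rw [Nf_succ, ih w, Nf_succ h (h * w * h⁻¹) j, pow_succ]
    group

lemma Nf_central {z : Γ} (hz : ∀ g : Γ, g * z = z * g) (h : Γ) (j : ℕ) : Nf h j z = z ^ j := by
  induction j with
  | zero => rw [Nf_zero, pow_zero]
  | succ j ih =>
    rw [Nf_succ, ih, hz (h ^ j), mul_assoc, mul_inv_cancel, mul_one, pow_succ]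

lemma Nf_one (h : Γ) (j : ℕ) : Nf h j 1 = 1 := by
  induction j with
  | zero => rfl
  | succ j ih => rw [Nf_succ, ih, mul_one, mul_inv_cancel, one_mul]

omit [Fintype F] in
lemma comm_mul_central_left {x y w : Γ} (h1 : w * y = y * w) :
    (x * w) * y * (x * w)⁻¹ * y⁻¹ = x * y * x⁻¹ * y⁻¹ := by
  calc x * w * y * (x * w)⁻¹ * y⁻¹ = x * (w * y) * w⁻¹ * x⁻¹ * y⁻¹ := by group
    _ = x * (y * w) * w⁻¹ * x⁻¹ * y⁻¹ := by rw [h1]
    _ = x * y * x⁻¹ * y⁻¹ := by group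

omit [Fintype F] in
lemma comm_mul_central_right {x y w : Γ} (h1 : w * x = x * w) :
    x * (y * w) * x⁻¹ * (y * w)⁻¹ = x * y * x⁻¹ * y⁻¹ := by
  have h2 : w * x⁻¹ = x⁻¹ * w := by
    calc w * x⁻¹ = x⁻¹ * (x * w) * x⁻¹ := by group
      _ = x⁻¹ * (w * x) * x⁻¹ := by rw [h1]
      _ = x⁻¹ * w := by group
  calc x * (y * w) * x⁻¹ * (y * w)⁻¹ = x * y * (w * x⁻¹) * w⁻¹ * y⁻¹ := by group
    _ = x * y * (x⁻¹ * w) * w⁻¹ * y⁻¹ := by rw [h2]
    _ = x * y * x⁻¹ * y⁻¹ := by group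

lemma comm_mul_right' {x y y' c c' : Γ} (hc : x * y * x⁻¹ * y⁻¹ = c)
    (hc' : x * y' * x⁻¹ * y'⁻¹ = c') (hx : x * c' = c' * x) (hy : y * c' = c' * y) :
    x * (y * y') * x⁻¹ * (y * y')⁻¹ = c * c' := by
  subst hc
  have hxi : x⁻¹ * c' = c' * x⁻¹ := by
    calc x⁻¹ * c' = x⁻¹ * (c' * x) * x⁻¹ := by group
      _ = x⁻¹ * (x * c') * x⁻¹ := by rw [hx]
      _ = c' * x⁻¹ := by group
  have hyi : y⁻¹ * c' = c' * y⁻¹ := by
    calc y⁻¹ * c' = y⁻¹ * (c' * y) * y⁻¹ := by group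
      _ = y⁻¹ * (y * c') * y⁻¹ := by rw [hy]
      _ = c' * y⁻¹ := by group
  have h1 : (x * y * x⁻¹) * c' = c' * (x * y * x⁻¹) := by
    calc x * y * x⁻¹ * c' = x * y * (x⁻¹ * c') := by group
      _ = x * y * (c' * x⁻¹) := by rw [hxi]
      _ = x * (y * c') * x⁻¹ := by group
      _ = x * (c' * y) * x⁻¹ := by rw [hy]
      _ = (x * c') * y * x⁻¹ := by group
      _ = (c' * x) * y * x⁻¹ := by rw [hx]
      _ = c' * (x * y * x⁻¹) := by group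
  have h2 : (x * y * x⁻¹ * y⁻¹) * c' = c' * (x * y * x⁻¹ * y⁻¹) := by
    calc x * y * x⁻¹ * y⁻¹ * c' = (x * y * x⁻¹) * (y⁻¹ * c') := by group
      _ = (x * y * x⁻¹) * (c' * y⁻¹) := by rw [hyi]
      _ = ((x * y * x⁻¹) * c') * y⁻¹ := by group
      _ = (c' * (x * y * x⁻¹)) * y⁻¹ := by rw [h1]
      _ = c' * (x * y * x⁻¹ * y⁻¹) := by group
  subst hc'
  calc x * (y * y') * x⁻¹ * (y * y')⁻¹ = (x * y * x⁻¹) * (x * y' * x⁻¹ * y'⁻¹) * y⁻¹ := by group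
    _ = (x * y' * x⁻¹ * y'⁻¹) * (x * y * x⁻¹) * y⁻¹ := by rw [h1]
    _ = (x * y' * x⁻¹ * y'⁻¹) * (x * y * x⁻¹ * y⁻¹) := by group
    _ = x * y * x⁻¹ * y⁻¹ * (x * y' * x⁻¹ * y'⁻¹) := h2.symm

lemma kS_pow (k : Fˣ) (j : ℕ) : kS (m := m) hF (k ^ j) = kS hF k ^ j := by
  induction j with
  | zero => rw [pow_zero, pow_zero, kS_one]
  | succ j ih => rw [pow_succ, pow_succ, kS_mul, ih]

namespace Cover

variable {ψ : Γ →* Sz F m} {z : Γ} (C : Cover ψ z) (hm : 1 ≤ m)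
include C hm

lemma comm_lift {x x' : Γ} {a b a' b' : F} (hx : ψ x = tS hF a b) (hx' : ψ x' = tS hF a' b') :
    ψ (x * x' * x⁻¹ * x'⁻¹)
      = tS hF 0 (a ^ (2 ^ (m + 1)) * a' + a' ^ (2 ^ (m + 1)) * a) := by
  rw [map_mul, map_mul, map_mul, map_inv, map_inv, hx, hx', ← tS_comm hF hm a b a' b']
  group

/-- the commutator of chosen lifts of translations -/
noncomputable def kap (a a' : F) : Γ :=
  C.sec hF a 0 * C.sec hF a' 0 * (C.sec hF a 0)⁻¹ * (C.sec hF a' 0)⁻¹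

omit hm in
lemma kap_def (a a' : F) : C.kap hF a a'
    = C.sec hF a 0 * C.sec hF a' 0 * (C.sec hF a 0)⁻¹ * (C.sec hF a' 0)⁻¹ := rfl

lemma psi_kap (a a' : F) : ψ (C.kap hF a a')
    = tS hF 0 (a ^ (2 ^ (m + 1)) * a' + a' ^ (2 ^ (m + 1)) * a) :=
  C.comm_lift hF hm (C.psi_sec hF a 0) (C.psi_sec hF a' 0)

variable (hm2 : 2 ≤ m)
include hm2

lemma kap_eq {x x' : Γ} {a b a' b' : F} (hx : ψ x = tS hF a b) (hx' : ψ x' = tS hF a' b') :
    x * x' * x⁻¹ * x'⁻¹ = C.kap hF a a' := by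
  set x₀ := C.sec hF a 0 with hx₀
  set x₀' := C.sec hF a' 0 with hx₀'
  have hψ₀ : ψ x₀ = tS hF a 0 := C.psi_sec hF a 0
  have hψ₀' : ψ x₀' = tS hF a' 0 := C.psi_sec hF a' 0
  set w := x₀⁻¹ * x with hw
  set w' := x₀'⁻¹ * x' with hw'
  have hψw : ψ w = tS hF 0 (0 + b) := by
    rw [hw, map_mul, map_inv, hψ₀, hx, C.inv_mul_lift hF hm]
  have hψw' : ψ w' = tS hF 0 (0 + b') := by
    rw [hw', map_mul, map_inv, hψ₀', hx', C.inv_mul_lift hF hm]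
  have e1 : x = x₀ * w := by rw [hw]; group
  have e2 : x' = x₀' * w' := by rw [hw']; group
  have hψx₀w' : ψ (x₀' * w') = tS hF a' b' := by rw [← e2]; exact hx'
  rw [e1, e2, comm_mul_central_left ((C.ztil_central hF hm hm2 hψx₀w' hψw).symm),
    comm_mul_central_right ((C.ztil_central hF hm hm2 hψ₀ hψw').symm)]
  rfl

lemma kap_comm {x : Γ} {a b : F} (hx : ψ x = tS hF a b) (a₁ a₂ : F) :
    x * C.kap hF a₁ a₂ = C.kap hF a₁ a₂ * x :=
  C.ztil_central hF hm hm2 hx (C.psi_kap hF hm a₁ a₂)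

lemma kap_add_left (a a₁ a' : F) :
    C.kap hF (a + a₁) a' = C.kap hF a a' * C.kap hF a₁ a' := by
  have hψ : ψ (C.sec hF a₁ 0 * C.sec hF a 0)
      = tS hF (a + a₁) (0 + 0 + a₁ ^ (2 ^ (m + 1)) * a) := by
    rw [map_mul, C.psi_sec, C.psi_sec, tS_mul hF hm]
  rw [← C.kap_eq hF hm hm2 hψ (C.psi_sec hF a' 0)]
  exact comm_mul_left rfl rfl (C.kap_comm hF hm hm2 (C.psi_sec hF a₁ 0) a a')

lemma kap_add_right (a a' a₁' : F) :
    C.kap hF a (a' + a₁') = C.kap hF a a' * C.kap hF a a₁' := by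
  have hψ : ψ (C.sec hF a' 0 * C.sec hF a₁' 0)
      = tS hF (a₁' + a') (0 + 0 + a' ^ (2 ^ (m + 1)) * a₁') := by
    rw [map_mul, C.psi_sec, C.psi_sec, tS_mul hF hm]
  rw [add_comm a' a₁', ← C.kap_eq hF hm hm2 (C.psi_sec hF a 0) hψ]
  exact comm_mul_right' rfl rfl (C.kap_comm hF hm hm2 (C.psi_sec hF a 0) a a₁')
    (C.kap_comm hF hm hm2 (C.psi_sec hF a' 0) a a₁')

lemma kap_conj {h : Γ} {k : Fˣ} (hh : ψ h = kS hF k) (a a' : F) :
    C.kap hF ((k : F) * a) ((k : F) * a') = h * C.kap hF a a' * h⁻¹ := by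
  have h1 := C.conj_lift hm hh (C.psi_sec hF a 0)
  have h2 := C.conj_lift hm hh (C.psi_sec hF a' 0)
  rw [← C.kap_eq hF hm hm2 h1 h2, C.kap_def]
  group

end Cover

end Cfsg.Agent.Lib.Helper3.SzMult
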