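import Mathlib
import Cfsg.Agent.Lib.Helper3.SzMult4

set_option autoImplicit false
set_option linter.unusedSectionVars false
set_option linter.unusedVariables false
set_option linter.style.haveILetI false

/-! Step C, continued: the norm map and the final contradiction. -/

namespace Cfsg.Agent.Lib.Helper3.SzMult

open Cfsg Cfsg.Agent.Lib.Helper3.Sz

variable {F : Type*} [Field F] [Fintype F] {m : ℕ} (hF : Fintype.card F = 2 ^ (2 * m + 1))
variable {Γ : Type*} [Group Γ]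

namespace Cover

variable {ψ : Γ →* Sz F m} {z : Γ} (C : Cover ψ z) (hm : 1 ≤ m)
include C hm

lemma psi_pow {h : Γ} {k : Fˣ} (hh : ψ h = kS hF k) (j : ℕ) : ψ (h ^ j) = kS hF (k ^ j) := by
  rw [map_pow, hh, kS_pow]

lemma Nf_lift {h : Γ} {k : Fˣ} (hh : ψ h = kS hF k) {w : Γ} {d : F} (hw : ψ w = tS hF 0 d)
    (j : ℕ) : ψ (Nf h j w)
      = tS hF 0 ((∑ i ∈ Finset.range j, ((k : F) ^ (2 ^ (m + 1) + 1)) ^ i) * d) := by
  induction j with
  | zero =>
    rw [Nf_zero, map_one, Finset.range_zero, Finset.sum_empty, zero_mul, tS_zero_zero hF hm]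
  | succ j ih =>
    rw [Nf_succ, map_mul, ih, C.conj_lift hm (C.psi_pow hF hm hh j) hw, mul_zero,
      C.tS_zero_mul hm, Finset.sum_range_succ, Units.val_pow_eq_pow_val]
    congr 1
    rw [add_mul, ← pow_mul, ← pow_mul, mul_comm j]

lemma Nf_mul {h : Γ} {k : Fˣ} (hh : ψ h = kS hF k) {w w' : Γ} {d d' : F}
    (hw : ψ w = tS hF 0 d) (hw' : ψ w' = tS hF 0 d') (j : ℕ) :
    Nf h j (w * w') = Nf h j w * Nf h j w' := by
  induction j with
  | zero => rw [Nf_zero, Nf_zero, Nf_zero, mul_one]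
  | succ j ih =>
    rw [Nf_succ, Nf_succ, Nf_succ, ih]
    have h1 := C.conj_lift hm (C.psi_pow hF hm hh j) hw
    rw [mul_zero] at h1
    have h2 := C.Nf_lift hF hm hh hw' j
    have h3 := C.ztil_comm hm h2 h1
    calc Nf h j w * Nf h j w' * (h ^ j * (w * w') * (h ^ j)⁻¹)
        = Nf h j w * (Nf h j w' * (h ^ j * w * (h ^ j)⁻¹)) * (h ^ j * w' * (h ^ j)⁻¹) := by group
      _ = Nf h j w * ((h ^ j * w * (h ^ j)⁻¹) * Nf h j w') * (h ^ j * w' * (h ^ j)⁻¹) := by rw [h3]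
      _ = Nf h j w * (h ^ j * w * (h ^ j)⁻¹) * (Nf h j w' * (h ^ j * w' * (h ^ j)⁻¹)) := by group

lemma Nf_conj {h : Γ} {k : Fˣ} (hh : ψ h = kS hF k) {n : ℕ} (hkn : k ^ n = 1) {w : Γ} {d : F}
    (hw : ψ w = tS hF 0 d) : Nf h n (h * w * h⁻¹) = Nf h n w := by
  have h1 : Nf h (n + 1) w = w * Nf h n (h * w * h⁻¹) := Nf_succ' h n w
  have h2 : Nf h (n + 1) w = Nf h n w * (h ^ n * w * (h ^ n)⁻¹) := Nf_succ h w n
  have h3 : ψ (h ^ n) = 1 := by rw [C.psi_pow hF hm hh, hkn, kS_one]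
  have h4 : h ^ n * w * (h ^ n)⁻¹ = w := by
    rw [← C.ker_central h3 w, mul_assoc, mul_inv_cancel, mul_one]
  rw [h4] at h2
  have h5 := C.ztil_comm hm (C.Nf_lift hF hm hh hw n) hw
  rw [h5] at h2
  exact mul_left_cancel (h1.symm.trans h2)

lemma Nf_conj_pow {h : Γ} {k : Fˣ} (hh : ψ h = kS hF k) {n : ℕ} (hkn : k ^ n = 1) (j : ℕ) :
    ∀ {w : Γ} {d : F}, ψ w = tS hF 0 d → Nf h n (h ^ j * w * (h ^ j)⁻¹) = Nf h n w := by
  induction j with
  | zero =>
    intro w d hw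
    rw [pow_zero, one_mul, inv_one, mul_one]
  | succ j ih =>
    intro w d hw
    have h1 := C.conj_lift hm (C.psi_pow hF hm hh j) hw
    rw [mul_zero] at h1
    have h2 := C.Nf_conj hF hm hh hkn h1
    rw [← ih hw, ← h2, pow_succ']
    congr 1
    group

lemma Nf_ker {h : Γ} {k : Fˣ} (hh : ψ h = kS hF k) {n : ℕ} (hkn : k ^ n = 1) (hk1 : k ≠ 1)
    {w : Γ} {d : F} (hw : ψ w = tS hF 0 d) : ψ (Nf h n w) = 1 := by
  rw [C.Nf_lift hF hm hh hw n]
  set g : F := (k : F) ^ (2 ^ (m + 1) + 1) with hg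
  have hg1 : g ≠ 1 := by
    intro h1
    apply hk1
    have := eq_one_of_pow_sig_succ hF h1
    exact Units.ext this
  have hgn : g ^ n = 1 := by
    rw [hg, ← pow_mul, mul_comm, pow_mul, ← Units.val_pow_eq_pow_val, hkn, Units.val_one, one_pow]
  have h1 := geom_sum_mul g n
  rw [hgn, sub_self] at h1
  have h2 : (∑ i ∈ Finset.range n, g ^ i) = 0 := by
    rcases mul_eq_zero.1 h1 with h | h
    · exact h
    · exact absurd (sub_eq_zero.1 h) hg1
  rw [h2, zero_mul, tS_zero_zero hF hm]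

variable (hm2 : 2 ≤ m)
include hm2

/-- the projected commutator form -/
noncomputable def Cform {h : Γ} {k : Fˣ} (hh : ψ h = kS hF k) {n : ℕ} (hkn : k ^ n = 1)
    (hk1 : k ≠ 1) : F →+ F →+ F :=
  AddMonoidHom.mk' (fun a => AddMonoidHom.mk' (fun a' => (iota (Nf h n (C.kap hF a a')) : F))
    (fun a' a₁' => by
      rw [C.kap_add_right hF hm hm2, C.Nf_mul hF hm hh (C.psi_kap hF hm _ _) (C.psi_kap hF hm _ _),
        C.iota_mul hF (C.Nf_ker hF hm hh hkn hk1 (C.psi_kap hF hm _ _))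
          (C.Nf_ker hF hm hh hkn hk1 (C.psi_kap hF hm _ _))]))
    (fun a a₁ => by
      ext a'
      simp only [AddMonoidHom.mk'_apply, AddMonoidHom.add_apply]
      rw [C.kap_add_left hF hm hm2, C.Nf_mul hF hm hh (C.psi_kap hF hm _ _) (C.psi_kap hF hm _ _),
        C.iota_mul hF (C.Nf_ker hF hm hh hkn hk1 (C.psi_kap hF hm _ _))
          (C.Nf_ker hF hm hh hkn hk1 (C.psi_kap hF hm _ _))])

lemma Cform_apply {h : Γ} {k : Fˣ} (hh : ψ h = kS hF k) {n : ℕ} (hkn : k ^ n = 1)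
    (hk1 : k ≠ 1) (a a' : F) :
    C.Cform hF hm hm2 hh hkn hk1 a a' = (iota (Nf h n (C.kap hF a a')) : F) := rfl

/-- Step C: the central involution is not a product of commutators in the preimage of the
translation group -/
theorem z_not_mem_commutator :
    z ∉ ⁅(transGroup hF hm).comap ψ, (transGroup hF hm).comap ψ⁆ := by
  classical
  intro hz
  -- a generator of the torus
  obtain ⟨k, hk⟩ := IsCyclic.exists_generator (α := Fˣ)
  obtain ⟨h, hh⟩ := C.surj (kS hF k)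
  set n := orderOf k with hn
  have hkn : k ^ n = 1 := pow_orderOf_eq_one k
  have hcardU : Nat.card Fˣ = 2 ^ (2 * m + 1) - 1 := card_units hF
  have hn' : n = 2 ^ (2 * m + 1) - 1 := by
    rw [hn, orderOf_eq_card_of_forall_mem_zpowers hk, hcardU]
  have h4 : 4 ≤ 2 ^ (2 * m) := by
    calc 4 = 2 ^ 2 := by norm_num
      _ ≤ 2 ^ (2 * m) := Nat.pow_le_pow_right (by norm_num) (by omega)
  have hpow : 2 ^ (2 * m + 1) = 2 * 2 ^ (2 * m) := by rw [pow_succ]; ring
  have hk1 : k ≠ 1 := by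
    intro h1
    rw [h1, orderOf_one] at hn
    omega
  -- the form vanishes
  have hinv : ∀ u : F, u ≠ 0 → ∀ a a' : F,
      C.Cform hF hm hm2 hh hkn hk1 (u * a) (u ^ 1 * a') = C.Cform hF hm hm2 hh hkn hk1 a a' := by
    intro u hu a a'
    obtain ⟨j, hj⟩ : ∃ j : ℕ, k ^ j = Units.mk0 u hu := by
      have := hk (Units.mk0 u hu)
      obtain ⟨i, hi⟩ := (mem_powers_iff_mem_zpowers.2 this)
      exact ⟨i, hi⟩
    have h1 := C.kap_conj hF hm hm2 (C.psi_pow hF hm hh j) a a'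
    rw [hj, Units.val_mk0] at h1
    rw [pow_one, C.Cform_apply, C.Cform_apply, h1,
      C.Nf_conj_pow hF hm hh hkn j (C.psi_kap hF hm a a')]
  have hbound : 2 ^ (2 * m) + 1 + 1 < 2 ^ (2 * m + 1) := by omega
  have hzero := invariant_form_eq_zero hF (two_eq_zero hF) hbound
    (C.Cform hF hm hm2 hh hkn hk1) hinv
  have hkap : ∀ a a' : F, Nf h n (C.kap hF a a') = 1 := by
    intro a a'
    have := hzero a a'
    rw [C.Cform_apply, iota_eq_zero] at this
    exact this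
  -- every element of the commutator subgroup is killed by the norm
  have key : ∀ w ∈ ⁅(transGroup hF hm).comap ψ, (transGroup hF hm).comap ψ⁆,
      (∃ d : F, ψ w = tS hF 0 d) ∧ Nf h n w = 1 := by
    intro w hw
    rw [Subgroup.commutator_def] at hw
    induction hw using Subgroup.closure_induction with
    | mem g hg =>
      obtain ⟨g₁, hg₁, g₂, hg₂, rfl⟩ := hg
      rw [Subgroup.mem_comap, mem_transGroup] at hg₁ hg₂
      obtain ⟨a, b, hab⟩ := hg₁
      obtain ⟨a', b', hab'⟩ := hg₂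
      rw [commutatorElement_def]
      refine ⟨⟨_, C.comm_lift hF hm hab hab'⟩, ?_⟩
      rw [C.kap_eq hF hm hm2 hab hab']
      exact hkap a a'
    | one =>
      exact ⟨⟨0, by rw [map_one, tS_zero_zero hF hm]⟩, Nf_one h n⟩
    | mul x y _ _ hx hy =>
      obtain ⟨⟨d, hd⟩, hx1⟩ := hx
      obtain ⟨⟨d', hd'⟩, hy1⟩ := hy
      refine ⟨⟨d + d', by rw [map_mul, hd, hd', C.tS_zero_mul hm]⟩, ?_⟩
      rw [C.Nf_mul hF hm hh hd hd', hx1, hy1, mul_one]
    | inv x _ hx =>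
      obtain ⟨⟨d, hd⟩, hx1⟩ := hx
      have : x⁻¹ = x := inv_eq_of_mul_eq_one_left (C.sq_eq_one hm hd)
      rw [this]
      exact ⟨⟨d, hd⟩, hx1⟩
  have h5 := (key z hz).2
  rw [Nf_central C.central] at h5
  have hodd : n = 2 * (2 ^ (2 * m) - 1) + 1 := by omega
  rw [hodd, pow_succ, pow_mul, pow_two, C.z_sq, one_pow, one_mul] at h5
  exact C.z_ne h5

end Cover

end Cfsg.Agent.Lib.Helper3.SzMult
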