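import Mathlib
import Cfsg.Prelude.Def_KGroupFacts
import Cfsg.Agent.Lib.Helper3.SzMult5
import Cfsg.Agent.Lib.Helper12.SchurMore
import Cfsg.Agent.S0331

set_option autoImplicit false
set_option linter.unusedSectionVars false
set_option linter.unusedVariables false
set_option linter.style.haveILetI false

/-! The Schur multiplier of the Suzuki group `Sz(q)`, `q ≥ 32`, is trivial. -/

namespace Cfsg.Agent.Lib.Helper3.SzMult

open Cfsg Cfsg.Agent.Lib.Helper3.Sz

universe u v

/-- to show that all finite stem extensions of `G` are trivial it suffices to exclude kernels of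
prime order -/
theorem reduce_prime {G : Type v} [Group G]
    (hprime : ∀ (Γ : Type u) [Group Γ] [Finite Γ] (σ : Γ →* G), IsStemExtension σ →
      ¬ (Nat.card σ.ker).Prime) :
    ∀ (n : ℕ) (Γ : Type u) [Group Γ] [Finite Γ] (σ : Γ →* G), Nat.card Γ = n →
      IsStemExtension σ → σ.ker = ⊥ := by
  intro n
  induction n using Nat.strong_induction_on with
  | _ n ih =>
    intro Γ _ _ σ hn hσ
    by_contra hne
    obtain ⟨hsurj, hcen, hcomm⟩ := hσ
    have hcard1 : Nat.card σ.ker ≠ 1 := by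
      intro h1
      exact hne ((Subgroup.card_eq_one).1 h1)
    obtain ⟨p, hp, hpd⟩ := Nat.exists_prime_and_dvd hcard1
    haveI : Fact p.Prime := ⟨hp⟩
    obtain ⟨x, hx⟩ := exists_prime_orderOf_dvd_card' (G := σ.ker) p hpd
    set Z₀ : Subgroup Γ := Subgroup.zpowers (x : Γ) with hZ₀
    have hZ₀K : Z₀ ≤ σ.ker := by
      rw [hZ₀, Subgroup.zpowers_le]
      exact x.2
    haveI : Z₀.Normal := by
      constructor
      intro g hg y
      have := Subgroup.mem_center_iff.1 (hcen (hZ₀K hg)) y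
      rw [this, mul_assoc, mul_inv_cancel, mul_one]
      exact hg
    have hcardZ₀ : Nat.card Z₀ = p := by
      rw [hZ₀, Nat.card_zpowers, Subgroup.orderOf_coe, hx]
    set σ' : Γ ⧸ Z₀ →* G := QuotientGroup.lift Z₀ σ (fun y hy => (MonoidHom.mem_ker).1 (hZ₀K hy))
      with hσ'
    have hσ'mk : ∀ g : Γ, σ' (QuotientGroup.mk g) = σ g := fun g => rfl
    have hlt : Nat.card (Γ ⧸ Z₀) < n := by
      have h1 := Subgroup.card_eq_card_quotient_mul_card_subgroup Z₀
      rw [hcardZ₀, hn] at h1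
      have h2 : 0 < Nat.card (Γ ⧸ Z₀) := Nat.card_pos
      have h3 := hp.two_le
      nlinarith
    have hstem : IsStemExtension σ' := by
      refine ⟨?_, ?_, ?_⟩
      · intro g
        obtain ⟨y, hy⟩ := hsurj g
        exact ⟨QuotientGroup.mk y, by rw [hσ'mk, hy]⟩
      · intro y hy
        obtain ⟨g, rfl⟩ := QuotientGroup.mk_surjective y
        rw [MonoidHom.mem_ker, hσ'mk] at hy
        have hg : g ∈ Subgroup.center Γ := hcen ((MonoidHom.mem_ker).2 hy)
        rw [Subgroup.mem_center_iff]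
        intro w
        obtain ⟨w', rfl⟩ := QuotientGroup.mk_surjective w
        rw [← QuotientGroup.mk_mul, ← QuotientGroup.mk_mul, Subgroup.mem_center_iff.1 hg w']
      · intro y hy
        obtain ⟨g, rfl⟩ := QuotientGroup.mk_surjective y
        rw [MonoidHom.mem_ker, hσ'mk] at hy
        have hg : g ∈ commutator Γ := hcomm ((MonoidHom.mem_ker).2 hy)
        exact Cfsg.Agent.Lib.Helper12.Schur.map_commutator_le (QuotientGroup.mk' Z₀) ⟨g, hg, rfl⟩
    have hker' := ih _ hlt (Γ ⧸ Z₀) σ' rfl hstem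
    have hKZ₀ : σ.ker ≤ Z₀ := by
      intro g hg
      have h1 : (QuotientGroup.mk g : Γ ⧸ Z₀) ∈ σ'.ker := by
        rw [MonoidHom.mem_ker, hσ'mk]
        exact (MonoidHom.mem_ker).1 hg
      rw [hker', Subgroup.mem_bot, QuotientGroup.eq_one_iff] at h1
      exact h1
    have hKeq : σ.ker = Z₀ := le_antisymm hKZ₀ hZ₀K
    apply hprime Γ σ ⟨hsurj, hcen, hcomm⟩
    rw [hKeq, hcardZ₀]
    exact hp

variable {F : Type u} [Field F] [Fintype F] {m : ℕ} (hF : Fintype.card F = 2 ^ (2 * m + 1))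

include hF in
/-- no stem extension of `Sz F m` has a kernel of odd prime order -/
theorem no_odd_kernel (hm : 1 ≤ m) (Γ : Type u) [Group Γ] [Finite Γ] (ψ : Γ →* Sz F m)
    (hψ : IsStemExtension ψ) {p : ℕ} (hp : p.Prime) (hp2 : p ≠ 2) (hcard : Nat.card ψ.ker = p) :
    False := by
  obtain ⟨hsurj, hcen, hcomm⟩ := hψ
  haveI : Fact p.Prime := ⟨hp⟩
  have hPK : IsPGroup p ψ.ker := IsPGroup.of_card (n := 1) (by rw [hcard, pow_one])
  obtain ⟨R, hR⟩ := hPK.exists_le_sylow
  -- the image of `R` is cyclic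
  set f : (R : Subgroup Γ) →* Sz F m := ψ.comp (R : Subgroup Γ).subtype with hf
  have hrange : IsPGroup p f.range := by
    intro y
    obtain ⟨x, hxy⟩ := y.2
    obtain ⟨k, hk⟩ := R.2 x
    refine ⟨k, ?_⟩
    apply Subtype.ext
    show (y : Sz F m) ^ p ^ k = 1
    rw [← hxy, ← map_pow, hk, map_one]
  obtain ⟨Q, hQ⟩ := hrange.exists_le_sylow
  haveI : IsCyclic Q := Cfsg.Agent.S0331.result hm hF hp2 Q
  haveI : IsCyclic (Q : Subgroup (Sz F m)) := ‹IsCyclic Q›
  -- restrict the codomain
  set f' : (R : Subgroup Γ) →* (Q : Subgroup (Sz F m)) :=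
    f.codRestrict (Q : Subgroup (Sz F m)) (fun x => hQ ⟨x, rfl⟩) with hf'
  have hker : f'.ker ≤ Subgroup.center (R : Subgroup Γ) := by
    intro x hx
    rw [MonoidHom.mem_ker] at hx
    have h1 : ψ (x : Γ) = 1 := by
      have := congrArg Subtype.val hx
      exact this
    have h2 : (x : Γ) ∈ Subgroup.center Γ := hcen ((MonoidHom.mem_ker).2 h1)
    rw [Subgroup.mem_center_iff]
    intro y
    apply Subtype.ext
    exact Subgroup.mem_center_iff.1 h2 (y : Γ)
  have hRcomm := f'.isMulCommutative_of_isCyclic_of_ker_le_center hker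
  have hcommR : commutator (R : Subgroup Γ) = ⊥ := by
    rw [commutator_eq_bot_iff_center_eq_top]  
    rw [eq_top_iff]
    intro x _
    rw [Subgroup.mem_center_iff]
    intro y
    exact hRcomm.is_comm.comm y x
  -- a generator of the kernel
  obtain ⟨x, hx⟩ := exists_prime_orderOf_dvd_card' (G := ψ.ker) p (by rw [hcard])
  have hxc : (x : Γ) ∈ Subgroup.center Γ := hcen x.2
  have hxd : (x : Γ) ∈ commutator Γ := hcomm x.2
  obtain ⟨h1, h2⟩ := Cfsg.Agent.Lib.Helper12.Schur.pow_index_mem_commutator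
    (R : Subgroup Γ) hxc hxd
  rw [hcommR, Subgroup.mem_bot] at h2
  have h3 : (x : Γ) ^ (R : Subgroup Γ).index = 1 := congrArg Subtype.val h2
  have h4 : orderOf (x : Γ) ∣ (R : Subgroup Γ).index := orderOf_dvd_of_pow_eq_one h3
  rw [Subgroup.orderOf_coe, hx] at h4
  exact R.not_dvd_index h4

include hF in
/-- no stem extension of `Sz F m`, `m ≥ 2`, has a kernel of order two -/
theorem no_two_kernel (hm2 : 2 ≤ m) (Γ : Type u) [Group Γ] [Finite Γ] (ψ : Γ →* Sz F m)
    (hψ : IsStemExtension ψ) (hcard : Nat.card ψ.ker = 2) : False := by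
  have hm : 1 ≤ m := by omega
  obtain ⟨hsurj, hcen, hcomm⟩ := hψ
  haveI : Fact (Nat.Prime 2) := ⟨Nat.prime_two⟩
  obtain ⟨x, hx⟩ := exists_prime_orderOf_dvd_card' (G := ψ.ker) 2 (by rw [hcard])
  set z : Γ := (x : Γ) with hz
  have hzord : orderOf z = 2 := by rw [hz, Subgroup.orderOf_coe, hx]
  have hz1 : z ≠ 1 := by
    intro h1
    rw [h1, orderOf_one] at hzord
    omega
  have hzsq : z * z = 1 := by
    rw [← pow_two, ← hzord]
    exact pow_orderOf_eq_one z
  have hzker : ψ z = 1 := (MonoidHom.mem_ker).1 x.2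
  have hkerall : ∀ y : Γ, ψ y = 1 ↔ y = 1 ∨ y = z := by
    intro y
    constructor
    · intro hy
      by_contra hne
      push Not at hne
      -- three distinct elements in a group of order two
      have h3 : 3 ≤ Nat.card ψ.ker := by
        classical
        haveI : Fintype ψ.ker := Fintype.ofFinite _
        rw [Nat.card_eq_fintype_card]
        let s : Finset ψ.ker := {⟨1, one_mem _⟩, ⟨z, x.2⟩, ⟨y, (MonoidHom.mem_ker).2 hy⟩}
        have hs : s.card = 3 := by
          rw [Finset.card_eq_three]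
          refine ⟨_, _, _, ?_, ?_, ?_, rfl⟩
          · intro h; exact hz1 (congrArg Subtype.val h).symm
          · intro h; exact hne.1 (congrArg Subtype.val h).symm
          · intro h; exact hne.2 (congrArg Subtype.val h).symm
        calc 3 = s.card := hs.symm
          _ ≤ Fintype.card ψ.ker := Finset.card_le_univ s
      omega
    · rintro (rfl | rfl)
      · exact map_one ψ
      · exact hzker
  have hzc : ∀ y : Γ, y * z = z * y := fun y => (Subgroup.mem_center_iff.1 (hcen x.2) y)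
  have C : Cover ψ z := ⟨hsurj, hz1, hzsq, hkerall, hzc⟩
  -- transfer into the preimage of the translation group
  set P : Subgroup Γ := (transGroup hF hm).comap ψ with hP
  have hidx : P.index = (transGroup hF hm).index := Subgroup.index_comap_of_surjective _ hsurj
  haveI : Finite (Sz F m) := finite_Sz
  have hidx2 : (transGroup hF hm).index = ((2 ^ (2 * m + 1)) ^ 2 + 1) * (2 ^ (2 * m + 1) - 1) := by
    have h1 := Subgroup.card_mul_index (transGroup hF hm)
    rw [card_transGroup hF hm, card_Sz hF hm, mul_assoc] at h1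
    exact Nat.eq_of_mul_eq_mul_left (by positivity) h1
  have hodd : Odd P.index := by
    rw [hidx, hidx2]
    have h1 : 2 ^ (2 * m + 1) = 2 * 2 ^ (2 * m) := by rw [pow_succ]; ring
    have h2 : 1 ≤ 2 ^ (2 * m) := Nat.one_le_two_pow
    apply Odd.mul
    · refine ⟨2 * 2 ^ (2 * m) * 2 ^ (2 * m), ?_⟩
      rw [h1]; ring
    · exact ⟨2 ^ (2 * m) - 1, by omega⟩
  obtain ⟨t, ht⟩ := hodd
  haveI : P.FiniteIndex := ⟨by rw [ht]; omega⟩
  obtain ⟨h1, h2⟩ := Cfsg.Agent.Lib.Helper12.Schur.pow_index_mem_commutator P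
    (hcen x.2) (hcomm x.2)
  have hzpow : z ^ P.index = z := by
    rw [ht, pow_succ, pow_mul, pow_two, hzsq, one_pow, one_mul]
  have h3 : z ∈ ⁅P, P⁆ := by
    rw [← Subgroup.map_subtype_commutator]
    refine ⟨⟨z ^ P.index, h1⟩, h2, ?_⟩
    exact hzpow
  exact C.z_not_mem_commutator hF hm hm2 h3

end Cfsg.Agent.Lib.Helper3.SzMult
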