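import Mathlib
import Cfsg.Agent.Lib.Helper3.SzMult6
import Cfsg.Agent.Lib.Helper3.SzBridge

/-!
# S2112 piece [O]: no odd prime kernel for stem extensions of `Sz(8)`

helper3's `SzMult.no_odd_kernel` with `m = 1`, transported through `SzBridge.lieSzEquiv`.
-/

set_option autoImplicit false

universe u

namespace Cfsg.Agent.Lib.Helper7.Sz8

/-- [O] no odd prime is the order of the kernel of a stem extension of `Sz(8)` -/
theorem no_odd {F : Type u} [Field F] [Fintype F] (hF : Fintype.card F = 8)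
    (Γ : Type u) [Group Γ] [Finite Γ] (σ : Γ →* ↥(Cfsg.Lie.Sz F 4)) (hσ : Cfsg.IsStemExtension σ)
    (p : ℕ) (hp : p.Prime) (hp2 : p ≠ 2) : Nat.card σ.ker ≠ p := by
  intro hcard
  have hF' : Fintype.card F = 2 ^ (2 * 1 + 1) := by rw [hF]; norm_num
  let e : ↥(Cfsg.Lie.Sz F (2 ^ (1 + 1))) ≃* Cfsg.Sz F 1 :=
    Cfsg.Agent.Lib.Helper3.SzBridge.lieSzEquiv hF' le_rfl
  obtain ⟨hsurj, hcen, hcomm⟩ := hσ
  let ψ : Γ →* Cfsg.Sz F 1 := e.toMonoidHom.comp σ
  have hker : ψ.ker = σ.ker := by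
    ext x
    rw [MonoidHom.mem_ker, MonoidHom.mem_ker]
    exact e.map_eq_one_iff
  have hstem : Cfsg.IsStemExtension ψ := by
    refine ⟨e.surjective.comp hsurj, ?_, ?_⟩
    · rw [hker]; exact hcen
    · rw [hker]; exact hcomm
  exact Cfsg.Agent.Lib.Helper3.SzMult.no_odd_kernel hF' le_rfl Γ ψ hstem hp hp2
    (by rw [hker]; exact hcard)

end Cfsg.Agent.Lib.Helper7.Sz8
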