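import Mathlib
import Cfsg.Agent.Lib.Helper3.Suzuki13

set_option autoImplicit false

namespace Cfsg.Agent.Lib.Helper3.Sz

open Matrix Cfsg
open scoped Pointwise

variable {F : Type*} [Field F] [Fintype F] {m : ℕ} (hF : Fintype.card F = 2 ^ (2 * m + 1))
  (hm : 1 ≤ m)

/-- the point at infinity as a point of the ovoid -/
def ptInf (F : Type*) [Field F] (m : ℕ) : ↥(suzukiOvoid F m) := ⟨suzukiPointInfinity F, inf_mem⟩

omit [Fintype F] in
lemma stabilizer_ptInf : MulAction.stabilizer (Sz F m) (ptInf F m) = stabInf F m := by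
  ext g
  rw [MulAction.mem_stabilizer_iff, mem_stabInf_iff]
  constructor
  · intro h
    exact congrArg Subtype.val h
  · intro h
    exact Subtype.ext h

include hF in
lemma exists_param_of_ne (x : ↥(suzukiOvoid F m)) (hx : x ≠ ptInf F m) :
    ∃ a b : F, x.1 = Cfsg.Agent.S0326.param m (some (a, b)) := by
  have : (x : Projectivization F (Fin 4 → F)) ∈ Set.range (Cfsg.Agent.S0326.param (F := F) m) := by
    rw [Cfsg.Agent.S0326.range_param]; exact x.2
  obtain ⟨c, hc⟩ := this
  rcases c with _ | ⟨a, b⟩
  · exfalso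
    apply hx
    apply Subtype.ext
    rw [← hc]
    rfl
  · exact ⟨a, b, hc.symm⟩

include hm in
/-- the translation group is regular on the points other than the point at infinity -/
theorem regular_transGroup (x y : ↥(suzukiOvoid F m)) (hx : x ≠ ptInf F m) (hy : y ≠ ptInf F m) :
    ∃! s : transGroup hF hm, (s : Sz F m) • x = y := by
  obtain ⟨a, b, hab⟩ := exists_param_of_ne hF x hx
  obtain ⟨a', b', hab'⟩ := exists_param_of_ne hF y hy
  have hsm : ∀ (c d : F) (z : ↥(suzukiOvoid F m)), ((tS hF c d) • z).1 = transS m c d • z.1 :=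
    fun c d z => rfl
  refine ⟨⟨tS hF a' b' * (tS hF a b)⁻¹, mul_mem (tS_mem hF hm _ _) (inv_mem (tS_mem hF hm _ _))⟩,
    ?_, ?_⟩
  · apply Subtype.ext
    show (transS m a' b' * (transS m a b)⁻¹) • x.1 = y.1
    rw [mul_smul, hab, hab', ← transS_zero hF a b, inv_smul_smul, transS_zero hF]
  · rintro ⟨s, hs⟩ hsx
    apply Subtype.ext
    show s = tS hF a' b' * (tS hF a b)⁻¹
    obtain ⟨⟨c, d⟩, rfl⟩ := hs
    simp only at hsx ⊢
    -- `tS c d * tS a b` and `tS a' b'` agree at the zero point
    have h1 : (tS hF a' b')⁻¹ * tS hF c d * tS hF a b = 1 := by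
      have hprod : ∃ c' d' : F, (tS hF a' b')⁻¹ * tS hF c d * tS hF a b = tS hF c' d' := by
        rw [tS_inv hF hm, tS_mul hF hm, tS_mul hF hm]
        exact ⟨_, _, rfl⟩
      obtain ⟨c', d', hcd⟩ := hprod
      rw [hcd]
      by_contra hne
      have hne' : (c', d') ≠ (0, 0) := by
        intro h
        apply hne
        rw [Prod.mk.injEq] at h
        rw [h.1, h.2, tS_zero_zero hF hm]
      have hfix : transS m c' d' • Cfsg.Agent.S0326.param m (some ((0 : F), (0 : F)))
          = Cfsg.Agent.S0326.param m (some ((0 : F), (0 : F))) := by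
        have e1 : transS m c' d' = (transS m a' b')⁻¹ * transS m c d * transS m a b := by
          have := congrArg Subtype.val hcd
          exact this.symm
        have hsx' : transS m c d • x.1 = y.1 := congrArg Subtype.val hsx
        rw [e1, mul_smul, mul_smul, ← zero_eq, transS_zero hF, ← hab, hsx', hab',
          ← transS_zero hF a' b', inv_smul_smul]
      have := transS_fix hF hne' _ hfix
      exact absurd this (by simp)
    calc tS hF c d = tS hF a' b' * ((tS hF a' b')⁻¹ * tS hF c d * tS hF a b) * (tS hF a b)⁻¹ := by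
          group
      _ = _ := by rw [h1, mul_one]

end Cfsg.Agent.Lib.Helper3.Sz
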