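import Mathlib
import Cfsg.Agent.Lib.Helper3.SzOvoid
import Cfsg.Agent.Lib.Helper3.QuotAction

set_option autoImplicit false

namespace Cfsg.Agent.Lib.Helper3.Sz

open Matrix Cfsg
open scoped Pointwise

variable {F : Type*} [Field F] [Fintype F] {m : ℕ} (hF : Fintype.card F = 2 ^ (2 * m + 1))
  (hm : 1 ≤ m)

include hF hm in
/-- order, Sylow normaliser and doubly transitive coset action, for any group isomorphic to
the Suzuki group -/
theorem structure_of_equiv {G : Type*} [Group G] (e : G ≃* Sz F m) :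
    Nat.card G = (2 ^ (2 * m + 1)) ^ 2 * (2 ^ (2 * m + 1) - 1) * ((2 ^ (2 * m + 1)) ^ 2 + 1) ∧
    ∃ S : Sylow 2 G,
      Nat.card (Subgroup.normalizer ((S : Subgroup G) : Set G))
        = (2 ^ (2 * m + 1)) ^ 2 * (2 ^ (2 * m + 1) - 1) ∧
      (Subgroup.normalizer ((S : Subgroup G) : Set G)).index = (2 ^ (2 * m + 1)) ^ 2 + 1 ∧
      MulAction.IsMultiplyPretransitive G (G ⧸ Subgroup.normalizer ((S : Subgroup G) : Set G)) 2 ∧
      ∀ x y : G ⧸ Subgroup.normalizer ((S : Subgroup G) : Set G),
        x ≠ (QuotientGroup.mk 1) → y ≠ (QuotientGroup.mk 1) →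
          ∃! s : ↥(S : Subgroup G), (s : G) • x = y := by
  haveI : Finite (Sz F m) := finite_Sz
  haveI : Finite G := Finite.of_equiv _ e.symm.toEquiv
  have hcard : Nat.card G = Nat.card (Sz F m) := Nat.card_congr e.toEquiv
  have hcardG : Nat.card G
      = (2 ^ (2 * m + 1)) ^ 2 * (2 ^ (2 * m + 1) - 1) * ((2 ^ (2 * m + 1)) ^ 2 + 1) := by
    rw [hcard, card_Sz hF hm]; ring
  refine ⟨hcardG, ?_⟩
  letI act : MulAction G ↥(suzukiOvoid F m) := MulAction.compHom _ e.toMonoidHom
  have hsmul : ∀ (g : G) (x : ↥(suzukiOvoid F m)), g • x = e g • x := fun g x => rfl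
  let Q' : Subgroup G := (transGroup hF hm).map e.symm.toMonoidHom
  have memQ' : ∀ g, g ∈ Q' ↔ e g ∈ transGroup hF hm := by
    intro g
    show g ∈ (transGroup hF hm).map e.symm.toMonoidHom ↔ _
    rw [Subgroup.mem_map_equiv]
    simp
  have hcardQ : Nat.card Q' = (2 ^ (2 * m + 1)) ^ 2 := by
    rw [← card_transGroup hF hm]
    exact (Nat.card_congr
      ((transGroup hF hm).equivMapOfInjective _ e.symm.injective).toEquiv).symm
  have hfac : Nat.card Q' = 2 ^ (Nat.card G).factorization 2 := by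
    rw [hcardQ, hcard, factorization_card_Sz hF hm, ← pow_mul, mul_comm]
  haveI : Fact (Nat.Prime 2) := ⟨Nat.prime_two⟩
  let S : Sylow 2 G := Sylow.ofCard Q' hfac
  have hS : (S : Subgroup G) = Q' := rfl
  have hN : Subgroup.normalizer ((S : Subgroup G) : Set G)
      = MulAction.stabilizer G (ptInf F m) := by
    rw [hS]
    ext g
    rw [MulAction.mem_stabilizer_iff, hsmul, ← MulAction.mem_stabilizer_iff, stabilizer_ptInf,
      ← normalizer_transGroup hF hm, Subgroup.mem_normalizer_iff, Subgroup.mem_normalizer_iff]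
    constructor
    · intro h t
      have := h (e.symm t)
      simpa [memQ'] using this
    · intro h t
      have := h (e t)
      simpa [memQ'] using this
  have hcardN : Nat.card (Subgroup.normalizer ((S : Subgroup G) : Set G))
      = (2 ^ (2 * m + 1)) ^ 2 * (2 ^ (2 * m + 1) - 1) := by
    rw [hN, ← card_stab_inf hF hm]
    apply Nat.card_congr
    refine e.toEquiv.subtypeEquiv ?_
    intro g
    rw [MulAction.mem_stabilizer_iff, hsmul, ← MulAction.mem_stabilizer_iff, stabilizer_ptInf]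
    rfl
  refine ⟨S, hcardN, ?_, ?_⟩
  · have h1 := Subgroup.card_mul_index (Subgroup.normalizer ((S : Subgroup G) : Set G))
    rw [hcardN, hcardG] at h1
    have hpos : 0 < (2 ^ (2 * m + 1)) ^ 2 * (2 ^ (2 * m + 1) - 1) := by
      apply Nat.mul_pos (by positivity)
      have : 2 ≤ 2 ^ (2 * m + 1) := by
        calc 2 = 2 ^ 1 := by norm_num
          _ ≤ 2 ^ (2 * m + 1) := Nat.pow_le_pow_right (by norm_num) (by omega)
      omega
    exact Nat.eq_of_mul_eq_mul_left hpos h1
  · have h2 : MulAction.IsMultiplyPretransitive G ↥(suzukiOvoid F m) 2 := by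
      have hz := (zassenhaus hF hm).2.1
      rw [MulAction.is_two_pretransitive_iff] at hz ⊢
      intro a b c d hab hcd
      obtain ⟨h, h1, h2⟩ := hz hab hcd
      refine ⟨e.symm h, ?_, ?_⟩
      · rw [hsmul, MulEquiv.apply_symm_apply, h1]
      · rw [hsmul, MulEquiv.apply_symm_apply, h2]
    apply QuotAction.quot_of_regular (ptInf F m) h2 (S : Subgroup G) _ hN
    intro x y hx hy
    obtain ⟨t, ht, hu⟩ := regular_transGroup hF hm x y hx hy
    have hmem : e.symm (t : Sz F m) ∈ (S : Subgroup G) := by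
      rw [hS, memQ', MulEquiv.apply_symm_apply]
      exact t.2
    refine ⟨⟨e.symm (t : Sz F m), hmem⟩, ?_, ?_⟩
    · show e.symm (t : Sz F m) • x = y
      rw [hsmul, MulEquiv.apply_symm_apply]
      exact ht
    · rintro ⟨s', hs'⟩ hsx
      have hs'' : e s' ∈ transGroup hF hm := (memQ' s').1 hs'
      have := hu ⟨e s', hs''⟩ hsx
      apply Subtype.ext
      show s' = e.symm (t : Sz F m)
      rw [← this]
      simp

end Cfsg.Agent.Lib.Helper3.Sz
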