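import Mathlib
import Cfsg.Agent.Lib.Helper3.SzSub9

set_option autoImplicit false

namespace Cfsg.Agent.Lib.Helper3.Sz

open Matrix Cfsg
open scoped Pointwise

variable {F : Type*} [Field F] [Fintype F] {m : ℕ} (hF : Fintype.card F = 2 ^ (2 * m + 1))
  (hm : 1 ≤ m)

/-- the automorphism of the Suzuki group induced by a field automorphism -/
noncomputable def fieldAut (τ : RingAut F) : MulAut (Sz F m) :=
  MulEquiv.ofBijective (szMap hF hF hm (dvd_refl _) (τ : F →+* F))
    (by
      haveI : Finite (Sz F m) := finite_Sz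
      exact Finite.injective_iff_bijective.1 (szMap_injective hF hF hm (dvd_refl _) _))

lemma fieldAut_tS (τ : RingAut F) (a b : F) :
    fieldAut hF hm τ (tS hF a b) = tS hF (τ a) (τ b) :=
  szMap_tS hF hF hm (dvd_refl _) _ a b

lemma fieldAut_kS (τ : RingAut F) (κ : Fˣ) :
    fieldAut hF hm τ (kS hF κ) = kS hF (Units.map (τ : F →+* F).toMonoidHom κ) :=
  szMap_kS hF hF hm (dvd_refl _) _ κ

lemma fieldAut_wS (τ : RingAut F) : fieldAut hF hm τ (wS hF) = wS hF :=
  szMap_wS hF hF hm (dvd_refl _) _

/-- a field automorphism which differs from another by an inner automorphism is equal to it -/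
lemma fieldAut_injective_mod_inner {τ τ' : RingAut F} {g : Sz F m}
    (h : ∀ x, fieldAut hF hm τ' x = fieldAut hF hm τ (g * x * g⁻¹)) : τ' = τ := by
  obtain ⟨g', hg'⟩ : ∃ g', g' = fieldAut hF hm τ g := ⟨_, rfl⟩
  have h' : ∀ x, fieldAut hF hm τ' x = g' * fieldAut hF hm τ x * g'⁻¹ := by
    intro x
    rw [h, map_mul, map_mul, map_inv, hg']
  -- `g'` centralises a central translation
  have h1 := h' (tS hF 0 1)
  rw [fieldAut_tS, fieldAut_tS, map_zero, map_one, map_zero, map_one] at h1
  have h2 : g' * tS hF 0 1 = tS hF 0 1 * g' := by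
    calc g' * tS hF 0 1 = (g' * tS hF 0 1 * g'⁻¹) * g' := by group
      _ = _ := by rw [← h1]
  have h3 := mem_transGroup_of_commute hF hm one_ne_zero g' h2
  -- `g'` centralises the inversion
  have h4 := h' (wS hF)
  rw [fieldAut_wS, fieldAut_wS] at h4
  have h5 : wS hF * g' * wS hF = g' := by
    have hw := wS_mul_self (m := m) hF
    calc wS hF * g' * wS hF = (g' * wS hF * g'⁻¹) * g' * wS hF := by rw [← h4]
      _ = g' * (wS hF * wS hF) := by group
      _ = g' := by rw [hw, mul_one]
  have h6 : g' = 1 := by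
    apply eq_one_of_wS_conj_mem hF hm h3
    rw [h5]
    rw [← normalizer_transGroup hF hm]
    exact Subgroup.le_normalizer h3
  rw [h6] at h'
  ext a
  have h7 := h' (tS hF a 0)
  rw [fieldAut_tS, fieldAut_tS, one_mul, inv_one, mul_one] at h7
  exact (tS_injective hF h7).1

end Cfsg.Agent.Lib.Helper3.Sz
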