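import Mathlib
import Cfsg.Agent.Lib.Helper3.SzAut1

set_option autoImplicit false

namespace Cfsg.Agent.Lib.Helper3.Sz

open Matrix Cfsg
open scoped Pointwise

lemma mem_of_map_mem {G : Type*} [Group G] (α : MulAut G) (S : Subgroup G) [Finite S]
    (h : ∀ x ∈ S, α x ∈ S) {x : G} (hx : α x ∈ S) : x ∈ S := by
  have hle : S.map α.toMonoidHom ≤ S := by
    rintro _ ⟨y, hy, rfl⟩
    exact h y hy
  have hcard : Nat.card S ≤ Nat.card (S.map α.toMonoidHom) :=
    (Subgroup.card_map_of_injective α.injective).ge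
  have heq : S.map α.toMonoidHom = S := Subgroup.eq_of_le_of_card_ge hle hcard
  rw [← heq] at hx
  obtain ⟨y, hy, hxy⟩ := hx
  have : y = x := α.injective hxy
  rw [← this]; exact hy

variable {F : Type*} [Field F] [Fintype F] {m : ℕ} (hF : Fintype.card F = 2 ^ (2 * m + 1))
  (hm : 1 ≤ m)

/-- standard automorphisms: preserve the translation group and fix the inversion -/
def IsStd (α : MulAut (Sz F m)) : Prop :=
  (∀ x ∈ transGroup hF hm, α x ∈ transGroup hF hm) ∧ α (wS hF) = wS hF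

include hF hm in
lemma exists_conj_preserve (α : MulAut (Sz F m)) :
    ∃ h : Sz F m, ∀ x ∈ transGroup hF hm, (MulAut.conj h * α) x ∈ transGroup hF hm := by
  have hfin : Finite (Sz F m) := finite_Sz
  haveI : Fact (Nat.Prime 2) := ⟨Nat.prime_two⟩
  have hcard : Nat.card ((transGroup hF hm).map α.toMonoidHom)
      = 2 ^ (Nat.card (Sz F m)).factorization 2 := by
    rw [Subgroup.card_map_of_injective α.injective, card_transGroup hF hm,
      factorization_card_Sz hF hm, ← pow_mul, mul_comm]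
  obtain ⟨h, hh⟩ := exists_conj_transGroup hF hm (Sylow.ofCard _ hcard)
  refine ⟨h⁻¹, fun x hx => ?_⟩
  have h1 : α x ∈ (Sylow.ofCard _ hcard : Sylow 2 (Sz F m)) := ⟨x, hx, rfl⟩
  have := (hh _).1 h1
  simpa [MulAut.mul_apply, MulAut.conj_apply] using this

lemma preserve_conj {α : MulAut (Sz F m)}
    (hα : ∀ x ∈ transGroup hF hm, α x ∈ transGroup hF hm) {g : Sz F m} (hg : g ∈ stabInf F m) :
    ∀ x ∈ transGroup hF hm, (MulAut.conj g * α) x ∈ transGroup hF hm := by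
  intro x hx
  rw [MulAut.mul_apply, MulAut.conj_apply]
  rw [← normalizer_transGroup hF hm] at hg
  exact (Subgroup.mem_normalizer_iff.1 hg _).1 (hα x hx)

include hm in
lemma not_mem_stabInf_of_preserve {α : MulAut (Sz F m)}
    (hα : ∀ x ∈ transGroup hF hm, α x ∈ transGroup hF hm) : α (wS hF) ∉ stabInf F m := by
  have hfin : Finite (Sz F m) := finite_Sz
  intro hr
  rw [← normalizer_transGroup hF hm] at hr
  have h1 : α (wS hF * tS hF 0 1 * wS hF) ∈ transGroup hF hm := by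
    have h2 := (Subgroup.mem_normalizer_iff.1 hr _).1 (hα _ (tS_mem hF hm 0 1))
    have e : α (wS hF * tS hF 0 1 * wS hF) = α (wS hF) * α (tS hF 0 1) * (α (wS hF))⁻¹ := by
      rw [← map_inv, wS_inv, map_mul, map_mul]
    rw [e]; exact h2
  have h3 := mem_of_map_mem α (transGroup hF hm) hα h1
  have h4 : wS hF * tS hF 0 1 * wS hF ∈ stabInf F m := by
    rw [← normalizer_transGroup hF hm]
    exact Subgroup.le_normalizer h3
  exact tS_zero_ne_one hF hm one_ne_zero (eq_one_of_wS_conj_mem hF hm (tS_mem hF hm 0 1) h4)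

include hF hm in
/-- every automorphism is standard up to an inner automorphism -/
theorem exists_isStd (α : MulAut (Sz F m)) : ∃ g : Sz F m, IsStd hF hm (MulAut.conj g * α) := by
  have hw := wS_mul_self (m := m) hF
  -- stage A
  obtain ⟨h, hα₁⟩ := exists_conj_preserve hF hm α
  obtain ⟨α₁, hα₁def⟩ : ∃ α₁, α₁ = MulAut.conj h * α := ⟨_, rfl⟩
  rw [← hα₁def] at hα₁
  -- stage B
  have hnot := not_mem_stabInf_of_preserve hF hm hα₁
  obtain ⟨x, y, h₁, hh₁, e₁⟩ := bruhat hF hm _ hnot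
  have htB : (tS hF x y)⁻¹ ∈ stabInf F m := by
    rw [← normalizer_transGroup hF hm]
    exact Subgroup.le_normalizer (inv_mem (tS_mem hF hm x y))
  obtain ⟨α₂, hα₂def⟩ : ∃ α₂, α₂ = MulAut.conj (tS hF x y)⁻¹ * α₁ := ⟨_, rfl⟩
  have hα₂ : ∀ z ∈ transGroup hF hm, α₂ z ∈ transGroup hF hm := by
    rw [hα₂def]; exact preserve_conj hF hm hα₁ htB
  have hα₂w : α₂ (wS hF) = wS hF * (h₁ * tS hF x y) := by
    rw [hα₂def, MulAut.mul_apply, MulAut.conj_apply, e₁]
    group
  have hh' : h₁ * tS hF x y ∈ stabInf F m := mul_mem hh₁ (by simpa using inv_mem htB)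
  -- stage C
  obtain ⟨r, hr⟩ : ∃ r, r = α₂ (wS hF) := ⟨_, rfl⟩
  have hrr : r * r = 1 := by rw [hr, ← map_mul, hw, map_one]
  have h1 : wS hF * r ∈ stabInf F m := by
    rw [hr, hα₂w, ← mul_assoc, hw, one_mul]; exact hh'
  have h2 : r * wS hF ∈ stabInf F m := by
    have e : r * wS hF = (h₁ * tS hF x y)⁻¹ := by
      have h3 : r = r⁻¹ := by rw [eq_inv_iff_mul_eq_one]; exact hrr
      rw [h3, hr, hα₂w, _root_.mul_inv_rev, wS_inv, mul_assoc, hw, mul_one]
    rw [e]; exact inv_mem hh'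
  obtain ⟨ν, hν⟩ := eq_wS_kS hF hm h1 h2
  obtain ⟨μ, hμ⟩ : ∃ μ : Fˣ, μ * μ = ν := by
    refine ⟨ν ^ (2 ^ (2 * m)), ?_⟩
    ext
    rw [Units.val_mul, Units.val_pow_eq_pow_val, ← pow_two, ← pow_mul, ← pow_succ, pow_q hF]
  have hkB : kS hF μ ∈ stabInf F m := torusH_le_stabInf hF (kS_mem_torusH hF μ)
  refine ⟨kS hF μ * (tS hF x y)⁻¹ * h, ?_, ?_⟩
  · have e : MulAut.conj (kS hF μ * (tS hF x y)⁻¹ * h) * α = MulAut.conj (kS hF μ) * α₂ := by
      rw [hα₂def, hα₁def, map_mul, map_mul]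
      simp only [mul_assoc]
    rw [e]
    exact preserve_conj hF hm hα₂ hkB
  · have e : MulAut.conj (kS hF μ * (tS hF x y)⁻¹ * h) * α = MulAut.conj (kS hF μ) * α₂ := by
      rw [hα₂def, hα₁def, map_mul, map_mul]
      simp only [mul_assoc]
    rw [e, MulAut.mul_apply, MulAut.conj_apply, ← hr, hν]
    have e2 : kS hF μ * wS hF = wS hF * kS hF μ⁻¹ := by
      rw [← wS_kS hF μ, ← mul_assoc, ← mul_assoc, hw, one_mul]
    calc kS hF μ * (wS hF * kS hF ν) * (kS hF μ)⁻¹
        = (kS hF μ * wS hF) * kS hF ν * (kS hF μ)⁻¹ := by group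
      _ = wS hF * (kS hF μ⁻¹ * kS hF ν * kS hF μ⁻¹) := by rw [e2, kS_inv]; group
      _ = wS hF := by
          rw [← kS_mul, ← kS_mul, ← hμ]
          have : μ⁻¹ * (μ * μ) * μ⁻¹ = 1 := by group
          rw [this, kS_one, mul_one]

end Cfsg.Agent.Lib.Helper3.Sz
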