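import Mathlib
import Cfsg.Agent.Lib.Helper3.SzAut2
import Cfsg.Agent.Lib.Helper3.SzFix2

set_option autoImplicit false

namespace Cfsg.Agent.Lib.Helper3.Sz

open Matrix Cfsg
open scoped Pointwise

variable {F : Type*} [Field F] [Fintype F] {m : ℕ} (hF : Fintype.card F = 2 ^ (2 * m + 1))
  (hm : 1 ≤ m)

include hm in
/-- the Bruhat decomposition of a conjugate of a translation under the inversion -/
lemma wS_tS_wS_bruhat (a b : F) (hf : fpoly m a b ≠ 0) : ∃ h ∈ stabInf F m,
    wS hF * tS hF a b * wS hF = tS hF (b / fpoly m a b) (a / fpoly m a b) * wS hF * h := by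
  have hpt : ptOf (wS hF * tS hF a b * wS hF)
      = Cfsg.Agent.S0326.param m (some (b / fpoly m a b, a / fpoly m a b)) := by
    rw [mul_assoc, ptOf_mul, ptOf_tS_wS]
    have h3 : ((wS (m := m) hF : Sz F m) : Matrix.SpecialLinearGroup (Fin 4) F)
        • Cfsg.Agent.S0326.param m (some (a, b))
        = Cfsg.Agent.S0326.param m (omega m (some (a, b))) := invS_param hF _
    rw [h3]
    simp [omega, hf]
  have hs : wS hF * tS hF a b * wS hF ∉ stabInf F m := by
    rw [mem_stabInf_iff_ptOf, hpt, inf_eq (m := m)]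
    intro h4
    have := Cfsg.Agent.S0326.param_injective m h4
    simp at this
  obtain ⟨x, y, h', hh', e⟩ := bruhat hF hm _ hs
  have h5 := ptOf_bruhat hF x y hh'
  rw [← e, hpt] at h5
  have := Cfsg.Agent.S0326.param_injective m h5
  simp only [Option.some.injEq, Prod.mk.injEq] at this
  refine ⟨h', hh', ?_⟩
  rw [this.1, this.2]
  exact e

section std

variable {α : MulAut (Sz F m)} (hα : IsStd hF hm α)

include hα

lemma IsStd.map_stabInf {x : Sz F m} (hx : x ∈ stabInf F m) : α x ∈ stabInf F m := by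
  rw [← normalizer_transGroup hF hm]
  have ht : α (tS hF 0 1) ∈ transGroup hF hm := hα.1 _ (tS_mem hF hm 0 1)
  have ht1 : α (tS hF 0 1) ≠ 1 := by
    intro h
    exact tS_zero_ne_one hF hm one_ne_zero ((MulEquiv.map_eq_one_iff α).1 h)
  apply transGroup_TI hF hm _ _ ht ht1
  rw [← map_inv, ← map_mul, ← map_mul]
  apply hα.1
  rw [← normalizer_transGroup hF hm] at hx
  exact (Subgroup.mem_normalizer_iff.1 hx _).1 (tS_mem hF hm 0 1)

lemma IsStd.map_kS (κ : Fˣ) : ∃ l : Fˣ, α (kS hF κ) = kS hF l := by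
  have hw := wS_mul_self (m := m) hF
  have hkB : ∀ κ : Fˣ, kS hF κ ∈ stabInf F m := fun κ =>
    torusH_le_stabInf hF (kS_mem_torusH hF κ)
  have h1 := hα.map_stabInf hF hm (hkB κ)
  have h2 : wS hF * α (kS hF κ) * wS hF ∈ stabInf F m := by
    have e : wS hF * α (kS hF κ) * wS hF = α (kS hF κ⁻¹) := by
      rw [← wS_kS hF κ, map_mul, map_mul, hα.2]
    rw [e]
    exact hα.map_stabInf hF hm (hkB _)
  obtain ⟨c, d, l, hl⟩ := (mem_stabInf_iff_exists hF hm _).1 h1
  have h3 : wS hF * tS hF c d * wS hF ∈ stabInf F m := by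
    have e : wS hF * tS hF c d * wS hF = (wS hF * α (kS hF κ) * wS hF) * kS hF l := by
      rw [hl]
      have e1 : wS hF * (tS hF c d * kS hF l) * wS hF
          = (wS hF * tS hF c d * wS hF) * (wS hF * kS hF l * wS hF) := by
        calc wS hF * (tS hF c d * kS hF l) * wS hF
            = wS hF * tS hF c d * 1 * kS hF l * wS hF := by group
          _ = wS hF * tS hF c d * (wS hF * wS hF) * kS hF l * wS hF := by rw [hw]
          _ = _ := by group
      rw [e1, wS_kS hF l, mul_assoc (wS hF * tS hF c d * wS hF), ← kS_mul, inv_mul_cancel, kS_one,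
        mul_one]
    rw [e]
    exact mul_mem h2 (hkB l)
  have h4 := eq_one_of_wS_conj_mem hF hm (tS_mem hF hm c d) h3
  exact ⟨l, by rw [hl, h4, one_mul]⟩

lemma IsStd.map_central (b : F) : ∃ b' : F, α (tS hF 0 b) = tS hF 0 b' := by
  obtain ⟨a', b', h⟩ := (mem_transGroup hF hm _).1 (hα.1 _ (tS_mem hF hm 0 b))
  have hsq : tS hF a' b' * tS hF a' b' = 1 := by
    rw [← h, ← map_mul, tS_zero_sq hF hm, map_one]
  rw [tS_sq hF hm, ← tS_zero_zero hF hm] at hsq
  have ha : a' = 0 := by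
    have := (tS_injective hF hsq).2
    rcases mul_eq_zero.mp this with h0 | h0
    · exact pow_eq_zero_iff (by positivity) |>.1 h0
    · exact h0
  subst ha
  exact ⟨b', h⟩

include hF in
/-- standard automorphisms are field automorphisms -/
theorem IsStd.eq_fieldAut : ∃ τ : RingAut F, α = fieldAut hF hm τ := by
  have h2' := two_eq_zero hF
  choose β hβ using hα.map_central hF hm
  choose θ hθ using hα.map_kS hF hm
  have hβadd : ∀ x y, β (x + y) = β x + β y := by
    intro x y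
    have := congrArg α (tS_zero_mul hF hm x y)
    rw [map_mul, hβ, hβ, hβ, tS_zero_mul hF hm] at this
    exact ((tS_injective hF this).2).symm
  have hβ0 : β 0 = 0 := by
    have := hβadd 0 0
    rw [add_zero] at this
    exact left_eq_add.mp this
  have hβinj : Function.Injective β := by
    intro x y hxy
    have : α (tS hF 0 x) = α (tS hF 0 y) := by rw [hβ, hβ, hxy]
    exact (tS_injective hF (α.injective this)).2
  have hrel : ∀ (κ : Fˣ) (b : F), β ((κ : F) ^ (2 ^ (m + 1) + 1) * b)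
      = ((θ κ : Fˣ) : F) ^ (2 ^ (m + 1) + 1) * β b := by
    intro κ b
    have e := kS_conj_tS hF hm κ 0 b
    rw [mul_zero] at e
    have := congrArg α e
    rw [map_mul, map_mul, map_inv, hθ, hβ, hβ, kS_conj_tS hF hm, mul_zero] at this
    exact ((tS_injective hF this).2).symm
  obtain ⟨c, hc⟩ : ∃ c, c = β 1 := ⟨_, rfl⟩
  have hc0 : c ≠ 0 := by
    rw [hc, ← hβ0]
    exact fun h => one_ne_zero (hβinj h)
  have hpow : ∀ x : F, x ≠ 0 → ∃ κ : Fˣ, (κ : F) ^ (2 ^ (m + 1) + 1) = x := by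
    intro x hx
    obtain ⟨a, ha⟩ := exists_pow_sig_succ_eq hF x
    have ha0 : a ≠ 0 := by
      rintro rfl
      rw [zero_pow (by positivity)] at ha
      exact hx ha.symm
    exact ⟨Units.mk0 a ha0, ha⟩
  have hmul : ∀ x y, β (x * y) * c = β x * β y := by
    intro x y
    by_cases hx : x = 0
    · subst hx; simp [hβ0]
    · obtain ⟨κ, rfl⟩ := hpow x hx
      have h1 := hrel κ y
      have h2 := hrel κ 1
      rw [mul_one, ← hc] at h2
      rw [h1, h2]; ring
  -- the field automorphism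
  let τ₀ : F →+* F :=
    { toFun := fun x => β x / c
      map_one' := by rw [← hc]; exact div_self hc0
      map_mul' := by
        intro x y
        have := hmul x y
        field_simp
        linear_combination this
      map_zero' := by rw [hβ0, zero_div]
      map_add' := by
        intro x y
        rw [hβadd, add_div] }
  have hτ₀inj : Function.Injective τ₀ := τ₀.injective
  have hbij : Function.Bijective τ₀ := Finite.injective_iff_bijective.1 hτ₀inj
  obtain ⟨τ, hτ⟩ : ∃ τ : RingAut F, ∀ x, τ x = β x / c :=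
    ⟨RingEquiv.ofBijective τ₀ hbij, fun x => rfl⟩
  have hθτ : ∀ κ : Fˣ, ((θ κ : Fˣ) : F) = τ κ := by
    intro κ
    apply pow_sig_succ_injective hF
    rw [← map_pow, hτ]
    have h2 := hrel κ 1
    rw [mul_one, ← hc] at h2
    rw [h2]
    field_simp
  have hβne : ∀ b, b ≠ 0 → β b ≠ 0 := by
    intro b hb
    rw [← hβ0]
    exact fun h => hb (hβinj h)
  have hwrel : ∀ b, b ≠ 0 →
      α (tS hF (b / b ^ (2 ^ (m + 1))) 0) = tS hF (β b / (β b) ^ (2 ^ (m + 1))) 0 := by
    intro b hb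
    have hf : ∀ z : F, fpoly m 0 z = z ^ (2 ^ (m + 1)) := fun z => by simp [fpoly]
    have hf0 : fpoly m 0 b ≠ 0 := by rw [hf]; exact pow_ne_zero _ hb
    obtain ⟨h, hh, e⟩ := wS_tS_wS_bruhat hF hm 0 b hf0
    rw [hf, zero_div] at e
    have hf'0 : fpoly m 0 (β b) ≠ 0 := by rw [hf]; exact pow_ne_zero _ (hβne b hb)
    obtain ⟨h', hh', e'⟩ := wS_tS_wS_bruhat hF hm 0 (β b) hf'0
    rw [hf, zero_div] at e'
    have e2 := congrArg α e
    rw [map_mul, map_mul, map_mul, map_mul, hα.2, hβ, e'] at e2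
    obtain ⟨x, y, hxy⟩ := (mem_transGroup hF hm _).1
      (hα.1 _ (tS_mem hF hm (b / b ^ (2 ^ (m + 1))) 0))
    rw [hxy] at e2 ⊢
    obtain ⟨h1, h2, -⟩ := bruhat_unique hF hm hh' (hα.map_stabInf hF hm hh) e2
    rw [← h1, ← h2]
  have hsqe : ∀ z : F, z ≠ 0 → tS hF (z / z ^ (2 ^ (m + 1))) 0 * tS hF (z / z ^ (2 ^ (m + 1))) 0
      = tS hF 0 z⁻¹ := by
    intro z hz
    rw [tS_sq hF hm]
    congr 1
    rw [div_pow, sig_sig hF]
    have := pow_ne_zero (2 ^ (m + 1)) hz
    field_simp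
  have hinv : ∀ b, b ≠ 0 → β b⁻¹ = (β b)⁻¹ := by
    intro b hb
    have := congrArg α (hsqe b hb)
    rw [map_mul, hwrel b hb, hβ, hsqe (β b) (hβne b hb)] at this
    exact ((tS_injective hF this).2).symm
  have hc1 : c = 1 := by
    apply sq_eq_one hF
    have := hinv 1 one_ne_zero
    rw [inv_one, ← hc] at this
    rw [pow_two]
    nth_rewrite 2 [this]
    exact mul_inv_cancel₀ hc0
  have hτβ : ∀ x, τ x = β x := by
    intro x
    rw [hτ, hc1, div_one]
  have g1 : ∀ b, α (tS hF 0 b) = fieldAut hF hm τ (tS hF 0 b) := by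
    intro b
    rw [hβ, fieldAut_tS, map_zero, hτβ]
  have g2 : ∀ a, α (tS hF a 0) = fieldAut hF hm τ (tS hF a 0) := by
    intro a
    by_cases ha : a = 0
    · subst ha
      rw [tS_zero_zero hF hm, map_one, map_one]
    · obtain ⟨b, hb⟩ : ∃ b, b = (a ^ (2 ^ (m + 1)) * a)⁻¹ := ⟨_, rfl⟩
      have hX : a ^ (2 ^ (m + 1)) ≠ 0 := pow_ne_zero _ ha
      have hb0 : b ≠ 0 := by
        rw [hb]
        exact inv_ne_zero (mul_ne_zero hX ha)
      have hab : b / b ^ (2 ^ (m + 1)) = a := by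
        rw [hb, inv_pow, mul_pow, sig_sig hF]
        field_simp
      rw [← hab, hwrel b hb0, fieldAut_tS, map_zero, map_div₀, map_pow, hτβ]
  have g3 : ∀ a b, α (tS hF a b) = fieldAut hF hm τ (tS hF a b) := by
    intro a b
    have : tS hF a b = tS hF a 0 * tS hF 0 b := by
      rw [tS_mul hF hm]
      congr 1 <;> ring
    rw [this, map_mul, map_mul, g1, g2]
  have g4 : ∀ κ, α (kS hF κ) = fieldAut hF hm τ (kS hF κ) := by
    intro κ
    rw [hθ, fieldAut_kS]
    congr 1
    ext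
    rw [hθτ]
    rfl
  have g5 : α (wS hF) = fieldAut hF hm τ (wS hF) := by rw [hα.2, fieldAut_wS]
  refine ⟨τ, ?_⟩
  ext g
  by_cases hs : g ∈ stabInf F m
  · obtain ⟨a, b, κ, rfl⟩ := (mem_stabInf_iff_exists hF hm g).1 hs
    rw [map_mul, map_mul, g3, g4]
  · obtain ⟨x, y, h, hh, rfl⟩ := bruhat hF hm g hs
    obtain ⟨a, b, κ, rfl⟩ := (mem_stabInf_iff_exists hF hm h).1 hh
    simp only [map_mul, g3, g4, g5]

end std

end Cfsg.Agent.Lib.Helper3.Sz
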