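import Mathlib
import Cfsg.Agent.Lib.Helper3.SzAut3
import Cfsg.Agent.Lib.Helper3.SzBridge
import Cfsg.Prelude.Def_KGroupFacts

set_option autoImplicit false

namespace Cfsg.Agent.Lib.Helper3.Sz

open Matrix Cfsg
open scoped Pointwise

/-- the order of the outer automorphism group is an isomorphism invariant -/
lemma card_out_congr {G G' : Type*} [Group G] [Group G'] (e : G ≃* G') :
    Nat.card (Cfsg.Out G) = Nat.card (Cfsg.Out G') := by
  show (Cfsg.Inn G).index = (Cfsg.Inn G').index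
  rw [← Subgroup.index_map_equiv (Cfsg.Inn G) (MulAut.congr e)]
  congr 1
  ext φ
  constructor
  · rintro ⟨_, ⟨g, rfl⟩, rfl⟩
    refine ⟨e g, ?_⟩
    ext x
    simp [MulAut.congr, MulAut.conj_apply]
  · rintro ⟨g', rfl⟩
    refine ⟨_, ⟨e.symm g', rfl⟩, ?_⟩
    ext x
    simp [MulAut.congr, MulAut.conj_apply]

variable {F : Type*} [Field F] [Fintype F] {m : ℕ} (hF : Fintype.card F = 2 ^ (2 * m + 1))
  (hm : 1 ≤ m)

include hF in
/-- the number of automorphisms of the field -/
lemma card_ringAut : Nat.card (RingAut F) = 2 * m + 1 := by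
  haveI := charP hF
  letI : Algebra (ZMod 2) F := ZMod.algebra F 2
  have h2 : Module.finrank (ZMod 2) F = 2 * m + 1 := by
    have := Module.card_eq_pow_finrank (K := ZMod 2) (V := F)
    rw [hF, ZMod.card] at this
    exact (Nat.pow_right_injective (le_refl 2) this).symm
  rw [← h2, ← IsGalois.card_aut_eq_finrank (ZMod 2) F]
  apply Nat.card_congr
  refine ⟨fun τ => AlgEquiv.ofRingEquiv (f := τ) (fun r => ?_), fun e => e.toRingEquiv,
    fun τ => rfl, fun e => rfl⟩
  exact RingHom.congr_fun (Subsingleton.elim ((τ : F →+* F).comp (algebraMap (ZMod 2) F))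
    (algebraMap (ZMod 2) F)) r

include hF hm in
/-- the outer automorphism group of the Suzuki group -/
theorem card_out_Sz : Nat.card (Cfsg.Out (Sz F m)) = 2 * m + 1 := by
  rw [← card_ringAut hF]
  symm
  apply Nat.card_congr
  refine Equiv.ofBijective
    (fun τ => (QuotientGroup.mk (fieldAut hF hm τ) : Cfsg.Out (Sz F m))) ⟨?_, ?_⟩
  · intro τ τ' h
    rw [QuotientGroup.eq] at h
    obtain ⟨g, hg⟩ := h
    symm
    apply fieldAut_injective_mod_inner hF hm (g := g)
    intro x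
    have := congrArg (fun φ : MulAut (Sz F m) => fieldAut hF hm τ (φ x)) hg
    simp only [MulAut.mul_apply, MulAut.conj_apply] at this
    rw [this]
    simp
  · intro o
    obtain ⟨α, rfl⟩ := QuotientGroup.mk_surjective o
    obtain ⟨g, hg⟩ := exists_isStd hF hm α
    obtain ⟨τ, hτ⟩ := hg.eq_fieldAut hF hm
    refine ⟨τ, ?_⟩
    show (QuotientGroup.mk (fieldAut hF hm τ) : Cfsg.Out (Sz F m)) = QuotientGroup.mk α
    rw [← hτ, QuotientGroup.eq]
    have h1 : (MulAut.conj g * α)⁻¹ * α = α⁻¹ * (MulAut.conj g)⁻¹ * α⁻¹⁻¹ := by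
      rw [_root_.mul_inv_rev, inv_inv]
    rw [h1]
    exact (Cfsg.innNormal (Sz F m)).conj_mem _ (inv_mem ⟨g, rfl⟩) _

open Cfsg.Agent.Lib.Helper3.SzBridge in
include hF hm in
theorem card_out_lieSz : Nat.card (Cfsg.Out ↥(Cfsg.Lie.Sz F (2 ^ (m + 1)))) = 2 * m + 1 := by
  rw [card_out_congr (lieSzEquiv hF hm)]
  exact card_out_Sz hF hm

end Cfsg.Agent.Lib.Helper3.Sz
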