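import Mathlib
import Cfsg.Agent.Lib.Helper3.SzSol13
import Cfsg.Agent.Lib.Helper3.SzFix2

set_option autoImplicit false
set_option linter.unusedSectionVars false
set_option linter.style.haveILetI false

namespace Cfsg.Agent.Lib.Helper3.Sz

open Matrix Cfsg

variable {F : Type*} [Field F] [Fintype F] {m : ℕ} (hF : Fintype.card F = 2 ^ (2 * m + 1))

include hF in
/-- Hua's identity in characteristic two -/
lemma hua_identity {a b : F} (ha : a ≠ 0) (hb : b ≠ 0) (hab : b⁻¹ + a ≠ 0) :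
    a⁻¹ + (b⁻¹ + a)⁻¹ ≠ 0 ∧ a + (a⁻¹ + (b⁻¹ + a)⁻¹)⁻¹ = a ^ 2 * b := by
  have h2 := two_eq_zero hF
  obtain ⟨u, hu⟩ : ∃ u, u = b⁻¹ + a := ⟨_, rfl⟩
  rw [← hu] at hab ⊢
  have e0 : a⁻¹ + u⁻¹ = (u + a) * (a * u)⁻¹ := by
    field_simp
  have e2 : u + a = b⁻¹ := by rw [hu]; linear_combination a * h2
  have e1 : a⁻¹ + u⁻¹ = b⁻¹ * (a * u)⁻¹ := by rw [e0, e2]
  have hne : b⁻¹ * (a * u)⁻¹ ≠ 0 :=
    mul_ne_zero (inv_ne_zero hb) (inv_ne_zero (mul_ne_zero ha hab))
  refine ⟨by rw [e1]; exact hne, ?_⟩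
  rw [e1, _root_.mul_inv_rev, inv_inv, inv_inv, hu]
  have hbb : b⁻¹ * b = 1 := inv_mul_cancel₀ hb
  linear_combination a * h2 + a * hbb

include hF in
lemma sig_succ_add (a c : F) : (a + c) ^ (2 ^ (m + 1) + 1)
    = a ^ (2 ^ (m + 1) + 1) + c ^ (2 ^ (m + 1) + 1) + (a ^ (2 ^ (m + 1)) * c + a * c ^ (2 ^ (m + 1))) := by
  rw [pow_succ, sig_add hF, pow_succ, pow_succ]
  ring

include hF in
/-- the polar form in terms of the norm and the additive map -/
lemma polar_eq {a : F} (ha : a ≠ 0) (c : F) :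
    a ^ (2 ^ (m + 1)) * c + a * c ^ (2 ^ (m + 1))
      = a ^ (2 ^ (m + 1) + 1) * sigHom (m := m) hF (c / a) := by
  rw [sigHom_apply, div_pow, pow_succ]
  field_simp
  ring

include hF in
/-- the one-directional compatibility with the hyperplanes -/
lemma hyperplane_compat (α β : F →+ F) (hα : Function.Injective α)
    (h : ∀ a, β (a ^ (2 ^ (m + 1) + 1)) = (α a) ^ (2 ^ (m + 1) + 1)) {x y : F} (hy : y ≠ 0)
    (hxy : x / y ∈ (sigHom (m := m) hF).range) : β x / β y ∈ (sigHom (m := m) hF).range := by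
  have h2 := two_eq_zero hF
  -- the polarised identity
  have hpol : ∀ a c : F, β (a ^ (2 ^ (m + 1)) * c + a * c ^ (2 ^ (m + 1)))
      = (α a) ^ (2 ^ (m + 1)) * α c + α a * (α c) ^ (2 ^ (m + 1)) := by
    intro a c
    have h1 := h (a + c)
    rw [map_add α, sig_succ_add hF, sig_succ_add hF (α a) (α c), map_add β, map_add β, h a,
      h c] at h1
    exact add_left_cancel h1
  obtain ⟨a, ha⟩ := exists_pow_sig_succ_eq (m := m) hF y
  have ha0 : a ≠ 0 := by
    rintro rfl
    rw [zero_pow (by positivity)] at ha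
    exact hy ha.symm
  have hαa : α a ≠ 0 := by
    intro h0
    exact ha0 (hα (h0.trans (map_zero α).symm))
  obtain ⟨c', hc'⟩ := hxy
  have hx : x = a ^ (2 ^ (m + 1)) * (a * c') + a * (a * c') ^ (2 ^ (m + 1)) := by
    rw [polar_eq hF ha0, mul_div_cancel_left₀ _ ha0, hc', ha, mul_div_cancel₀ _ hy]
  have hβy : β y = (α a) ^ (2 ^ (m + 1) + 1) := by rw [← ha, h]
  rw [hx, hpol, polar_eq hF hαa, hβy, mul_div_cancel_left₀ _ (pow_ne_zero _ hαa)]
  exact ⟨_, rfl⟩

include hF in
/-- additive bijections compatible with the norm map are, when normalised, one field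
automorphism -/
theorem ringHom_of_norm_compat (α β : F →+ F) (hα : Function.Bijective α)
    (hβ : Function.Bijective β)
    (h : ∀ a, β (a ^ (2 ^ (m + 1) + 1)) = (α a) ^ (2 ^ (m + 1) + 1)) (h1 : α 1 = 1) :
    (∀ x y, β (x * y) = β x * β y) ∧ β 1 = 1 ∧ ∀ a, α a = β a := by
  classical
  have h2 := two_eq_zero hF
  have hidx := index_range_sigHom (m := m) hF
  have hW1 : (1 : F) ∉ (sigHom (m := m) hF).range := by
    rintro ⟨c, hc⟩
    exact sig_add_self_ne_one hF c hc
  have hβ1 : β 1 = 1 := by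
    have := h 1
    rwa [one_pow, h1, one_pow] at this
  have hβ0 : ∀ y, y ≠ 0 → β y ≠ 0 := by
    intro y hy h0
    exact hy (hβ.1 (h0.trans (map_zero β).symm))
  -- the inverse pair
  let αe : F ≃+ F := AddEquiv.ofBijective α hα
  let βe : F ≃+ F := AddEquiv.ofBijective β hβ
  have hinv : ∀ a, βe.symm (a ^ (2 ^ (m + 1) + 1)) = (αe.symm a) ^ (2 ^ (m + 1) + 1) := by
    intro a
    apply βe.injective
    rw [AddEquiv.apply_symm_apply]
    show _ = β _
    rw [h]
    show _ = (αe (αe.symm a)) ^ _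
    rw [AddEquiv.apply_symm_apply]
  -- the two-directional compatibility
  have hiff : ∀ x y : F, y ≠ 0 → (x / y ∈ (sigHom (m := m) hF).range ↔
      β x / β y ∈ (sigHom (m := m) hF).range) := by
    intro x y hy
    constructor
    · exact hyperplane_compat hF α β hα.1 h hy
    · intro hxy
      have := hyperplane_compat hF αe.symm.toAddMonoidHom βe.symm.toAddMonoidHom
        αe.symm.injective hinv (hβ0 y hy) hxy
      have e1 : βe.symm.toAddMonoidHom (β x) = x := βe.symm_apply_apply x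
      have e2 : βe.symm.toAddMonoidHom (β y) = y := βe.symm_apply_apply y
      rwa [e1, e2] at this
  -- the companion map
  let γ : F → F := fun z => if z = 0 then 0 else (β z⁻¹)⁻¹
  have hγ0 : γ 0 = 0 := if_pos rfl
  have hγ : ∀ z, z ≠ 0 → γ z = (β z⁻¹)⁻¹ := fun z hz => if_neg hz
  have hpair : ∀ x z : F, (x * z ∈ (sigHom (m := m) hF).range ↔
      β x * γ z ∈ (sigHom (m := m) hF).range) := by
    intro x z
    by_cases hz : z = 0
    · rw [hz, hγ0, mul_zero, mul_zero]
    · have := hiff x z⁻¹ (inv_ne_zero hz)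
      rw [div_eq_mul_inv, inv_inv, div_eq_mul_inv, ← hγ z hz] at this
      exact this
  have hmem3 : ∀ A B C : F, (A + B + C ∈ (sigHom (m := m) hF).range ↔
      ((A ∈ (sigHom (m := m) hF).range ↔ B ∈ (sigHom (m := m) hF).range) ↔
        C ∈ (sigHom (m := m) hF).range)) := by
    intro A B C
    rw [AddSubgroup.add_mem_iff_of_index_two hidx, AddSubgroup.add_mem_iff_of_index_two hidx]
  have hγadd : ∀ z z' : F, γ (z + z') = γ z + γ z' := by
    intro z z'
    by_contra hne
    have hδ : γ (z + z') + γ z + γ z' ≠ 0 := by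
      intro h0
      apply hne
      linear_combination h0 - (γ z + γ z') * h2
    obtain ⟨x, hx⟩ := hβ.2 ((γ (z + z') + γ z + γ z')⁻¹)
    have key : β x * (γ (z + z') + γ z + γ z') ∈ (sigHom (m := m) hF).range := by
      have e : β x * (γ (z + z') + γ z + γ z')
          = β x * γ (z + z') + β x * γ z + β x * γ z' := by ring
      rw [e, hmem3, ← hpair, ← hpair, ← hpair, ← hmem3]
      have : x * (z + z') + x * z + x * z' = 0 := by
        linear_combination (x * z + x * z') * h2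
      rw [this]
      exact AddSubgroup.zero_mem _
    rw [hx, inv_mul_cancel₀ hδ] at key
    exact hW1 key
  have hγinv : ∀ y, y ≠ 0 → γ y⁻¹ = (β y)⁻¹ := by
    intro y hy
    rw [hγ _ (inv_ne_zero hy), inv_inv]
  have hβinv : ∀ u, u ≠ 0 → β u⁻¹ = (γ u)⁻¹ := by
    intro u hu
    rw [hγ u hu, inv_inv]
  have hγne : ∀ u, u ≠ 0 → γ u ≠ 0 := by
    intro u hu
    rw [hγ u hu]
    exact inv_ne_zero (hβ0 _ (inv_ne_zero hu))
  have hγ1 : γ 1 = 1 := by
    rw [hγ 1 one_ne_zero, inv_one, hβ1, inv_one]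
  -- Hua's identity
  have hhua : ∀ a b : F, a ≠ 0 → b ≠ 0 → b⁻¹ + a ≠ 0 → β (a ^ 2 * b) = (β a) ^ 2 * γ b := by
    intro a b ha hb hab
    obtain ⟨hne, hid⟩ := hua_identity hF ha hb hab
    have hβab : (γ b)⁻¹ + β a ≠ 0 := by
      rw [← hβinv b hb, ← map_add]
      exact hβ0 _ hab
    obtain ⟨_, hid'⟩ := hua_identity hF (hβ0 a ha) (hγne b hb) hβab
    rw [← hid, map_add, hβinv _ hne]
    have e1 : γ (a⁻¹ + (b⁻¹ + a)⁻¹) = (β a)⁻¹ + ((γ b)⁻¹ + β a)⁻¹ := by
      rw [hγadd, hγinv a ha, hγinv _ hab, map_add, hβinv b hb]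
    rw [e1, hid']
  have hsq : ∀ a : F, β (a ^ 2) = (β a) ^ 2 := by
    intro a
    by_cases ha : a = 0
    · rw [ha]; simp
    · by_cases ha1 : a = 1
      · rw [ha1]; simp [hβ1]
      · have hab : (1 : F)⁻¹ + a ≠ 0 := by
          rw [inv_one]
          intro h0
          apply ha1
          linear_combination h0 - h2
        have := hhua a 1 ha one_ne_zero hab
        rwa [mul_one, hγ1, mul_one] at this
  have hγβ : ∀ b : F, γ b = β b := by
    intro b
    by_cases hb : b = 0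
    · rw [hb, hγ0, map_zero]
    · by_cases hb1 : b = 1
      · rw [hb1, hγ1, hβ1]
      · have hab : b⁻¹ + 1 ≠ 0 := by
          intro h0
          apply hb1
          have : b⁻¹ = 1 := by linear_combination h0 - h2
          rw [← inv_inv b, this, inv_one]
        have := hhua 1 b one_ne_zero hb hab
        rw [one_pow, one_mul, hβ1, one_pow, one_mul] at this
        exact this.symm
  have hfrob : Function.Surjective (fun a : F => a ^ 2) := by
    haveI := charP hF
    have hinj : Function.Injective (fun a : F => a ^ 2) := by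
      intro a b hab
      have : (a + b) ^ 2 = 0 := by
        have : (a + b) ^ 2 = a ^ 2 + b ^ 2 := by
          linear_combination (a * b) * h2
        rw [this]
        have hab' : a ^ 2 = b ^ 2 := hab
        rw [hab']
        linear_combination (b ^ 2) * h2
      have h0 : a + b = 0 := pow_eq_zero_iff (by norm_num) |>.1 this
      linear_combination h0 - b * h2
    exact Finite.injective_iff_surjective.1 hinj
  have hmul : ∀ x y, β (x * y) = β x * β y := by
    intro x y
    by_cases hx : x = 0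
    · rw [hx]; simp
    by_cases hy : y = 0
    · rw [hy]; simp
    obtain ⟨a, ha⟩ := hfrob x
    have ha : a ^ 2 = x := ha
    have ha0 : a ≠ 0 := by
      rintro rfl
      apply hx
      rw [← ha]; simp
    by_cases hab : y⁻¹ + a = 0
    · -- the exceptional case `a = y⁻¹`
      have hay : a = y⁻¹ := by linear_combination hab - y⁻¹ * h2
      have hxy : x * y = y⁻¹ := by
        rw [← ha, hay]
        field_simp
      rw [hxy, ← ha, hsq, hay, hβinv y hy, hγβ]
      have := hβ0 y hy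
      field_simp
    · have := hhua a y ha0 hy hab
      rw [ha, hγβ, ← hsq, ha] at this
      exact this
  refine ⟨hmul, hβ1, ?_⟩
  intro a
  apply pow_sig_succ_injective hF (m := m)
  rw [← h]
  -- `β` commutes with powers
  have hpow : ∀ (n : ℕ) (x : F), β (x ^ n) = (β x) ^ n := by
    intro n x
    induction n with
    | zero => simp [hβ1]
    | succ k ih => rw [pow_succ, hmul, ih, pow_succ]
  exact hpow _ a

include hF in
/-- additive bijections compatible with the norm map are semilinear -/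
theorem semilinear_of_norm_compat (α β : F →+ F) (hα : Function.Bijective α)
    (hβ : Function.Bijective β)
    (h : ∀ a, β (a ^ (2 ^ (m + 1) + 1)) = (α a) ^ (2 ^ (m + 1) + 1)) :
    ∃ (l : F) (σ : F ≃+* F), l ≠ 0 ∧ (∀ a, α a = l * σ a) ∧
      (∀ b, β b = l ^ (2 ^ (m + 1) + 1) * σ b) := by
  have hl : α 1 ≠ 0 := by
    intro h0
    exact one_ne_zero (hα.1 (h0.trans (map_zero α).symm))
  have hl' : (α 1) ^ (2 ^ (m + 1) + 1) ≠ 0 := pow_ne_zero _ hl
  have hα' : Function.Bijective ((AddMonoidHom.mulLeft (α 1)⁻¹).comp α) := by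
    refine ⟨fun x y hxy => hα.1 (mul_left_cancel₀ (inv_ne_zero hl) hxy), fun y => ?_⟩
    obtain ⟨x, hx⟩ := hα.2 (α 1 * y)
    refine ⟨x, ?_⟩
    show (α 1)⁻¹ * α x = y
    rw [hx, inv_mul_cancel_left₀ hl]
  have hβ' : Function.Bijective
      ((AddMonoidHom.mulLeft ((α 1) ^ (2 ^ (m + 1) + 1))⁻¹).comp β) := by
    refine ⟨fun x y hxy => hβ.1 (mul_left_cancel₀ (inv_ne_zero hl') hxy), fun y => ?_⟩
    obtain ⟨x, hx⟩ := hβ.2 ((α 1) ^ (2 ^ (m + 1) + 1) * y)
    refine ⟨x, ?_⟩
    show ((α 1) ^ (2 ^ (m + 1) + 1))⁻¹ * β x = y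
    rw [hx, inv_mul_cancel_left₀ hl']
  obtain ⟨hmul, hone, heq⟩ := ringHom_of_norm_compat hF _ _ hα' hβ' (by
    intro a
    show ((α 1) ^ (2 ^ (m + 1) + 1))⁻¹ * β (a ^ (2 ^ (m + 1) + 1))
      = ((α 1)⁻¹ * α a) ^ (2 ^ (m + 1) + 1)
    rw [h, mul_pow, inv_pow]) (by
    show (α 1)⁻¹ * α 1 = 1
    exact inv_mul_cancel₀ hl)
  let σ₀ : F →+* F :=
    { toFun := (AddMonoidHom.mulLeft ((α 1) ^ (2 ^ (m + 1) + 1))⁻¹).comp β
      map_one' := hone
      map_mul' := hmul
      map_zero' := map_zero _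
      map_add' := map_add _ }
  refine ⟨α 1, RingEquiv.ofBijective σ₀ hβ', hl, ?_, ?_⟩
  · intro a
    have := heq a
    show α a = α 1 * ((AddMonoidHom.mulLeft ((α 1) ^ (2 ^ (m + 1) + 1))⁻¹).comp β) a
    rw [← this]
    show α a = α 1 * ((α 1)⁻¹ * α a)
    rw [mul_inv_cancel_left₀ hl]
  · intro b
    show β b = (α 1) ^ (2 ^ (m + 1) + 1) * (((α 1) ^ (2 ^ (m + 1) + 1))⁻¹ * β b)
    rw [mul_inv_cancel_left₀ hl']

end Cfsg.Agent.Lib.Helper3.Sz
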