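import Mathlib
import Cfsg.Agent.Lib.Helper3.SzAutQ1

set_option autoImplicit false
set_option linter.unusedSectionVars false
set_option linter.style.haveILetI false

namespace Cfsg.Agent.Lib.Helper3.Sz

open Matrix Cfsg

/-- the abstract Sylow `2`-subgroup of the Suzuki group: pairs `(a, b)` with
`(a, b) (c, d) = (a + c, b + d + a ^ θ c)` -/
@[ext]
structure SuzP (F : Type*) (m : ℕ) where
  a : F
  b : F

namespace SuzP

variable {F : Type*} [Field F] {m : ℕ}

instance : Mul (SuzP F m) := ⟨fun x y => ⟨x.a + y.a, x.b + y.b + x.a ^ (2 ^ (m + 1)) * y.a⟩⟩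
instance : One (SuzP F m) := ⟨⟨0, 0⟩⟩
instance : Inv (SuzP F m) := ⟨fun x => ⟨x.a, x.b + x.a ^ (2 ^ (m + 1)) * x.a⟩⟩

@[simp] lemma mul_a (x y : SuzP F m) : (x * y).a = x.a + y.a := rfl
@[simp] lemma mul_b (x y : SuzP F m) :
    (x * y).b = x.b + y.b + x.a ^ (2 ^ (m + 1)) * y.a := rfl
@[simp] lemma one_a : (1 : SuzP F m).a = 0 := rfl
@[simp] lemma one_b : (1 : SuzP F m).b = 0 := rfl
@[simp] lemma inv_a (x : SuzP F m) : x⁻¹.a = x.a := rfl
@[simp] lemma inv_b (x : SuzP F m) : x⁻¹.b = x.b + x.a ^ (2 ^ (m + 1)) * x.a := rfl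

instance [CharP F 2] : Group (SuzP F m) where
  mul_assoc x y z := by
    ext
    · simp only [mul_a]; ring
    · simp only [mul_b, mul_a]
      have : (x.a + y.a) ^ (2 ^ (m + 1)) = x.a ^ (2 ^ (m + 1)) + y.a ^ (2 ^ (m + 1)) := by
        haveI : Fact (Nat.Prime 2) := ⟨Nat.prime_two⟩
        exact add_pow_char_pow x.a y.a 2 (m + 1)
      rw [this]; ring
  one_mul x := by
    ext
    · simp
    · simp only [mul_b, one_b, one_a]
      rw [zero_pow (by positivity)]; ring
  mul_one x := by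
    ext
    · simp
    · simp
  inv_mul_cancel x := by
    have h2 : (2 : F) = 0 := by
      have := CharP.cast_eq_zero F 2
      exact_mod_cast this
    ext
    · simp only [mul_a, inv_a, one_a]
      linear_combination x.a * h2
    · simp only [mul_b, inv_b, inv_a, one_b]
      linear_combination (x.b + x.a ^ (2 ^ (m + 1)) * x.a) * h2

end SuzP

variable {F : Type*} [Field F] [Fintype F] {m : ℕ} (hF : Fintype.card F = 2 ^ (2 * m + 1))

section aut

variable [CharP F 2]

lemma SuzP.mul_self (x : SuzP F m) : x * x = ⟨0, x.a ^ (2 ^ (m + 1)) * x.a⟩ := by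
  have h2 : (2 : F) = 0 := by
    have := CharP.cast_eq_zero F 2
    exact_mod_cast this
  ext
  · simp only [SuzP.mul_a]; linear_combination x.a * h2
  · simp only [SuzP.mul_b]; linear_combination x.b * h2

lemma SuzP.mul_self_eq_one_iff (x : SuzP F m) : x * x = 1 ↔ x.a = 0 := by
  rw [SuzP.mul_self]
  constructor
  · intro h
    have h1 : x.a ^ (2 ^ (m + 1)) * x.a = 0 := congrArg SuzP.b h
    rcases mul_eq_zero.1 h1 with h3 | h3
    · exact pow_eq_zero_iff (by positivity) |>.1 h3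
    · exact h3
  · intro h
    rw [h, mul_zero]; rfl

/-- an automorphism preserves the set of elements with vanishing first coordinate -/
lemma SuzP.aut_a_zero (φ : MulAut (SuzP F m)) (b : F) : (φ ⟨0, b⟩).a = 0 := by
  rw [← SuzP.mul_self_eq_one_iff, ← map_mul, SuzP.mul_self]
  have : (⟨0, (0 : F) ^ (2 ^ (m + 1)) * 0⟩ : SuzP F m) = 1 := by
    ext
    · rfl
    · simp
  rw [this, map_one]

/-- the action of an automorphism on the centre -/
def zmapHom (φ : MulAut (SuzP F m)) : F →+ F where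
  toFun b := (φ ⟨0, b⟩).b
  map_zero' := by
    have : (⟨0, 0⟩ : SuzP F m) = 1 := rfl
    rw [this, map_one]; rfl
  map_add' b b' := by
    have e : (⟨0, b + b'⟩ : SuzP F m) = ⟨0, b⟩ * ⟨0, b'⟩ := by
      ext
      · simp
      · simp
    rw [e, map_mul, SuzP.mul_b, SuzP.aut_a_zero, zero_pow (by positivity)]
    ring

lemma zmapHom_apply (φ : MulAut (SuzP F m)) (b : F) : zmapHom φ b = (φ ⟨0, b⟩).b := rfl

lemma aut_center (φ : MulAut (SuzP F m)) (b : F) : φ ⟨0, b⟩ = ⟨0, zmapHom φ b⟩ := by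
  ext
  · exact SuzP.aut_a_zero φ b
  · rfl

lemma zmapHom_mul (φ ψ : MulAut (SuzP F m)) (b : F) :
    zmapHom (φ * ψ) b = zmapHom φ (zmapHom ψ b) := by
  rw [zmapHom_apply, MulAut.mul_apply, aut_center ψ, aut_center φ]

lemma zmapHom_one (b : F) : zmapHom (1 : MulAut (SuzP F m)) b = b := rfl

/-- the restriction of automorphisms to the centre, as a homomorphism -/
def zmap : MulAut (SuzP F m) →* Equiv.Perm F where
  toFun φ :=
    { toFun := zmapHom φ
      invFun := zmapHom φ⁻¹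
      left_inv := fun b => by rw [← zmapHom_mul, inv_mul_cancel, zmapHom_one]
      right_inv := fun b => by rw [← zmapHom_mul, mul_inv_cancel, zmapHom_one] }
  map_one' := by
    ext b
    rfl
  map_mul' φ ψ := by
    ext b
    exact zmapHom_mul φ ψ b

lemma zmap_apply (φ : MulAut (SuzP F m)) (b : F) : zmap φ b = zmapHom φ b := rfl

/-- the action of an automorphism on the quotient by the centre -/
def amapHom (φ : MulAut (SuzP F m)) : F →+ F where
  toFun a := (φ ⟨a, 0⟩).a
  map_zero' := by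
    have : (⟨0, 0⟩ : SuzP F m) = 1 := rfl
    rw [this, map_one]; rfl
  map_add' a a' := by
    have e : (⟨a + a', 0⟩ : SuzP F m) = ⟨a, 0⟩ * ⟨a', 0⟩ * ⟨0, a ^ (2 ^ (m + 1)) * a'⟩ := by
      have h2 : (2 : F) = 0 := by
        have := CharP.cast_eq_zero F 2
        exact_mod_cast this
      ext
      · simp
      · simp only [SuzP.mul_b, SuzP.mul_a]
        linear_combination (-(a ^ (2 ^ (m + 1)) * a')) * h2
    rw [e, map_mul, map_mul, SuzP.mul_a, SuzP.mul_a, SuzP.aut_a_zero, add_zero]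

lemma amapHom_apply (φ : MulAut (SuzP F m)) (a : F) : amapHom φ a = (φ ⟨a, 0⟩).a := rfl

/-- the second coordinate -/
def fmap (φ : MulAut (SuzP F m)) (a : F) : F := (φ ⟨a, 0⟩).b

lemma aut_apply (φ : MulAut (SuzP F m)) (x : SuzP F m) :
    φ x = ⟨amapHom φ x.a, fmap φ x.a + zmapHom φ x.b⟩ := by
  have e : x = ⟨x.a, 0⟩ * ⟨0, x.b⟩ := by
    ext
    · simp
    · simp
  conv_lhs => rw [e]
  rw [map_mul, aut_center]
  ext
  · simp only [SuzP.mul_a, add_zero]; rfl
  · simp only [SuzP.mul_b, mul_zero, add_zero]; rfl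

/-- compatibility with the squaring map -/
lemma zmapHom_norm (φ : MulAut (SuzP F m)) (a : F) :
    zmapHom φ (a ^ (2 ^ (m + 1) + 1)) = (amapHom φ a) ^ (2 ^ (m + 1) + 1) := by
  have h1 : φ (⟨a, 0⟩ * ⟨a, 0⟩) = φ ⟨a, 0⟩ * φ ⟨a, 0⟩ := map_mul _ _ _
  rw [SuzP.mul_self, SuzP.mul_self, aut_center] at h1
  have h2 := congrArg SuzP.b h1
  simp only at h2
  rw [pow_succ a (2 ^ (m + 1)), pow_succ (amapHom φ a) (2 ^ (m + 1)), h2]
  rfl

lemma amapHom_injective (φ : MulAut (SuzP F m)) : Function.Injective (amapHom φ) := by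
  rw [injective_iff_map_eq_zero]
  intro c hc
  have h1 : φ ⟨c, 0⟩ * φ ⟨c, 0⟩ = 1 := by
    rw [SuzP.mul_self_eq_one_iff]
    exact hc
  rw [← map_mul, map_eq_one_iff _ φ.injective, SuzP.mul_self_eq_one_iff] at h1
  exact h1

lemma amapHom_bijective (φ : MulAut (SuzP F m)) : Function.Bijective (amapHom φ) :=
  ⟨amapHom_injective φ, Finite.injective_iff_surjective.1 (amapHom_injective φ)⟩

lemma zmapHom_bijective (φ : MulAut (SuzP F m)) : Function.Bijective (zmapHom φ) :=
  (zmap φ).bijective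

end aut

end Cfsg.Agent.Lib.Helper3.Sz
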