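import Mathlib
import Cfsg.Agent.Lib.Helper3.SzAutQ2
import Cfsg.Agent.Lib.Helper3.SzAut4

set_option autoImplicit false
set_option linter.unusedSectionVars false
set_option linter.style.haveILetI false

namespace Cfsg.Agent.Lib.Helper3.Sz

open Matrix Cfsg

variable {F : Type*} [Field F] [Fintype F] {m : ℕ} (hF : Fintype.card F = 2 ^ (2 * m + 1))

section

variable [CharP F 2]

include hF in
/-- automorphisms of the abstract Sylow subgroup are semilinear -/
theorem aut_semilinear (φ : MulAut (SuzP F m)) :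
    ∃ (l : F) (σ : F ≃+* F), l ≠ 0 ∧ (∀ a, amapHom φ a = l * σ a) ∧
      (∀ b, zmapHom φ b = l ^ (2 ^ (m + 1) + 1) * σ b) :=
  semilinear_of_norm_compat hF (amapHom φ) (zmapHom φ) (amapHom_bijective φ)
    (zmapHom_bijective φ) (zmapHom_norm φ)

lemma two_eq_zero' : (2 : F) = 0 := by
  have := CharP.cast_eq_zero F 2
  exact_mod_cast this

/-- the central automorphism attached to an additive map -/
def kerLift (f : F →+ F) : MulAut (SuzP F m) where
  toFun x := ⟨x.a, x.b + f x.a⟩
  invFun x := ⟨x.a, x.b + f x.a⟩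
  left_inv x := by
    ext
    · rfl
    · show x.b + f x.a + f x.a = x.b
      linear_combination (f x.a) * (two_eq_zero' (F := F))
  right_inv x := by
    ext
    · rfl
    · show x.b + f x.a + f x.a = x.b
      linear_combination (f x.a) * (two_eq_zero' (F := F))
  map_mul' x y := by
    ext
    · rfl
    · show x.b + y.b + x.a ^ (2 ^ (m + 1)) * y.a + f (x.a + y.a)
        = x.b + f x.a + (y.b + f y.a) + x.a ^ (2 ^ (m + 1)) * y.a
      rw [map_add]; ring

lemma kerLift_apply (f : F →+ F) (x : SuzP F m) : kerLift f x = ⟨x.a, x.b + f x.a⟩ := rfl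

lemma kerLift_injective : Function.Injective (kerLift (F := F) (m := m)) := by
  intro f g h
  ext a
  have := congrArg (fun φ : MulAut (SuzP F m) => (φ ⟨a, 0⟩).b) h
  simp only [kerLift_apply, zero_add] at this
  exact this

lemma kerLift_mem_ker (f : F →+ F) : kerLift (m := m) f ∈ (zmap (F := F) (m := m)).ker := by
  rw [MonoidHom.mem_ker]
  ext b
  show (kerLift f ⟨0, b⟩).b = b
  rw [kerLift_apply]
  simp

include hF in
/-- the kernel of the restriction to the centre consists of the central automorphisms -/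
lemma mem_ker_zmap (φ : MulAut (SuzP F m)) :
    φ ∈ (zmap (F := F) (m := m)).ker ↔ ∃ f : F →+ F, φ = kerLift f := by
  constructor
  · intro hφ
    rw [MonoidHom.mem_ker] at hφ
    have hz : ∀ b, zmapHom φ b = b := fun b => by
      have := congrArg (fun e : Equiv.Perm F => e b) hφ
      exact this
    obtain ⟨l, σ, hl, hα, hβ⟩ := aut_semilinear hF φ
    have hl1 : l = 1 := by
      apply pow_sig_succ_injective hF (m := m)
      have := hβ 1
      rw [hz, map_one, mul_one] at this
      rw [one_pow, ← this]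
    have hσ : ∀ b, σ b = b := by
      intro b
      have := hβ b
      rw [hz, hl1, one_pow, one_mul] at this
      exact this.symm
    have ha : ∀ a, amapHom φ a = a := by
      intro a
      rw [hα, hl1, one_mul, hσ]
    -- additivity of the second coordinate
    have hfadd : ∀ a a', fmap φ (a + a') = fmap φ a + fmap φ a' := by
      intro a a'
      have h1 : φ (⟨a, 0⟩ * ⟨a', 0⟩) = φ ⟨a, 0⟩ * φ ⟨a', 0⟩ := map_mul _ _ _
      rw [aut_apply φ (⟨a, 0⟩ * ⟨a', 0⟩), aut_apply φ ⟨a, 0⟩, aut_apply φ ⟨a', 0⟩] at h1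
      have h2 := congrArg SuzP.b h1
      simp only [SuzP.mul_a, SuzP.mul_b, add_zero, zero_add, ha, hz] at h2
      exact add_right_cancel h2
    have hf0 : fmap φ 0 = 0 := by
      have := hfadd 0 0
      rw [add_zero] at this
      exact left_eq_add.mp this
    refine ⟨⟨⟨fmap φ, hf0⟩, hfadd⟩, ?_⟩
    ext x
    · rw [aut_apply φ x, kerLift_apply, ha]
    · rw [aut_apply φ x, kerLift_apply, hz, add_comm]
      rfl
  · rintro ⟨f, rfl⟩
    exact kerLift_mem_ker f

include hF in
lemma card_addMonoidHom : Nat.card (F →+ F) = 2 ^ ((2 * m + 1) ^ 2) := by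
  letI : Algebra (ZMod 2) F := ZMod.algebra F 2
  have h2 : Module.finrank (ZMod 2) F = 2 * m + 1 := by
    have := Module.card_eq_pow_finrank (K := ZMod 2) (V := F)
    rw [hF, ZMod.card] at this
    exact (Nat.pow_right_injective (le_refl 2) this).symm
  rw [Nat.card_congr (AddMonoidHom.toZModLinearMapEquiv 2 (M := F) (M₁ := F)).toEquiv]
  haveI : Finite (F →ₗ[ZMod 2] F) :=
    Finite.of_injective (fun f : F →ₗ[ZMod 2] F => (f : F → F)) DFunLike.coe_injective
  haveI : Fintype (F →ₗ[ZMod 2] F) := Fintype.ofFinite _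
  have h3 := Module.card_eq_pow_finrank (K := ZMod 2) (V := F →ₗ[ZMod 2] F)
  rw [Nat.card_eq_fintype_card, h3, ZMod.card, Module.finrank_linearMap, h2, pow_two]

include hF in
/-- the order of the kernel -/
theorem card_ker_zmap : Nat.card (zmap (F := F) (m := m)).ker = 2 ^ ((2 * m + 1) ^ 2) := by
  rw [← card_addMonoidHom hF]
  symm
  apply Nat.card_congr
  refine Equiv.ofBijective (fun f => ⟨kerLift f, kerLift_mem_ker f⟩) ⟨?_, ?_⟩
  · intro f g h
    exact kerLift_injective (congrArg Subtype.val h)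
  · rintro ⟨φ, hφ⟩
    obtain ⟨f, rfl⟩ := (mem_ker_zmap hF φ).1 hφ
    exact ⟨f, rfl⟩

lemma kerLift_mul (f g : F →+ F) : kerLift (m := m) f * kerLift g = kerLift (f + g) := by
  ext x
  · rfl
  · show x.b + g x.a + f x.a = x.b + (f x.a + g x.a)
    ring

lemma kerLift_zero : kerLift (m := m) (0 : F →+ F) = 1 := by
  ext x
  · rfl
  · show x.b + 0 = x.b
    ring

/-- the semilinear automorphisms -/
def semiLift (l : Fˣ) (σ : F ≃+* F) : MulAut (SuzP F m) where
  toFun x := ⟨(l : F) * σ x.a, (l : F) ^ (2 ^ (m + 1) + 1) * σ x.b⟩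
  invFun x := ⟨σ.symm ((l : F)⁻¹ * x.a), σ.symm (((l : F) ^ (2 ^ (m + 1) + 1))⁻¹ * x.b)⟩
  left_inv x := by
    ext
    · show σ.symm ((l : F)⁻¹ * ((l : F) * σ x.a)) = x.a
      rw [inv_mul_cancel_left₀ l.ne_zero, RingEquiv.symm_apply_apply]
    · show σ.symm (((l : F) ^ (2 ^ (m + 1) + 1))⁻¹ * ((l : F) ^ (2 ^ (m + 1) + 1) * σ x.b)) = x.b
      rw [inv_mul_cancel_left₀ (pow_ne_zero _ l.ne_zero), RingEquiv.symm_apply_apply]
  right_inv x := by
    ext
    · show (l : F) * σ (σ.symm ((l : F)⁻¹ * x.a)) = x.a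
      rw [RingEquiv.apply_symm_apply, mul_inv_cancel_left₀ l.ne_zero]
    · show (l : F) ^ (2 ^ (m + 1) + 1) * σ (σ.symm (((l : F) ^ (2 ^ (m + 1) + 1))⁻¹ * x.b)) = x.b
      rw [RingEquiv.apply_symm_apply, mul_inv_cancel_left₀ (pow_ne_zero _ l.ne_zero)]
  map_mul' x y := by
    ext
    · show (l : F) * σ (x.a + y.a) = (l : F) * σ x.a + (l : F) * σ y.a
      rw [map_add]; ring
    · show (l : F) ^ (2 ^ (m + 1) + 1) * σ (x.b + y.b + x.a ^ (2 ^ (m + 1)) * y.a)
        = (l : F) ^ (2 ^ (m + 1) + 1) * σ x.b + (l : F) ^ (2 ^ (m + 1) + 1) * σ y.b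
          + ((l : F) * σ x.a) ^ (2 ^ (m + 1)) * ((l : F) * σ y.a)
      rw [map_add, map_add, map_mul, map_pow, mul_pow, pow_succ]
      ring

lemma zmap_semiLift (l : Fˣ) (σ : F ≃+* F) (b : F) :
    zmap (semiLift (m := m) l σ) b = (l : F) ^ (2 ^ (m + 1) + 1) * σ b := rfl

include hF in
/-- the order of the image -/
theorem card_range_zmap :
    Nat.card (zmap (F := F) (m := m)).range = (2 ^ (2 * m + 1) - 1) * (2 * m + 1) := by
  classical
  have hu : Nat.card Fˣ = 2 ^ (2 * m + 1) - 1 := by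
    rw [Nat.card_eq_fintype_card, Fintype.card_units, hF]
  have hr : Nat.card (F ≃+* F) = 2 * m + 1 := card_ringAut hF
  rw [← hu, ← hr, ← Nat.card_prod]
  symm
  apply Nat.card_congr
  refine Equiv.ofBijective
    (fun p : Fˣ × (F ≃+* F) => (⟨zmap (semiLift (m := m) p.1 p.2), ⟨_, rfl⟩⟩ :
      (zmap (F := F) (m := m)).range)) ⟨?_, ?_⟩
  · rintro ⟨l, σ⟩ ⟨l', σ'⟩ h
    have h1 : zmap (semiLift (m := m) l σ) = zmap (semiLift (m := m) l' σ') :=
      congrArg Subtype.val h
    have h2 : ∀ b, (l : F) ^ (2 ^ (m + 1) + 1) * σ b = (l' : F) ^ (2 ^ (m + 1) + 1) * σ' b := by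
      intro b
      have := congrArg (fun e : Equiv.Perm F => e b) h1
      exact this
    have hl : l = l' := by
      apply Units.ext
      apply pow_sig_succ_injective hF (m := m)
      have := h2 1
      rwa [map_one, map_one, mul_one, mul_one] at this
    subst hl
    have hσ : σ = σ' := by
      ext b
      exact mul_left_cancel₀ (pow_ne_zero _ l.ne_zero) (h2 b)
    rw [hσ]
  · rintro ⟨_, φ, rfl⟩
    obtain ⟨l, σ, hl, _, hβ⟩ := aut_semilinear hF φ
    refine ⟨(Units.mk0 l hl, σ), ?_⟩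
    apply Subtype.ext
    ext b
    show (l : F) ^ (2 ^ (m + 1) + 1) * σ b = zmapHom φ b
    rw [hβ]

include hF in
/-- the order of the automorphism group -/
theorem card_mulAut_SuzP : Nat.card (MulAut (SuzP F m))
    = 2 ^ ((2 * m + 1) ^ 2) * ((2 * m + 1) * (2 ^ (2 * m + 1) - 1)) := by
  have h1 := Subgroup.card_mul_index (zmap (F := F) (m := m)).ker
  rw [Subgroup.index_ker, card_ker_zmap hF, card_range_zmap hF] at h1
  rw [← h1]; ring

end

end Cfsg.Agent.Lib.Helper3.Sz
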