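import Mathlib
import Cfsg.Agent.Lib.Helper3.SzAutQ3
import Cfsg.Agent.Lib.Helper3.SzBridge
import Cfsg.Agent.Lib.Helper3.Suzuki11
import Cfsg.Prelude.Def_Transfer
import Cfsg.Prelude.Def_Solvable

set_option autoImplicit false
set_option linter.unusedSectionVars false
set_option linter.style.haveILetI false

namespace Cfsg.Agent.Lib.Helper3.Sz

open Matrix Cfsg

/-- if a homomorphism has a 2-group as kernel and an image of odd order, then its kernel is `O_2` -/
theorem pCore_eq_ker_of_odd {A B : Type*} [Group A] [Group B] (Ψ : A →* B)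
    (hker : IsPGroup 2 Ψ.ker) (hodd : Odd (Nat.card Ψ.range)) : Cfsg.pCore 2 A = Ψ.ker := by
  apply le_antisymm
  · apply sSup_le
    rintro N ⟨_, hN⟩ x hx
    obtain ⟨k, hk⟩ := hN ⟨x, hx⟩
    have hk' : x ^ (2 ^ k) = 1 := by
      have := congrArg Subtype.val hk
      simpa using this
    rw [MonoidHom.mem_ker]
    have h1 : (⟨Ψ x, x, rfl⟩ : Ψ.range) ^ (2 ^ k) = 1 := by
      apply Subtype.ext
      show (Ψ x) ^ (2 ^ k) = 1
      rw [← map_pow, hk', map_one]
    have h2 : orderOf (⟨Ψ x, x, rfl⟩ : Ψ.range) ∣ 2 ^ k := orderOf_dvd_of_pow_eq_one h1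
    have h3 : orderOf (⟨Ψ x, x, rfl⟩ : Ψ.range) ∣ Nat.card Ψ.range := orderOf_dvd_natCard _
    have h4 : Nat.Coprime (2 ^ k) (Nat.card Ψ.range) :=
      Nat.Coprime.pow_left _ (Nat.coprime_two_left.mpr hodd)
    have h5 : orderOf (⟨Ψ x, x, rfl⟩ : Ψ.range) = 1 :=
      Nat.eq_one_of_dvd_coprimes h4 h2 h3
    rw [orderOf_eq_one_iff] at h5
    exact congrArg Subtype.val h5
  · apply le_sSup
    exact ⟨inferInstance, hker⟩

variable {F : Type*} [Field F] [Fintype F] {m : ℕ} (hF : Fintype.card F = 2 ^ (2 * m + 1))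

section

variable [CharP F 2]

lemma ker_zmap_elem (φ : MulAut (SuzP F m)) (hφ : ∃ f : F →+ F, φ = kerLift f) : φ ^ 2 = 1 := by
  obtain ⟨f, rfl⟩ := hφ
  rw [pow_two, kerLift_mul, ← kerLift_zero]
  congr 1
  ext a
  show f a + f a = 0
  linear_combination (f a) * (two_eq_zero' (F := F))

include hF in
lemma isPGroup_ker_zmap : IsPGroup 2 (zmap (F := F) (m := m)).ker := by
  rintro ⟨φ, hφ⟩
  refine ⟨1, ?_⟩
  apply Subtype.ext
  show φ ^ (2 ^ 1) = 1
  rw [pow_one]
  exact ker_zmap_elem φ ((mem_ker_zmap hF φ).1 hφ)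

include hF in
lemma odd_card_range_zmap : Odd (Nat.card (zmap (F := F) (m := m)).range) := by
  rw [card_range_zmap hF]
  apply Odd.mul
  · apply Nat.Even.sub_odd (Nat.one_le_two_pow) _ odd_one
    exact (Nat.even_pow' (by omega)).2 even_two
  · exact odd_two_mul_add_one m

include hF in
theorem pCore_mulAut_SuzP : Cfsg.pCore 2 (MulAut (SuzP F m)) = (zmap (F := F) (m := m)).ker :=
  pCore_eq_ker_of_odd _ (isPGroup_ker_zmap hF) (odd_card_range_zmap hF)

include hF in
theorem elemAb_pCore_SuzP :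
    Cfsg.IsElementaryAbelian 2 (Cfsg.pCore 2 (MulAut (SuzP F m))) := by
  rw [pCore_mulAut_SuzP hF]
  constructor
  · constructor
    constructor
    rintro ⟨φ, hφ⟩ ⟨ψ, hψ⟩
    obtain ⟨f, rfl⟩ := (mem_ker_zmap hF φ).1 hφ
    obtain ⟨g, rfl⟩ := (mem_ker_zmap hF ψ).1 hψ
    apply Subtype.ext
    show kerLift f * kerLift g = kerLift g * kerLift f
    rw [kerLift_mul, kerLift_mul, add_comm]
  · intro φ hφ
    exact ker_zmap_elem φ ((mem_ker_zmap hF φ).1 hφ)

end

/-- `O_2` is preserved by isomorphisms -/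
theorem pCore_map_equiv {A B : Type*} [Group A] [Group B] (E : A ≃* B) :
    (Cfsg.pCore 2 A).map E.toMonoidHom = Cfsg.pCore 2 B := by
  apply le_antisymm
  · rw [Subgroup.map_le_iff_le_comap]
    apply sSup_le
    rintro N ⟨hN1, hN2⟩
    rw [← Subgroup.map_le_iff_le_comap]
    apply le_sSup
    exact ⟨Subgroup.Normal.map hN1 _ E.surjective, hN2.map _⟩
  · apply sSup_le
    rintro N ⟨hN1, hN2⟩
    rw [← Subgroup.map_comap_eq_self_of_surjective (f := E.toMonoidHom) E.surjective N]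
    apply Subgroup.map_mono
    apply le_sSup
    exact ⟨Subgroup.Normal.comap hN1 _, hN2.comap_of_injective _ E.injective⟩

/-- transport along an isomorphism -/
theorem aut_transport {S T : Type*} [Group S] [Group T] (e : S ≃* T) (n k : ℕ)
    (h1 : Cfsg.IsElementaryAbelian 2 (Cfsg.pCore 2 (MulAut T)))
    (h2 : Nat.card ↥(Cfsg.pCore 2 (MulAut T)) = n) (h3 : Nat.card (MulAut T) = k) :
    Cfsg.IsElementaryAbelian 2 (Cfsg.pCore 2 (MulAut S)) ∧
      Nat.card ↥(Cfsg.pCore 2 (MulAut S)) = n ∧ Nat.card (MulAut S) = k := by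
  have hE := pCore_map_equiv (MulAut.congr e)
  have hmem : ∀ a : MulAut S, a ∈ Cfsg.pCore 2 (MulAut S) →
      MulAut.congr e a ∈ Cfsg.pCore 2 (MulAut T) := by
    intro a ha
    rw [← hE]
    exact ⟨a, ha, rfl⟩
  refine ⟨⟨?_, ?_⟩, ?_, ?_⟩
  · constructor
    constructor
    rintro ⟨x, hx⟩ ⟨y, hy⟩
    apply Subtype.ext
    show x * y = y * x
    apply (MulAut.congr e).injective
    rw [map_mul, map_mul]
    have := h1.1.is_comm.comm (⟨_, hmem x hx⟩ : Cfsg.pCore 2 (MulAut T)) ⟨_, hmem y hy⟩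
    exact congrArg Subtype.val this
  · intro a ha
    apply (MulAut.congr e).injective
    rw [map_pow, map_one]
    exact h1.2 _ (hmem a ha)
  · rw [← h2, ← hE]
    exact (Subgroup.card_map_of_injective (MulAut.congr e).injective).symm
  · rw [← h3]
    exact Nat.card_congr (MulAut.congr e).toEquiv

section

variable [CharP F 2]

/-- the abstract group is the translation group -/
noncomputable def suzPHom (hm : 1 ≤ m) : SuzP F m →* transGroup hF hm :=
  MonoidHom.mk' (fun x => ⟨tS hF x.a x.b, tS_mem hF hm x.a x.b⟩) (by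
    intro x y
    apply Subtype.ext
    show tS hF (x * y).a (x * y).b = tS hF x.a x.b * tS hF y.a y.b
    rw [tS_mul hF hm, SuzP.mul_a, SuzP.mul_b]
    congr 1
    · rw [add_comm]
    · ring)

lemma suzPHom_bijective (hm : 1 ≤ m) : Function.Bijective (suzPHom (F := F) hF hm) := by
  constructor
  · intro x y h
    have h1 : tS hF x.a x.b = tS hF y.a y.b := congrArg Subtype.val h
    have := tS_injective hF h1
    ext
    · exact this.1
    · exact this.2
  · rintro ⟨g, hg⟩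
    obtain ⟨a, b, rfl⟩ := (mem_transGroup hF hm g).1 hg
    exact ⟨⟨a, b⟩, rfl⟩

end

include hF in
/-- every Sylow 2-subgroup of the Suzuki group is isomorphic to the abstract group -/
theorem sylow_equiv_SuzP [CharP F 2] (hm : 1 ≤ m) (P : Sylow 2 (Sz F m)) :
    Nonempty (↥(P : Subgroup (Sz F m)) ≃* SuzP F m) := by
  have hfin : Finite (Sz F m) := finite_Sz
  have : Fact (Nat.Prime 2) := ⟨Nat.prime_two⟩
  have hcardT : Nat.card (transGroup hF hm) = 2 ^ (Nat.card (Sz F m)).factorization 2 := by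
    rw [card_transGroup hF hm, factorization_card_Sz hF hm, ← pow_mul, mul_comm]
  let Q : Sylow 2 (Sz F m) := Sylow.ofCard (transGroup hF hm) hcardT
  obtain ⟨g, hg⟩ := MulAction.exists_smul_eq (Sz F m) Q P
  have e0 : (transGroup hF hm) ≃* ↥(g • Q : Sylow 2 (Sz F m)) := Sylow.equivSMul Q g
  rw [hg] at e0
  exact ⟨e0.symm.trans (MulEquiv.ofBijective _ (suzPHom_bijective hF hm)).symm⟩

include hF in
/-- the same for the Prelude's model -/
theorem sylow_lie_equiv_SuzP [CharP F 2] (hm : 1 ≤ m)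
    (P : Sylow 2 ↥(Cfsg.Lie.Sz F (2 ^ (m + 1)))) :
    Nonempty (↥(P : Subgroup ↥(Cfsg.Lie.Sz F (2 ^ (m + 1)))) ≃* SuzP F m) := by
  have hfin : Finite (Sz F m) := finite_Sz
  have : Fact (Nat.Prime 2) := ⟨Nat.prime_two⟩
  let e := Cfsg.Agent.Lib.Helper3.SzBridge.lieSzEquiv hF hm
  haveI : Finite ↥(Cfsg.Lie.Sz F (2 ^ (m + 1))) := Finite.of_injective e e.injective
  have hcard : Nat.card ((P : Subgroup ↥(Cfsg.Lie.Sz F (2 ^ (m + 1)))).map e.toMonoidHom)
      = 2 ^ (Nat.card (Sz F m)).factorization 2 := by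
    rw [Subgroup.card_map_of_injective e.injective, Sylow.card_eq_multiplicity,
      Nat.card_congr e.toEquiv]
  obtain ⟨e2⟩ := sylow_equiv_SuzP hF hm (Sylow.ofCard _ hcard)
  exact ⟨(e.subgroupMap (P : Subgroup ↥(Cfsg.Lie.Sz F (2 ^ (m + 1))))).trans e2⟩

include hF in
/-- the main theorem in abstract form -/
theorem aut_sylow_main (hm : 1 ≤ m) {S : Type*} [Group S]
    (P : Sylow 2 ↥(Cfsg.Lie.Sz F (2 ^ (m + 1))))
    (hS : Nonempty (S ≃* ↥(P : Subgroup ↥(Cfsg.Lie.Sz F (2 ^ (m + 1)))))) :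
    Cfsg.IsElementaryAbelian 2 (Cfsg.pCore 2 (MulAut S)) ∧
      Nat.card ↥(Cfsg.pCore 2 (MulAut S)) = 2 ^ ((2 * m + 1) ^ 2) ∧
      Nat.card (MulAut S) = 2 ^ ((2 * m + 1) ^ 2) * ((2 * m + 1) * (2 ^ (2 * m + 1) - 1)) := by
  haveI := charP hF
  obtain ⟨e1⟩ := hS
  obtain ⟨e2⟩ := sylow_lie_equiv_SuzP hF hm P
  apply aut_transport (e1.trans e2)
  · exact elemAb_pCore_SuzP hF
  · rw [pCore_mulAut_SuzP hF, card_ker_zmap hF]
  · exact card_mulAut_SuzP hF

end Cfsg.Agent.Lib.Helper3.Sz
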