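import Mathlib
import Cfsg.Agent.Lib.Helper3.SzCover2

set_option autoImplicit false

namespace Cfsg.Agent.Lib.Helper3.Sz

open Matrix Cfsg

lemma map_ne_top {H H' : Type*} [Group H] [Group H'] (f : H ≃* H') (A : Subgroup H)
    (hA : A ≠ ⊤) : A.map f.toMonoidHom ≠ ⊤ := by
  intro h0
  apply hA
  rw [eq_top_iff] at h0 ⊢
  intro x _
  obtain ⟨y, hy, hxy⟩ := h0 (Subgroup.mem_top (f x))
  have : y = x := f.injective hxy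
  rw [← this]; exact hy

/-- existence of a minimal cover by nilpotent subgroups is invariant under isomorphism -/
lemma nilpotent_min_cover_of_equiv {G G' : Type*} [Group G] [Group G'] (e : G ≃* G')
    (h : ∃ 𝓐 : Finset (Subgroup G), ((∀ A ∈ 𝓐, A ≠ ⊤) ∧ (∀ g : G, ∃ A ∈ 𝓐, g ∈ A)) ∧
      (∀ 𝓑 : Finset (Subgroup G), (∀ A ∈ 𝓑, A ≠ ⊤) ∧ (∀ g : G, ∃ A ∈ 𝓑, g ∈ A) →
        𝓐.card ≤ 𝓑.card) ∧ (∀ A ∈ 𝓐, Group.IsNilpotent ↥A)) :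
    ∃ 𝓐 : Finset (Subgroup G'), ((∀ A ∈ 𝓐, A ≠ ⊤) ∧ (∀ g : G', ∃ A ∈ 𝓐, g ∈ A)) ∧
      (∀ 𝓑 : Finset (Subgroup G'), (∀ A ∈ 𝓑, A ≠ ⊤) ∧ (∀ g : G', ∃ A ∈ 𝓑, g ∈ A) →
        𝓐.card ≤ 𝓑.card) ∧ (∀ A ∈ 𝓐, Group.IsNilpotent ↥A) := by
  classical
  obtain ⟨𝓐, ⟨hprop, hcov⟩, hmin, hnil⟩ := h
  refine ⟨𝓐.image (fun A => A.map e.toMonoidHom), ⟨?_, ?_⟩, ?_, ?_⟩
  · intro A' hA'
    obtain ⟨A, hA, rfl⟩ := Finset.mem_image.1 hA'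
    exact map_ne_top e A (hprop A hA)
  · intro g'
    obtain ⟨A, hA, hg⟩ := hcov (e.symm g')
    exact ⟨_, Finset.mem_image.2 ⟨A, hA, rfl⟩, ⟨e.symm g', hg, by simp⟩⟩
  · rintro 𝓑' ⟨hprop', hcov'⟩
    have h1 := hmin (𝓑'.image (fun A => A.map e.symm.toMonoidHom)) ⟨?_, ?_⟩
    · exact (Finset.card_image_le.trans h1).trans Finset.card_image_le
    · intro A hA
      obtain ⟨A', hA', rfl⟩ := Finset.mem_image.1 hA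
      exact map_ne_top e.symm A' (hprop' A' hA')
    · intro g
      obtain ⟨A', hA', hg⟩ := hcov' (e g)
      exact ⟨_, Finset.mem_image.2 ⟨A', hA', rfl⟩, ⟨e g, hg, by simp⟩⟩
  · intro A' hA'
    obtain ⟨A, hA, rfl⟩ := Finset.mem_image.1 hA'
    haveI := hnil A hA
    exact (Group.isNilpotent_congr (A.equivMapOfInjective _ e.injective)).1 inferInstance

variable {F : Type*} [Field F] [Fintype F] {m : ℕ} (hF : Fintype.card F = 2 ^ (2 * m + 1))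
  (hm : 1 ≤ m)

open Cfsg.Agent.Lib.Helper3.SzBridge in
include hF hm in
theorem no_nilpotent_min_cover_lie :
    ¬ ∃ 𝓐 : Finset (Subgroup ↥(Cfsg.Lie.Sz F (2 ^ (m + 1)))), ((∀ A ∈ 𝓐, A ≠ ⊤) ∧ (∀ g : ↥(Cfsg.Lie.Sz F (2 ^ (m + 1))), ∃ A ∈ 𝓐, g ∈ A)) ∧ (∀ 𝓑 : Finset (Subgroup ↥(Cfsg.Lie.Sz F (2 ^ (m + 1)))), (∀ A ∈ 𝓑, A ≠ ⊤) ∧ (∀ g : ↥(Cfsg.Lie.Sz F (2 ^ (m + 1))), ∃ A ∈ 𝓑, g ∈ A) → 𝓐.card ≤ 𝓑.card) ∧ (∀ A ∈ 𝓐, Group.IsNilpotent ↥A) := by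
  intro h
  exact no_nilpotent_min_cover hF hm (nilpotent_min_cover_of_equiv (lieSzEquiv hF hm) h)

end Cfsg.Agent.Lib.Helper3.Sz
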