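import Mathlib
import Cfsg.Agent.Lib.Helper3.SzFix2

set_option autoImplicit false

namespace Cfsg.Agent.Lib.Helper3.Sz

open Matrix Cfsg
open scoped Pointwise

variable {F : Type*} [Field F] [Fintype F] {m : ℕ} (hF : Fintype.card F = 2 ^ (2 * m + 1))
  (hm : 1 ≤ m)

/-- elements normalising a cyclic group normalise its subgroups -/
lemma conj_mem_of_le_cyclic {G : Type*} [Group G] {T M : Subgroup G} (hT : IsCyclic T)
    (hMT : M ≤ T) {x g : G} (hx : x ∈ Subgroup.normalizer (T : Set G)) (hg : g ∈ M) :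
    x⁻¹ * g * x ∈ M := by
  obtain ⟨⟨τ, hτ⟩, hgen⟩ := hT.exists_generator
  obtain ⟨i, hi⟩ := Subgroup.mem_zpowers_iff.1 (hgen ⟨g, hMT hg⟩)
  have hi' : τ ^ i = g := by
    have := congrArg Subtype.val hi
    simpa using this
  have hxτ : x⁻¹ * τ * x ∈ T := by
    have hx' : x⁻¹ ∈ Subgroup.normalizer (T : Set G) := inv_mem hx
    have := (Subgroup.mem_normalizer_iff.1 hx' τ).1 hτ
    simpa using this
  obtain ⟨j, hj⟩ := Subgroup.mem_zpowers_iff.1 (hgen ⟨x⁻¹ * τ * x, hxτ⟩)
  have hj' : τ ^ j = x⁻¹ * τ * x := by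
    have := congrArg Subtype.val hj
    simpa using this
  have : x⁻¹ * g * x = g ^ j := by
    rw [← hi', ← _root_.zpow_mul, mul_comm, _root_.zpow_mul, hj']
    have := conj_zpow (a := x⁻¹) (b := τ) (i := i)
    rw [inv_inv] at this
    exact this.symm
  rw [this]
  exact zpow_mem hg j

section main

variable {Ω : Type*} [Finite Ω] [MulAction (Sz F m) Ω]
  (htr : MulAction.IsPretransitive (Sz F m) Ω)
  (hfix : ∀ g : Sz F m, g ≠ 1 → Nat.card (MulAction.fixedBy Ω g) ≤ 2)
  (hex : ∃ g : Sz F m, g ≠ 1 ∧ Nat.card (MulAction.fixedBy Ω g) = 2)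

include hF hm htr hfix hex in
/-- transitive actions of the Suzuki groups with fixity two -/
theorem fixity_two :
    (∃ α : Ω, MulAction.stabilizer (Sz F m) α = stabInf F m) ∨
    (∃ α : Ω, MulAction.stabilizer (Sz F m) α = torusH (m := m) hF) := by
  have hfin : Finite (Sz F m) := finite_Sz
  haveI : Fact (Nat.Prime 2) := ⟨Nat.prime_two⟩
  obtain ⟨g₀, hg₀1, hg₀⟩ := hex
  have hne : (MulAction.fixedBy Ω g₀).Nonempty := by
    rw [← Set.nonempty_coe_sort, ← Finite.card_pos_iff, hg₀]
    norm_num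
  obtain ⟨α₀, hα₀⟩ := hne
  have hg₀M : g₀ ∈ MulAction.stabilizer (Sz F m) α₀ := hα₀
  -- no point stabiliser is the whole group
  have htop : ∀ α : Ω, MulAction.stabilizer (Sz F m) α ≠ ⊤ := by
    intro α h
    have hsub : ∀ β : Ω, β = α := by
      intro β
      obtain ⟨x, rfl⟩ := MulAction.exists_smul_eq (Sz F m) α β
      have : x ∈ MulAction.stabilizer (Sz F m) α := by rw [h]; trivial
      exact this
    have hss : Subsingleton Ω := ⟨fun a b => (hsub a).trans (hsub b).symm⟩
    have : Nat.card (MulAction.fixedBy Ω g₀) ≤ 1 := Finite.card_le_one_iff_subsingleton.2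
      inferInstance
    omega
  by_cases hev : Even (Nat.card (MulAction.stabilizer (Sz F m) α₀))
  · left
    -- an involution in the stabiliser
    obtain ⟨t, ht⟩ := exists_prime_orderOf_dvd_card' (G := MulAction.stabilizer (Sz F m) α₀) 2
      (even_iff_two_dvd.1 hev)
    have ht2 : (t : Sz F m) * (t : Sz F m) = 1 := by
      have : t * t = 1 := by rw [← pow_two, ← ht]; exact pow_orderOf_eq_one t
      have := congrArg Subtype.val this
      simpa using this
    have ht1 : (t : Sz F m) ≠ 1 := by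
      intro h
      have : t = 1 := Subtype.ext h
      rw [this, orderOf_one] at ht
      omega
    have hp : IsPGroup 2 (Subgroup.zpowers (t : Sz F m)) := by
      apply IsPGroup.of_card (n := 1)
      rw [Nat.card_zpowers, pow_one, Subgroup.orderOf_coe, ht]
    obtain ⟨P, hP⟩ := hp.exists_le_sylow
    obtain ⟨h, hh⟩ := exists_conj_transGroup hF hm P
    have htQ : h⁻¹ * (t : Sz F m) * h ∈ transGroup hF hm :=
      (hh _).1 (hP (Subgroup.mem_zpowers _))
    obtain ⟨a, b, hab⟩ := (mem_transGroup hF hm _).1 htQ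
    have hsq : tS hF a b * tS hF a b = 1 := by
      rw [← hab]
      calc h⁻¹ * (t : Sz F m) * h * (h⁻¹ * (t : Sz F m) * h)
          = h⁻¹ * ((t : Sz F m) * (t : Sz F m)) * h := by group
        _ = 1 := by rw [ht2]; group
    rw [tS_sq hF hm, ← tS_zero_zero hF hm] at hsq
    have ha : a = 0 := by
      have := (tS_injective hF hsq).2
      rcases mul_eq_zero.mp this with h0 | h0
      · exact pow_eq_zero_iff (by positivity) |>.1 h0
      · exact h0
    subst ha
    have hb : b ≠ 0 := by
      rintro rfl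
      rw [tS_zero_zero hF hm] at hab
      apply ht1
      have : (t : Sz F m) = h * (h⁻¹ * (t : Sz F m) * h) * h⁻¹ := by group
      rw [this, hab]; group
    refine ⟨h⁻¹ • α₀, ?_⟩
    have hbM : tS hF 0 b ∈ MulAction.stabilizer (Sz F m) (h⁻¹ • α₀) := by
      rw [MulAction.mem_stabilizer_iff, ← hab, ← mul_smul]
      have : h⁻¹ * (t : Sz F m) * h * h⁻¹ = h⁻¹ * (t : Sz F m) := by group
      rw [this, mul_smul, MulAction.mem_stabilizer_iff.1 t.2]
    exact stabilizer_eq_stabInf hF hm hfix _ hb hbM (htop _)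
  · right
    rw [Nat.not_even_iff_odd] at hev
    have hbot : MulAction.stabilizer (Sz F m) α₀ ≠ ⊥ := by
      intro h
      rw [h, Subgroup.mem_bot] at hg₀M
      exact hg₀1 hg₀M
    obtain ⟨T, hT, hMT⟩ := exists_torus_of_odd hF hm _ hev hbot
    have hidx : ((MulAction.stabilizer (Sz F m) α₀).subgroupOf
        (Subgroup.normalizer (T : Set (Sz F m)))).index ≤ 2 := by
      apply relIndex_le_two_of_fixedBy α₀ g₀ _ _ (hfix _ hg₀1)
      intro x hx
      have h1 := conj_mem_of_le_cyclic hT.1 hMT hx hg₀M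
      have h2 : g₀ * x = x * (x⁻¹ * g₀ * x) := by group
      rw [← mul_smul, h2, mul_smul, MulAction.mem_stabilizer_iff.1 h1]
    have hMN : MulAction.stabilizer (Sz F m) α₀ ≤ Subgroup.normalizer (T : Set (Sz F m)) :=
      hMT.trans Subgroup.le_normalizer
    have hc1 := Subgroup.card_mul_index ((MulAction.stabilizer (Sz F m) α₀).subgroupOf
      (Subgroup.normalizer (T : Set (Sz F m))))
    rw [Nat.card_congr (Subgroup.subgroupOfEquivOfLe hMN).toEquiv] at hc1
    have hc2 : Nat.card (MulAction.stabilizer (Sz F m) α₀) ≤ Nat.card T :=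
      Nat.le_of_dvd Nat.card_pos (Subgroup.card_dvd_of_le hMT)
    have hTpos : 0 < Nat.card T := Nat.card_pos
    have hc3 : Nat.card (Subgroup.normalizer (T : Set (Sz F m)))
        ≤ 2 * Nat.card (MulAction.stabilizer (Sz F m) α₀) := by
      rw [← hc1, mul_comm]
      exact Nat.mul_le_mul_right _ hidx
    have hN2 : Nat.card (Subgroup.normalizer (T : Set (Sz F m))) = 2 * Nat.card T := by
      rcases hT.2.2.2 with h | h
      · exact h
      · omega
    have hcardeq : Nat.card T ≤ Nat.card (MulAction.stabilizer (Sz F m) α₀) := by omega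
    have hMeqT : MulAction.stabilizer (Sz F m) α₀ = T :=
      Subgroup.eq_of_le_of_card_ge hMT hcardeq
    obtain ⟨g, hg⟩ := hT.exists_conj_torusH hF hm hN2
    refine ⟨g⁻¹ • α₀, ?_⟩
    rw [MulAction.stabilizer_smul_eq_stabilizer_map_conj, hMeqT, hg, map_conj_inv_map_conj]

end main

end Cfsg.Agent.Lib.Helper3.Sz
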