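import Mathlib
import Cfsg.Agent.Lib.Helper3.SzFix3
import Cfsg.Agent.Lib.Helper3.SzBridge
import Cfsg.Agent.Lib.Helper3.SzOvoid

set_option autoImplicit false

namespace Cfsg.Agent.Lib.Helper3.Sz

open Matrix Cfsg
open scoped Pointwise

variable {F : Type*} [Field F] [Fintype F] {m : ℕ} (hF : Fintype.card F = 2 ^ (2 * m + 1))
  (hm : 1 ≤ m)

section main

variable {Ω : Type*} [Finite Ω] [MulAction (Sz F m) Ω]
  (htr : MulAction.IsPretransitive (Sz F m) Ω)
  (hfix : ∀ g : Sz F m, g ≠ 1 → Nat.card (MulAction.fixedBy Ω g) ≤ 2)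
  (hex : ∃ g : Sz F m, g ≠ 1 ∧ Nat.card (MulAction.fixedBy Ω g) = 2)

include hF hm htr hfix hex in
/-- transitive actions of the Suzuki groups with fixity two: degrees -/
theorem fixity_two_card :
    (Nat.card Ω = (2 ^ (2 * m + 1)) ^ 2 + 1 ∧ MulAction.IsMultiplyPretransitive (Sz F m) Ω 2) ∨
    (Nat.card Ω = (2 ^ (2 * m + 1)) ^ 2 * ((2 ^ (2 * m + 1)) ^ 2 + 1) ∧
      ∀ β : Ω, Nat.card (MulAction.stabilizer (Sz F m) β) = 2 ^ (2 * m + 1) - 1) := by
  have hfin : Finite (Sz F m) := finite_Sz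
  have hq : 2 ≤ 2 ^ (2 * m + 1) := by
    calc 2 = 2 ^ 1 := by norm_num
      _ ≤ 2 ^ (2 * m + 1) := Nat.pow_le_pow_right (by norm_num) (by omega)
  rcases fixity_two hF hm htr hfix hex with ⟨α, hα⟩ | ⟨α, hα⟩
  · left
    constructor
    · rw [← MulAction.index_stabilizer_of_transitive (Sz F m) α, hα]
      have h1 := Subgroup.card_mul_index (stabInf F m)
      have h2 : Nat.card (stabInf F m) = (2 ^ (2 * m + 1)) ^ 2 * (2 ^ (2 * m + 1) - 1) :=
        card_stab_inf hF hm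
      rw [h2, card_Sz hF hm] at h1
      have hpos : 0 < (2 ^ (2 * m + 1)) ^ 2 * (2 ^ (2 * m + 1) - 1) := by
        apply Nat.mul_pos (by positivity)
        omega
      apply Nat.eq_of_mul_eq_mul_left hpos
      rw [h1]; ring
    · apply is_two_pretransitive_of_stabilizer_eq α (ptInf F m)
      · rw [hα, stabilizer_ptInf]
      · exact (zassenhaus hF hm).2.1
  · right
    have hcardst : ∀ β : Ω, Nat.card (MulAction.stabilizer (Sz F m) β) = 2 ^ (2 * m + 1) - 1 := by
      intro β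
      obtain ⟨x, rfl⟩ := MulAction.exists_smul_eq (Sz F m) α β
      rw [MulAction.stabilizer_smul_eq_stabilizer_map_conj, hα,
        Subgroup.card_map_of_injective (MulAut.conj x).injective, card_torusH hF]
    refine ⟨?_, hcardst⟩
    rw [← MulAction.index_stabilizer_of_transitive (Sz F m) α]
    have h1 := Subgroup.card_mul_index (MulAction.stabilizer (Sz F m) α)
    rw [hcardst α, card_Sz hF hm] at h1
    have hpos : 0 < 2 ^ (2 * m + 1) - 1 := by omega
    apply Nat.eq_of_mul_eq_mul_left hpos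
    rw [h1]; ring

end main

open Cfsg.Agent.Lib.Helper3.SzBridge in
include hF hm in
/-- transitive actions with fixity two of groups isomorphic to a Suzuki group -/
theorem fixity_two_of_equiv {G : Type*} [Group G] (e : G ≃* ↥(Cfsg.Lie.Sz F (2 ^ (m + 1))))
    {Ω : Type*} [Fintype Ω] [MulAction G Ω] (htr : MulAction.IsPretransitive G Ω)
    (hfix : ∀ g : G, g ≠ 1 → Nat.card (MulAction.fixedBy Ω g) ≤ 2)
    (hex : ∃ g : G, g ≠ 1 ∧ Nat.card (MulAction.fixedBy Ω g) = 2) :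
    (Fintype.card Ω = Fintype.card F ^ 2 + 1 ∧ MulAction.IsMultiplyPretransitive G Ω 2) ∨
    (Fintype.card Ω = Fintype.card F ^ 2 * (Fintype.card F ^ 2 + 1) ∧
      ∀ α : Ω, Nat.card (MulAction.stabilizer G α) = Fintype.card F - 1) := by
  obtain ⟨e', he'⟩ : ∃ e' : G ≃* Sz F m, e' = e.trans (lieSzEquiv hF hm) := ⟨_, rfl⟩
  letI act : MulAction (Sz F m) Ω := MulAction.compHom Ω e'.symm.toMonoidHom
  have hsmul : ∀ (g' : Sz F m) (x : Ω), g' • x = e'.symm g' • x := fun _ _ => rfl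
  have htr' : MulAction.IsPretransitive (Sz F m) Ω := by
    refine ⟨fun a b => ?_⟩
    obtain ⟨g, hg⟩ := MulAction.exists_smul_eq G a b
    exact ⟨e' g, by rw [hsmul, MulEquiv.symm_apply_apply]; exact hg⟩
  have hfb : ∀ g' : Sz F m, MulAction.fixedBy Ω g' = MulAction.fixedBy Ω (e'.symm g') := by
    intro g'
    ext x
    rfl
  have hfix' : ∀ g' : Sz F m, g' ≠ 1 → Nat.card (MulAction.fixedBy Ω g') ≤ 2 := by
    intro g' hg'
    rw [hfb]
    apply hfix
    intro h
    exact hg' ((MulEquiv.map_eq_one_iff e'.symm).1 h)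
  have hex' : ∃ g' : Sz F m, g' ≠ 1 ∧ Nat.card (MulAction.fixedBy Ω g') = 2 := by
    obtain ⟨g, hg1, hg⟩ := hex
    refine ⟨e' g, ?_, ?_⟩
    · intro h
      exact hg1 ((MulEquiv.map_eq_one_iff e').1 h)
    · rw [hfb, MulEquiv.symm_apply_apply]; exact hg
  have hst : ∀ α : Ω, Nat.card (MulAction.stabilizer G α)
      = Nat.card (MulAction.stabilizer (Sz F m) α) := by
    intro α
    apply Nat.card_congr
    refine e'.toEquiv.subtypeEquiv ?_
    intro g
    rw [MulAction.mem_stabilizer_iff, MulAction.mem_stabilizer_iff, hsmul]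
    simp
  rw [← Nat.card_eq_fintype_card (α := Ω), hF]
  rcases fixity_two_card hF hm htr' hfix' hex' with ⟨h1, h2⟩ | ⟨h1, h2⟩
  · left
    refine ⟨h1, ?_⟩
    rw [MulAction.is_two_pretransitive_iff] at h2 ⊢
    intro a b c d hab hcd
    obtain ⟨g', hg1, hg2⟩ := h2 hab hcd
    exact ⟨e'.symm g', hg1, hg2⟩
  · right
    refine ⟨h1, fun α => ?_⟩
    rw [hst, h2]

end Cfsg.Agent.Lib.Helper3.Sz
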