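import Mathlib
import Cfsg.Agent.Lib.Helper3.SzTorus

set_option autoImplicit false

namespace Cfsg.Agent.Lib.Helper3.Sz

open Matrix Cfsg

variable {F : Type*} [Field F] [Fintype F] {m : ℕ} (hF : Fintype.card F = 2 ^ (2 * m + 1))
  (hm : 1 ≤ m)

omit [Fintype F] in
lemma smul_vec_def (g : Sz F m) (v : Fin 4 → F) : g • v = (g.1.1 : Matrix _ _ F) *ᵥ v := rfl

include hF in
lemma eq_one_of_pow_two_pow {x : F} (n : ℕ) (h : x ^ (2 ^ n) = 1) : x = 1 := by
  have := charP hF
  have : Fact (Nat.Prime 2) := ⟨Nat.prime_two⟩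
  have h1 : (x - 1) ^ (2 ^ n) = 0 := by
    rw [sub_pow_char_pow, h, one_pow, sub_self]
  exact sub_eq_zero.1 (pow_eq_zero_iff (by positivity) |>.1 h1)

include hF in
lemma eq_one_of_pow_one_add {x : F} (hx : x ≠ 0) (h : x ^ (1 + 2 ^ m) = 1) : x = 1 := by
  have h1 : x ^ (2 ^ m) = x⁻¹ := by
    rw [pow_add, pow_one] at h
    exact eq_inv_of_mul_eq_one_right h
  have h2 : x ^ (2 ^ (2 * m)) = x := by
    have : 2 ^ (2 * m) = 2 ^ m * 2 ^ m := by rw [← pow_add]; congr 1; ring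
    rw [this, pow_mul, h1, inv_pow, h1, inv_inv]
  have h3 : x ^ 2 = x := by
    have h4 := pow_q hF x
    have : 2 ^ (2 * m + 1) = 2 ^ (2 * m) * 2 := by rw [pow_succ]
    rw [this, pow_mul, h2] at h4
    exact h4
  have h5 : x * (x - 1) = 0 := by ring_nf; rw [h3]; ring
  rcases mul_eq_zero.1 h5 with h | h
  · exact absurd h hx
  · exact sub_eq_zero.1 h

include hF in
/-- non-identity elements of the split torus fix no non-zero vector -/
lemma kS_fpf (k : Fˣ) (hk : k ≠ 1) (v : Fin 4 → F) (hv : kS hF k • v = v) : v = 0 := by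
  have hk0 : (k : F) ≠ 0 := k.ne_zero
  have hk1 : (k : F) ≠ 1 := fun h => hk (Units.ext h)
  have hki0 : ((k⁻¹ : Fˣ) : F) ≠ 0 := (k⁻¹).ne_zero
  have hki1 : ((k⁻¹ : Fˣ) : F) ≠ 1 := fun h => hk (by
    have : k⁻¹ = 1 := Units.ext h
    exact inv_eq_one.1 this)
  have key : ∀ i, (![(k : F) ^ (1 + 2 ^ m), (k : F) ^ (2 ^ m), ((k⁻¹ : Fˣ) : F) ^ (2 ^ m),
    ((k⁻¹ : Fˣ) : F) ^ (1 + 2 ^ m)] : Fin 4 → F) i * v i = v i := by
    intro i
    have := congrFun hv i
    rw [smul_vec_def] at this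
    have e : ((kS hF k : Sz F m).1.1 : Matrix (Fin 4) (Fin 4) F) = torM m k := rfl
    rw [e, torM, Matrix.mulVec_diagonal] at this
    exact this
  have hz : ∀ (d x : F), d ≠ 1 → d * x = x → x = 0 := by
    intro d x hd h
    have : (d - 1) * x = 0 := by rw [sub_mul, h, one_mul, sub_self]
    rcases mul_eq_zero.1 this with h | h
    · exact absurd (sub_eq_zero.1 h) hd
    · exact h
  ext i
  fin_cases i
  · refine hz _ _ ?_ (key 0)
    exact fun h => hk1 (eq_one_of_pow_one_add hF hk0 h)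
  · refine hz _ _ ?_ (key 1)
    exact fun h => hk1 (eq_one_of_pow_two_pow hF m h)
  · refine hz _ _ ?_ (key 2)
    exact fun h => hki1 (eq_one_of_pow_two_pow hF m h)
  · refine hz _ _ ?_ (key 3)
    exact fun h => hki1 (eq_one_of_pow_one_add hF hki0 h)

/-- the fixed subspace of an element -/
def fixSub (g : Sz F m) : Submodule F (Fin 4 → F) where
  carrier := {v | g • v = v}
  add_mem' := by
    intro a b ha hb
    simp only [Set.mem_ofPred_eq] at ha hb ⊢
    rw [smul_add, ha, hb]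
  zero_mem' := by simp
  smul_mem' := by
    intro c a ha
    simp only [Set.mem_ofPred_eq] at ha ⊢
    rw [smul_vec_def, Matrix.mulVec_smul, ← smul_vec_def, ha]

omit [Fintype F] in
lemma mem_fixSub (g : Sz F m) (v : Fin 4 → F) : v ∈ fixSub g ↔ g • v = v := Iff.rfl

omit [Fintype F] in
lemma eq_one_of_fixSub_top (g : Sz F m) (h : fixSub g = ⊤) : g = 1 := by
  apply Subtype.ext
  apply Subtype.ext
  have h1 : ∀ v : Fin 4 → F, (g.1.1 : Matrix _ _ F) *ᵥ v = v := by
    intro v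
    have : v ∈ fixSub g := by rw [h]; trivial
    exact this
  have : (g.1.1 : Matrix (Fin 4) (Fin 4) F) = 1 := by
    apply Matrix.toLin'.injective
    apply LinearMap.ext
    intro v
    rw [Matrix.toLin'_apply, h1, Matrix.toLin'_one]
    rfl
  exact this

end Cfsg.Agent.Lib.Helper3.Sz
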