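import Mathlib
import Cfsg.Agent.Lib.Helper3.SzFpf1

set_option autoImplicit false

namespace Cfsg.Agent.Lib.Helper3.Sz

open Matrix Cfsg

variable {F : Type*} [Field F] [Fintype F] {m : ℕ} (hF : Fintype.card F = 2 ^ (2 * m + 1))
  (hm : 1 ≤ m)

lemma arith_fpf (p q j : ℕ) (hp : p.Prime) (hp2 : p ≠ 2) (hpd : p ∣ q ^ 2 + 1)
    (hj0 : j ≠ 0) (hj4 : j < 4) (h : q ^ 4 ≡ q ^ j [MOD p]) : False := by
  have : Fact p.Prime := ⟨hp⟩
  have h1 : ((q : ZMod p)) ^ 2 = -1 := by
    have : ((q ^ 2 + 1 : ℕ) : ZMod p) = 0 := (ZMod.natCast_eq_zero_iff _ _).2 hpd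
    push_cast at this
    linear_combination this
  have h2 : ((q : ZMod p)) ^ 4 = (q : ZMod p) ^ j := by
    have := (ZMod.natCast_eq_natCast_iff _ _ _).2 h
    push_cast at this
    exact this
  have h4 : ((q : ZMod p)) ^ 4 = 1 := by
    have : ((q : ZMod p)) ^ 4 = ((q : ZMod p) ^ 2) ^ 2 := by ring
    rw [this, h1]; ring
  have h20 : (2 : ZMod p) ≠ 0 := by
    intro h
    have : ((2 : ℕ) : ZMod p) = 0 := by exact_mod_cast h
    rw [ZMod.natCast_eq_zero_iff] at this
    exact hp2 ((Nat.prime_dvd_prime_iff_eq hp Nat.prime_two).1 this)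
  have hq1 : (q : ZMod p) ^ 2 = 1 := by
    interval_cases j
    · exact absurd rfl hj0
    · rw [h4, pow_one] at h2
      rw [← h2]; ring
    · rw [← h2, h4]
    · rw [h4] at h2
      have : (q : ZMod p) = 1 := by
        calc (q : ZMod p) = (q : ZMod p) * 1 := by ring
          _ = (q : ZMod p) * (q : ZMod p) ^ 3 := by rw [← h2]
          _ = (q : ZMod p) ^ 4 := by ring
          _ = 1 := h4
      rw [this]; ring
  apply h20
  rw [hq1] at h1
  linear_combination h1

omit hF in
/-- elements of odd prime order dividing `q² + 1` fix no non-zero vector -/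
lemma fpf_of_prime_order (g : Sz F m) (p : ℕ) (hp : p.Prime) (hp2 : p ≠ 2)
    (hpd : p ∣ Fintype.card F ^ 2 + 1) (hg : orderOf g = p) (v : Fin 4 → F) (hv : g • v = v) :
    v = 0 := by
  by_contra hv0
  have : Fact p.Prime := ⟨hp⟩
  have hP : IsPGroup p (Subgroup.zpowers g) :=
    IsPGroup.of_card (n := 1) (by rw [Nat.card_zpowers, hg, pow_one])
  have h1 := hP.card_modEq_card_fixedPoints (Fin 4 → F)
  have h2 : Nat.card (MulAction.fixedPoints (Subgroup.zpowers g) (Fin 4 → F))
      = Nat.card (fixSub g) := by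
    apply Nat.card_congr
    apply Equiv.setCongr
    ext w
    constructor
    · intro hw
      exact hw ⟨g, Subgroup.mem_zpowers g⟩
    · rintro hw ⟨h, hh⟩
      have hs : g ∈ MulAction.stabilizer (Sz F m) w := hw
      have : Subgroup.zpowers g ≤ MulAction.stabilizer (Sz F m) w :=
        (Subgroup.zpowers_le).2 hs
      exact this hh
  have h3 : Nat.card (Fin 4 → F) = Fintype.card F ^ 4 := by
    rw [Nat.card_eq_fintype_card, Fintype.card_fun, Fintype.card_fin]
  have h4 : Nat.card (fixSub g) = Fintype.card F ^ Module.finrank F (fixSub g) := by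
    rw [Module.natCard_eq_pow_finrank (K := F), Nat.card_eq_fintype_card]
  rw [h2, h3, h4] at h1
  have hle : Module.finrank F (fixSub g) ≤ 4 := by
    have := Submodule.finrank_le (fixSub g)
    rwa [Module.finrank_fin_fun] at this
  have hne0 : Module.finrank F (fixSub g) ≠ 0 := by
    intro h
    have hb : fixSub g = ⊥ := Submodule.finrank_eq_zero.1 h
    have : v ∈ fixSub g := hv
    rw [hb, Submodule.mem_bot] at this
    exact hv0 this
  have hne4 : Module.finrank F (fixSub g) ≠ 4 := by
    intro h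
    have ht : fixSub g = ⊤ := by
      apply Submodule.eq_top_of_finrank_eq
      rw [h, Module.finrank_fin_fun]
    have := eq_one_of_fixSub_top g ht
    rw [this, orderOf_one] at hg
    exact hp.one_lt.ne hg
  exact arith_fpf p _ _ hp hp2 hpd hne0 (by omega) h1

include hF hm in
/-- non-identity elements of odd order of `Sz(q)` fix no non-zero vector of the natural module -/
theorem fpf_of_odd (g : Sz F m) (hodd : Odd (orderOf g)) (hg1 : g ≠ 1) (v : Fin 4 → F)
    (hv : g • v = v) : v = 0 := by
  have hfin : Finite (Sz F m) := finite_Sz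
  rcases trichotomy hF hm g hg1 with h | h | h
  · exfalso
    have h4 := pow_four_of_mem_conjSet_transGroup hF hm h
    have h1 : orderOf g ∣ 4 := orderOf_dvd_of_pow_eq_one h4
    have h2 : orderOf g = 1 := by
      have hc : Nat.Coprime (orderOf g) 4 := by
        have : Nat.Coprime (orderOf g) 2 := Nat.coprime_two_right.2 hodd
        exact Nat.Coprime.pow_right 2 this
      exact Nat.eq_one_of_dvd_coprimes hc (dvd_refl _) h1
    exact hg1 (orderOf_eq_one_iff.1 h2)
  · obtain ⟨_, x, hx⟩ := h
    obtain ⟨k, hk⟩ := (mem_torusH hF _).1 hx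
    have hk1 : k ≠ 1 := by
      rintro rfl
      have hk' : x * g * x⁻¹ = 1 := by
        rw [hk]; exact Subtype.ext (Subtype.ext (by
          show torM m 1 = 1
          simp only [torM, inv_one, Units.val_one, one_pow]
          rw [← Matrix.diagonal_one]
          congr 1
          ext i; fin_cases i <;> rfl))
      apply hg1
      have : g = x⁻¹ * (x * g * x⁻¹) * x := by group
      rw [this, hk']; group
    have hfix : kS hF k • (x • v) = x • v := by
      rw [← hk, ← mul_smul, inv_mul_cancel_right, mul_smul, hv]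
    have := kS_fpf hF k hk1 _ hfix
    exact (smul_eq_zero_iff_eq x).1 this
  · obtain ⟨_, p, hpp, hp2, hpd, hpx⟩ := h
    have hn0 : orderOf g ≠ 0 := (orderOf_pos g).ne'
    have hy : orderOf (g ^ (orderOf g / p)) = p := orderOf_pow_orderOf_div hn0 hpx
    refine fpf_of_prime_order _ p hpp hp2 hpd hy v ?_
    have hs : g ∈ MulAction.stabilizer (Sz F m) v := hv
    exact pow_mem hs _

end Cfsg.Agent.Lib.Helper3.Sz
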