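import Mathlib

set_option autoImplicit false

namespace Cfsg.Agent.Lib.Helper3.SzLaw

open Polynomial Matrix

section ring

variable {R : Type*} [CommRing R]

/-- the central root element `U(0,b)` -/
def uM (θ : ℕ) (b : R) : Matrix (Fin 4) (Fin 4) R :=
  !![1, 0, b, b ^ θ; 0, 1, 0, b; 0, 0, 1, 0; 0, 0, 0, 1]

/-- the opposite central root element -/
def lM (θ : ℕ) (b : R) : Matrix (Fin 4) (Fin 4) R :=
  !![1, 0, 0, 0; 0, 1, 0, 0; b, 0, 1, 0; b ^ θ, b, 0, 1]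

lemma uM_mulVec (θ : ℕ) (b : R) (v : Fin 4 → R) :
    uM θ b *ᵥ v = ![v 0 + b * v 2 + b ^ θ * v 3, v 1 + b * v 3, v 2, v 3] := by
  ext k
  fin_cases k <;> simp [uM, Matrix.mulVec, dotProduct, Fin.sum_univ_four] <;> ring

lemma lM_mulVec (θ : ℕ) (b : R) (v : Fin 4 → R) :
    lM θ b *ᵥ v = ![v 0, v 1, b * v 0 + v 2, b ^ θ * v 0 + b * v 1 + v 3] := by
  ext k
  fin_cases k <;> simp [lM, Matrix.mulVec, dotProduct, Fin.sum_univ_four]

/-- reversal of coordinates -/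
def flip4 (v : Fin 4 → R) : Fin 4 → R := ![v 3, v 2, v 1, v 0]

lemma flip4_flip4 (v : Fin 4 → R) : flip4 (flip4 v) = v := by
  ext k
  fin_cases k <;> rfl

lemma lM_mulVec_flip (θ : ℕ) (b : R) (v : Fin 4 → R) :
    lM θ b *ᵥ v = flip4 (uM θ b *ᵥ flip4 v) := by
  rw [lM_mulVec, uM_mulVec]
  ext k
  fin_cases k <;> simp [flip4] <;> ring

lemma uM_add (θ : ℕ) (hadd : ∀ x y : R, (x + y) ^ θ = x ^ θ + y ^ θ) (b c : R) :
    uM θ b * uM θ c = uM θ (b + c) := by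
  ext i j
  fin_cases i <;> fin_cases j <;>
    simp [uM, Matrix.mul_apply, Fin.sum_univ_four, hadd] <;> ring

lemma lM_add (θ : ℕ) (hadd : ∀ x y : R, (x + y) ^ θ = x ^ θ + y ^ θ) (b c : R) :
    lM θ b * lM θ c = lM θ (b + c) := by
  ext i j
  fin_cases i <;> fin_cases j <;>
    simp [lM, Matrix.mul_apply, Fin.sum_univ_four, hadd] <;> ring

/-- the matrix of a letter -/
def letterMat (s : ℕ → R) (θ : ℕ) (l : ℕ × Bool) : Matrix (Fin 4) (Fin 4) R :=
  cond l.2 (uM θ (s l.1) * lM θ (s l.1)) (lM θ (s l.1) * uM θ (s l.1))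

lemma lm_true (s : ℕ → R) (θ : ℕ) (j : ℕ) :
    letterMat s θ (j, true) = uM θ (s j) * lM θ (s j) := rfl

lemma lm_false (s : ℕ → R) (θ : ℕ) (j : ℕ) :
    letterMat s θ (j, false) = lM θ (s j) * uM θ (s j) := rfl

/-- the matrix of a word -/
def wordMat (s : ℕ → R) (θ : ℕ) (L : List (ℕ × Bool)) : Matrix (Fin 4) (Fin 4) R :=
  (L.map (letterMat s θ)).prod

lemma wm_nil (s : ℕ → R) (θ : ℕ) : wordMat s θ [] = 1 := by
  unfold wordMat
  rw [List.map_nil, List.prod_nil]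

lemma wm_cons (s : ℕ → R) (θ : ℕ) (l : ℕ × Bool) (L : List (ℕ × Bool)) :
    wordMat s θ (l :: L) = letterMat s θ l * wordMat s θ L := by
  unfold wordMat
  rw [List.map_cons, List.prod_cons]

end ring

section map

variable {R S : Type*} [CommRing R] [CommRing S] (φ : R →+* S)

lemma uM_map (θ : ℕ) (b : R) : φ.mapMatrix (uM θ b) = uM θ (φ b) := by
  ext i j
  fin_cases i <;> fin_cases j <;> simp [uM]

lemma lM_map (θ : ℕ) (b : R) : φ.mapMatrix (lM θ b) = lM θ (φ b) := by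
  ext i j
  fin_cases i <;> fin_cases j <;> simp [lM]

lemma letterMat_map (s : ℕ → R) (θ : ℕ) (l : ℕ × Bool) :
    φ.mapMatrix (letterMat s θ l) = letterMat (fun i => φ (s i)) θ l := by
  rcases l with ⟨i, b⟩
  cases b
  · rw [lm_false, lm_false, map_mul, uM_map, lM_map]
  · rw [lm_true, lm_true, map_mul, uM_map, lM_map]

lemma wordMat_map (s : ℕ → R) (θ : ℕ) (L : List (ℕ × Bool)) :
    φ.mapMatrix (wordMat s θ L) = wordMat (fun i => φ (s i)) θ L := by
  induction L with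
  | nil => rw [wm_nil, wm_nil, map_one]
  | cons l L ih => rw [wm_cons, wm_cons, map_mul, ih, letterMat_map]

end map

end Cfsg.Agent.Lib.Helper3.SzLaw
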