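import Mathlib
import Cfsg.Agent.Lib.Helper3.SzLaw1

set_option autoImplicit false

namespace Cfsg.Agent.Lib.Helper3.SzLaw

open Polynomial Matrix

variable {F : Type*} [Field F]

/-- the last coordinate dominates (weakly) -/
def Dom4 (v : Fin 4 → F[X]) : Prop := v 3 ≠ 0 ∧ ∀ k, degree (v k) ≤ degree (v 3)

/-- the first coordinate dominates strictly -/
def SDom1 (v : Fin 4 → F[X]) : Prop := ∀ k, k ≠ 0 → degree (v k) < degree (v 0)

/-- the first coordinate dominates (weakly) -/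
def Dom1 (v : Fin 4 → F[X]) : Prop := Dom4 (flip4 v)

/-- the last coordinate dominates strictly -/
def SDom4 (v : Fin 4 → F[X]) : Prop := SDom1 (flip4 v)

lemma SDom1.dom1 {v : Fin 4 → F[X]} (h : SDom1 v) : Dom1 v := by
  have h0 : v 0 ≠ 0 := ne_zero_of_degree_gt (h 1 (by decide))
  refine ⟨h0, ?_⟩
  intro k
  fin_cases k
  · exact (h 3 (by decide)).le
  · exact (h 2 (by decide)).le
  · exact (h 1 (by decide)).le
  · exact le_refl _

lemma SDom4.dom4 {v : Fin 4 → F[X]} (h : SDom4 v) : Dom4 v := by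
  have := SDom1.dom1 h
  unfold Dom1 at this
  rwa [flip4_flip4] at this

/-- the key estimate -/
lemma uM_dom (θ : ℕ) (hθ : 2 ≤ θ) (b : F[X]) (hb : 1 ≤ degree b) (v : Fin 4 → F[X])
    (hv : Dom4 v) : SDom1 (uM θ b *ᵥ v) := by
  obtain ⟨h3, hle⟩ := hv
  have hb0 : b ≠ 0 := by
    rintro rfl
    rw [degree_zero] at hb
    exact absurd hb (by simp)
  obtain ⟨n, hn⟩ : ∃ n, n = natDegree (v 3) := ⟨_, rfl⟩
  obtain ⟨d, hd⟩ : ∃ d, d = natDegree b := ⟨_, rfl⟩
  have hd1 : 1 ≤ d := by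
    have h := hb
    rw [degree_eq_natDegree hb0, ← hd] at h
    exact_mod_cast h
  have e3 : degree (v 3) = (n : WithBot ℕ) := by rw [hn]; exact degree_eq_natDegree h3
  have eb : degree b = (d : WithBot ℕ) := by rw [hd]; exact degree_eq_natDegree hb0
  have hT0 : b ^ θ * v 3 ≠ 0 := mul_ne_zero (pow_ne_zero _ hb0) h3
  have eT : degree (b ^ θ * v 3) = ((θ * d + n : ℕ) : WithBot ℕ) := by
    rw [degree_eq_natDegree hT0, natDegree_mul (pow_ne_zero _ hb0) h3, natDegree_pow, ← hd, ← hn]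
  have hlt : d + n < θ * d + n := by nlinarith
  have lt_T : ∀ p : F[X], degree p ≤ ((d + n : ℕ) : WithBot ℕ) → degree p < degree (b ^ θ * v 3) := by
    intro p hp
    rw [eT]
    exact lt_of_le_of_lt hp (by exact_mod_cast hlt)
  have le_n : ∀ k, degree (v k) ≤ ((d + n : ℕ) : WithBot ℕ) := by
    intro k
    refine le_trans (hle k) ?_
    rw [e3]
    exact_mod_cast Nat.le_add_left n d
  have le_b : ∀ k, degree (b * v k) ≤ ((d + n : ℕ) : WithBot ℕ) := by
    intro k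
    rw [degree_mul, eb]
    have := hle k
    rw [e3] at this
    calc (d : WithBot ℕ) + degree (v k) ≤ (d : WithBot ℕ) + (n : WithBot ℕ) := by gcongr
      _ = ((d + n : ℕ) : WithBot ℕ) := by push_cast; rfl
  have h0 : degree (v 0 + b * v 2 + b ^ θ * v 3) = degree (b ^ θ * v 3) := by
    apply degree_add_eq_right_of_degree_lt
    apply lt_T
    exact le_trans (degree_add_le _ _) (max_le (le_n 0) (le_b 2))
  rw [uM_mulVec]
  intro k hk
  fin_cases k
  · exact absurd rfl hk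
  · show degree (v 1 + b * v 3) < degree (v 0 + b * v 2 + b ^ θ * v 3)
    rw [h0]
    apply lt_T
    exact le_trans (degree_add_le _ _) (max_le (le_n 1) (le_b 3))
  · show degree (v 2) < degree (v 0 + b * v 2 + b ^ θ * v 3)
    rw [h0]
    exact lt_T _ (le_n 2)
  · show degree (v 3) < degree (v 0 + b * v 2 + b ^ θ * v 3)
    rw [h0]
    exact lt_T _ (le_n 3)

lemma lM_dom (θ : ℕ) (hθ : 2 ≤ θ) (b : F[X]) (hb : 1 ≤ degree b) (v : Fin 4 → F[X])
    (hv : Dom1 v) : SDom4 (lM θ b *ᵥ v) := by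
  unfold SDom4
  rw [lM_mulVec_flip, flip4_flip4]
  exact uM_dom θ hθ b hb _ hv

/-- the base vector -/
noncomputable def v0 : Fin 4 → F[X] := ![1, 0, 0, 1]

lemma v0_dom4 : Dom4 (v0 : Fin 4 → F[X]) := by
  refine ⟨by simp [v0], ?_⟩
  intro k
  fin_cases k <;> simp [v0]

lemma v0_dom1 : Dom1 (v0 : Fin 4 → F[X]) := by
  have : flip4 (v0 : Fin 4 → F[X]) = v0 := by
    ext k
    fin_cases k <;> rfl
  unfold Dom1
  rw [this]
  exact v0_dom4

lemma v0_not_sdom1 : ¬ SDom1 (v0 : Fin 4 → F[X]) := by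
  intro h
  have := h 3 (by decide)
  simp [v0] at this

lemma v0_not_sdom4 : ¬ SDom4 (v0 : Fin 4 → F[X]) := by
  have : flip4 (v0 : Fin 4 → F[X]) = v0 := by
    ext k
    fin_cases k <;> rfl
  unfold SDom4
  rw [this]
  exact v0_not_sdom1

/-- the parameters `X ^ (i + 1)` -/
noncomputable def sX (F : Type*) [Field F] (i : ℕ) : F[X] := X ^ (i + 1)

lemma hs (i : ℕ) : 1 ≤ degree (sX F i) := by
  unfold sX
  rw [degree_X_pow]
  exact_mod_cast Nat.succ_le_succ (Nat.zero_le i)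

lemma hsum {i j : ℕ} (hij : i ≠ j) : 1 ≤ degree (sX F i + sX F j) := by
  rcases lt_or_gt_of_ne hij with h | h
  · have hlt : degree (sX F i) < degree (sX F j) := by
      unfold sX
      rw [degree_X_pow, degree_X_pow]
      exact_mod_cast Nat.succ_lt_succ h
    rw [degree_add_eq_right_of_degree_lt hlt]
    exact hs j
  · have hlt : degree (sX F j) < degree (sX F i) := by
      unfold sX
      rw [degree_X_pow, degree_X_pow]
      exact_mod_cast Nat.succ_lt_succ h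
    rw [degree_add_eq_left_of_degree_lt hlt]
    exact hs i

/-- the invariant attached to the first letter -/
def Inv (θ : ℕ) (l : ℕ × Bool) (v : Fin 4 → F[X]) : Prop :=
  match l with
  | (i, true) => ∃ d, Dom4 d ∧ v = uM θ (sX F i) *ᵥ d
  | (i, false) => ∃ d, Dom1 d ∧ v = lM θ (sX F i) *ᵥ d

lemma Inv.dom1 {θ : ℕ} (hθ : 2 ≤ θ) {i : ℕ} {v : Fin 4 → F[X]} (h : Inv θ (i, true) v) :
    SDom1 v := by
  obtain ⟨d, hd, rfl⟩ := h
  exact uM_dom θ hθ _ (hs i) d hd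

lemma Inv.dom4 {θ : ℕ} (hθ : 2 ≤ θ) {i : ℕ} {v : Fin 4 → F[X]} (h : Inv θ (i, false) v) :
    SDom4 v := by
  obtain ⟨d, hd, rfl⟩ := h
  exact lM_dom θ hθ _ (hs i) d hd

theorem inv_word (θ : ℕ) (hθ : 2 ≤ θ) (hadd : ∀ x y : F[X], (x + y) ^ θ = x ^ θ + y ^ θ)
    (L : List (ℕ × Bool)) :
    ∀ l : ℕ × Bool, FreeGroup.IsReduced (l :: L) →
      Inv θ l (wordMat (sX F) θ (l :: L) *ᵥ v0) := by
  induction L with
  | nil =>
    rintro ⟨j, b⟩ -
    rw [wm_cons, wm_nil, mul_one]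
    cases b
    · rw [lm_false, ← Matrix.mulVec_mulVec]
      exact ⟨_, (uM_dom θ hθ _ (hs j) _ v0_dom4).dom1, rfl⟩
    · rw [lm_true, ← Matrix.mulVec_mulVec]
      exact ⟨_, (lM_dom θ hθ _ (hs j) _ v0_dom1).dom4, rfl⟩
  | cons l' L ih =>
    rintro ⟨j, b⟩ h
    rw [FreeGroup.isReduced_cons_cons] at h
    obtain ⟨hc, hred⟩ := h
    have ih' := ih l' hred
    rw [wm_cons, ← Matrix.mulVec_mulVec]
    rcases l' with ⟨i, b'⟩
    cases b <;> cases b'
    · -- `γ_j⁻¹` after `γ_i⁻¹`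
      rw [lm_false, ← Matrix.mulVec_mulVec]
      exact ⟨_, (uM_dom θ hθ _ (hs j) _ (ih'.dom4 hθ).dom4).dom1, rfl⟩
    · -- `γ_j⁻¹` after `γ_i`, `i ≠ j`
      have hij : i ≠ j := fun e => Bool.noConfusion (hc e.symm)
      obtain ⟨d, hd, hv⟩ := ih'
      rw [lm_false, ← Matrix.mulVec_mulVec, hv,
        Matrix.mulVec_mulVec d (uM θ (sX F j)) (uM θ (sX F i)), uM_add θ hadd]
      exact ⟨_, (uM_dom θ hθ _ (by rw [add_comm]; exact hsum hij) _ hd).dom1, rfl⟩
    · -- `γ_j` after `γ_i⁻¹`, `i ≠ j`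
      have hji : j ≠ i := fun e => Bool.noConfusion (hc e)
      obtain ⟨d, hd, hv⟩ := ih'
      rw [lm_true, ← Matrix.mulVec_mulVec, hv,
        Matrix.mulVec_mulVec d (lM θ (sX F j)) (lM θ (sX F i)), lM_add θ hadd]
      exact ⟨_, (lM_dom θ hθ _ (hsum hji) _ hd).dom4, rfl⟩
    · -- `γ_j` after `γ_i`
      rw [lm_true, ← Matrix.mulVec_mulVec]
      exact ⟨_, (lM_dom θ hθ _ (hs j) _ (ih'.dom1 hθ).dom1).dom4, rfl⟩

theorem wordMat_ne_one (θ : ℕ) (hθ : 2 ≤ θ) (hadd : ∀ x y : F[X], (x + y) ^ θ = x ^ θ + y ^ θ)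
    (L : List (ℕ × Bool)) (hL : L ≠ []) (hred : FreeGroup.IsReduced L) :
    wordMat (sX F) θ L ≠ 1 := by
  obtain ⟨l, L', rfl⟩ := List.exists_cons_of_ne_nil hL
  have h := inv_word θ hθ hadd L' l hred
  intro h1
  rw [h1, Matrix.one_mulVec] at h
  rcases l with ⟨j, b⟩
  cases b
  · exact v0_not_sdom4 (h.dom4 hθ)
  · exact v0_not_sdom1 (h.dom1 hθ)

end Cfsg.Agent.Lib.Helper3.SzLaw
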