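import Mathlib
import Cfsg.Agent.Lib.Helper3.SzLaw2
import Cfsg.Agent.Lib.Helper3.Suzuki16

set_option autoImplicit false

namespace Cfsg.Agent.Lib.Helper3.SzLaw

open Polynomial Matrix

section degree

variable {F : Type*} [Field F]

/-- all entries have degree at most `d` -/
def EntryDeg (M : Matrix (Fin 4) (Fin 4) F[X]) (d : ℕ) : Prop := ∀ a c, (M a c).natDegree ≤ d

lemma entryDeg_one : EntryDeg (1 : Matrix (Fin 4) (Fin 4) F[X]) 0 := by
  intro a c
  by_cases h : a = c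
  · rw [h, Matrix.one_apply_eq, natDegree_one]
  · rw [Matrix.one_apply_ne h, natDegree_zero]

lemma EntryDeg.mul {M M' : Matrix (Fin 4) (Fin 4) F[X]} {d d' : ℕ} (h : EntryDeg M d)
    (h' : EntryDeg M' d') : EntryDeg (M * M') (d + d') := by
  intro a c
  rw [Matrix.mul_apply]
  apply natDegree_sum_le_of_forall_le
  intro k _
  exact le_trans natDegree_mul_le (add_le_add (h a k) (h' k c))

lemma EntryDeg.mono {M : Matrix (Fin 4) (Fin 4) F[X]} {d d' : ℕ} (h : EntryDeg M d)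
    (hd : d ≤ d') : EntryDeg M d' := fun a c => le_trans (h a c) hd

lemma entryDeg_uM (θ : ℕ) (hθ : 1 ≤ θ) (e : ℕ) :
    EntryDeg (uM θ (X ^ e : F[X])) (θ * e) := by
  have h1 : (X ^ e : F[X]).natDegree ≤ θ * e := by
    rw [natDegree_X_pow]; nlinarith
  have h2 : ((X ^ e : F[X]) ^ θ).natDegree ≤ θ * e := by
    rw [← pow_mul, natDegree_X_pow, mul_comm]
  have h3 : ∀ a c, uM θ (X ^ e : F[X]) a c = 0 ∨ uM θ (X ^ e : F[X]) a c = 1 ∨
      uM θ (X ^ e : F[X]) a c = X ^ e ∨ uM θ (X ^ e : F[X]) a c = (X ^ e) ^ θ := by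
    intro a c
    fin_cases a <;> fin_cases c <;> simp [uM]
  intro a c
  rcases h3 a c with h | h | h | h <;> rw [h]
  · rw [natDegree_zero]; exact Nat.zero_le _
  · rw [natDegree_one]; exact Nat.zero_le _
  · exact h1
  · exact h2

lemma entryDeg_lM (θ : ℕ) (hθ : 1 ≤ θ) (e : ℕ) :
    EntryDeg (lM θ (X ^ e : F[X])) (θ * e) := by
  have h1 : (X ^ e : F[X]).natDegree ≤ θ * e := by
    rw [natDegree_X_pow]; nlinarith
  have h2 : ((X ^ e : F[X]) ^ θ).natDegree ≤ θ * e := by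
    rw [← pow_mul, natDegree_X_pow, mul_comm]
  have h3 : ∀ a c, lM θ (X ^ e : F[X]) a c = 0 ∨ lM θ (X ^ e : F[X]) a c = 1 ∨
      lM θ (X ^ e : F[X]) a c = X ^ e ∨ lM θ (X ^ e : F[X]) a c = (X ^ e) ^ θ := by
    intro a c
    fin_cases a <;> fin_cases c <;> simp [lM]
  intro a c
  rcases h3 a c with h | h | h | h <;> rw [h]
  · rw [natDegree_zero]; exact Nat.zero_le _
  · rw [natDegree_one]; exact Nat.zero_le _
  · exact h1
  · exact h2

/-- the cost of a word -/
def cost (L : List (ℕ × Bool)) : ℕ := (L.map fun l => l.1 + 1).sum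

lemma entryDeg_letter (θ : ℕ) (hθ : 1 ≤ θ) (l : ℕ × Bool) :
    EntryDeg (letterMat (sX F) θ l) (2 * θ * (l.1 + 1)) := by
  rcases l with ⟨i, b⟩
  cases b
  · rw [lm_false]
    exact ((entryDeg_lM θ hθ (i + 1)).mul (entryDeg_uM θ hθ (i + 1))).mono (by
      show θ * (i + 1) + θ * (i + 1) ≤ 2 * θ * (i + 1); nlinarith)
  · rw [lm_true]
    exact ((entryDeg_uM θ hθ (i + 1)).mul (entryDeg_lM θ hθ (i + 1))).mono (by
      show θ * (i + 1) + θ * (i + 1) ≤ 2 * θ * (i + 1); nlinarith)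

lemma entryDeg_word (θ : ℕ) (hθ : 1 ≤ θ) (L : List (ℕ × Bool)) :
    EntryDeg (wordMat (sX F) θ L) (2 * θ * cost L) := by
  induction L with
  | nil =>
    rw [wm_nil]
    exact entryDeg_one.mono (Nat.zero_le _)
  | cons l L ih =>
    rw [wm_cons]
    refine ((entryDeg_letter θ hθ l).mul ih).mono ?_
    show 2 * θ * (l.1 + 1) + 2 * θ * cost L ≤ 2 * θ * cost (l :: L)
    have : cost (l :: L) = (l.1 + 1) + cost L := by
      unfold cost
      rw [List.map_cons, List.sum_cons]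
    rw [this]
    nlinarith

/-- specialisation: for a finite field with more than `2 θ cost(L)` elements, some evaluation of
the word matrix is not the identity -/
theorem exists_eval_ne_one [Fintype F] (θ : ℕ) (hθ : 2 ≤ θ)
    (hadd : ∀ x y : F[X], (x + y) ^ θ = x ^ θ + y ^ θ)
    (L : List (ℕ × Bool)) (hL : L ≠ []) (hred : FreeGroup.IsReduced L)
    (hcard : 2 * θ * cost L < Fintype.card F) :
    ∃ t : F, wordMat (fun i => t ^ (i + 1)) θ L ≠ 1 := by
  have hne := wordMat_ne_one θ hθ hadd L hL hred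
  obtain ⟨a, c, hac⟩ : ∃ a c, wordMat (sX F) θ L a c ≠ (1 : Matrix (Fin 4) (Fin 4) F[X]) a c := by
    by_contra h
    push Not at h
    exact hne (Matrix.ext h)
  obtain ⟨Q, hQ⟩ : ∃ Q, Q = wordMat (sX F) θ L a c - (1 : Matrix (Fin 4) (Fin 4) F[X]) a c :=
    ⟨_, rfl⟩
  have hQ0 : Q ≠ 0 := by rw [hQ]; exact sub_ne_zero.2 hac
  have hQd : Q.natDegree ≤ 2 * θ * cost L := by
    rw [hQ]
    refine le_trans (natDegree_sub_le _ _) (max_le (entryDeg_word θ (by omega) L a c) ?_)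
    exact le_trans (entryDeg_one a c) (Nat.zero_le _)
  obtain ⟨t, ht⟩ := Polynomial.exists_eval_ne_zero_of_natDegree_lt_card Q hQ0 (by
    rw [Cardinal.mk_fintype]
    exact_mod_cast lt_of_le_of_lt hQd hcard)
  refine ⟨t, ?_⟩
  intro h1
  apply ht
  have h2 := wordMat_map (Polynomial.evalRingHom t) (sX F) θ L
  have h3 : (fun i => Polynomial.evalRingHom t (sX F i)) = fun i => t ^ (i + 1) := by
    funext i
    simp [sX]
  rw [h3, h1] at h2
  have h4 := congrFun (congrFun h2 a) c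
  rw [hQ, eval_sub]
  have h5 : eval t (wordMat (sX F) θ L a c) = (1 : Matrix (Fin 4) (Fin 4) F) a c := h4
  rw [h5]
  by_cases hacc : a = c
  · rw [hacc, Matrix.one_apply_eq, Matrix.one_apply_eq, eval_one, sub_self]
  · rw [Matrix.one_apply_ne hacc, Matrix.one_apply_ne hacc, eval_zero, sub_self]

end degree

end Cfsg.Agent.Lib.Helper3.SzLaw
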