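import Mathlib
import Cfsg.Agent.Lib.Helper3.SzLaw3

set_option autoImplicit false

namespace Cfsg.Agent.Lib.Helper3.SzLaw

open Polynomial Matrix Cfsg Cfsg.Agent.Lib.Helper3.Sz

variable {F : Type*} [Field F]

lemma transM_zero (m : ℕ) (c : F) : transM m 0 c = uM (2 ^ (m + 1)) c := by
  ext i j
  fin_cases i <;> fin_cases j <;> simp [transM, uM]

lemma invM_uM_invM (θ : ℕ) (c : F) : invM * uM θ c * invM = lM θ c := by
  ext i j
  fin_cases i <;> fin_cases j <;>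
    simp [invM, uM, lM, Matrix.mul_apply, Fin.sum_univ_four]

variable [Fintype F] {m : ℕ} (hF : Fintype.card F = 2 ^ (2 * m + 1)) (hm : 1 ≤ m)

/-- the generators in `Sz(q)` -/
def gSz (t : F) (i : ℕ) : Sz F m :=
  tS hF 0 (t ^ (i + 1)) * (wS hF * tS hF 0 (t ^ (i + 1)) * wS hF)

lemma coe_tS (c : F) : ((tS hF 0 c : Sz F m).1.1 : Matrix (Fin 4) (Fin 4) F)
    = uM (2 ^ (m + 1)) c := by
  rw [← transM_zero]; rfl

lemma coe_wtw (c : F) : ((wS hF * tS hF 0 c * wS hF : Sz F m).1.1 : Matrix (Fin 4) (Fin 4) F)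
    = lM (2 ^ (m + 1)) c := by
  rw [← invM_uM_invM, ← transM_zero]; rfl

lemma coe_gSz (t : F) (i : ℕ) : ((gSz hF t i : Sz F m).1.1 : Matrix (Fin 4) (Fin 4) F)
    = letterMat (fun k => t ^ (k + 1)) (2 ^ (m + 1)) (i, true) := by
  rw [lm_true, ← coe_tS hF, ← coe_wtw hF]; rfl

include hm in
lemma gSz_inv (t : F) (i : ℕ) : (gSz hF t i)⁻¹
    = (wS hF * tS hF 0 (t ^ (i + 1)) * wS hF) * tS hF 0 (t ^ (i + 1)) := by
  have h1 : (tS hF 0 (t ^ (i + 1)))⁻¹ = tS hF (0 : F) (t ^ (i + 1)) := by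
    rw [inv_eq_iff_mul_eq_one]; exact tS_zero_sq hF hm _
  unfold gSz
  rw [_root_.mul_inv_rev, _root_.mul_inv_rev, _root_.mul_inv_rev, h1, wS_inv]
  simp only [mul_assoc]

include hm in
lemma coe_gSz_inv (t : F) (i : ℕ) :
    (((gSz hF t i)⁻¹ : Sz F m).1.1 : Matrix (Fin 4) (Fin 4) F)
    = letterMat (fun k => t ^ (k + 1)) (2 ^ (m + 1)) (i, false) := by
  rw [gSz_inv hF hm, lm_false, ← coe_tS hF, ← coe_wtw hF]; rfl

include hm in
lemma coe_prod (t : F) (L : List (ℕ × Bool)) :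
    (((L.map fun x => cond x.2 (gSz hF t x.1) (gSz hF t x.1)⁻¹).prod : Sz F m).1.1 :
      Matrix (Fin 4) (Fin 4) F) = wordMat (fun k => t ^ (k + 1)) (2 ^ (m + 1)) L := by
  induction L with
  | nil => rw [wm_nil]; rfl
  | cons l L ih =>
    rw [List.map_cons, List.prod_cons, wm_cons, ← ih]
    rcases l with ⟨i, b⟩
    cases b
    · rw [← coe_gSz_inv hF hm]; rfl
    · rw [← coe_gSz hF]; rfl

include hF hm in
/-- a non-trivial word is not a law of `Sz(q)` for large `q` -/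
theorem exists_lift_ne_one (w : FreeGroup ℕ) (hw : w ≠ 1) (hN : 4 * cost w.toWord ≤ m) :
    ∃ f : ℕ → Sz F m, FreeGroup.lift f w ≠ 1 := by
  have hL : w.toWord ≠ [] := fun h => hw (FreeGroup.toWord_eq_nil_iff.1 h)
  have hred : FreeGroup.IsReduced w.toWord := FreeGroup.isReduced_toWord
  have hθ : 2 ≤ 2 ^ (m + 1) := by
    calc 2 = 2 ^ 1 := by norm_num
      _ ≤ 2 ^ (m + 1) := Nat.pow_le_pow_right (by norm_num) (by omega)
  have hadd : ∀ x y : F[X], (x + y) ^ (2 ^ (m + 1)) = x ^ (2 ^ (m + 1)) + y ^ (2 ^ (m + 1)) := by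
    intro x y
    have := charP hF
    have : Fact (Nat.Prime 2) := ⟨Nat.prime_two⟩
    exact add_pow_char_pow x y 2 (m + 1)
  have hcard : 2 * 2 ^ (m + 1) * cost w.toWord < Fintype.card F := by
    rw [hF]
    have h1 : m < 2 ^ m := Nat.lt_two_pow_self
    have h2 : 2 ^ (2 * m + 1) = 2 ^ (m + 1) * 2 ^ m := by rw [← pow_add]; congr 1; ring
    rw [h2]
    have h3 : 0 < 2 ^ (m + 1) := by positivity
    nlinarith
  obtain ⟨t, ht⟩ := exists_eval_ne_one (2 ^ (m + 1)) hθ hadd w.toWord hL hred hcard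
  refine ⟨gSz hF t, ?_⟩
  intro h1
  apply ht
  have hlift : FreeGroup.lift (gSz hF t) w =
      (w.toWord.map fun x => cond x.2 (gSz hF t x.1) (gSz hF t x.1)⁻¹).prod := by
    rw [← FreeGroup.lift_mk, FreeGroup.mk_toWord]
  rw [← coe_prod hF hm, ← hlift, h1]
  rfl

end Cfsg.Agent.Lib.Helper3.SzLaw
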