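import Mathlib
import Cfsg.Agent.Lib.Helper3.SzModelA
import Cfsg.Agent.Lib.Helper3.Suzuki12

/-!
The model lemma of helper27's S2861 farm-out inside the Suzuki group `Sz F m`, `m ≥ 1`
(the stabiliser of the Suzuki–Tits ovoid), for `Y` inside the translation group.
-/

set_option autoImplicit false

namespace Cfsg.Agent.Lib.Helper3.SzModel

open Matrix Cfsg Cfsg.Agent.Lib.Helper3.Sz

variable {F : Type*} [Field F] [Fintype F] {m : ℕ} (hF : Fintype.card F = 2 ^ (2 * m + 1))
  (hm : 1 ≤ m)

include hm in
/-- the elements of order at most 2 of the translation group -/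
theorem sq_eq_one_iff (a b : F) : tS hF a b * tS hF a b = 1 ↔ a = 0 := by
  rw [tS_sq hF hm, ← tS_zero_zero hF hm]
  constructor
  · intro h
    have h1 := (tS_injective hF h).2
    have h2 : a ^ (2 ^ (m + 1) + 1) = 0 := by rw [pow_succ]; exact h1
    exact pow_eq_zero_iff (by omega) |>.1 h2
  · intro h
    rw [h, mul_zero]

include hm in
/-- a torus element lying in the translation group is trivial -/
theorem kS_mem_transGroup {k : Fˣ} (h : kS hF k ∈ transGroup hF hm) : k = 1 := by
  obtain ⟨a, b, hab⟩ := (mem_transGroup hF hm _).1 h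
  have h4 : (kS hF k * kS hF k) * (kS hF k * kS hF k) = 1 := by
    rw [hab, tS_sq hF hm, tS_zero_sq hF hm]
  rw [← kS_mul, ← kS_mul, ← kS_one (m := m) hF] at h4
  have h5 : k * k * (k * k) = 1 := torS_injective hF (congrArg Subtype.val h4)
  have h6 : ((k : F)) ^ 4 = 1 := by
    have := congrArg (fun u : Fˣ => (u : F)) h5
    simp only [Units.val_mul, Units.val_one] at this
    rw [← this]; ring
  have h7 := pow_four_eq_one hF h6
  exact Units.ext h7

include hm in
/-- elements of order at most 2 of the point stabiliser are central translations -/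
theorem exists_of_sq_eq_one {v : Sz F m} (hv : v ∈ stabInf F m) (hv2 : v ^ 2 = 1) :
    ∃ b : F, v = tS hF 0 b := by
  obtain ⟨c, d, k, rfl⟩ := (mem_stabInf_iff_exists hF hm v).1 hv
  have h1 : (tS hF c d * kS hF k) ^ 2
      = tS hF c d * tS hF ((k : F) * c) ((k : F) ^ (2 ^ (m + 1) + 1) * d) * kS hF (k * k) := by
    rw [pow_two, kS_mul]
    calc tS hF c d * kS hF k * (tS hF c d * kS hF k)
        = tS hF c d * (kS hF k * tS hF c d) * kS hF k := by group
      _ = tS hF c d * (tS hF ((k : F) * c) ((k : F) ^ (2 ^ (m + 1) + 1) * d) * kS hF k) * kS hF k := by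
          rw [kS_tS hF hm]
      _ = _ := by group
  rw [h1] at hv2
  have h2 : kS hF (k * k) ∈ transGroup hF hm := by
    have h3 : kS hF (k * k)
        = (tS hF c d * tS hF ((k : F) * c) ((k : F) ^ (2 ^ (m + 1) + 1) * d))⁻¹ := by
      exact eq_inv_of_mul_eq_one_right hv2
    rw [h3]
    exact inv_mem (mul_mem (tS_mem hF hm _ _) (tS_mem hF hm _ _))
  have h4 := kS_mem_transGroup hF hm h2
  have h5 : (k : F) ^ 2 = 1 := by
    have := congrArg (fun u : Fˣ => (u : F)) h4
    simp only [Units.val_mul, Units.val_one] at this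
    rw [pow_two]; exact this
  have hk : k = 1 := Units.ext (sq_eq_one hF h5)
  subst hk
  have hv3 : tS hF c d * tS hF c d = 1 := by
    have := hv2
    simp only [Units.val_one, one_mul, one_pow, mul_one] at this
    rw [kS_one, mul_one] at this
    exact this
  have h6 := (sq_eq_one_iff hF hm c d).1 hv3
  exact ⟨d, by rw [h6, kS_one, mul_one]⟩

end Cfsg.Agent.Lib.Helper3.SzModel
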