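import Mathlib
import Cfsg.Agent.Lib.Helper3.SzModelB

/-!
The model lemma of helper27's S2861 farm-out inside the Suzuki group `Sz F m`, `m ≥ 1`.
-/

set_option autoImplicit false

namespace Cfsg.Agent.Lib.Helper3.SzModel

open Matrix Cfsg Cfsg.Agent.Lib.Helper3.Sz

variable {F : Type*} [Field F] [Fintype F] {m : ℕ} (hF : Fintype.card F = 2 ^ (2 * m + 1))
  (hm : 1 ≤ m)

include hm in
/-- the model lemma when `Y` lies in the translation group -/
theorem core_trans {Y B V : Subgroup (Sz F m)} (h : Hyp (2 ^ (2 * m + 1)) Y B V)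
    (hYT : Y ≤ transGroup hF hm) : V = Y := by
  -- elements of `Y` are central translations
  have hYmem : ∀ y ∈ Y, ∃ b : F, y = tS hF 0 b := by
    intro y hy
    obtain ⟨a, b, rfl⟩ := (mem_transGroup hF hm y).1 (hYT hy)
    have h2 := h.yexp _ hy
    rw [pow_two] at h2
    have ha := (sq_eq_one_iff hF hm a b).1 h2
    exact ⟨b, by rw [ha]⟩
  -- `Y` consists of all of them
  have hYall : ∀ b : F, tS hF 0 b ∈ Y := by
    have hsub : (Y : Set (Sz F m)) ⊆ Set.range (fun b : F => tS hF 0 b) := by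
      intro y hy
      obtain ⟨b, hb⟩ := hYmem y hy
      exact ⟨b, hb.symm⟩
    have hinj : Function.Injective (fun b : F => tS hF (0 : F) b) := by
      intro b b' hbb
      exact (tS_injective hF hbb).2
    have hfin : (Set.range (fun b : F => tS hF (0 : F) b)).Finite := Set.finite_range _
    have hcard : (Set.range (fun b : F => tS hF (0 : F) b)).ncard ≤ (Y : Set (Sz F m)).ncard := by
      rw [← Nat.card_coe_set_eq, ← Nat.card_coe_set_eq, Nat.card_range_of_injective hinj,
        Nat.card_eq_fintype_card, hF]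
      have := h.ycard
      exact this.ge
    have heq := Set.eq_of_subset_of_ncard_le hsub hcard hfin
    intro b
    have : tS hF (0 : F) b ∈ (Y : Set (Sz F m)) := by
      rw [heq]; exact ⟨b, rfl⟩
    exact this
  -- `B` is the point stabiliser
  have hco := isCoatom_stabInf (F := F) hF hm
  have hTS : transGroup hF hm ≤ stabInf F m := by
    rw [← normalizer_transGroup hF hm]
    exact Subgroup.le_normalizer
  have hSB : stabInf F m ≤ B := h.max _ (hYT.trans hTS) hco.1
  have hBtop : B ≠ ⊤ := by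
    intro hB
    have hnorm : ∀ g : Sz F m, ∀ y ∈ Y, g * y * g⁻¹ ∈ Y := by
      intro g y hy
      have hg : g ∈ Subgroup.normalizer (Y : Set (Sz F m)) := h.bn (by rw [hB]; exact Subgroup.mem_top g)
      rw [Subgroup.mem_normalizer_iff] at hg
      exact (hg y).1 hy
    have hYtop : Y = ⊤ := by
      rw [← h.gen]
      apply le_antisymm Subgroup.le_normalClosure
      unfold Subgroup.normalClosure
      rw [Subgroup.closure_le]
      intro a ha
      obtain ⟨y, hy, hconj⟩ := Group.mem_conjugatesOfSet_iff.mp ha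
      obtain ⟨g, hg⟩ := isConj_iff.mp hconj
      rw [SetLike.mem_coe, ← hg]
      exact hnorm g y hy
    have h1 : tS hF (1 : F) 0 ∈ Y := by rw [hYtop]; exact Subgroup.mem_top _
    obtain ⟨b, hb⟩ := hYmem _ h1
    exact one_ne_zero (tS_injective hF hb).1
  have hB : B = stabInf F m := by
    by_contra hne
    exact hBtop (hco.2 B (lt_of_le_of_ne hSB (Ne.symm hne)))
  -- `V ≤ Y`
  have hVY : V ≤ Y := by
    intro v hv
    have hvS : v ∈ stabInf F m := by rw [← hB]; exact h.vb hv
    obtain ⟨b, rfl⟩ := exists_of_sq_eq_one hF hm hvS (h.vexp v hv)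
    exact hYall b
  apply le_antisymm hVY
  -- a nontrivial element of `V`
  obtain ⟨v, hvV, hv1⟩ : ∃ v ∈ V, v ≠ 1 := by
    by_contra hcon
    push Not at hcon
    apply h.v1
    rw [eq_bot_iff]
    intro y hy
    rw [Subgroup.mem_bot]
    exact hcon y hy
  obtain ⟨b₀, hb₀⟩ := hYmem v (hVY hvV)
  have hb₀0 : b₀ ≠ 0 := by
    intro h0
    apply hv1
    rw [hb₀, h0, tS_zero_zero hF hm]
  intro y hy
  obtain ⟨b, rfl⟩ := hYmem y hy
  by_cases hb0 : b = 0
  · rw [hb0, tS_zero_zero hF hm]; exact V.one_mem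
  · obtain ⟨μ, hμ⟩ := pow_sig_succ_surjective hF (b / b₀)
    have hμ' : μ ^ (2 ^ (m + 1) + 1) = b / b₀ := hμ
    have hμ0 : μ ≠ 0 := by
      intro h0
      rw [h0, zero_pow (by omega)] at hμ'
      have : b / b₀ ≠ 0 := div_ne_zero hb0 hb₀0
      exact this hμ'.symm
    have hkB : kS hF (Units.mk0 μ hμ0) ∈ B := by
      rw [hB]
      exact (mem_stabInf_iff_exists hF hm _).2 ⟨0, 0, Units.mk0 μ hμ0, by
        rw [tS_zero_zero hF hm, one_mul]⟩
    have hconj := h.vn _ hkB v hvV
    have : kS hF (Units.mk0 μ hμ0) * v * (kS hF (Units.mk0 μ hμ0))⁻¹ = tS hF 0 b := by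
      rw [hb₀, kS_tS hF hm, mul_inv_cancel_right]
      congr 1
      · rw [mul_zero]
      · rw [Units.val_mk0, hμ', div_mul_cancel₀ _ hb₀0]
    rw [this] at hconj
    exact hconj

include hF hm in
/-- the model lemma in the Suzuki group `Sz F m`, `m ≥ 1` -/
theorem core {Y B V : Subgroup (Sz F m)} (h : Hyp (2 ^ (2 * m + 1)) Y B V) : V = Y := by
  haveI : Finite (Sz F m) := finite_Sz
  haveI : Fact (Nat.Prime 2) := ⟨Nat.prime_two⟩
  have hp : IsPGroup 2 Y := by
    intro y
    refine ⟨1, ?_⟩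
    have := h.yexp y.1 y.2
    apply Subtype.ext
    rw [pow_one]
    exact this
  obtain ⟨P, hYP⟩ := hp.exists_le_sylow
  obtain ⟨h₀, hh₀⟩ := exists_conj_transGroup hF hm P
  have h' := h.map (MulAut.conj h₀⁻¹ : Sz F m ≃* Sz F m)
  have hle : Y.map (MulAut.conj h₀⁻¹ : Sz F m ≃* Sz F m).toMonoidHom ≤ transGroup hF hm := by
    rintro _ ⟨y, hy, rfl⟩
    have := (hh₀ y).1 (hYP hy)
    have h2 : (MulAut.conj h₀⁻¹ : Sz F m ≃* Sz F m).toMonoidHom y = h₀⁻¹ * y * h₀ := by
      change (MulAut.conj h₀⁻¹) y = _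
      rw [MulAut.conj_apply, inv_inv]
    rw [h2]
    exact this
  exact eq_of_map_eq _ (core_trans hF hm h' hle)

end Cfsg.Agent.Lib.Helper3.SzModel
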