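import Mathlib
import Cfsg.Prelude.Def_LocalStructure
import Cfsg.Agent.Lib.Helper3.SzModelC
import Cfsg.Agent.Lib.Helper3.SzBridge

/-!
FO-2 of helper27's S2861 farm-out: the model lemma for the Suzuki groups `Cfsg.Lie.Sz F (2^(m+1))`.
-/

set_option autoImplicit false

namespace Cfsg.Agent.Lib.Helper3.SzModel

theorem sz_model {F : Type} [Field F] [Fintype F] (m : ℕ) (hF : Fintype.card F = 2 ^ (2 * m + 1))
    (Y B V : Subgroup ↥(Cfsg.Lie.Sz F (2 ^ (m + 1))))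
    (hYexp : ∀ a ∈ Y, a ^ 2 = 1) (hYcard : Nat.card Y = Fintype.card F)
    (hgen : Subgroup.normalClosure (Y : Set ↥(Cfsg.Lie.Sz F (2 ^ (m + 1)))) = ⊤)
    (hYB : Y ≤ B) (hBN : B ≤ Subgroup.normalizer (Y : Set ↥(Cfsg.Lie.Sz F (2 ^ (m + 1)))))
    (hmax : ∀ P : Subgroup ↥(Cfsg.Lie.Sz F (2 ^ (m + 1))), Y ≤ P → P ≠ ⊤ → P ≤ B)
    (hVB : V ≤ B) (hVn : ∀ b ∈ B, ∀ v ∈ V, b * v * b⁻¹ ∈ V)
    (hVexp : ∀ a ∈ V, a ^ 2 = 1) (hV1 : V ≠ ⊥) : V = Y := by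
  have h : Hyp (2 ^ (2 * m + 1)) Y B V :=
    { yexp := hYexp
      ycard := by rw [hYcard, hF]
      gen := hgen
      yb := hYB
      bn := hBN
      max := hmax
      vb := hVB
      vn := hVn
      vexp := hVexp
      v1 := hV1 }
  rcases Nat.eq_zero_or_pos m with hm0 | hm
  · subst hm0
    exact of_card_two h
  · have h' := h.map (Cfsg.Agent.Lib.Helper3.SzBridge.lieSzEquiv hF hm)
    exact eq_of_map_eq _ (core hF hm h')

end Cfsg.Agent.Lib.Helper3.SzModel
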