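import Mathlib
import Cfsg.Agent.Lib.Helper3.SzSol15

set_option autoImplicit false
set_option linter.unusedSectionVars false
set_option linter.style.haveILetI false

namespace Cfsg.Agent.Lib.Helper3.Sz

open Matrix Cfsg
open Cfsg.Agent.Lib.Helper3.TICount

variable {F : Type*} [Field F] [Fintype F] {m : ℕ} (hF : Fintype.card F = 2 ^ (2 * m + 1))
  (hm : 1 ≤ m)

include hF hm in
/-- the solubilizer of an involution -/
theorem ncard_sol_of_invol (hp : (2 * m + 1).Prime) {x : Sz F m} (hx : Invol x) :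
    Set.ncard {y : Sz F m | SolRel x y}
      = (2 ^ (2 * m + 1)) ^ 2 * (4 * 2 ^ (2 * m + 1) - 3) := by
  have hfin : Finite (Sz F m) := finite_Sz
  obtain ⟨hall, ⟨xp, hxpR, hxp⟩, ⟨xm, hxmR, hxm⟩⟩ := tori_classification hF hm
  have hconst : ∀ t : Sz F m, Invol t →
      Set.ncard {y : Sz F m | SolRel t y} = Set.ncard {y : Sz F m | SolRel (tS hF (0 : F) 1) y} := by
    intro t ht
    have h1 := ncard_sol_isConj (fun _ : Sz F m => True) (fun _ _ => Iff.rfl)
      (invol_isConj hF hm ht).symm
    simp only [true_and] at h1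
    exact h1
  rw [hconst x hx]
  have hleft := ncard_pairs_left {t : Sz F m | Invol t} (fun t y => SolRel t y)
    (Set.ncard {y : Sz F m | SolRel (tS hF (0 : F) 1) y}) (fun t ht => hconst t ht)
  have hne : aOf xp ≠ aOf xm := by
    rw [hxp, hxm]
    have h2 : 0 < 2 ^ (m + 1) := by positivity
    have := r_le_q m
    omega
  -- the partition of the group
  have hpart : (Set.univ : Set (Sz F m)) = ((((({1} ∪ {t : Sz F m | Invol t})
      ∪ {ρ : Sz F m | Ord4 ρ}) ∪ conjSet (torusH (m := m) hF))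
      ∪ {y : Sz F m | y ∈ setR F m ∧ aOf y = aOf xp})
      ∪ {y : Sz F m | y ∈ setR F m ∧ aOf y = aOf xm}) := by
    ext y
    simp only [Set.mem_univ, Set.mem_union, Set.mem_singleton_iff, Set.mem_ofPred_eq, true_iff]
    by_cases hy : y = 1
    · left; left; left; left; left; exact hy
    · rcases trichotomy hF hm y hy with h | h | h
      · rcases (mem_conjSet_transGroup_iff hF hm y).1 h with h' | h'
        · left; left; left; left; right; exact h'
        · left; left; left; right; exact h'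
      · left; left; right; exact h
      · rcases (hall y h).1 with h' | h'
        · left; right; exact ⟨h, by rw [h', hxp]⟩
        · right; exact ⟨h, by rw [h', hxm]⟩
  have hd1 : Disjoint ({1} : Set (Sz F m)) {t : Sz F m | Invol t} := by
    rw [Set.disjoint_left]
    intro y hy hy'
    exact hy'.1 hy
  have hd2 : Disjoint (({1} : Set (Sz F m)) ∪ {t : Sz F m | Invol t}) {ρ : Sz F m | Ord4 ρ} := by
    rw [Set.disjoint_left]
    rintro y (hy | hy) hy'
    · exact hy'.ne_one hy
    · exact hy'.1 hy.2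
  have hQ : ∀ y : Sz F m, y ∈ (({1} : Set (Sz F m)) ∪ {t : Sz F m | Invol t}) ∪
      {ρ : Sz F m | Ord4 ρ} → y = 1 ∨ y ∈ conjSet (transGroup hF hm) := by
    rintro y ((hy | hy) | hy)
    · left; exact hy
    · right; exact (mem_conjSet_transGroup_iff hF hm y).2 (Or.inl hy)
    · right; exact (mem_conjSet_transGroup_iff hF hm y).2 (Or.inr hy)
  have hd3 : Disjoint ((({1} : Set (Sz F m)) ∪ {t : Sz F m | Invol t}) ∪ {ρ : Sz F m | Ord4 ρ})
      (conjSet (torusH (m := m) hF)) := by
    rw [Set.disjoint_left]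
    intro y hy hy'
    rcases hQ y hy with h | h
    · exact hy'.1 h
    · exact (Set.disjoint_left.1 (disjoint_Q_H hF hm)) h hy'
  have hQH : ∀ y : Sz F m, y ∈ ((({1} : Set (Sz F m)) ∪ {t : Sz F m | Invol t}) ∪
      {ρ : Sz F m | Ord4 ρ}) ∪ conjSet (torusH (m := m) hF) → y ∉ setR F m := by
    rintro y (hy | hy) hy'
    · rcases hQ y hy with h | h
      · exact hy'.1 h
      · exact (Set.disjoint_left.1 (disjoint_Q_R hF hm)) h hy'
    · exact (Set.disjoint_left.1 (disjoint_H_R hF)) hy hy'
  have hd4 : Disjoint (((({1} : Set (Sz F m)) ∪ {t : Sz F m | Invol t}) ∪ {ρ : Sz F m | Ord4 ρ})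
      ∪ conjSet (torusH (m := m) hF)) {y : Sz F m | y ∈ setR F m ∧ aOf y = aOf xp} := by
    rw [Set.disjoint_left]
    intro y hy hy'
    exact hQH y hy hy'.1
  have hd5 : Disjoint ((((({1} : Set (Sz F m)) ∪ {t : Sz F m | Invol t}) ∪ {ρ : Sz F m | Ord4 ρ})
      ∪ conjSet (torusH (m := m) hF)) ∪ {y : Sz F m | y ∈ setR F m ∧ aOf y = aOf xp})
      {y : Sz F m | y ∈ setR F m ∧ aOf y = aOf xm} := by
    rw [Set.disjoint_left]
    rintro y (hy | hy) hy'
    · exact hQH y hy hy'.1
    · exact hne (hy.2.symm.trans hy'.2)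
  -- the total count
  have htotal : pairCount (Set.univ : Set (Sz F m))
      = Set.ncard {t : Sz F m | Invol t} * Set.ncard {y : Sz F m | SolRel (tS hF (0 : F) 1) y} := by
    rw [← hleft]
    unfold pairCount
    congr 1
    ext p
    simp only [Set.mem_ofPred_eq, Set.mem_univ, true_and]
  rw [hpart, pairCount_union hd5, pairCount_union hd4, pairCount_union hd3, pairCount_union hd2,
    pairCount_union hd1] at htotal
  -- the individual counts
  have hI := ncard_invol hF hm
  have c0 : pairCount ({1} : Set (Sz F m)) = Set.ncard ({1} : Set (Sz F m))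
      * Set.ncard {t : Sz F m | Invol t} := by
    apply pairCount_eq
    intro y hy
    rw [Set.mem_singleton_iff] at hy
    subst hy
    congr 1
    ext t
    simp only [Set.mem_ofPred_eq]
    constructor
    · exact fun h => h.1
    · exact fun h => ⟨h, (solRel_symm _ _).1 (solRel_one hF hm hp h.1)⟩
  have c1 : pairCount {t : Sz F m | Invol t} = Set.ncard {t : Sz F m | Invol t}
      * Set.ncard {t : Sz F m | Invol t} := by
    apply pairCount_eq
    intro y hy
    congr 1
    ext t
    simp only [Set.mem_ofPred_eq]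
    constructor
    · exact fun h => h.1
    · exact fun h => ⟨h, solRel_invol hF hm hp hy h⟩
  have c2 : pairCount {ρ : Sz F m | Ord4 ρ} = Set.ncard {ρ : Sz F m | Ord4 ρ}
      * ((2 ^ (2 * m + 1) - 1) + (2 ^ (2 * m + 1)) ^ 2) :=
    pairCount_eq _ _ (fun y hy => ncard_invol_sol_of_ord4 hF hm hp hy)
  have c3 : pairCount (conjSet (torusH (m := m) hF)) = Set.ncard (conjSet (torusH (m := m) hF))
      * (3 * (2 ^ (2 * m + 1) - 1)) :=
    pairCount_eq _ _ (fun y hy => ncard_invol_sol_htype hF hm hp hy)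
  have c4 : pairCount {y : Sz F m | y ∈ setR F m ∧ aOf y = aOf xp}
      = Set.ncard {y : Sz F m | y ∈ setR F m ∧ aOf y = aOf xp} * aOf xp :=
    pairCount_eq _ _ (fun y hy => by rw [ncard_invol_sol_setR hF hm hp hy.1, hy.2])
  have c5 : pairCount {y : Sz F m | y ∈ setR F m ∧ aOf y = aOf xm}
      = Set.ncard {y : Sz F m | y ∈ setR F m ∧ aOf y = aOf xm} * aOf xm :=
    pairCount_eq _ _ (fun y hy => by rw [ncard_invol_sol_setR hF hm hp hy.1, hy.2])
  rw [c0, c1, c2, c3, c4, c5, Set.ncard_singleton, ncard_ord4 hF hm, ← hI, hxp, hxm] at htotal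
  have hcp := ncard_setR_class hF hm hxpR
  have hcm := ncard_setR_class hF hm hxmR
  rw [hxp] at hcp
  rw [hxm] at hcm
  exact invol_arith (2 ^ (2 * m + 1)) (2 ^ (m + 1)) (Set.ncard {t : Sz F m | Invol t})
    (Nat.card (Sz F m)) _ (Set.ncard (conjSet (torusH (m := m) hF))) _ _ (r_le_q m)
    (two_le_q hF) hI (by rw [card_Sz hF hm, hI]; ring) (ncard_htype hF hm) hcp hcm htotal.symm

end Cfsg.Agent.Lib.Helper3.Sz
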