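import Mathlib

set_option autoImplicit false

namespace Cfsg.Agent.Lib.Helper3.ZassPP

/-- If a group `Hg` normalises `Kg`, no non-identity element of `Hg` commutes with a non-identity
element of `Kg`, and `|Kg| - 1 ≤ 2 |Hg|`, then `|Kg|` is a prime power. -/
theorem isPrimePow_of_semiregular {G : Type*} [Group G] [Finite G] (Kg Hg : Subgroup G)
    (hK2 : 2 ≤ Nat.card Kg)
    (hnorm : ∀ h ∈ Hg, ∀ x ∈ Kg, h * x * h⁻¹ ∈ Kg)
    (hfpf : ∀ h ∈ Hg, h ≠ 1 → ∀ x ∈ Kg, h * x = x * h → x = 1)
    (hle : Nat.card Kg - 1 ≤ 2 * Nat.card Hg) : IsPrimePow (Nat.card Kg) := by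
  classical
  set n := Nat.card Kg with hn
  set e := Nat.card Hg with he
  rw [isPrimePow_iff_unique_prime_dvd]
  obtain ⟨p, hp, hpn⟩ := Nat.exists_prime_and_dvd (show n ≠ 1 by omega)
  refine ⟨p, ⟨hp, hpn⟩, ?_⟩
  rintro r ⟨hr, hrn⟩
  by_contra hrp
  haveI := Fact.mk hp
  haveI := Fact.mk hr
  obtain ⟨y0, hy0⟩ := exists_prime_orderOf_dvd_card' p hpn
  obtain ⟨x0, hx0⟩ := exists_prime_orderOf_dvd_card' r hrn
  have hy01 : y0 ≠ 1 := by
    intro h; rw [h, orderOf_one] at hy0; exact hp.one_lt.ne hy0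
  have hx01 : x0 ≠ 1 := by
    intro h; rw [h, orderOf_one] at hx0; exact hr.one_lt.ne hx0
  -- injections of `Hg` into the elements of a given order
  have key : ∀ (q : ℕ) (z : Kg), orderOf z = q → z ≠ 1 →
      e ≤ Nat.card {x : Kg // orderOf x = q} := by
    intro q z hz hz1
    let f : Hg → {x : Kg // orderOf x = q} := fun h =>
      ⟨⟨h.1 * z.1 * h.1⁻¹, hnorm h.1 h.2 z.1 z.2⟩, by
        rw [← hz, ← Subgroup.orderOf_coe, ← Subgroup.orderOf_coe]
        exact (MulAut.conj h.1).orderOf_eq z.1⟩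
    apply Nat.card_le_card_of_injective f
    intro h h' hhh
    have h1 : h.1 * z.1 * h.1⁻¹ = h'.1 * z.1 * h'.1⁻¹ :=
      congrArg (fun w => ((w.1 : Kg) : G)) hhh
    have h2 : (h'.1⁻¹ * h.1) * z.1 = z.1 * (h'.1⁻¹ * h.1) := by
      calc (h'.1⁻¹ * h.1) * z.1 = h'.1⁻¹ * (h.1 * z.1 * h.1⁻¹) * h.1 := by group
        _ = h'.1⁻¹ * (h'.1 * z.1 * h'.1⁻¹) * h.1 := by rw [h1]
        _ = z.1 * (h'.1⁻¹ * h.1) := by group
    have h3 : h'.1⁻¹ * h.1 = 1 := by
      by_contra hne
      apply hz1
      exact Subtype.ext (hfpf _ (Hg.mul_mem (Hg.inv_mem h'.2) h.2) hne z.1 z.2 h2)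
    exact Subtype.ext (inv_mul_eq_one.1 h3).symm
  have hA := key p y0 hy0 hy01
  have hB := key r x0 hx0 hx01
  -- the three disjoint parts
  let ι : {x : Kg // orderOf x = p} ⊕ ({x : Kg // orderOf x = r} ⊕ Unit) → Kg := fun s =>
    match s with
    | Sum.inl x => x.1
    | Sum.inr (Sum.inl x) => x.1
    | Sum.inr (Sum.inr _) => 1
  have hιinj : Function.Injective ι := by
    rintro (x | x | x) (y | y | y) hxy
    · exact congrArg Sum.inl (Subtype.ext hxy)
    · exfalso
      have h1 : (x.1 : Kg) = y.1 := hxy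
      have := x.2
      rw [h1, y.2] at this
      exact hrp this
    · exfalso
      have h1 : (x.1 : Kg) = 1 := hxy
      have := x.2
      rw [h1, orderOf_one] at this
      exact hp.one_lt.ne this
    · exfalso
      have h1 : (x.1 : Kg) = y.1 := hxy
      have := y.2
      rw [← h1, x.2] at this
      exact hrp this
    · exact congrArg (Sum.inr ∘ Sum.inl) (Subtype.ext hxy)
    · exfalso
      have h1 : (x.1 : Kg) = 1 := hxy
      have := x.2
      rw [h1, orderOf_one] at this
      exact hr.one_lt.ne this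
    · exfalso
      have h1 : (1 : Kg) = y.1 := hxy
      have := y.2
      rw [← h1, orderOf_one] at this
      exact hp.one_lt.ne this
    · exfalso
      have h1 : (1 : Kg) = y.1 := hxy
      have := y.2
      rw [← h1, orderOf_one] at this
      exact hr.one_lt.ne this
    · rfl
  have hcardle := Nat.card_le_card_of_injective ι hιinj
  have hU : Nat.card Unit = 1 := Nat.card_unique
  rw [Nat.card_sum, Nat.card_sum, hU] at hcardle
  set cA := Nat.card {x : Kg // orderOf x = p} with hcA
  set cB := Nat.card {x : Kg // orderOf x = r} with hcB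
  have hcAe : cA = e := by omega
  have hcBe : cB = e := by omega
  have hn2e : n = 2 * e + 1 := by omega
  -- `ι` is bijective
  have hιbij : Function.Bijective ι := by
    rw [Nat.bijective_iff_injective_and_card]
    refine ⟨hιinj, ?_⟩
    rw [Nat.card_sum, Nat.card_sum, hU, ← hcA, ← hcB, ← hn]
    omega
  have horders : ∀ z : Kg, orderOf z = p ∨ orderOf z = r ∨ z = 1 := by
    intro z
    obtain ⟨s, rfl⟩ := hιbij.2 z
    rcases s with x | x | x
    · left; exact x.2
    · right; left; exact x.2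
    · right; right; rfl
  -- conjugation by `x0` on the elements of order `p`
  let σ : Function.End {x : Kg // orderOf x = p} := fun y =>
    ⟨x0 * y.1 * x0⁻¹, ((MulAut.conj x0).orderOf_eq y.1).trans y.2⟩
  have hσpow : ∀ (k : ℕ) (y : {x : Kg // orderOf x = p}),
      ((σ ^ k) y).1 = x0 ^ k * y.1 * (x0 ^ k)⁻¹ := by
    intro k
    induction k with
    | zero =>
      intro y
      rw [pow_zero, pow_zero, one_mul, inv_one, mul_one]
      rfl
    | succ k ih =>
      intro y
      rw [pow_succ']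
      show x0 * ((σ ^ k) y).1 * x0⁻¹ = _
      rw [ih, pow_succ']
      group
  have hσr : σ ^ r ^ 1 = 1 := by
    funext y
    apply Subtype.ext
    rw [pow_one, hσpow, ← hx0, pow_orderOf_eq_one, one_mul, inv_one, mul_one]
    rfl
  haveI : Fintype Kg := Fintype.ofFinite _
  letI : Fintype {x : Kg // orderOf x = p} := Fintype.ofFinite _
  have hmod := Equiv.Perm.card_fixedPoints_modEq hσr
  have hfixempty : IsEmpty (Function.fixedPoints σ) := by
    constructor
    rintro ⟨y, hy⟩
    have h1 : x0 * y.1 * x0⁻¹ = y.1 := congrArg Subtype.val hy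
    have hc : Commute x0 y.1 := by
      show x0 * y.1 = y.1 * x0
      calc x0 * y.1 = (x0 * y.1 * x0⁻¹) * x0 := by group
        _ = y.1 * x0 := by rw [h1]
    have hcop : (orderOf x0).Coprime (orderOf y.1) := by
      rw [hx0, y.2]
      exact (Nat.coprime_primes hr hp).2 hrp
    have hord := hc.orderOf_mul_eq_mul_orderOf_of_coprime hcop
    rw [hx0, y.2] at hord
    have hr2 := hr.two_le
    have hp2 := hp.two_le
    rcases horders (x0 * y.1) with h | h | h
    · rw [h] at hord
      have : r = 1 := by nlinarith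
      omega
    · rw [h] at hord
      have : p = 1 := by nlinarith
      omega
    · rw [h, orderOf_one] at hord
      nlinarith
  have h0 : Fintype.card (Function.fixedPoints σ) = 0 := Fintype.card_eq_zero_iff.2 hfixempty
  have hA' : Fintype.card {x : Kg // orderOf x = p} = e := by
    rw [← Nat.card_eq_fintype_card]; exact hcAe
  rw [h0, hA'] at hmod
  have hre : r ∣ e := (Nat.modEq_zero_iff_dvd).1 hmod
  have hr1 : r ∣ 1 := by
    have h1 : r ∣ 2 * e + 1 := hn2e ▸ hrn
    exact (Nat.dvd_add_right (Dvd.dvd.mul_left hre 2)).1 h1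
  exact hr.one_lt.ne' (Nat.dvd_one.1 hr1)

end Cfsg.Agent.Lib.Helper3.ZassPP
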