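import Mathlib
import Cfsg.Prelude.Def_LieExceptional
import Cfsg.Agent.Lib.Helper3.Zass3
import Cfsg.Agent.Lib.Helper11.ZassInvol
import Cfsg.Agent.Lib.Helper11.ZassFeitC
import Cfsg.Agent.Lib.Helper3.ZassPP1

set_option autoImplicit false

namespace Cfsg.Agent.Lib.Helper3.ZassPP

open Cfsg MulAction
open Cfsg.Agent.Lib.Helper11
open Cfsg.Agent.Lib.Helper3.Zass

variable {G Ω : Type*} [Group G] [MulAction G Ω]

/-- the Frobenius kernel of a point stabiliser, as a subgroup of `G` -/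
theorem exists_kernel_in_G [Finite G] [Fintype Ω] (hZ : IsZassenhausGroup G Ω) {a b : Ω}
    (hab : a ≠ b) :
    ∃ Kg : Subgroup G, Kg ≤ stabilizer G a ∧ Nat.card Kg + 1 = Fintype.card Ω ∧
      (∀ u ∈ Kg, u ≠ 1 → ∀ c : Ω, u • c = c → c = a) ∧
      (∀ h ∈ stabilizer G a, ∀ x ∈ Kg, h * x * h⁻¹ ∈ Kg) := by
  obtain ⟨K, hFD, hK, hcard⟩ := exists_point_kernel hZ hab
  have hn3 := zc_three_le_card hZ hab
  refine ⟨K.map (stabilizer G a).subtype, ?_, ?_, ?_, ?_⟩
  · rintro _ ⟨y, -, rfl⟩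
    exact y.2
  · have h1 : Nat.card (K.map (stabilizer G a).subtype) = Nat.card K :=
      (Nat.card_congr (K.equivMapOfInjective _ (Subgroup.subtype_injective _)).toEquiv).symm
    rw [h1, hcard, zc_card_orbit_stab hZ hab]
    omega
  · rintro _ ⟨y, hy, rfl⟩ hy1 c hc
    by_contra hca
    rcases (hK y).1 hy with h | h
    · apply hy1
      rw [h]; rfl
    · exact h c hca hc
  · rintro h hh _ ⟨y, hy, rfl⟩
    have hn := hFD.normal
    exact ⟨_, hn.conj_mem y hy ⟨h, hh⟩, rfl⟩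

/-- When the two-point stabilisers have even order, `n - 2 ≤ 2 e`. -/
theorem le_two_mul_of_even [Finite G] [Fintype Ω] (hZ : IsZassenhausGroup G Ω) {a b : Ω}
    (hab : a ≠ b)
    (heven : Even (Nat.card ↥(stabilizer G a ⊓ stabilizer G b : Subgroup G))) :
    Fintype.card Ω - 2 ≤ 2 * Nat.card ↥(stabilizer G a ⊓ stabilizer G b : Subgroup G) := by
  classical
  letI : Fintype G := Fintype.ofFinite G
  haveI : Fact (Nat.Prime 2) := ⟨Nat.prime_two⟩
  have hn3 := zc_three_le_card hZ hab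
  set e := Nat.card ↥(stabilizer G a ⊓ stabilizer G b : Subgroup G) with he
  set d := Fintype.card Ω with hd
  -- an involution in each two-point stabiliser
  have hinv : ∀ c : Ω, c ≠ a → ∃ t : G, zinv t ∧ t • a = a ∧ t • c = c := by
    intro c hca
    have h1 : Nat.card ↥(stabilizer G a ⊓ stabilizer G c : Subgroup G) = e :=
      zc_card_stab_inf_eq hZ hab (Ne.symm hca)
    have h2 : 2 ∣ Nat.card ↥(stabilizer G a ⊓ stabilizer G c : Subgroup G) := by
      rw [h1]; exact even_iff_two_dvd.1 heven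
    obtain ⟨t, ht⟩ := exists_prime_orderOf_dvd_card' 2 h2
    refine ⟨t.1, ?_, (Subgroup.mem_inf.1 t.2).1, (Subgroup.mem_inf.1 t.2).2⟩
    rw [← zinv_iff_orderOf, Subgroup.orderOf_coe]
    exact ht
  choose tc htc using hinv
  have hJaa : d - 1 ≤ zJ G a a := by
    unfold zJ
    have h1 : Nat.card {c : Ω // c ≠ a} = d - 1 := by
      rw [Nat.card_eq_fintype_card]
      exact Set.card_ne_eq a
    rw [← h1]
    let f : {c : Ω // c ≠ a} → {t : G // zinv t ∧ t • a = a} := fun c =>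
      ⟨tc c.1 c.2, (htc c.1 c.2).1, (htc c.1 c.2).2.1⟩
    apply Nat.card_le_card_of_injective f
    intro c c' hcc
    have h2 : tc c.1 c.2 = tc c'.1 c'.2 := congrArg Subtype.val hcc
    by_contra hne
    have hne' : c.1 ≠ c'.1 := fun h => hne (Subtype.ext h)
    have h3 := (htc c.1 c.2)
    have h4 := (htc c'.1 c'.2)
    rw [← h2] at h4
    exact h3.1.1 (fix3 hZ _ (Ne.symm c.2) hne' (Ne.symm c'.2) h3.2.1 h3.2.2 h4.2.2)
  have hI := zi_card_eq_add hZ hab
  have hsum : ∑ t ∈ Finset.univ.filter (fun t : G => zinv t), zfix Ω t = d * zJ G a a := by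
    rw [zi_sum_zfix, Finset.sum_congr rfl (fun c _ => zJ_self_eq hZ a c), Finset.sum_const,
      Finset.card_univ, smul_eq_mul]
  have hle2 : ∑ t ∈ Finset.univ.filter (fun t : G => zinv t), zfix Ω t ≤
      2 * Nat.card {t : G // zinv t} := by
    rw [zc_card_subtype, mul_comm, ← smul_eq_mul, ← Finset.sum_const]
    apply Finset.sum_le_sum
    intro t ht
    rw [Finset.mem_filter] at ht
    exact zfix_le_two hZ ht.2.1
  have hj := zJ_le hZ hab
  rw [hsum, hI, ← hd] at hle2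
  -- arithmetic
  set A := zJ G a a with hA
  set j := zJ G a b with hjdef
  have h5 : (d - 2) * A ≤ 2 * (d - 1) * j := by
    obtain ⟨m, hm⟩ : ∃ m, d = m + 3 := ⟨d - 3, by omega⟩
    rw [hm] at hle2 ⊢
    have e1 : m + 3 - 1 = m + 2 := by omega
    have e2 : m + 3 - 2 = m + 1 := by omega
    rw [e1] at hle2
    rw [e1, e2]
    nlinarith
  have h6 : (d - 2) * (d - 1) ≤ 2 * (d - 1) * e := by
    calc (d - 2) * (d - 1) ≤ (d - 2) * A := Nat.mul_le_mul_left _ hJaa
      _ ≤ 2 * (d - 1) * j := h5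
      _ ≤ 2 * (d - 1) * e := Nat.mul_le_mul_left _ hj
  have h7 : (d - 1) * (d - 2) ≤ (d - 1) * (2 * e) := by
    calc (d - 1) * (d - 2) = (d - 2) * (d - 1) := mul_comm _ _
      _ ≤ 2 * (d - 1) * e := h6
      _ = (d - 1) * (2 * e) := by ring
  exact Nat.le_of_mul_le_mul_left h7 (by omega)

end Cfsg.Agent.Lib.Helper3.ZassPP
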