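import Mathlib

set_option autoImplicit false

namespace Cfsg.Agent.Lib.Helper3.ZassReg

open Module

/-- A finite field with an automorphism of prime order `ℓ` fixing only `0` and `1` has `2 ^ ℓ`
elements. -/
theorem card_of_aut_fix {F : Type*} [Field F] [Finite F] (σ : F ≃+* F) {l : ℕ} (hl : l.Prime)
    (hσl : σ ^ l = 1) (hσ1 : σ ≠ 1) (hfix : ∀ x : F, σ x = x → x = 0 ∨ x = 1) :
    Nat.card F = 2 ^ l := by
  classical
  have := Fact.mk hl
  letI : Fintype F := Fintype.ofFinite F
  have : Finite (F ≃+* F) := Finite.of_injective (fun e => (e : F → F)) DFunLike.coe_injective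
  let G : Subgroup (F ≃+* F) := Subgroup.zpowers σ
  letI : Fintype G := Fintype.ofFinite G
  have hcardG : Fintype.card G = l := by
    rw [← Nat.card_eq_fintype_card, Nat.card_zpowers]
    exact orderOf_eq_prime hσl hσ1
  have hfr := FixedPoints.finrank_eq_card G F
  rw [hcardG] at hfr
  have hsub : ∀ x : F, x ∈ FixedPoints.subfield G F ↔ x = 0 ∨ x = 1 := by
    intro x
    constructor
    · intro hx
      have h1 : (⟨σ, Subgroup.mem_zpowers σ⟩ : G) • x = x := hx _
      exact hfix x h1
    · rintro (rfl | rfl)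
      · exact zero_mem _
      · exact one_mem _
  letI : Fintype (FixedPoints.subfield G F) := Fintype.ofFinite _
  have hc2 : Fintype.card (FixedPoints.subfield G F) = 2 := by
    rw [← Nat.card_eq_fintype_card, Nat.card_eq_two_iff]
    refine ⟨0, 1, zero_ne_one, ?_⟩
    ext x
    simp only [Set.mem_univ, Set.mem_insert_iff, Set.mem_singleton_iff, iff_true]
    rcases (hsub x.1).1 x.2 with h | h
    · left; exact Subtype.ext h
    · right; exact Subtype.ext h
  have := Module.card_eq_pow_finrank (K := FixedPoints.subfield G F) (V := F)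
  rw [Nat.card_eq_fintype_card, this, hc2, hfr]

end Cfsg.Agent.Lib.Helper3.ZassReg

namespace Cfsg.Agent.Lib.Helper3.ZassReg

/-- Version of `card_of_aut_fix` for a finite ring known to be commutative without zero
divisors. -/
theorem card_of_aut_fix_ring {R : Type*} [Ring R] [Finite R]
    (hcomm : ∀ a b : R, a * b = b * a) (hnzd : ∀ a b : R, a * b = 0 → a = 0 ∨ b = 0)
    (h01 : (0 : R) ≠ 1) (σ : R ≃+* R) {l : ℕ} (hl : l.Prime)
    (hσl : σ ^ l = 1) (hσ1 : σ ≠ 1) (hfix : ∀ x : R, σ x = x → x = 0 ∨ x = 1) :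
    Nat.card R = 2 ^ l := by
  classical
  letI : CommRing R := { (inferInstance : Ring R) with mul_comm := hcomm }
  haveI : Nontrivial R := ⟨⟨0, 1, h01⟩⟩
  haveI : NoZeroDivisors R := ⟨fun {a b} h => hnzd a b h⟩
  haveI : IsDomain R := NoZeroDivisors.to_isDomain R
  letI : Fintype R := Fintype.ofFinite R
  letI : Field R := Fintype.fieldOfDomain R
  exact card_of_aut_fix σ hl hσl hσ1 hfix

end Cfsg.Agent.Lib.Helper3.ZassReg
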