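import Mathlib
import Cfsg.Agent.Lib.Helper3.ZassReg1

set_option autoImplicit false

namespace Cfsg.Agent.Lib.Helper3.ZassReg

lemma conj_pow_end {E : Type*} [Ring E] (S S' Y : E) (hS'S : S' * S = 1) (i : ℕ) :
    (S * Y * S') ^ i * S = S * Y ^ i := by
  induction i with
  | zero => simp
  | succ i ih =>
    rw [pow_succ', mul_assoc, ih, pow_succ']
    calc S * Y * S' * (S * Y ^ i) = S * Y * (S' * S) * Y ^ i := by noncomm_ring
      _ = S * (Y * Y ^ i) := by rw [hS'S]; noncomm_ring

/-- If a cyclic group `⟨Y⟩` of automorphisms of a finite abelian group `V` is transitive on the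
non-zero elements, and an automorphism `S` of prime order `l` normalises it with exactly one non-zero
fixed point, then `V` has `2 ^ l` elements. -/
theorem card_of_regular_cyclic {V : Type*} [AddCommGroup V] [Finite V]
    (Y S S' : AddMonoid.End V) (v0 : V) (hv0 : v0 ≠ 0)
    (htr : ∀ v : V, v ≠ 0 → ∃ i : ℕ, v = (Y ^ i) v0)
    {m : ℕ} (hm : 0 < m) (hYm : Y ^ m = 1)
    (hSS' : S * S' = 1) (hS'S : S' * S = 1)
    {j : ℕ} (hconj : S * Y * S' = Y ^ j)
    (hSv0 : S v0 = v0) (hfix : ∀ v : V, S v = v → v = 0 ∨ v = v0)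
    {l : ℕ} (hl : l.Prime) (hSl : S ^ l = 1)
    (hbig : ∃ v : V, v ≠ 0 ∧ v ≠ v0) :
    Nat.card V = 2 ^ l := by
  classical
  let R : Subring (AddMonoid.End V) := Subring.centralizer {Y}
  have hmemR : ∀ f : AddMonoid.End V, f ∈ R ↔ Y * f = f * Y := by
    intro f
    simp only [R, Subring.mem_centralizer_iff, Set.mem_singleton_iff, forall_eq]
  have hYR : ∀ i : ℕ, Y ^ i ∈ R := fun i => (hmemR _).2 (by rw [← pow_succ', ← pow_succ])
  have hcomm_pow : ∀ f ∈ R, ∀ i : ℕ, Y ^ i * f = f * Y ^ i := by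
    intro f hf i
    have : Commute Y f := (hmemR f).1 hf
    exact (this.pow_left i).eq
  have hYinj : ∀ (i : ℕ) (v : V), (Y ^ i) v = 0 → v = 0 := by
    intro i v hv
    have h1 : Y ^ (i * (m - 1)) * Y ^ i = Y ^ (i * (m - 1) + i) := (pow_add _ _ _).symm
    have h2 : i * (m - 1) + i = m * i := by
      have : m = (m - 1) + 1 := by omega
      nth_rewrite 2 [this]
      ring
    rw [h2, pow_mul Y m i, hYm, one_pow] at h1
    have h3 : (Y ^ (i * (m - 1)) * Y ^ i) v = v := by rw [h1]; rfl
    have h4 : (Y ^ (i * (m - 1)) * Y ^ i) v = (Y ^ (i * (m - 1))) ((Y ^ i) v) := rfl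
    rw [h4, hv, map_zero] at h3
    exact h3.symm
  -- evaluation at `v0` is injective on `R`
  have key0 : ∀ f ∈ R, f v0 = 0 → f = 0 := by
    intro f hf h0
    ext v
    by_cases hv : v = 0
    · rw [hv, map_zero, map_zero]
    · obtain ⟨i, rfl⟩ := htr v hv
      have h1 : f ((Y ^ i) v0) = (f * Y ^ i) v0 := rfl
      have h2 : (Y ^ i * f) v0 = (Y ^ i) (f v0) := rfl
      rw [h1, ← hcomm_pow f hf i, h2, h0, map_zero]
      rfl
  have key1 : ∀ f ∈ R, ∀ g ∈ R, f v0 = g v0 → f = g := by
    intro f hf g hg h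
    have h1 : f - g ∈ R := R.sub_mem hf hg
    have h2 : (f - g) v0 = 0 := by
      show f v0 - g v0 = 0
      rw [h, sub_self]
    exact sub_eq_zero.1 (key0 _ h1 h2)
  have hdesc : ∀ f ∈ R, f = 0 ∨ ∃ i : ℕ, f = Y ^ i := by
    intro f hf
    by_cases h0 : f v0 = 0
    · left; exact key0 f hf h0
    · right
      obtain ⟨i, hi⟩ := htr _ h0
      exact ⟨i, key1 f hf _ (hYR i) hi⟩
  have hYne : ∀ i : ℕ, Y ^ i ≠ 0 := by
    intro i h
    have h1 : (Y ^ i) v0 = 0 := by rw [h]; rfl
    exact hv0 (hYinj i v0 h1)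
  -- ring axioms for `R`
  have hcomm : ∀ a b : R, a * b = b * a := by
    intro a b
    apply Subtype.ext
    show a.1 * b.1 = b.1 * a.1
    rcases hdesc a.1 a.2 with ha | ⟨i, ha⟩
    · rw [ha, zero_mul, mul_zero]
    · rw [ha]; exact hcomm_pow b.1 b.2 i
  have hnzd : ∀ a b : R, a * b = 0 → a = 0 ∨ b = 0 := by
    intro a b hab
    have hab' : a.1 * b.1 = 0 := congrArg Subtype.val hab
    rcases hdesc a.1 a.2 with ha | ⟨i, ha⟩
    · left; exact Subtype.ext ha
    · rcases hdesc b.1 b.2 with hb | ⟨k, hb⟩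
      · right; exact Subtype.ext hb
      · exfalso
        rw [ha, hb, ← pow_add] at hab'
        exact hYne _ hab'
  have h01 : (0 : R) ≠ 1 := by
    intro h
    have h1 : (0 : AddMonoid.End V) = 1 := congrArg Subtype.val h
    have h2 : (0 : AddMonoid.End V) v0 = (1 : AddMonoid.End V) v0 := by rw [h1]
    exact hv0 h2.symm
  -- the automorphism
  have hσmem : ∀ f ∈ R, S * f * S' ∈ R := by
    intro f hf
    rcases hdesc f hf with rfl | ⟨i, rfl⟩
    · rw [mul_zero, zero_mul]; exact R.zero_mem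
    · have h1 : S * Y ^ i * S' = (S * Y * S') ^ i := by
        rw [← conj_pow_end S S' Y hS'S i, mul_assoc, hSS', mul_one]
      rw [h1, hconj, ← pow_mul]
      exact hYR _
  let σ0 : R →+* R :=
    { toFun := fun f => ⟨S * f.1 * S', hσmem f.1 f.2⟩
      map_one' := by
        apply Subtype.ext
        show S * 1 * S' = 1
        rw [mul_one, hSS']
      map_mul' := by
        intro a b
        apply Subtype.ext
        show S * (a.1 * b.1) * S' = (S * a.1 * S') * (S * b.1 * S')
        calc S * (a.1 * b.1) * S' = S * a.1 * 1 * b.1 * S' := by noncomm_ring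
          _ = (S * a.1 * S') * (S * b.1 * S') := by rw [← hS'S]; noncomm_ring
      map_zero' := by
        apply Subtype.ext
        show S * 0 * S' = 0
        rw [mul_zero, zero_mul]
      map_add' := by
        intro a b
        apply Subtype.ext
        show S * (a.1 + b.1) * S' = (S * a.1 * S') + (S * b.1 * S')
        noncomm_ring }
  have hσ0inj : Function.Injective σ0 := by
    intro a b hab
    have h1 : S * a.1 * S' = S * b.1 * S' := congrArg Subtype.val hab
    apply Subtype.ext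
    calc a.1 = (S' * S) * a.1 * (S' * S) := by rw [hS'S, one_mul, mul_one]
      _ = S' * (S * a.1 * S') * S := by noncomm_ring
      _ = S' * (S * b.1 * S') * S := by rw [h1]
      _ = (S' * S) * b.1 * (S' * S) := by noncomm_ring
      _ = b.1 := by rw [hS'S, one_mul, mul_one]
  haveI : Finite R := Finite.of_injective (fun f : R => (f.1 : V → V)) (by
    intro a b hab
    apply Subtype.ext
    exact DFunLike.coe_injective hab)
  let σ : R ≃+* R := RingEquiv.ofBijective σ0 (Finite.injective_iff_bijective.1 hσ0inj)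
  have hσapp : ∀ f : R, (σ f).1 = S * f.1 * S' := fun f => rfl
  have hσpow : ∀ (k : ℕ) (f : R), ((σ ^ k) f).1 = S ^ k * f.1 * S' ^ k := by
    intro k
    induction k with
    | zero => intro f; simp
    | succ k ih =>
      intro f
      rw [pow_succ', RingAut.mul_apply, hσapp, ih, pow_succ', pow_succ]
      noncomm_ring
  have hS'l : S' ^ l = 1 := by
    have h1 : S ^ l * S' ^ l = 1 := by
      have : Commute S S' := by
        show S * S' = S' * S
        rw [hSS', hS'S]
      rw [← this.mul_pow, hSS', one_pow]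
    rw [hSl, one_mul] at h1
    exact h1
  have hσl : σ ^ l = 1 := by
    apply RingEquiv.ext
    intro f
    apply Subtype.ext
    rw [hσpow, hSl, hS'l, one_mul, mul_one]
    rfl
  have hev : ∀ f : R, σ f = f → f = 0 ∨ f = 1 := by
    intro f hf
    have h1 : S * f.1 * S' = f.1 := by rw [← hσapp, hf]
    have h2 : S * f.1 = f.1 * S := by
      calc S * f.1 = S * f.1 * (S' * S) := by rw [hS'S, mul_one]
        _ = (S * f.1 * S') * S := by noncomm_ring
        _ = f.1 * S := by rw [h1]
    have h3 : S (f.1 v0) = f.1 v0 := by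
      have : S (f.1 v0) = (S * f.1) v0 := rfl
      have h5 : (f.1 * S) v0 = f.1 (S v0) := rfl
      rw [this, h2, h5, hSv0]
    rcases hfix _ h3 with h4 | h4
    · left
      exact Subtype.ext (key0 f.1 f.2 h4)
    · right
      apply Subtype.ext
      exact key1 f.1 f.2 1 R.one_mem h4
  have hσ1 : σ ≠ 1 := by
    intro h
    obtain ⟨v, hv, hvv0⟩ := hbig
    obtain ⟨i, hi⟩ := htr v hv
    have h1 : σ ⟨Y ^ i, hYR i⟩ = ⟨Y ^ i, hYR i⟩ := by rw [h]; rfl
    rcases hev _ h1 with h2 | h2
    · exact hYne i (congrArg Subtype.val h2)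
    · have h3 : Y ^ i = 1 := congrArg Subtype.val h2
      rw [h3] at hi
      exact hvv0 hi
  have hcardR := card_of_aut_fix_ring hcomm hnzd h01 σ hl hσl hσ1 hev
  rw [← hcardR]
  symm
  apply Nat.card_congr
  refine Equiv.ofBijective (fun f : R => f.1 v0) ⟨?_, ?_⟩
  · intro a b hab
    exact Subtype.ext (key1 a.1 a.2 b.1 b.2 hab)
  · intro v
    by_cases hv : v = 0
    · exact ⟨0, by rw [hv]; rfl⟩
    · obtain ⟨i, hi⟩ := htr v hv
      exact ⟨⟨Y ^ i, hYR i⟩, hi.symm⟩

end Cfsg.Agent.Lib.Helper3.ZassReg
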