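import Mathlib

set_option autoImplicit false

namespace Cfsg.Agent.Lib.Helper3.ZassReg

/-- A finite Z-group with a fixed-point-free automorphism is cyclic. -/
theorem isCyclic_of_isZGroup_fpf {K : Type*} [Group K] [Finite K] [IsZGroup K] (φ : K ≃* K)
    (hφ : ∀ x : K, φ x = x → x = 1) : IsCyclic K := by
  classical
  have hCcyc : IsCyclic (commutator K) := IsZGroup.isCyclic_commutator K
  obtain ⟨⟨c, hcC⟩, hc⟩ := hCcyc.exists_generator
  -- every element of the commutator subgroup is a power of `c`
  have hpow : ∀ z : K, z ∈ commutator K → ∃ i : ℤ, z = c ^ i := by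
    intro z hz
    obtain ⟨i, hi⟩ := Subgroup.mem_zpowers_iff.1 (hc ⟨z, hz⟩)
    refine ⟨i, ?_⟩
    have := congrArg Subtype.val hi
    simpa using this.symm
  have hchar : ∀ z : K, z ∈ commutator K → φ z ∈ commutator K := by
    intro z hz
    have h1 : (commutator K).map φ.toMonoidHom = commutator K := by
      rw [commutator_def, Subgroup.map_commutator, ← MonoidHom.range_eq_map]
      have : φ.toMonoidHom.range = ⊤ := MonoidHom.range_eq_top.2 φ.surjective
      rw [this]
    rw [← h1]
    exact ⟨z, hz, rfl⟩
  have hnorm : ∀ (x z : K), z ∈ commutator K → x * z * x⁻¹ ∈ commutator K := by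
    intro x z hz
    have : (commutator K).Normal := inferInstance
    exact this.conj_mem z hz x
  -- `φ x` and `x` act in the same way on `c`
  have hsame : ∀ x : K, φ x * c * (φ x)⁻¹ = x * c * x⁻¹ := by
    intro x
    obtain ⟨i, hi⟩ := hpow _ (hnorm x c hcC)
    obtain ⟨j, hj⟩ := hpow _ (hchar c hcC)
    have hd : φ.symm c ∈ commutator K := by
      have h1 : (commutator K).map φ.symm.toMonoidHom = commutator K := by
        rw [commutator_def, Subgroup.map_commutator, ← MonoidHom.range_eq_map]
        have : φ.symm.toMonoidHom.range = ⊤ := MonoidHom.range_eq_top.2 φ.symm.surjective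
        rw [this]
      rw [← h1]
      exact ⟨c, hcC, rfl⟩
    obtain ⟨k, hk⟩ := hpow _ hd
    -- `c = φ (c ^ k) = c ^ (j * k)`
    have h1 : c = (c ^ j) ^ k := by
      have : φ (φ.symm c) = c := φ.apply_symm_apply c
      rw [hk, map_zpow, hj] at this
      exact this.symm
    -- `x (c^k) x⁻¹ = c ^ (i k)`
    have h2 : x * c ^ k * x⁻¹ = (c ^ i) ^ k := by
      rw [← hi]
      simp [conj_zpow]
    have h3 : φ x * c * (φ x)⁻¹ = φ (x * c ^ k * x⁻¹) := by
      rw [map_mul, map_mul, map_inv, ← hk, φ.apply_symm_apply]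
    rw [h3, h2, map_zpow, map_zpow, hj, hi]
    have h4 : c ^ (j * k) = c := by rw [zpow_mul]; exact h1.symm
    have h5 : ((c ^ j) ^ i) ^ k = c ^ ((j * k) * i) := by
      rw [← zpow_mul, ← zpow_mul]
      congr 1
      ring
    rw [h5, zpow_mul, h4]
  -- every element centralises `c`
  have hinj : Function.Injective (fun x : K => x⁻¹ * φ x) := by
    intro x y hxy
    have hxy' : x⁻¹ * φ x = y⁻¹ * φ y := hxy
    have h1 : φ (x * y⁻¹) = x * y⁻¹ := by
      rw [map_mul, map_inv]
      have : φ x = x * (y⁻¹ * φ y) := by rw [← hxy']; group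
      rw [this]; group
    have h2 := hφ _ h1
    exact mul_inv_eq_one.1 h2
  have hsurj : Function.Surjective (fun x : K => x⁻¹ * φ x) :=
    Finite.injective_iff_surjective.1 hinj
  have hcent : ∀ u : K, u * c = c * u := by
    intro u
    obtain ⟨x, rfl⟩ := hsurj u
    have h1 := hsame x
    show x⁻¹ * φ x * c = c * (x⁻¹ * φ x)
    calc x⁻¹ * φ x * c = x⁻¹ * (φ x * c * (φ x)⁻¹) * φ x := by group
      _ = x⁻¹ * (x * c * x⁻¹) * φ x := by rw [h1]
      _ = c * (x⁻¹ * φ x) := by group
  have hCcenter : commutator K ≤ Subgroup.center K := by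
    intro z hz
    obtain ⟨i, rfl⟩ := hpow z hz
    rw [Subgroup.mem_center_iff]
    intro g
    exact ((Commute.zpow_right (hcent g) i).eq)
  have hcomm : ∀ a b : K, a * b = b * a := by
    intro a b
    have hker : (Abelianization.of : K →* Abelianization K).ker ≤ Subgroup.center K := by
      rw [Abelianization.ker_of]
      exact hCcenter
    exact (MonoidHom.isMulCommutative_of_isCyclic_of_ker_le_center Abelianization.of hker).is_comm.comm a b
  letI : CommGroup K := { (inferInstance : Group K) with mul_comm := hcomm }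
  infer_instance

end Cfsg.Agent.Lib.Helper3.ZassReg
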