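import Mathlib
import Cfsg.Agent.Lib.Helper3.ZassReg2

set_option autoImplicit false

namespace Cfsg.Agent.Lib.Helper3.ZassReg

/-- multiplicative version of `card_of_regular_cyclic` -/
theorem card_of_regular_cyclic_mul {A : Type*} [Group A] [Finite A]
    (hcomm : ∀ a b : A, a * b = b * a)
    (y s : MulAut A) (a0 : A) (ha0 : a0 ≠ 1)
    (htr : ∀ a : A, a ≠ 1 → ∃ i : ℕ, a = (y ^ i) a0)
    {j : ℕ} (hconj : s * y * s⁻¹ = y ^ j)
    (hsa0 : s a0 = a0) (hfix : ∀ a : A, s a = a → a = 1 ∨ a = a0)
    {l : ℕ} (hl : l.Prime) (hsl : s ^ l = 1) (hbig : ∃ a : A, a ≠ 1 ∧ a ≠ a0) :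
    Nat.card A = 2 ^ l := by
  classical
  letI : CommGroup A := { (inferInstance : Group A) with mul_comm := hcomm }
  let E : MulAut A →* AddMonoid.End (Additive A) :=
    { toFun := fun f => MonoidHom.toAdditive f.toMonoidHom
      map_one' := rfl
      map_mul' := fun _ _ => rfl }
  have hEapp : ∀ (f : MulAut A) (a : A), E f (Additive.ofMul a) = Additive.ofMul (f a) :=
    fun _ _ => rfl
  haveI : Finite (MulAut A) := Finite.of_injective (fun e => (e : A → A)) DFunLike.coe_injective
  have hcard : Nat.card (Additive A) = Nat.card A := rfl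
  rw [← hcard]
  refine card_of_regular_cyclic (E y) (E s) (E s⁻¹) (Additive.ofMul a0) ?_ ?_
    (m := Nat.card (MulAut A)) Nat.card_pos ?_ ?_ ?_ (j := j) ?_ ?_ ?_ hl ?_ ?_
  · intro h
    exact ha0 (Additive.ofMul.injective h)
  · intro v hv
    obtain ⟨i, hi⟩ := htr v.toMul (fun h => hv (Additive.toMul.injective h))
    refine ⟨i, ?_⟩
    rw [← map_pow, hEapp, ← hi]
    rfl
  · rw [← map_pow, pow_card_eq_one', map_one]
  · rw [← map_mul, mul_inv_cancel, map_one]
  · rw [← map_mul, inv_mul_cancel, map_one]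
  · rw [← map_mul, ← map_mul, hconj, map_pow]
  · rw [hEapp, hsa0]
  · intro v hv
    have h1 : s v.toMul = v.toMul := by
      have : E s (Additive.ofMul v.toMul) = Additive.ofMul v.toMul := hv
      rw [hEapp] at this
      exact Additive.ofMul.injective this
    rcases hfix _ h1 with h | h
    · left; exact Additive.toMul.injective h
    · right; exact Additive.toMul.injective h
  · rw [← map_pow, hsl, map_one]
  · obtain ⟨a, ha1, ha2⟩ := hbig
    exact ⟨Additive.ofMul a, fun h => ha1 (Additive.ofMul.injective h),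
      fun h => ha2 (Additive.ofMul.injective h)⟩

end Cfsg.Agent.Lib.Helper3.ZassReg
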