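import Mathlib
import Cfsg.Agent.Lib.Helper3.Zass2
import Cfsg.Agent.Lib.Helper3.ZassReg3
import Cfsg.Agent.Lib.Helper3.ZassReg4
import Cfsg.Agent.Lib.Helper10.FrobComplement

set_option autoImplicit false

namespace Cfsg.Agent.Lib.Helper3.ZassReg

open Cfsg.Agent.Lib.Helper1

set_option maxHeartbeats 1000000 in
/-- A doubly transitive group with trivial three-point stabilisers, non-trivial two-point
stabilisers and a regular normal subgroup has degree `2 ^ p`, `p` prime. -/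
theorem regular_degree {G Ω : Type*} [Group G] [MulAction G Ω] [Fintype Ω] [FaithfulSMul G Ω]
    (h2 : MulAction.IsMultiplyPretransitive G Ω 2)
    (h3 : ∀ g : G, ∀ a b c : Ω, a ≠ b → b ≠ c → a ≠ c → g • a = a → g • b = b → g • c = c → g = 1)
    (hfix : ∃ g : G, g ≠ 1 ∧ ∃ a b : Ω, a ≠ b ∧ g • a = a ∧ g • b = b)
    (N : Subgroup G) [hNn : N.Normal] (hNt : MulAction.IsPretransitive N Ω)
    (hNr : ∀ a : Ω, MulAction.stabilizer N a = ⊥) :
    ∃ p : ℕ, p.Prime ∧ Fintype.card Ω = 2 ^ p := by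
  classical
  haveI : Finite G := Finite.of_injective _ (MulAction.toPerm_injective (α := G) (β := Ω))
  have two_trans : ∀ {a b c d : Ω}, a ≠ b → c ≠ d → ∃ g : G, g • a = c ∧ g • b = d :=
    fun hab hcd => (MulAction.is_two_pretransitive_iff.1 h2) hab hcd
  obtain ⟨g0, hg0, a, b, hab, hg0a, hg0b⟩ := hfix
  -- a third point
  obtain ⟨c, hca, hcb⟩ : ∃ c : Ω, c ≠ a ∧ c ≠ b := by
    by_contra hcon
    push Not at hcon
    apply hg0
    apply eq_of_smul_eq_smul (α := Ω)
    intro d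
    rw [one_smul]
    by_cases hd : d = a
    · rw [hd, hg0a]
    · rw [hcon d hd, hg0b]
  -- regularity of `N`
  have hNreg : ∀ n ∈ N, ∀ d : Ω, n • d = d → n = 1 := by
    intro n hn d hd
    have h1 : (⟨n, hn⟩ : N) ∈ MulAction.stabilizer N d := hd
    rw [hNr d, Subgroup.mem_bot] at h1
    exact congrArg Subtype.val h1
  have hNtr : ∀ d e : Ω, ∃ n ∈ N, n • d = e := by
    intro d e
    obtain ⟨n, hn⟩ := MulAction.exists_smul_eq N d e
    exact ⟨n.1, n.2, hn⟩
  have hNuniq : ∀ n ∈ N, ∀ n' ∈ N, ∀ d : Ω, n • d = n' • d → n = n' := by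
    intro n hn n' hn' d h
    have h1 : (n'⁻¹ * n) • d = d := by rw [mul_smul, h, inv_smul_smul]
    have h2 := hNreg _ (N.mul_mem (N.inv_mem hn') hn) d h1
    exact (inv_mul_eq_one.1 h2).symm
  -- the Frobenius kernel of the point stabiliser
  set X : Subgroup G := MulAction.stabilizer G a with hX
  have hk1 : MulAction.stabilizer X b ≠ ⊥ := by
    intro h
    have hmem : (⟨g0, hg0a⟩ : X) ∈ MulAction.stabilizer X b := hg0b
    rw [h, Subgroup.mem_bot] at hmem
    exact hg0 (congrArg Subtype.val hmem)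
  have hk2 : ∃ x : X, x • b ≠ b := by
    obtain ⟨g, hga, hgb⟩ := two_trans hab (Ne.symm hca)
    refine ⟨⟨g, hga⟩, ?_⟩
    show g • b ≠ b
    rw [hgb]; exact hcb
  have hk3 : ∀ x y : X, y • b ≠ b → x • b = b → x • (y • b) = y • b → x = 1 := by
    intro x y hy hxb hxy
    apply Subtype.ext
    have hya : (y : G) • b ≠ a := by
      intro h
      apply hab
      have h1 : (y : G) • b = (y : G) • a := by rw [h]; exact y.2.symm
      exact (smul_left_cancel _ h1).symm
    exact h3 x.1 a b ((y : G) • b) hab (Ne.symm hy) (Ne.symm hya) x.2 hxb hxy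
  obtain ⟨K, hFD, hK, -⟩ := Cfsg.Agent.Lib.Helper3.Zass.exists_kernel (X := X) b hk1 hk2 hk3
  set Kg : Subgroup G := K.map X.subtype with hKg
  have hKgmem : ∀ x : G, x ∈ Kg ↔ ∃ hx : x ∈ X, (⟨x, hx⟩ : X) ∈ K := by
    intro x
    constructor
    · rintro ⟨y, hy, rfl⟩
      exact ⟨y.2, hy⟩
    · rintro ⟨hx, hxK⟩
      exact ⟨⟨x, hx⟩, hxK, rfl⟩
  have hKa : ∀ x ∈ Kg, x • a = a := by
    intro x hx
    obtain ⟨hxX, -⟩ := (hKgmem x).1 hx
    exact hxX
  have hKfix : ∀ x ∈ Kg, x ≠ 1 → ∀ d : Ω, x • d = d → d = a := by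
    intro x hx hx1 d hd
    by_contra hda
    obtain ⟨hxX, hxK⟩ := (hKgmem x).1 hx
    rcases (hK ⟨x, hxX⟩).1 hxK with h | h
    · exact hx1 (congrArg Subtype.val h)
    · obtain ⟨g, hga, hgb⟩ := two_trans hab (Ne.symm hda)
      apply h ⟨g, hga⟩
      show x • (g • b) = g • b
      rw [hgb, hd]
  have hKtr : ∀ d : Ω, d ≠ a → ∃ x ∈ Kg, x • b = d := by
    intro d hda
    obtain ⟨g, hga, hgb⟩ := two_trans hab (Ne.symm hda)
    obtain ⟨k, hk, h, hh, hkh⟩ := IsComplement'.exists_mul_eq hFD.compl (⟨g, hga⟩ : X)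
    refine ⟨k.1, ⟨k, hk, rfl⟩, ?_⟩
    have h1 : (h : G) • b = b := hh
    have h2 : (k : G) * (h : G) = g := congrArg Subtype.val hkh
    rw [← hgb, ← h2, mul_smul, h1]
  have hKnorm : ∀ h : G, h • a = a → ∀ x ∈ Kg, h * x * h⁻¹ ∈ Kg := by
    intro h hh x hx
    obtain ⟨hxX, hxK⟩ := (hKgmem x).1 hx
    have hn := hFD.normal
    have h1 := hn.conj_mem ⟨x, hxX⟩ hxK ⟨h, hh⟩
    exact ⟨_, h1, rfl⟩
  have hKfpf : ∀ h : G, h • a = a → h • b = b → h ≠ 1 → ∀ x ∈ Kg, h * x = x * h → x = 1 := by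
    intro h hha hhb hh1 x hx hc
    obtain ⟨hxX, hxK⟩ := (hKgmem x).1 hx
    have h1 : (⟨h, hha⟩ : X) ∈ MulAction.stabilizer X b := hhb
    have h2 := hFD.fpf (y := ⟨h, hha⟩) h1 (fun h0 => hh1 (congrArg Subtype.val h0))
      (n := ⟨x, hxX⟩) hxK (Subtype.ext hc)
    exact congrArg Subtype.val h2
  -- cardinalities
  have hcardN : Nat.card N = Fintype.card Ω := by
    rw [← Nat.card_eq_fintype_card]
    apply Nat.card_congr
    refine Equiv.ofBijective (fun n : N => (n : G) • a) ⟨?_, ?_⟩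
    · intro n n' h
      exact Subtype.ext (hNuniq n.1 n.2 n'.1 n'.2 a h)
    · intro d
      obtain ⟨n, hn, hnd⟩ := hNtr a d
      exact ⟨⟨n, hn⟩, hnd⟩
  have hcardK : Nat.card Kg + 1 = Fintype.card Ω := by
    have h1 : Nat.card Kg = Nat.card {d : Ω // d ≠ a} := by
      apply Nat.card_congr
      refine Equiv.ofBijective (fun x : Kg => ⟨(x : G) • b, ?_⟩) ⟨?_, ?_⟩
      · intro h
        apply hab
        have h1 : (x : G) • b = (x : G) • a := by rw [h, hKa x.1 x.2]
        exact (smul_left_cancel _ h1).symm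
      · intro x x' h
        have h1 : (x : G) • b = (x' : G) • b := congrArg Subtype.val h
        have h2 : ((x' : G)⁻¹ * (x : G)) • b = b := by rw [mul_smul, h1, inv_smul_smul]
        have h3 : (x' : G)⁻¹ * (x : G) = 1 := by
          by_contra hne
          exact hab (hKfix _ (Kg.mul_mem (Kg.inv_mem x'.2) x.2) hne b h2).symm
        exact Subtype.ext (inv_mul_eq_one.1 h3).symm
      · rintro ⟨d, hd⟩
        obtain ⟨x, hx, hxd⟩ := hKtr d hd
        exact ⟨⟨x, hx⟩, Subtype.ext hxd⟩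
    have h2 : Nat.card {d : Ω // d ≠ a} = Fintype.card Ω - 1 := by
      rw [Nat.card_eq_fintype_card]
      exact Set.card_ne_eq a
    have h3 : 0 < Fintype.card Ω := Fintype.card_pos_iff.2 ⟨a⟩
    omega
  -- the element of `N` taking `a` to `b`
  obtain ⟨nb, hnbN, hnb⟩ := hNtr a b
  have hnb1 : nb ≠ 1 := by
    intro h
    rw [h, one_smul] at hnb
    exact hab hnb
  have hconjN : ∀ (h n : G), n ∈ N → h * n * h⁻¹ ∈ N := fun h n hn => hNn.conj_mem n hn h
  have hconj_a : ∀ (h n : G), h • a = a → (h * n * h⁻¹) • a = h • (n • a) := by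
    intro h n hh
    have h1 : h⁻¹ • a = a := by rw [inv_smul_eq_iff, hh]
    rw [mul_smul, mul_smul, h1]
  -- `nb` has order two
  have hnb2 : nb * nb = 1 := by
    have h1 : g0 * nb * g0⁻¹ = nb := by
      apply hNuniq _ (hconjN g0 nb hnbN) _ hnbN a
      rw [hconj_a g0 nb hg0a, hnb, hg0b]
    have h2 : g0 * (nb * nb) * g0⁻¹ = nb * nb := by
      calc g0 * (nb * nb) * g0⁻¹ = (g0 * nb * g0⁻¹) * (g0 * nb * g0⁻¹) := by group
        _ = nb * nb := by rw [h1]
    have h4 : g0 • ((nb * nb) • a) = (nb * nb) • a := by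
      rw [← hconj_a g0 (nb * nb) hg0a, h2]
    have h5 : (nb * nb) • a = a := by
      by_contra hne
      have hne2 : (nb * nb) • a ≠ b := by
        intro h
        rw [mul_smul, hnb] at h
        have : nb • b = nb • a := by rw [h, hnb]
        exact hab (smul_left_cancel _ this).symm
      exact hg0 (h3 g0 a b ((nb * nb) • a) hab (Ne.symm hne2) (Ne.symm hne) hg0a hg0b h4)
    exact hNreg _ (N.mul_mem hnbN hnbN) a h5
  have hNsq : ∀ n ∈ N, n * n = 1 := by
    intro n hn
    by_cases hn1 : n = 1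
    · rw [hn1, one_mul]
    · have hna : n • a ≠ a := fun h => hn1 (hNreg n hn a h)
      obtain ⟨g, hga, hgb⟩ := two_trans hab (Ne.symm hna)
      have h1 : g * nb * g⁻¹ = n := by
        apply hNuniq _ (hconjN g nb hnbN) _ hn a
        rw [hconj_a g nb hga, hnb, hgb]
      rw [← h1]
      calc g * nb * g⁻¹ * (g * nb * g⁻¹) = g * (nb * nb) * g⁻¹ := by group
        _ = 1 := by rw [hnb2]; group
  have hNcomm : ∀ x y : N, x * y = y * x := by
    intro x y
    apply Subtype.ext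
    show x.1 * y.1 = y.1 * x.1
    have hx := hNsq x.1 x.2
    have hy := hNsq y.1 y.2
    have hxy := hNsq _ (N.mul_mem x.2 y.2)
    have hxi : x.1⁻¹ = x.1 := inv_eq_of_mul_eq_one_left hx
    have hyi : y.1⁻¹ = y.1 := inv_eq_of_mul_eq_one_left hy
    have hxyi : (x.1 * y.1)⁻¹ = x.1 * y.1 := inv_eq_of_mul_eq_one_left hxy
    rw [← hxyi, mul_inv_rev, hxi, hyi]
  -- parity and coprimality
  have h2N : 2 ∣ Nat.card N := by
    have h1 : orderOf (⟨nb, hnbN⟩ : N) = 2 := by
      apply orderOf_eq_prime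
      · rw [pow_two]; exact Subtype.ext hnb2
      · intro h; exact hnb1 (congrArg Subtype.val h)
    rw [← h1]; exact orderOf_dvd_natCard _
  have hcop : ∀ p : ℕ, p.Prime → p ∣ Nat.card N → ¬ p ∣ Nat.card Kg := by
    intro p hp h1 h2
    rw [hcardN] at h1
    have h4 : p ∣ 1 := by
      have h3 : p ∣ Nat.card Kg + 1 := by rw [hcardK]; exact h1
      exact (Nat.dvd_add_right h2).1 h3
    exact hp.one_lt.ne' (Nat.dvd_one.1 h4)
  have hNbot : N ≠ ⊥ := by
    intro h
    rw [h, Subgroup.mem_bot] at hnbN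
    exact hnb1 hnbN
  -- `Kg` is a Z-group
  haveI hZ : IsZGroup Kg := by
    refine ⟨fun p hp P => ?_⟩
    haveI := Fact.mk hp
    by_cases hpN : p ∣ Nat.card N
    · have h1 : ¬ p ∣ Nat.card Kg := hcop p hp hpN
      have h2 : Nat.card P = 1 := by
        rw [Sylow.card_eq_multiplicity, Nat.factorization_eq_zero_of_not_dvd h1, pow_zero]
      haveI : Subsingleton P := (Nat.card_eq_one_iff_unique.1 h2).1
      exact isCyclic_of_subsingleton
    · set S : Subgroup G := (P : Subgroup Kg).map Kg.subtype with hS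
      have hSp : IsPGroup p S := P.isPGroup'.map _
      have hSK : S ≤ Kg := by
        rintro _ ⟨y, -, rfl⟩
        exact y.2
      have hSN : S ≤ Subgroup.normalizer (N : Set G) := by
        rw [Subgroup.normalizer_eq_top]; exact le_top
      have hfpf : ∀ s ∈ S, s ≠ 1 → ∀ k ∈ N, s * k = k * s → k = 1 := by
        intro s hs hs1 k hk hc
        have h1 : s • (k • a) = k • a := by rw [← mul_smul, hc, mul_smul, hKa s (hSK hs)]
        have h2 := hKfix s (hSK hs) hs1 _ h1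
        exact hNreg k hk a h2
      rcases Cfsg.Agent.Lib.Helper10.isCyclic_or_quaternion_of_fpf S N hSp hNbot hSN hpN hfpf
        with h | ⟨h, -⟩
      · exact isCyclic_of_surjective _
          ((P : Subgroup Kg).equivMapOfInjective Kg.subtype Kg.subtype_injective).symm.surjective
      · exfalso
        exact hpN (h ▸ h2N)
  -- an element of prime order in the two-point stabiliser
  set Hg : Subgroup G := MulAction.stabilizer G a ⊓ MulAction.stabilizer G b with hHg
  have hHgne : Nat.card Hg ≠ 1 := by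
    intro h
    have : Subsingleton Hg := (Nat.card_eq_one_iff_unique.1 h).1
    have h1 : (⟨g0, ⟨hg0a, hg0b⟩⟩ : Hg) = 1 := Subsingleton.elim _ _
    exact hg0 (congrArg Subtype.val h1)
  obtain ⟨l, hl, hldvd⟩ := Nat.exists_prime_and_dvd hHgne
  haveI := Fact.mk hl
  obtain ⟨g1', hg1'⟩ := exists_prime_orderOf_dvd_card' l hldvd
  obtain ⟨g1, hg1H⟩ := g1'
  have hg1a : g1 • a = a := hg1H.1
  have hg1b : g1 • b = b := hg1H.2
  have hg1o : orderOf g1 = l := by
    rw [← hg1']
    exact (Subgroup.orderOf_mk g1 hg1H).symm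
  have hg11 : g1 ≠ 1 := by
    intro h
    rw [h, orderOf_one] at hg1o
    exact hl.one_lt.ne hg1o
  have hg1l : g1 ^ l = 1 := by rw [← hg1o]; exact pow_orderOf_eq_one g1
  -- `Kg` is cyclic
  let φ : Kg ≃* Kg :=
    { toFun := fun x => ⟨g1 * x.1 * g1⁻¹, hKnorm g1 hg1a x.1 x.2⟩
      invFun := fun x => ⟨g1⁻¹ * x.1 * g1, by
        have := hKnorm g1⁻¹ (by rw [inv_smul_eq_iff, hg1a]) x.1 x.2
        rwa [inv_inv] at this⟩
      left_inv := fun x => Subtype.ext (by
        show g1⁻¹ * (g1 * x.1 * g1⁻¹) * g1 = x.1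
        group)
      right_inv := fun x => Subtype.ext (by
        show g1 * (g1⁻¹ * x.1 * g1) * g1⁻¹ = x.1
        group)
      map_mul' := fun x y => Subtype.ext (by
        show g1 * (x.1 * y.1) * g1⁻¹ = (g1 * x.1 * g1⁻¹) * (g1 * y.1 * g1⁻¹)
        group) }
  have hφ : ∀ x : Kg, φ x = x → x = 1 := by
    intro x hx
    have h1 : g1 * x.1 * g1⁻¹ = x.1 := congrArg Subtype.val hx
    have h2 : g1 * x.1 = x.1 * g1 := by
      calc g1 * x.1 = (g1 * x.1 * g1⁻¹) * g1 := by group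
        _ = x.1 * g1 := by rw [h1]
    exact Subtype.ext (hKfpf g1 hg1a hg1b hg11 x.1 x.2 h2)
  haveI hKcyc : IsCyclic Kg := isCyclic_of_isZGroup_fpf φ hφ
  obtain ⟨⟨y0, hy0K⟩, hy0⟩ := IsCyclic.exists_monoid_generator (α := Kg)
  have hy0pow : ∀ x ∈ Kg, ∃ i : ℕ, x = y0 ^ i := by
    intro x hx
    obtain ⟨i, hi⟩ := (Submonoid.mem_powers_iff _ _).1 (hy0 ⟨x, hx⟩)
    refine ⟨i, ?_⟩
    have := congrArg Subtype.val hi
    simpa using this.symm
  obtain ⟨j, hj⟩ := hy0pow _ (hKnorm g1 hg1a y0 hy0K)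
  have hfinal : Nat.card N = 2 ^ l := by
    refine card_of_regular_cyclic_mul (A := N) hNcomm (MulAut.conjNormal y0)
      (MulAut.conjNormal g1) ⟨nb, hnbN⟩ ?_ ?_ (j := j) ?_ ?_ ?_ hl ?_ ?_
    · intro h; exact hnb1 (congrArg Subtype.val h)
    · intro n hn1
      have hna : (n : G) • a ≠ a := fun h => hn1 (Subtype.ext (hNreg n.1 n.2 a h))
      obtain ⟨x, hx, hxb⟩ := hKtr _ hna
      obtain ⟨i, rfl⟩ := hy0pow x hx
      refine ⟨i, ?_⟩
      apply Subtype.ext
      rw [← map_pow, MulAut.conjNormal_apply]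
      show (n : G) = y0 ^ i * nb * (y0 ^ i)⁻¹
      apply hNuniq _ n.2 _ (hconjN _ nb hnbN) a
      rw [hconj_a _ nb (hKa _ hx), hnb, hxb]
    · rw [← map_inv, ← map_mul, ← map_mul, hj, map_pow]
    · apply Subtype.ext
      rw [MulAut.conjNormal_apply]
      show g1 * nb * g1⁻¹ = nb
      apply hNuniq _ (hconjN g1 nb hnbN) _ hnbN a
      rw [hconj_a g1 nb hg1a, hnb, hg1b]
    · intro n hn
      have h1 : g1 * n.1 * g1⁻¹ = n.1 := by
        have := congrArg Subtype.val hn
        rwa [MulAut.conjNormal_apply] at this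
      have h4 : g1 • (n.1 • a) = n.1 • a := by rw [← hconj_a g1 n.1 hg1a, h1]
      by_cases hna : n.1 • a = a
      · left; exact Subtype.ext (hNreg n.1 n.2 a hna)
      · right
        by_cases hnb' : n.1 • a = b
        · apply Subtype.ext
          exact hNuniq n.1 n.2 nb hnbN a (by rw [hnb', hnb])
        · exfalso
          exact hg11 (h3 g1 a b (n.1 • a) hab (Ne.symm hnb') (Ne.symm hna) hg1a hg1b h4)
    · rw [← map_pow, hg1l, map_one]
    · obtain ⟨nc, hncN, hnc⟩ := hNtr a c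
      refine ⟨⟨nc, hncN⟩, ?_, ?_⟩
      · intro h
        have h5 : nc = 1 := congrArg Subtype.val h
        rw [h5, one_smul] at hnc
        exact hca hnc.symm
      · intro h
        have h5 : nc = nb := congrArg Subtype.val h
        rw [h5, hnb] at hnc
        exact hcb hnc.symm
  exact ⟨l, hl, by rw [← hcardN, hfinal]⟩

end Cfsg.Agent.Lib.Helper3.ZassReg
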